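import Cfsg.Statements.S2579
import Cfsg.Agent.Lib.GLC.Unip

set_option autoImplicit false
open Cfsg

namespace Cfsg.Agent.S2579

/-- In SL_n(F) with n ≥ 3, over a finite field F, any two transvections (matrices t with t − 1 of rank one and square zero) are conjugate by an element of SL_n(F). -/
theorem result {F : Type*} [Field F] [Finite F] {n : ℕ} (hn : 3 ≤ n) (s t : Matrix.SpecialLinearGroup (Fin n) F) (hs : Cfsg.IsTransvection (s : Matrix (Fin n) (Fin n) F)) (ht : Cfsg.IsTransvection (t : Matrix (Fin n) (Fin n) F)) : IsConj s t := by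
  open Lib.GLC Matrix in
  have h1 : ∀ {s : SpecialLinearGroup (Fin n) F}, IsTransvection (s : Matrix (Fin n) (Fin n) F) →
      (toLin' s.1 - 1) ^ 2 = 0 ∧ 1 + Module.finrank F (LinearMap.ker (toLin' s.1 - 1)) = n := fun {s} h =>
    ⟨toLin'_sub_one_pow_eq_zero_iff.2 ((sq _).trans h.2), by
      rw [← toLin'_sub_one, ← h.1, rank_add_finrank_ker, Fintype.card_fin]⟩
  obtain ⟨h2, h3⟩ := h1 hs
  obtain ⟨h4, h5⟩ := h1 ht
  exact sl_isConj_of_sim (sim_of_sq_eq_zero h2 h4 rfl (by omega)) (detC_eq_top_of_lt ⟨2, h2⟩ (by simp; omega))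

end Cfsg.Agent.S2579
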