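import Cfsg.Statements.S0820
import Cfsg.Agent.S2579

set_option autoImplicit false
open Cfsg

namespace Cfsg.Agent.S0820

/-- Any two elements of order 2 of PSL_3(4) are conjugate. -/
theorem result {F : Type*} [Field F] [Fintype F] (hF : Fintype.card F = 4) (x y : Matrix.ProjectiveSpecialLinearGroup (Fin 3) F) (hx : orderOf x = 2) (hy : orderOf y = 2) : IsConj x y := by
  have h2 : (2 : F) = 0 := by
    have := FiniteField.cast_card_eq_zero F
    rw [hF] at this
    exact pow_eq_zero_iff two_ne_zero |>.1 (by linear_combination (exp := 1) this)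
  have key : ∀ x : Matrix.ProjectiveSpecialLinearGroup (Fin 3) F, orderOf x = 2 →
      ∃ B : Matrix.SpecialLinearGroup (Fin 3) F, IsTransvection B.1 ∧ QuotientGroup.mk B = x := by
    intro x hx
    obtain ⟨A, rfl⟩ := QuotientGroup.mk_surjective x
    have h3 := pow_orderOf_eq_one (QuotientGroup.mk A : Matrix.ProjectiveSpecialLinearGroup (Fin 3) F)
    rw [hx] at h3
    have h4 : QuotientGroup.mk (A ^ 3) = (A : Matrix.ProjectiveSpecialLinearGroup (Fin 3) F) := by
      rw [QuotientGroup.mk_pow, pow_succ, h3, one_mul]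
    rw [← QuotientGroup.mk_pow, QuotientGroup.eq_one_iff,
      Matrix.SpecialLinearGroup.mem_center_iff] at h3
    obtain ⟨r, h5, h6⟩ := h3
    have h7 : (A ^ 3).1 * (A ^ 3).1 = 1 := by
      rw [← sq, ← Matrix.SpecialLinearGroup.coe_pow, ← pow_mul, mul_comm, pow_mul,
        Matrix.SpecialLinearGroup.coe_pow, ← h6, ← map_pow, ← map_one (Matrix.scalar _), ← h5,
        Fintype.card_fin]
    have h8 : ((A ^ 3).1 - 1) * ((A ^ 3).1 - 1) = 0 := by
      rw [sub_mul, mul_sub, h7, one_mul, mul_one]
      linear_combination (norm := module) h2 • (1 - (A ^ 3).1)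
    refine ⟨A ^ 3, ⟨?_, h8⟩, h4⟩
    have h9 := Matrix.rank_add_rank_le_card_of_mul_eq_zero h8
    have h10 : ((A ^ 3).1 - 1).rank ≠ 0 := fun e => by
      rw [Matrix.rank, Submodule.finrank_eq_zero, LinearMap.range_eq_bot, ← Matrix.toLin'_apply',
        map_eq_zero_iff _ (LinearEquiv.injective _), sub_eq_zero] at e
      rw [← h4, show A ^ 3 = 1 from Subtype.ext e] at hx
      simp at hx
    rw [Fintype.card_fin] at h9
    omega
  obtain ⟨A, h3, rfl⟩ := key x hx
  obtain ⟨B, h4, rfl⟩ := key y hy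
  exact (QuotientGroup.mk' _).map_isConj (S2579.result le_rfl A B h3 h4)

end Cfsg.Agent.S0820
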