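import Cfsg.Statements.S3331
import Cfsg.Agent.Lib.OddChar.SelfThree
import Cfsg.Agent.S0495

set_option autoImplicit false
open Cfsg Subgroup Lib.BG Lib.OddChar

namespace Cfsg.Agent.S3331

/-- Let G be a finite group containing a subgroup X of order 3 with C_G(X) = X. Then one of the following holds: G has a nilpotent normal subgroup N of order prime to 3 with G/N of order 3 or isomorphic to Sym(3); or G has an elementary abelian normal 2-subgroup N with G/N isomorphic to the alternating group of degree 5; or G is isomorphic to PSL(2,7). -/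
theorem result {G : Type*} [Group G] [Finite G]
    (X : Subgroup G) (hX : Nat.card X = 3) (hC : Subgroup.centralizer (X : Set G) = X) :
    (∃ (N : Subgroup G) (hN : N.Normal), Group.IsNilpotent N ∧ (Nat.card N).Coprime 3 ∧
        (Nat.card (G ⧸ N) = 3 ∨ Nonempty (G ⧸ N ≃* Equiv.Perm (Fin 3)))) ∨
    (∃ (N : Subgroup G) (hN : N.Normal), IsMulCommutative N ∧ (∀ n ∈ N, n ^ 2 = 1) ∧
        Nonempty (G ⧸ N ≃* alternatingGroup (Fin 5))) ∨
    Nonempty (G ≃* Matrix.ProjectiveSpecialLinearGroup (Fin 2) (ZMod 7)) := by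
  obtain ⟨x, -, rfl⟩ := cyclic_iff.1 (cyclic_of_prime (A := X) (hX ▸ Nat.prime_three))
  have h : SC3 x := ⟨(Nat.card_zpowers x).symm.trans hX, (cent_zpowers x).symm.trans hC⟩
  have : Fact (Nat.Prime 3) := ⟨Nat.prime_three⟩
  have hn := Nml.top_iff.1 (pcore_nml {3}ᶜ (⊤ : Subgroup G))
  have h1 := (h.quot rfl).1
  rcases h.cases rfl with e | e | e | ⟨_, e⟩
  · exact .inl ⟨_, hn, h.nil h1, h1.2.coprime_p, .inl e⟩
  · exact .inl ⟨_, hn, h.nil h1, h1.2.coprime_p, .inr e⟩
  · exact .inr (.inl ⟨_, hn, e⟩)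
  · have : Fact (Nat.Prime 7) := ⟨by norm_num⟩
    exact .inr (.inr (S0495.result e (ZMod.card 7)))

end Cfsg.Agent.S3331
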