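import Cfsg.Statements.S2096
import Cfsg.Agent.Lib.Chev.SpinMult

set_option autoImplicit false
open Cfsg

namespace Cfsg.Agent.S2096

open Cfsg.Lib.Chev Cfsg.Lib.Schur

/-- Schur multipliers of the even-dimensional orthogonal groups of plus type and odd rank: for odd l ≥ 5 and a field F with q elements, the Schur multiplier of PΩ⁺_2l(F) (for the form Σ xᵢyᵢ) is cyclic of order gcd(4, q^l − 1); here the Schur multiplier is described through stem extensions, as in the definitions. -/
theorem result {F : Type*} [Field F] [Fintype F] {q : ℕ} (hF : Fintype.card F = q) (l : ℕ) (hl : 5 ≤ l) (hodd : Odd l) : Cfsg.HasCyclicSchurMultiplier (Cfsg.POmega F (Cfsg.quadFormPlus l F)) (Nat.gcd 4 (q ^ l - 1)) := by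
  rw [← Nat.card_eq_fintype_card] at hF
  have hn : 2 ≤ l := by omega
  obtain ⟨e⟩ := nonempty_spinD_equiv F hn (by omega)
  obtain ⟨pos, v, X, Y, hk⟩ := kerData_D_odd hn (Nat.odd_iff.1 hodd)
  have h := ((repD hn (carJW _)).real F).multiplier (full_repD hn _) (((repD hn _).real F).splits
    (full_repD hn _) (liftCond_D hn (by omega) (by omega))) (perfectCond_D F hn (by omega)) hk
  have h1 : Nat.gcd 4 (q - 1) = Nat.gcd 4 (q ^ l - 1) := by
    have hq : 0 < q := hF ▸ Nat.card_pos
    obtain ⟨k, rfl⟩ : ∃ k, l = 2 * k + 3 := ⟨(l - 3) / 2, by have := Nat.odd_iff.1 hodd; omega⟩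
    have h2 : ∀ k, q ^ (2 * k + 3) % 4 = if q % 2 = 0 then 0 else q % 4 := fun k => by
      induction k with
      | zero =>
        rw [Nat.pow_mod]
        have : q % 4 < 4 := Nat.mod_lt _ (by omega)
        rw [← Nat.mod_mod_of_dvd q (by omega : 2 ∣ 4)]
        generalize q % 4 = r at *
        interval_cases r <;> rfl
      | succ k ih =>
        rw [show 2 * (k + 1) + 3 = 2 * k + 3 + 2 by ring, pow_add, Nat.mul_mod, ih, Nat.pow_mod]
        have : q % 4 < 4 := Nat.mod_lt _ (by omega)
        rw [← Nat.mod_mod_of_dvd q (by omega : 2 ∣ 4)]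
        generalize q % 4 = r at *
        interval_cases r <;> rfl
    have h3 := h2 k
    have h4 := Nat.pow_pos (n := 2 * k + 3) hq
    generalize q ^ (2 * k + 3) = z at *
    rw [Nat.gcd_rec, Nat.gcd_rec 4 (z - 1)]
    obtain h5 | h5 | h5 | h5 : q % 4 = 0 ∨ q % 4 = 1 ∨ q % 4 = 2 ∨ q % 4 = 3 := by omega
    · rw [show (q - 1) % 4 = 3 by omega, show (z - 1) % 4 = 3 by split_ifs at h3 <;> omega]
    · rw [show (q - 1) % 4 = 0 by omega, show (z - 1) % 4 = 0 by split_ifs at h3 <;> omega]
    · rw [show (q - 1) % 4 = 1 by omega, show (z - 1) % 4 = 3 by split_ifs at h3 <;> omega]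
      rfl
    · rw [show (q - 1) % 4 = 2 by omega, show (z - 1) % 4 = 2 by split_ifs at h3 <;> omega]
  rw [hF, h1] at h
  exact hasSchurMultiplier_congr_right (hasSchurMultiplier_congr_left h e) (MulEquiv.funUnique _ _)

end Cfsg.Agent.S2096
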