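import Cfsg.Statements.S2097
import Cfsg.Agent.Lib.Chev.SpinMult

set_option autoImplicit false
open Cfsg

namespace Cfsg.Agent.S2097

open Cfsg.Lib.Chev Cfsg.Lib.Schur

/-- Schur multipliers of the even-dimensional orthogonal groups of plus type and even rank: for even l ≥ 4 and a field F with q elements, (l, q) ≠ (4, 2), the Schur multiplier of PΩ⁺_2l(F) (for the form Σ xᵢyᵢ) is the product of two cyclic groups of order gcd(2, q^l − 1) (so trivial for q even and a four-group for q odd; here the Schur multiplier is described through stem extensions, as in the definitions). -/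
theorem result {F : Type*} [Field F] [Fintype F] {q : ℕ} (hF : Fintype.card F = q) (l : ℕ) (hl : 4 ≤ l) (heven : Even l) (hexc : ¬ (l = 4 ∧ q = 2)) : Cfsg.HasSchurMultiplier (Cfsg.POmega F (Cfsg.quadFormPlus l F)) (Multiplicative (ZMod (Nat.gcd 2 (q ^ l - 1)) × ZMod (Nat.gcd 2 (q ^ l - 1)))) := by
  rw [← Nat.card_eq_fintype_card] at hF
  have hn : 2 ≤ l := by omega
  obtain ⟨e⟩ := nonempty_spinD_equiv F hn (by omega)
  obtain ⟨pos, v, X, Y, hk⟩ := kerData_D_even hn (Nat.even_iff.1 heven)
  have h := ((repD hn (carJW _)).real F).multiplier (full_repD hn _) (((repD hn _).real F).splits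
    (full_repD hn _) (liftCond_D hn (by omega) (by omega))) (perfectCond_D F hn (by omega)) hk
  have h1 : Nat.gcd 2 (q - 1) = Nat.gcd 2 (q ^ l - 1) := by
    have hq : 0 < q := hF ▸ Nat.card_pos
    have h4 := Nat.pow_pos (n := l) hq
    have h2 : q ^ l % 2 = q % 2 := by
      rw [Nat.pow_mod]
      rcases Nat.mod_two_eq_zero_or_one q with h | h <;> simp [h, show l ≠ 0 by omega]
    rw [Nat.gcd_rec, Nat.gcd_rec 2 (q ^ _ - 1), show (q - 1) % 2 = (q ^ l - 1) % 2 by omega]
  rw [hF, h1] at h
  exact hasSchurMultiplier_congr_right (hasSchurMultiplier_congr_left h e)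
    { finTwoArrowEquiv _ with map_mul' := fun _ _ => rfl }

end Cfsg.Agent.S2097
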