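import Cfsg.Statements.S3958
import Cfsg.Agent.Lib.Schur.Hopf

set_option autoImplicit false
universe u v
open Cfsg

namespace Cfsg.Agent.S3958

/-- Let `σ : Γ →* Q` be a finite stem extension of the finite group `Q` with `Γ` of trivial Schur multiplier. Then `σ` is a Schur covering group of `Q`: for every finite stem extension `τ : Δ →* Q` with `Δ` in the same universe as `Q`, the kernel of `τ` is a homomorphic image of the kernel of `σ`. -/
theorem result {Q : Type u} [Group Q] [Finite Q] {Γ : Type v} [Group Γ] [Finite Γ] (σ : Γ →* Q) (hσ : Cfsg.IsStemExtension σ) (hΓ : Cfsg.HasCyclicSchurMultiplier Γ 1) (Δ : Type u) [Group Δ] [Finite Δ] (τ : Δ →* Q) (hτ : Cfsg.IsStemExtension τ) : ∃ π : σ.ker →* τ.ker, Function.Surjective π := by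
  open Cfsg.Lib.Schur Subgroup in
  obtain ⟨U, _, π, h⟩ := exists_isFreeCentral Q
  obtain ⟨η, hη⟩ := h.exists_lift hσ.1 hσ.2.1
  have hηs := surjective_of_stem h.surj hσ hη
  have hk : η.ker ≤ center U := fun u hu => h.central (by
    show π u = 1
    rw [← hη, MonoidHom.comp_apply, (show η u = 1 from hu), map_one])
  have hb := hopf_eq_bot_of_trivial hΓ hηs hk
  have hm : (hopf π).map η = σ.ker :=
    (map_ker_inf_commutator h.surj hσ.2.1 hη).trans (hopf_eq_ker_of_stem hσ)
  let g : hopf π →* σ.ker := (MulEquiv.subgroupCongr hm).toMonoidHom.comp (η.subgroupMap _)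
  have hg : Function.Surjective g :=
    (MulEquiv.subgroupCongr hm).surjective.comp (η.subgroupMap_surjective _)
  have hgi : Function.Injective g := by
    rw [injective_iff_map_eq_one]
    intro m hm1
    have : (m : U) ∈ hopf η := ⟨congrArg Subtype.val hm1, m.2.2⟩
    rw [hb] at this
    exact Subtype.ext this
  let e := MulEquiv.ofBijective g ⟨hgi, hg⟩
  obtain ⟨f, hf⟩ := h.exists_surjective_hopf hτ.1 hτ.2.1
  let e' := MulEquiv.subgroupCongr (hopf_eq_ker_of_stem hτ)
  exact ⟨(e'.toMonoidHom.comp f).comp e.symm.toMonoidHom,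
    (e'.surjective.comp hf).comp e.symm.surjective⟩

end Cfsg.Agent.S3958
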