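import Cfsg.Statements.S2099
import Cfsg.Agent.Lib.MOm.Spin
import Cfsg.Agent.S3958

set_option autoImplicit false
open Cfsg

namespace Cfsg.Agent.S2099

set_option linter.unusedVariables false
open Cfsg.Lib


/-- Schur multipliers of the even-dimensional orthogonal groups of minus type: for l ≥ 4 and a field F with q elements, the Schur multiplier of PΩ⁻_2l(F) (for the form Σ_{i<l−1} xᵢyᵢ + z₁² + a z₁z₂ + b z₂² with the binary part anisotropic) is cyclic of order gcd(4, q^l + 1); here the Schur multiplier is described through stem extensions, as in the definitions. -/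
theorem result {F : Type*} [Field F] [Fintype F] {q : ℕ} (hF : Fintype.card F = q) (l : ℕ) (hl : 4 ≤ l) (a b : F) (hab : ∀ z₁ z₂ : F, z₁ ^ 2 + a * z₁ * z₂ + b * z₂ ^ 2 = 0 → z₁ = 0 ∧ z₂ = 0) : Cfsg.HasCyclicSchurMultiplier (Cfsg.POmega F (Cfsg.quadFormMinus (l - 1) F a b)) (Nat.gcd 4 (q ^ l + 1)) := by
  open Lib.Unitary Lib.MOm Lib.Chev Subgroup in
  obtain ⟨m, rfl⟩ : ∃ m, l = m + 1 := ⟨l - 1, by omega⟩
  have hm : 2 ≤ m + 1 := by omega
  have h3 : 3 ≤ m := by omega
  obtain ⟨K, _, _, θ, lam, hθ, h⟩ := exists_nrm hab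
  rw [Nat.card_eq_fintype_card, hF] at hθ
  have := hθ.finite
  have X := (repD hm (carJW _)).real K
  have := Finite.of_injective _ X.inj
  obtain ⟨⟨e1⟩, ⟨e2⟩⟩ := center_K0 h X hθ hab h3
  have h0 := mult_K0 X hθ h3
  have h2 := commutator_K0 X hθ h3
  generalize K0 X θ = H at e1 e2 h0 h2
  have h1 : IsStemExtension (QuotientGroup.mk' (center H)) :=
    ⟨QuotientGroup.mk'_surjective _, (QuotientGroup.ker_mk' _).le, h2 ▸ le_top⟩
  have e := (MulEquiv.subgroupCongr (QuotientGroup.ker_mk' (center H))).trans e2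
  refine Schur.hasSchurMultiplier_congr_left (Schur.hasSchurMultiplier_mk h1 e
    fun Δ _ _ τ hτ => ?_) e1
  obtain ⟨π, hπ⟩ := S3958.result _ h1 h0 Δ τ hτ
  exact ⟨π.comp e.symm.toMonoidHom, hπ.comp e.symm.surjective⟩

end Cfsg.Agent.S2099
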