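import Cfsg.Statements.S4529
import Cfsg.Agent.Lib.Tame.QSD

set_option autoImplicit false
open Cfsg

namespace Cfsg.Agent.S4529

open Cfsg.Lib.Block Cfsg.Lib.Char Cfsg.Lib.Modular Cfsg.Lib.Tame Finset

/-- Let B be a 2-block of the finite group G (relative to a maximal ideal M of the algebraic integers containing 2) whose defect group D is semidihedral (quasi-dihedral) of order 2 ^ n, n ≥ 4. Then the number of irreducible characters in B is 2 ^ (n - 2) + 3 or 2 ^ (n - 2) + 4, its 2-regular rank l is between 1 and 3, with l = 3 forcing 2 ^ (n - 2) + 4 characters and l = 1 forcing 2 ^ (n - 2) + 3; exactly four members have height zero, exactly 2 ^ (n - 2) - 1 have height one, and every other member has height n - 2. -/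
theorem result {G : Type*} [Group G] [Finite G] (M : Ideal Cfsg.AlgInt) (hM : Cfsg.IsPModular 2 M) (B : Set (Cfsg.IrrCharacter G)) (hB : Cfsg.IsPBlock M B) (D : Subgroup G) (hD : Cfsg.IsDefectGroup 2 M B D) (n : ℕ) (hn : 4 ≤ n) (hcard : Nat.card D = 2 ^ n) (hsd : Cfsg.IsQuasiDihedral D) : (Nat.card B = 2 ^ (n - 2) + 3 ∨ Nat.card B = 2 ^ (n - 2) + 4) ∧ 1 ≤ Cfsg.blockRank 2 B ∧ Cfsg.blockRank 2 B ≤ 3 ∧ (Cfsg.blockRank 2 B = 3 → Nat.card B = 2 ^ (n - 2) + 4) ∧ (Cfsg.blockRank 2 B = 1 → Nat.card B = 2 ^ (n - 2) + 3) ∧ Nat.card {χ : Cfsg.IrrCharacter G // χ ∈ B ∧ Cfsg.blockHeight 2 B (χ : G → ℂ) = 0} = 4 ∧ Nat.card {χ : Cfsg.IrrCharacter G // χ ∈ B ∧ Cfsg.blockHeight 2 B (χ : G → ℂ) = 1} = 2 ^ (n - 2) - 1 ∧ ∀ χ ∈ B, Cfsg.blockHeight 2 B (χ : G → ℂ) = 0 ∨ Cfsg.blockHeight 2 B (χ : G → ℂ) = 1 ∨ Cfsg.blockHeight 2 B (χ : G → ℂ) = n - 2 := by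
  classical
  have : Modular 2 M := ⟨hM⟩
  have := Fintype.ofFinite G
  obtain ⟨ω₀, hm, rfl⟩ := Prs.exists_isMax hB hD
  obtain ⟨a, b, μ, h⟩ := Cfsg.Lib.Inv.exists_mc_of_quasiDihedral hsd
  obtain rfl : n = μ + 2 + 2 := Nat.pow_right_injective le_rfl (hcard.symm.trans h.card_eq)
  have h1 := blockRank_pos (p := 2) hB
  obtain ⟨h2, h3⟩ := sd_card hm h (by omega) (z := ⟨_, h.zpow_mem _⟩) rfl
  obtain ⟨h4, h5, h6, h7⟩ := card_and_heights hm h (z := ⟨_, h.zpow_mem _⟩) rfl (by omega)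
    (by omega)
  rw [Nat.add_sub_cancel]
  refine ⟨by omega, h1, ?_, fun _ => ?_, fun _ => ?_,
    card_hzero.trans (exists_alpha hm h (by omega)).choose_spec.2.1, h6, h7⟩ <;>
    split_ifs at h3 <;> omega

end Cfsg.Agent.S4529
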