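import Cfsg.Statements.S4530
import Cfsg.Agent.Lib.Tame.QSD

set_option autoImplicit false
open Cfsg

namespace Cfsg.Agent.S4530

open Cfsg.Lib.Block Cfsg.Lib.Char Cfsg.Lib.Modular Cfsg.Lib.Tame Finset

/-- Let B be a 2-block of the finite group G (relative to a maximal ideal M of the algebraic integers containing 2) whose defect group D is generalized quaternion of order 2 ^ n, n ≥ 3. Then its 2-regular rank l is between 1 and 3, the number of irreducible characters in B is l + 2 ^ (n - 2) + 2, exactly four members have height zero, and every other member has height one or height n - 2; when n ≥ 4 exactly 2 ^ (n - 2) - 1 members have height one. -/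
theorem result {G : Type*} [Group G] [Finite G] (M : Ideal Cfsg.AlgInt) (hM : Cfsg.IsPModular 2 M) (B : Set (Cfsg.IrrCharacter G)) (hB : Cfsg.IsPBlock M B) (D : Subgroup G) (hD : Cfsg.IsDefectGroup 2 M B D) (n : ℕ) (hn : 3 ≤ n) (hq : Nonempty (D ≃* QuaternionGroup (2 ^ (n - 2)))) : 1 ≤ Cfsg.blockRank 2 B ∧ Cfsg.blockRank 2 B ≤ 3 ∧ Nat.card B = Cfsg.blockRank 2 B + 2 ^ (n - 2) + 2 ∧ Nat.card {χ : Cfsg.IrrCharacter G // χ ∈ B ∧ Cfsg.blockHeight 2 B (χ : G → ℂ) = 0} = 4 ∧ (∀ χ ∈ B, Cfsg.blockHeight 2 B (χ : G → ℂ) = 0 ∨ Cfsg.blockHeight 2 B (χ : G → ℂ) = 1 ∨ Cfsg.blockHeight 2 B (χ : G → ℂ) = n - 2) ∧ (4 ≤ n → Nat.card {χ : Cfsg.IrrCharacter G // χ ∈ B ∧ Cfsg.blockHeight 2 B (χ : G → ℂ) = 1} = 2 ^ (n - 2) - 1) := by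
  classical
  have : Modular 2 M := ⟨hM⟩
  have := Fintype.ofFinite G
  obtain ⟨ω₀, hm, rfl⟩ := Prs.exists_isMax hB hD
  obtain ⟨ν, rfl⟩ : ∃ ν, n = ν + 1 + 2 := ⟨n - 3, by omega⟩
  rw [Nat.add_sub_cancel] at *
  obtain ⟨a, b, h⟩ := Cfsg.Lib.Inv.exists_mc_of_quaternion hq.some
  have h1 := blockRank_pos (p := 2) hB
  obtain ⟨z, hz⟩ : ∃ z : ω₀.grp, z = a ^ (2 : ℤ) ^ (ν + 1) := ⟨⟨_, h.zpow_mem _⟩, rfl⟩
  obtain ⟨h2, h3⟩ := quat_card hm h (by omega) hz
  have h8 := (exists_alpha hm h (by omega)).choose_spec.2.1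
  rcases ν with _ | μ
  · have hd : blockDefect 2 B = 3 :=
      Nat.pow_right_injective le_rfl (hm.card_grp.symm.trans h.card_eq)
    have h4 := fun χ hχ => height_add_two_le (χ := χ) hB hχ
    have h5 := sum_height_le_of_rank_le_three (Prs.pElt_coe _) (hm.isInducedBlock_blkAt _)
      (hm.blockDefect_blkAt fun _ hx => hz ▸ h.z_comm hx) h2
    rw [← sum_sdiff hzero_subset, sum_congr rfl fun χ hχ => if_pos (mem_hzero.1 hχ).2,
      sum_congr (s₁ := irrs B \ hzero B) rfl (g := fun _ => 4) fun χ hχ => by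
        have h6 := mem_irrs.1 (mem_sdiff.1 hχ).1
        have h7 : blockHeight 2 B χ.1 ≠ 0 := fun e => (mem_sdiff.1 hχ).2 (mem_hzero.2 ⟨h6, e⟩)
        have := h4 χ h6 h7
        rw [if_neg h7, show blockHeight 2 B χ.1 = 1 by omega]; rfl, sum_const, sum_const, hd, h8,
      card_sdiff_of_subset hzero_subset, h8, ← card_eq_card_filter] at h5
    simp only [smul_eq_mul] at h5
    exact ⟨h1, by omega, h3, card_hzero.trans h8, fun χ hχ => by have := h4 χ hχ; omega,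
      by omega⟩
  · have e : 2 ^ (μ + 1 + 1) = 2 ^ (μ + 2) := rfl
    obtain ⟨h4, h5, h6, h7⟩ := card_and_heights hm h hz (by omega) (by omega)
    exact ⟨h1, by omega, h3, card_hzero.trans h8, h7, fun _ => h6⟩

end Cfsg.Agent.S4530
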