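import Cfsg.Statements.S3116
import Cfsg.Agent.Lib.Inv.Misc
import Cfsg.Agent.Lib.Inv.QDGroup

set_option autoImplicit false
open Cfsg

namespace Cfsg.Agent.S3116
open Cfsg.Lib.Inv


/-- The automorphism group of a dihedral 2-group of order at least 8, or of a quasi-dihedral (semidihedral) 2-group of order at least 16, is a 2-group. -/
theorem result {X : Type*} [Group X] [Finite X] (h2 : IsPGroup 2 X)
    (h : (∃ n : ℕ, 4 ≤ n ∧ Nonempty (X ≃* DihedralGroup n)) ∨ Cfsg.IsQuasiDihedral X) : IsPGroup 2 (MulAut X) := by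
  rcases h with ⟨n, hn, ⟨e⟩⟩ | h
  · obtain ⟨a, b, m, rfl, h⟩ := exists_mc_of_dihedral (S := ⊤) (h2.to_subgroup ⊤) (by omega)
      (Subgroup.topEquiv.trans e)
    refine h.isPGroup_mulAut ?_ fun ⟨e'⟩ => h.dih_not_q8 le_rfl ⟨Subgroup.topEquiv.trans e'⟩
    rw [Nat.card_congr e.toEquiv, DihedralGroup.nat_card]
    omega
  · obtain ⟨S, a, b, n, hS, h'⟩ := exists_mc_top_of_quasiDihedral h
    have hc := h'.card_eq
    rw [hS] at h' hc
    rw [Subgroup.card_top, pow_add, pow_add] at hc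
    have := Nat.two_pow_pos n
    refine h'.isPGroup_mulAut (by omega) fun ⟨e'⟩ => ?_
    rw [Nat.card_congr e'.toEquiv, Nat.card_eq_fintype_card, QuaternionGroup.card] at hc
    omega

end Cfsg.Agent.S3116
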