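import Cfsg.Statements.S0081
import Cfsg.Agent.Lib.Transfer.Criteria

set_option autoImplicit false
open Cfsg

namespace Cfsg.Agent.S0081

/-- If a normal subgroup meets a Sylow p-subgroup P inside the Frattini subgroup of P, then it has a normal p-complement. -/
theorem result {G : Type*} [Group G] [Finite G] {p : ℕ} [Fact p.Prime] (P : Sylow p G) (N : Subgroup G) [N.Normal] (h : N ⊓ (P : Subgroup G) ≤ (frattini P).map (P : Subgroup G).subtype) : Cfsg.HasNormalPComplement p N := by
  refine Lib.Transfer.hasNormalPComplement_of_le (K := N ⊔ (P : Subgroup G)) le_sup_left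
    (Lib.Transfer.hasNormalPComplement_subgroup_of_inf_le_frattini le_sup_right P.2
      (Lib.Transfer.sylow_not_dvd_relIndex P le_sup_right) (le_trans (inf_le_inf_right _ ?_) h))
  refine Lib.Transfer.map_subtype_pResidual_le_iff.2 fun g hg hc => ?_
  obtain ⟨n, hn, y, hy, rfl⟩ := Lib.Transfer.exists_mul_of_mem_sup Subgroup.le_normalizer_of_normal hg
  obtain ⟨k, hk⟩ := P.2 ⟨y, hy⟩
  have hk' : y ^ p ^ k = 1 := congrArg Subtype.val hk
  refine Lib.Transfer.mem_of_pow_mem_of_coprime ?_ (hc.pow_right k)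
  rw [← QuotientGroup.eq_one_iff, QuotientGroup.mk_pow, QuotientGroup.mk_mul,
    (QuotientGroup.eq_one_iff n).2 hn, one_mul, ← QuotientGroup.mk_pow, hk', QuotientGroup.mk_one]

end Cfsg.Agent.S0081
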