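import Cfsg.Statements.S2149
import Cfsg.Agent.Lib.Grp.MatC
import Cfsg.Agent.Lib.Grp.Orb
import Cfsg.Agent.Lib.Unitary.Simple
import Cfsg.Agent.Lib.Inv.Count

set_option autoImplicit false
open Cfsg

namespace Cfsg.Agent.S2149

set_option maxRecDepth 100000
open Cfsg.Lib Cfsg.Lib.Calc Cfsg.Lib.F2 Cfsg.Lib.Grp

/-- edges -/
noncomputable def t1 : ℕ := nat_lit 0x325436571337144576726233152246522211141375424632755455477732516262753437526763515415123171154163174233156445367375411512411240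
/-- edges -/
noncomputable def t2 : ℕ := nat_lit 0x441221671213736576571775661341122273235162536453215115266443216417355471351477413422122576443326147175154527535157216573635100
/-- edges -/
noncomputable def t3 : ℕ := nat_lit 0x10000000000000000001000000020002000000000000000020000000010000000000000000000000000000020000000000000000
/-- vectors -/
noncomputable def V : ℕ := nat_lit 0xeac7a99e99fa4ee67f922e3c38d7dfdb7dddcbb6b1d9ff666cd7b346ca5f27ec86b201c4e70eec09b00dbea6f90bb22e7db79edceb60ed51b41ac70addab5dac4aae0aa569ffa34e8baa15a83d9dd672a9b7e6c6985e59a95a254f8fc63d88dd235b8a4e24886ca199853a11c834603b7d05f287b75eab7981dca7279c857085c086d01af56aa9a91678996564cd91a58495fa57215af540148351454384d5d33e4a3d21247811c73afcea737e0ddf35ecd623268c4f2ee4ba02d54b232b60a421db075413ec4e3119844d10083d00e142ef096420e03880970130033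
/-- matrices -/
def As : List ℕ := [932408744531, 1275283288904]
/-- their tables -/
noncomputable def D0 : List ℕ := [nat_lit 0x3069e096deeaa693616ef2718e33d523c959ab065189a00c91b0e02eebd2d17a54523dd7f99bcd3a1ce70500b066cab7430f758505f437f0017616d2eb13f4028f91e19d4d51f11b711022c99b7e971b27a08b85b594ca0d13d252fe6f50b43da5deb1df20a689d73b0ad3e5ef309, nat_lit 0x1b23c39f4b1e6ead151bd9919b28163bb9a3272aecc81af63ef2dcdd753c91123498b1e0a80d2ea04c4bdeddd9d35e070bb8e3383867c55ba8897f31380f45ab6f24de9c04a2e703368559726d2df794a69020f0ca1fab3df051491865bee786df27bea24d340d08421af83a46c18]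
/-- a chain -/
noncomputable def ch : List Grp.Lv := [⟨0, 126, 3, t1, [4, 5, 6, 7, 8, 9, 10]⟩, ⟨1, 125, 4, t2, [11, 12, 13, 14, 15, 16, 17]⟩, ⟨6, 8, 4, t3, [18, 19]⟩]
/-- the base -/
def bs : List ℕ := [0, 1, 6]

theorem cL : linK (5 ^ 2) (adQ 5) (muQ 5 2) 3 126 7 14 V (suOK (5 ^ 2) (adQ 5) (muQ 5 2) 3 5 34) As D0 = true := by decide +kernel

theorem cC : chnK 126 7 (get 7) (get 4) 126000 D0 [([0], 4), ([1], 6), ([1, 0], 1), ([0, 1, 2], 1), ([0, 3, 0], 1), ([3, 0], 1), ([2, 3, 0], 1), ([1, 2, 1], 1), ([0, 1, 1], 1), ([2, 1, 0, 3, 3, 0, 3, 3], 1), ([2, 1, 0, 3, 0, 3, 0], 1), ([1, 2, 1, 1, 0, 3, 2, 3], 1), ([3, 0, 1, 1, 0, 0, 1], 1), ([0, 3, 2, 3, 0, 1, 1, 0], 1), ([0, 3, 0, 3, 2, 2], 1), ([0, 1, 0, 3, 3], 1), ([0, 1, 2, 2, 3, 3, 2, 1, 1, 1], 1), ([2, 1, 1, 2, 3, 2, 1, 1, 0], 1)] ch = true := by decide +kernel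
/-- edges -/
noncomputable def t4 : ℕ := nat_lit 0x261246113652572713557675444642157376647465111535537776156627335417563123464657451263723277754733434357253112065222461634361566
/-- edges -/
noncomputable def t5 : ℕ := nat_lit 0x423255476776357137357133137753247213241362222414263742516445661331265772575646454525374316141164163555411075024523413316663542
/-- orbit -/
noncomputable def t6 : ℕ := nat_lit 0x7df9efd79f1dfb75e9cf971e1bf76dd9af569d19f365c98f161c17ef5db96ed59b15eb55a94e951a13e74d992e549911e345890e14180fdf3d78edd3970ddb3568cd93160bd72d58ad529509d325488d121407cf1d386cd19305cb15284c9101e3868c16284880e182840608080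
/-- edges -/
noncomputable def t7 : ℕ := nat_lit 0x100000000000000000000000000000000002000000000000000000000100020000000000000000000000010100000000000000000000000020000
/-- edges -/
noncomputable def t8 : ℕ := nat_lit 0x110111111111001111101101111111110011110111110111111111111100111111101111111111111111111111111101111110111111011011111101111011
/-- edges -/
noncomputable def t9 : ℕ := nat_lit 0x313233313133222121323321323321132122321311222322313112121132222232323332213322313112322311323331121112331122111223322132333300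
/-- edges -/
noncomputable def t10 : ℕ := nat_lit 0x122111121112222212221121122122222121211112221222111111221112112121211122222212212222121111121212212121211111211221121211212210
/-- edges -/
noncomputable def t11 : ℕ := nat_lit 0x121112111121122121111222121122112122221212211122112221212122222222221112122112212212211122222212212121121211111122211121112110
/-- edges -/
noncomputable def t12 : ℕ := nat_lit 0x3313000000000000000000110000310000001031000000030300001000000030000000000000100301030000000000000000000000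
/-- edges -/
noncomputable def t13 : ℕ := nat_lit 0x121112111121122121111222121122112122221212211122112221212122222222221112122112212212211122222212212121121211111122211121112110
/-- edges -/
noncomputable def t14 : ℕ := nat_lit 0x1222000000000000000000130000210000003031000000020200002000000010000000000000100103010000000000000000000000
/-- words for the elements of the dictionary -/
def ws : List (List ℕ × ℕ) := [([0], 4), ([1], 6), ([1, 0], 1), ([0, 1, 2], 1), ([0, 3, 0], 1), ([3, 0], 1), ([2, 3, 0], 1), ([1, 2, 1], 1), ([0, 1, 1], 1), ([2, 1, 0, 3, 3, 0, 3, 3], 1), ([2, 1, 0, 3, 0, 3, 0], 1), ([1, 2, 1, 1, 0, 3, 2, 3], 1), ([3, 0, 1, 1, 0, 0, 1], 1), ([0, 3, 2, 3, 0, 1, 1, 0], 1), ([0, 3, 0, 3, 2, 2], 1), ([0, 1, 0, 3, 3], 1), ([0, 1, 2, 2, 3, 3, 2, 1, 1, 1], 1), ([2, 1, 1, 2, 3, 2, 1, 1, 0], 1), ([1, 1, 0, 1, 1, 2, 2, 1, 2, 2, 3], 1), ([2, 2, 1, 0], 1), ([0, 1, 0], 1), ([3, 3], 1), ([3, 3, 0, 0], 1), ([2, 3],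 1), ([2, 3, 0, 0], 1), ([2, 3, 2], 1), ([2, 1, 2], 1), ([1, 1], 1), ([2, 2, 1, 1], 1), ([0, 1, 1, 0, 1, 1, 0], 1), ([2, 3, 2, 3, 3, 0, 1, 1], 1), ([0, 3, 2, 3, 2, 1, 0], 1), ([0, 1, 1, 0, 3, 0, 1, 2], 1), ([1, 0, 1, 2, 3, 3, 2, 3], 1), ([3, 2, 3, 0, 1, 1, 0, 1], 1), ([0, 0, 1, 0, 1, 0, 0], 1), ([2, 3, 3, 2, 3, 3, 2], 1), ([3, 3, 2, 1, 1, 0, 1, 0], 1), ([2, 3, 0, 1, 0, 1, 2], 1), ([0, 3, 2, 1, 2, 3, 3, 2], 1), ([1, 0, 1, 1, 0, 3, 2, 3], 1), ([3, 2, 3, 3, 2, 1, 0, 1], 1), ([2, 2, 3, 2, 3, 2, 2], 1), ([0, 1, 2, 1, 1, 1, 2], 1), ([0, 3, 3, 3, 0, 3, 2], 1), ([0, 1, 2, 1, 0, 3, 3, 0, 1, 2, 3, 0], 1), ([0, 0, 1, 1, 1, 0, 3, 2, 3, 0, 1], 1), ([2, 3, 3, 0, 1, 2, 2, 1, 2, 3, 0, 3], 1), ([0, 3, 0, 3, 3, 0, 0, 1, 2, 3], 1), ([3, 3, 0, 0, 1, 1, 0, 1, 1, 2, 1], 1), ([3, 2, 3, 3, 2, 1, 2, 2, 1, 2, 3, 2], 1), ([0, 1, 1, 2, 2, 1, 1, 1, 2, 3], 1), ([0, 3, 0, 3, 3, 0, 3, 3, 3], 1), ([1, 0, 3, 3, 3, 0, 0, 3, 3, 2], 1), ([1, 1, 1,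 2, 1, 1, 2, 1, 2], 1), ([3, 3, 0, 0, 3, 2, 1, 2, 1, 0, 3, 0, 3, 3], 1), ([], 1), ([2, 2, 3, 0, 3, 3, 2, 1, 0, 1, 0, 0], 1), ([2, 2, 3, 2, 3, 0, 1, 1, 2, 1, 0, 0], 1), ([3, 0, 3, 0, 0, 3, 0, 0, 1, 0], 1), ([3, 3, 3, 2, 2, 1, 2, 1, 2, 2, 1], 1), ([0, 1, 1, 2, 1, 2, 3, 0, 0, 1], 1)]
theorem c1 : litK 126 7 (get 7) D0 ws (fun D =>
    band (cenChk 126 (get 7) (get 4) 126000 D bs [20]
    [⟨⟨17, 126, 3, t4, [4, 21, 22, 6, 23, 24, 0]⟩, [25, 26, 27, 28, 29, 30, 2], 0, 0, 0⟩,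
    ⟨⟨20, 125, 4, t5, [31, 32, 33, 34, 35, 36, 37]⟩, [38, 39, 40, 41, 42, 43, 44], t6, 1, 0⟩,
    ⟨⟨86, 8, 4, t7, [45, 46]⟩, [46, 45], 65683225689181828, 1, 0⟩,
    ⟨⟨75, 1, 0, 0, []⟩, [], 75, 1, 0⟩]
    [⟨7, 6, t8, [47]⟩, ⟨1, 0, 0, []⟩, ⟨1, 0, 0, []⟩, ⟨1, 0, 0, []⟩] 7)
    (ordP (get 7) D bs 7 20)) = true := by decide +kernel

theorem c2 : litK 126 7 (get 7) D0 ws (fun D =>
    band (fxOK 126 (get 7) D [48, 49, 50] 0)
    (band (freeOK 126 (get 7) 5 D [48, 49, 50] 0)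
    (band (pgOK 126 (get 7) (get 4) 5 D bs [48, 49, 50] [(0, [21, 5]), (0, [1]), (0, [])]
    [⟨1, 125, 8, t9, [0, 1, 2]⟩])
    (band (lowOK 126 (get 7) (get 4) D [51, 52] [⟨0, 126, 8, t10, [0, 1]⟩] 126)
    (band (schChk 126 (get 7) (get 4) D bs [53, 54]
    [⟨⟨0, 126, 10, t11, [53, 54]⟩, [55, 56], 0, 0, 0⟩,
    ⟨⟨1, 20, 5, t12, [57, 58, 59]⟩, [57, 58, 60], 0, 0, 0⟩]
    [[[0, 1, 1, 1, 0, 0, 1, 1, 1, 1, 0, 0, 1, 0, 0], [1, 1, 1, 0, 0, 0, 1, 1], [0, 1, 0, 1, 1, 1, 0, 1, 1, 0]], []] 2520)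
    (lowG 126 (get 7) (get 4) D bs [53, 54] [(61, [53, 53, 54, 54, 53, 54, 53, 54, 54, 53, 53, 54, 54]), (62, [53, 53, 54, 54, 53, 54, 53, 54, 54, 53, 54, 53, 53, 53]), (63, [54, 54, 54, 53, 53, 54])]
    [⟨0, 126, 10, t13, [0, 1]⟩, ⟨1, 20, 4, t14, [2, 3, 4]⟩] 2520)))))) = true := by decide +kernel


/-- Minimal index of a proper subgroup of PSU₃(5), realised over the field with 25 elements: every proper subgroup has index at least 50, and that index is attained. -/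
theorem result {F : Type*} [Field F] [Fintype F] (hF : Fintype.card F = 25) : (∀ H : Subgroup (Cfsg.PSU 3 F 5), H ≠ ⊤ → 50 ≤ H.index) ∧ (∃ H : Subgroup (Cfsg.PSU 3 F 5), H.index = 50) := by
  have : Fact (Nat.Prime 5) := ⟨by norm_num⟩
  obtain ⟨θ, K⟩ := exists_cod_quad (F := F) (p := 5) (c := 2) hF (by decide)
  obtain ⟨Y, _, pt, γ, C⟩ := K.hasCx_PSU (q₀ := 5) hF (by norm_num) (Nat.eq_of_mul_eq_mul_left (by norm_num : 0 < 18)
    ((mul_assoc 3 6 _).trans ((Unitary.card_PSU (q := 5) (n := 3) hF (by norm_num)).trans (by decide)))) cL rfl cC ws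
  have := C.fin
  have : Fact (Nat.Prime 7) := ⟨by norm_num⟩
  have := Unitary.isSimpleGroup_PSU (q := 5) (n := 3) hF le_rfl (by norm_num)
  have h := of_litK c2
  simp only [band_eq_true] at h
  obtain ⟨h1, h2, h3, h4, h5, h6⟩ := h
  refine ⟨fun H hH => not_lt.1 fun hk => ?_, gsub γ [53, 54], ?_⟩
  swap
  · have := (gsub γ [53, 54]).card_mul_index
    rw [(C.card_gsub_le h5).antisymm (C.lowG h6), C.card] at this
    omega
  have a := H.card_mul_index
  have b := Inv.card_dvd_factorial_index hH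
  have c := (C.selfC (by norm_num) (of_litK c1)).dvd (H := H)
  rw [C.card] at a b c
  have d : 126 ∣ Nat.card H ∨ ¬5 ^ 2 ∣ Nat.card H := by
    refine or_iff_not_imp_right.2 fun d => ?_
    obtain ⟨Q, e⟩ := Sylow.exists_subgroup_card_pow_prime 5 (not_not.1 d)
    obtain ⟨P, f⟩ := ((IsPGroup.of_card e).map H.subtype).exists_le_sylow
    obtain ⟨pt, γ, C, g⟩ := C.exists_sylow (C.pgp (by norm_num) h3) (by decide) P
    rw [g] at f
    have i := card_dvd_ncard_orbit_sub_one (Subgroup.map_subtype_le Q) (f.trans (gsub_le.2 (C.fxOK h1)))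
      fun x i _ ⟨y, j⟩ k => by
        obtain ⟨z, l, m⟩ := C.exists_pt y (b := 0) (by norm_num)
        obtain rfl := j.symm.trans m
        exact (C.freeOK (C.pgp (by norm_num) h3) h2 (f i) l k).imp_left (congrArg pt)
    have j := C.ncard_orbit_le H (b := 0) (by norm_num)
    have k := card_eq_ncard_orbit_mul H (pt 0)
    have l := (Subgroup.card_le_of_le (inf_le_right (a := H))).trans (C.card_stab_le' (M := 1000) h4 (by norm_num))
    rw [Subgroup.card_map_of_injective H.subtype_injective, e] at i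
    rcases (by decide +kernel : ∀ m ≤ 126, 5 ^ 2 ∣ m - 1 → m ∣ 126000 → m = 1 ∨ m = 126) _ j i
      ((Dvd.intro _ k.symm).trans (Dvd.intro _ a)) with m | m
    · rw [m, one_mul] at k
      exact absurd a (Nat.mul_lt_mul_of_le_of_lt (k.trans_le l) hk (by norm_num) |>.trans (by norm_num)).ne
    · exact m ▸ Dvd.intro _ k.symm
  rw [Nat.eq_div_of_mul_eq_left H.index_ne_zero_of_finite a] at c d
  have := (by decide +kernel : ∀ k < 50, k ∣ 126000 → 126000 ∣ k.factorial → (126 ∣ 126000 / k ∨ ¬5 ^ 2 ∣ 126000 / k) →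
    7 ∣ 126000 / k ∧ ¬126000 / k / 7 % 7 ∣ 126000 / 7 % 7) _ hk (Dvd.intro_left _ a) b d
  exact this.2 (c this.1)

end Cfsg.Agent.S2149
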