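import Cfsg.Statements.S1754
import Cfsg.Agent.Lib.Comp.Component
import Cfsg.Agent.Lib.Transfer.SylowIn

set_option autoImplicit false
open Cfsg

namespace Cfsg.Agent.S1754

open Cfsg.Lib Cfsg.Lib.Transfer Subgroup

/-- Let A be a standard subgroup of the finite group G (A quasisimple, C_G(A) tightly embedded of even order, A commuting elementwise with no other conjugate of itself, and N_G(A) = N_G(C_G(A))), and let t be an involution of G centralizing A. Then the centralizer of t lies in the normalizer of A; in particular A, viewed inside C_G(t), is a component of C_G(t). -/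
theorem result {G : Type*} [Group G] [Finite G]
    (A : Subgroup G) (hA : Cfsg.IsStandardSubgroup A) (t : G) (ht : orderOf t = 2) (htA : t ∈ Subgroup.centralizer (A : Set G)) :
    Subgroup.centralizer ({t} : Set G) ≤ Subgroup.normalizer (A : Set G) ∧
      Cfsg.IsComponent (A.subgroupOf (Subgroup.centralizer ({t} : Set G))) := by
  have h : centralizer {t} ≤ normalizer (A : Set G) := fun g hg => by
    rw [hA.2.2.2]
    by_contra hn
    refine (Nat.not_even_iff_odd.2 (hA.2.1.2 g hn)) (even_iff_two_dvd.2 ?_)
    rw [← ht]
    refine orderOf_dvd_natCard _ (mem_inf.2 ⟨htA, mem_conj.2 ?_⟩)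
    rwa [mul_assoc, ← mem_centralizer_singleton_iff.1 hg, inv_mul_cancel_left]
  have h2 : A ≤ centralizer {t} := fun a ha => mem_centralizer_singleton_iff.2 (htA a ha)
  exact ⟨h, Comp.isSubnormal_subgroupOf_of_le_normalizer h, (Comp.isQuasisimple_subgroupOf_iff h2).2 hA.1⟩

end Cfsg.Agent.S1754
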