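import Cfsg.Statements.S2699
import Cfsg.Agent.Lib.Linear.GraphInv
import Cfsg.Agent.Lib.Orth.CharTwo

set_option autoImplicit false
open Cfsg

namespace Cfsg.Agent.S2699

open Cfsg.Lib Cfsg.Lib.Linear Cfsg.Lib.Orth Module

/-- Let T = PSL_n(F) over the field with p^f elements with n ≥ 3 odd, n = 2m + 1, and G = Inndiag(T) the image of PGL_n(F). Every involutory graph automorphism γ of T (an inner-diagonal automorphism followed by inverse-transpose, of order 2) has centralizer C_G(γ) isomorphic to the projective conformal orthogonal group of the form x₀² + Σ xᵢ yᵢ in dimension n (for q even this group is isomorphic to Sp_{n−1}(q)), and any two involutory graph automorphisms are G-conjugate. -/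
theorem result {F : Type*} [Field F] [Fintype F] {p f : ℕ} [Fact p.Prime] (hF : Fintype.card F = p ^ f) (hf : 1 ≤ f) {n : ℕ} (hn : 3 ≤ n) {m : ℕ} (hnm : n = 2 * m + 1) (γ γ' : MulAut (Matrix.ProjectiveSpecialLinearGroup (Fin n) F)) (hγ : Cfsg.IsGraphAutClassPSL γ) (hγ2 : orderOf γ = 2) (hγ' : Cfsg.IsGraphAutClassPSL γ') (hγ'2 : orderOf γ' = 2) :
    Nonempty (↥(Cfsg.inndiagPSL n F ⊓ Subgroup.centralizer {γ}) ≃* Cfsg.PGO F (Cfsg.quadFormOdd m F)) ∧ Cfsg.IsConjUnder (Cfsg.inndiagPSL n F) γ γ' := by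
  obtain ⟨-, M, rfl⟩ := isGraphAutClassPSL_iff'.1 hγ
  obtain ⟨-, N, rfl⟩ := isGraphAutClassPSL_iff'.1 hγ'
  have hV : finrank F (Fin n → F) = 2 * m + 1 := by simpa using hnm
  have key : ∀ M : GL (Fin n) F, orderOf (grAut M) = 2 → (frm M).IsSymm := fun M h =>
    ((orderOf_grAut (by simpa using hn)).1 h).resolve_right fun h =>
      Nat.not_even_iff_odd.2 ⟨m, hV⟩ (Symp.even_finrank h (nd_frm M))
  have hM := key M hγ2
  have hN := key N hγ'2
  rw [inndiagPSL_eq]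
  by_cases h2 : (2 : F) = 0
  · haveI : NeZero n := ⟨by omega⟩
    obtain ⟨c, hc⟩ := Symp.exists_symC h2 hM.eq (nd_frm M)
    obtain ⟨d, hd⟩ := Symp.exists_symC h2 hN.eq (nd_frm N)
    obtain ⟨e, he⟩ := hc.exists_isometry hd rfl fun h => absurd h (Nat.not_even_iff_odd.2 ⟨m, hV⟩)
    obtain ⟨e1⟩ := nonempty_cent_equiv M
    obtain ⟨e2⟩ := nonempty_projQuot_equiv_isom h2 (nd_frm M)
    obtain ⟨e3⟩ := nonempty_isom_equiv_odd hc hV
    obtain ⟨e4⟩ := nonempty_O_qOdd_equiv_sp h2 m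
    obtain ⟨e5⟩ := nonempty_PGO_equiv_O h2 (Q := qOdd m F) (v := Pi.single (.inl ()) 1)
      (by simp [qOdd_apply])
    exact ⟨⟨((e1.trans e2).trans e3).trans (e5.trans e4).symm⟩,
      isConjUnder_grAut_iff.2 ⟨e, 1, one_ne_zero, by simpa using he⟩⟩
  · obtain ⟨e, c, hc, he⟩ := exists_sim_of_odd (nd_frm_quad h2 hM) (nd_qOdd h2 m) ⟨m, hV⟩
      (by simp [hnm, two_mul, add_comm])
    obtain ⟨e', d, hd, he'⟩ := exists_sim_of_odd (nd_frm_quad h2 hM) (nd_frm_quad h2 hN) ⟨m, hV⟩ rfl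
    exact ⟨nonempty_cent_equiv_PGO h2 hM e hc he, isConjUnder_grAut_of_sim h2 hM hN e' hd he'⟩

end Cfsg.Agent.S2699
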