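import Cfsg.Statements.S2706
import Cfsg.Agent.Lib.Unitary.GraphU2
import Cfsg.Agent.Lib.Orth.CharTwo

set_option autoImplicit false
open Cfsg

namespace Cfsg.Agent.S2706

/-- Let T = PSU_n(q) be simple with n = 2m + 1 ≥ 3 odd, realised over the field F with q² elements, and G = Inndiag(T) the image of PGU_n(q). Every involutory graph automorphism γ of T (an inner-diagonal automorphism times a standard field automorphism of even order, of order 2) has centralizer C_G(γ) isomorphic to the projective conformal orthogonal group of the form x₀² + Σ xᵢ yᵢ in dimension n over a field F₀ with q elements, and any two involutory graph automorphisms of T are G-conjugate. -/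
theorem result {F : Type*} [Field F] [Fintype F] {p f q : ℕ} [Fact p.Prime] (hq : q = p ^ f) (hf : 1 ≤ f) (hF : Fintype.card F = q ^ 2) {n : ℕ} (hn : 3 ≤ n) (hs : ¬ (n = 3 ∧ q = 2)) {m : ℕ} (hnm : n = 2 * m + 1) (F₀ : Type*) [Field F₀] [Fintype F₀] (hF₀ : Fintype.card F₀ = q) (γ γ' : MulAut (Cfsg.PSU n F q)) (hγ : Cfsg.IsGraphAutClassPSU γ) (hγ2 : orderOf γ = 2) (hγ' : Cfsg.IsGraphAutClassPSU γ') (hγ'2 : orderOf γ' = 2) :
    Nonempty (↥(Cfsg.inndiagPSU n F q ⊓ Subgroup.centralizer {γ}) ≃* Cfsg.PGO F₀ (Cfsg.quadFormOdd m F₀)) ∧ Cfsg.IsConjUnder (Cfsg.inndiagPSU n F q) γ γ' := by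
  open Cfsg.Lib Cfsg.Lib.Unitary Cfsg.Lib.Linear Cfsg.Lib.Orth Module in
  obtain ⟨σ, hσ⟩ := exists_isBar hF
  obtain ⟨τ, hτ⟩ := exists_bar_equiv hσ
  obtain ⟨φ, hφ⟩ := hσ.exists_ringHom (K := F₀) (by rw [Nat.card_eq_fintype_card, hF₀])
  obtain ⟨P, M, δ, h1⟩ := exists_isGr_of_graph hσ hτ hφ hn hγ hγ2
  obtain ⟨P', N, δ', h1'⟩ := exists_isGr_of_graph hσ hτ hφ hn hγ' hγ'2
  have hV : finrank F₀ (Fin n → F₀) = 2 * m + 1 := by simpa using hnm
  have key : ∀ M : GL (Fin n) F₀, ¬ (frm M).IsAlt := fun M h =>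
    Nat.not_even_iff_odd.2 ⟨m, hV⟩ (Symp.even_finrank h (nd_frm M))
  have hM := (h1.isSymm_or_isAlt hσ.invol hφ).resolve_right (key _)
  have hN := (h1'.isSymm_or_isAlt hσ.invol hφ).resolve_right (key _)
  have hn2 : 2 ≤ n := by omega
  rw [inndiagPSU_eq]
  by_cases h2 : (2 : F₀) = 0
  · haveI : NeZero n := ⟨by omega⟩
    obtain ⟨c, hc⟩ := Symp.exists_symC h2 hM.eq (nd_frm M)
    obtain ⟨d, hd⟩ := Symp.exists_symC h2 hN.eq (nd_frm N)
    obtain ⟨e, he⟩ := hc.exists_isometry hd rfl fun h => absurd h (Nat.not_even_iff_odd.2 ⟨m, hV⟩)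
    obtain ⟨e1⟩ := h1.nonempty_cent_equiv hσ hτ hφ hn2
    obtain ⟨e2⟩ := nonempty_projQuot_equiv_isom h2 (nd_frm M)
    obtain ⟨e3⟩ := nonempty_isom_equiv_odd hc hV
    obtain ⟨e4⟩ := nonempty_O_qOdd_equiv_sp h2 m
    obtain ⟨e5⟩ := nonempty_PGO_equiv_O h2 (Q := qOdd m F₀) (v := Pi.single (.inl ()) 1)
      (by simp [qOdd_apply])
    exact ⟨⟨((e1.trans e2).trans e3).trans (e5.trans e4).symm⟩,
      (h1.isConjUnder_iff hσ hτ hφ hn2 h1').2 ⟨e, 1, one_ne_zero, by simpa using he⟩⟩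
  · obtain ⟨e, c, hc, he⟩ := exists_sim_of_odd (nd_frm_quad h2 hM) (nd_qOdd h2 m) ⟨m, hV⟩
      (by simp [hnm, two_mul, add_comm])
    obtain ⟨e', d, hd, he'⟩ := exists_sim_of_odd (nd_frm_quad h2 hM) (nd_frm_quad h2 hN) ⟨m, hV⟩ rfl
    exact ⟨h1.nonempty_cent_equiv_PGO hσ hτ hφ hn2 h2 hM e hc he,
      h1.isConjUnder_of_sim hσ hτ hφ hn2 h1' h2 hM hN e' hd he'⟩

end Cfsg.Agent.S2706
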