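import Cfsg.Statements.S0819
import Mathlib

set_option autoImplicit false
open Cfsg

namespace Cfsg.Agent.S0819

theorem cases4 {F : Type*} [Field F] [Fintype F] (hF : Fintype.card F = 4) :
    ∃ w : F, w ^ 2 + w + 1 = 0 ∧ (2 : F) = 0 ∧ ∀ x : F, x = 0 ∨ x = 1 ∨ x = w ∨ x = w + 1 := by
  classical
  have h1 : ∀ x : F, x ^ 4 = x := fun x => hF ▸ FiniteField.pow_card x
  have h2 : (2 : F) = 0 := by
    have := FiniteField.cast_card_eq_zero F
    rw [hF] at this
    exact pow_eq_zero_iff two_ne_zero |>.1 (by linear_combination (exp := 1) this)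
  obtain ⟨w, hw⟩ : ∃ w : F, w ∉ ({0, 1} : Finset F) := by
    by_contra! h
    have := Finset.card_le_card (show Finset.univ ⊆ _ from fun x _ => h x)
    have := Finset.card_le_two (a := (0 : F)) (b := 1)
    simp_all only [Finset.card_univ]; omega
  simp only [Finset.mem_insert, Finset.mem_singleton, not_or] at hw
  have h3 : w ^ 2 + w + 1 = 0 := by have := h1 w; grind
  exact ⟨w, h3, h2, fun x => by have := h1 x; grind⟩


/-- No element of PSL_3(4) has order 15. -/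
theorem result {F : Type*} [Field F] [Fintype F] (hF : Fintype.card F = 4) (g : Matrix.ProjectiveSpecialLinearGroup (Fin 3) F) : orderOf g ≠ 15 := by
  intro h
  obtain ⟨A, rfl⟩ := QuotientGroup.mk_surjective g
  obtain ⟨w, h1, h2, h3⟩ := cases4 hF
  have h4 : ∀ (n : ℕ) (r : F), A.1 ^ n = (0 : F) • A.1 ^ 2 + (0 : F) • A.1 + r • 1 → 15 ∣ n :=
    fun n r e => by
    rw [← h, orderOf_dvd_iff_pow_eq_one, ← QuotientGroup.mk_pow, QuotientGroup.eq_one_iff,
      Subgroup.mem_center_iff]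
    exact fun B => Subtype.ext (by simp [e])
  obtain ⟨a, b, h5⟩ : ∃ a b : F, A.1 ^ 3 = a • A.1 ^ 2 + b • A.1 + (1 : F) • 1 := by
    refine ⟨A.1.trace, -A.1.adjugate.trace, ?_⟩
    obtain ⟨A, hA⟩ := A
    dsimp only
    rw [← hA]
    clear h4 h hA
    ext i j
    fin_cases i <;> fin_cases j <;> simp [pow_succ, Matrix.mul_apply, Fin.sum_univ_three,
      Matrix.trace_fin_three, Matrix.adjugate_fin_three, Matrix.det_fin_three] <;> ring
  have h6 : ∀ {n : ℕ} {p q r : F}, A.1 ^ n = p • A.1 ^ 2 + q • A.1 + r • 1 →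
      A.1 ^ (n + 1) = (p * a + q) • A.1 ^ 2 + (p * b + r) • A.1 + p • 1 := fun {n p q r} e => by
    rw [pow_succ, e, add_mul, add_mul, smul_mul_assoc, ← pow_succ, h5, smul_mul_assoc, ← sq, smul_mul_assoc, one_mul]
    module
  have k5 := h6 (h6 h5)
  have k7 := h6 (h6 k5)
  have k12 := h6 (h6 (h6 (h6 (h6 k7))))
  have h7 : ∀ {n : ℕ} {p q r : F}, A.1 ^ n = p • A.1 ^ 2 + q • A.1 + r • 1 → ¬ 15 ∣ n →
      ¬ (p = 0 ∧ q = 0) := fun e h ⟨e1, e2⟩ => h (h4 _ _ (e1 ▸ e2 ▸ e))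
  have l5 := h7 k5 (by decide)
  have l7 := h7 k7 (by decide)
  have l12 := h7 k12 (by decide)
  clear k5 k7 k12 h4 h5 h6 h7 h
  rcases h3 a with rfl | rfl | rfl | rfl <;> rcases h3 b with rfl | rfl | e | rfl <;> grind

end Cfsg.Agent.S0819
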