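import Cfsg.Statements.S5317
import Cfsg.Agent.Lib.Grp.FusTwo
import Cfsg.Agent.Lib.PSL2.Structure
import Cfsg.Agent.Lib.Linear.Simple

set_option autoImplicit false
open Cfsg

namespace Cfsg.Agent.S5317

open Cfsg.Lib Cfsg.Lib.PSL2 Cfsg.Lib.Inv in

/-- Let F be a finite field of odd order q with q² ≡ 1 mod 16 (so that a Sylow 2-subgroup of PSL(2,q), dihedral of order the 2-part of (q²−1)/2, has order at least 8). Then the 2-fusion system of PSL(2,F) on a Sylow 2-subgroup is simple: saturated, over a nontrivial 2-group, with no normal subsystem other than the trivial one and itself. -/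
theorem result {F : Type*} [Field F] [Fintype F] (hodd : Fintype.card F % 2 = 1) (h16 : 16 ∣ Fintype.card F ^ 2 - 1)
    (S : Sylow 2 (Matrix.ProjectiveSpecialLinearGroup (Fin 2) F)) :
    (Cfsg.groupFusionSystem (S : Subgroup (Matrix.ProjectiveSpecialLinearGroup (Fin 2) F))).IsSimple 2 := by
  have hq : 4 ≤ Fintype.card F := by
    by_contra h
    have := Fintype.one_lt_card (α := F)
    rw [show Fintype.card F = 3 by omega] at h16
    omega
  have := Linear.isSimpleGroup_PSL_fin (F := F) (n := 2) le_rfl fun _ => hq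
  obtain ⟨k, hk⟩ := S.isPGroup'.exists_card_eq
  have h8 : 2 ^ 3 ∣ Nat.card S := S.pow_dvd_card_of_pow_dvd_card (by
    have := card_PSL2_mul (K := F)
    rw [gcd_two_eq_of_odd (by rwa [Nat.card_eq_fintype_card, Nat.odd_iff]), Nat.card_eq_fintype_card (α := F)] at this
    exact Nat.dvd_of_mul_dvd_mul_left two_pos (this ▸ h16.mul_left _))
  obtain ⟨j, rfl⟩ : ∃ j, k = j + 2 := ⟨k - 2, by
    have := (Nat.pow_dvd_pow_iff_le_right one_lt_two).1 (hk ▸ h8)
    omega⟩
  have hG := Grp.pResidual_two_of_simple hk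
  obtain ⟨p, hp⟩ := CharP.exists F
  have := Fact.mk (CharP.char_is_prime F p)
  obtain ⟨a, b, m, h, hS⟩ := exists_le_dihL_of_coprime (AlgebraicClosure F) p
    (H := (S : Subgroup (Matrix.ProjectiveSpecialLinearGroup (Fin 2) F)))
    (hk ▸ ((Nat.coprime_primes Nat.prime_two this.out).2 fun e => by
      subst e
      have := char_dvd_card (F := F) 2
      rw [Nat.card_eq_fintype_card] at this
      omega).pow_left _)
    fun e => absurd (Nat.prime_three.dvd_of_dvd_pow (hk ▸ (show 3 ∣ 12 by norm_num).trans e : 3 ∣ 2 ^ (j + 2)))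
      (by norm_num)
  have hn : ¬ (S : Subgroup _) ≤ torusL F a b := fun e => by
    obtain ⟨g, -, hg⟩ := h.exists_zpowers_eqL
    obtain ⟨H, hH⟩ := exists_index_two_of_isCyclic (even_iff_two_dvd.2 (((Dvd.intro 4 rfl).trans h8).trans
      (Subgroup.card_subgroup_dvd_card _))) S (Subgroup.isCyclic_of_le (hg ▸ e))
    exact pResidual_two_eq_top_iff.1 hG H hH
  have hc := card_of_le_dihL h.ne hS hn
  have := Nat.le_of_dvd Nat.card_pos h8
  obtain ⟨a, b, m, e, h⟩ := exists_mc_of_dihedral S.isPGroup' (by omega) (dihedral_of_le_dihL h.ne hS hn).some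
  refine Grp.fusion_simple_of_mc h (.inl ⟨Nat.pos_of_ne_zero ?_, rfl⟩) hG S
  rintro rfl
  omega

end Cfsg.Agent.S5317
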