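import Cfsg.Statements.S5318
import Cfsg.Agent.Lib.Grp.SylThree
import Cfsg.Agent.Lib.PSL2.Torus
import Cfsg.Agent.Lib.Linear.Simple

set_option autoImplicit false
open Cfsg

namespace Cfsg.Agent.S5318

open Cfsg.Lib Cfsg.Lib.Grp Matrix in

/-- For a finite field F of odd order, the 2-fusion system of PSL(3,F) on a Sylow 2-subgroup (semidihedral or wreathed according as |F| ≡ 3 or 1 mod 4) is simple. -/
theorem result {F : Type*} [Field F] [Fintype F] (hodd : Fintype.card F % 2 = 1) (S : Sylow 2 (Matrix.ProjectiveSpecialLinearGroup (Fin 3) F)) :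
    (Cfsg.groupFusionSystem (S : Subgroup (Matrix.ProjectiveSpecialLinearGroup (Fin 3) F))).IsSimple 2 := by
  have := Linear.isSimpleGroup_PSL_fin (F := F) (n := 3) (by norm_num) (by norm_num)
  have h2 := neg_one_ne_one_of_odd hodd
  have hk : ∀ x : SpecialLinearGroup (Fin 3) F, QuotientGroup.mk' (Subgroup.center _) x = 1 → Odd (orderOf x) :=
    fun x hx => by
      have := Subgroup.orderOf_dvd_natCard _ ((QuotientGroup.eq_one_iff x).1 hx)
      rw [Linear.card_center_SL] at this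
      exact Odd.of_dvd_nat (by decide : Odd 3) (this.trans (Nat.gcd_dvd_left _ _))
  obtain ⟨r, n, u, v, hq, hu, hv, h⟩ := two_adic_cases hodd Fintype.one_lt_card
  have hc := Linear.card_SL_mul (F := F) (ι := Fin 3)
  have hq' := hq
  rw [← Nat.card_eq_fintype_card] at hq'
  have h0 : 0 < r := by have := Fintype.one_lt_card (α := F); omega
  have hc : Nat.card (SpecialLinearGroup (Fin 3) F) = r ^ 2 * (r + 2) * ((r + 1) ^ 3 * (r * (r + 3) + 3)) := by
    refine Nat.eq_of_mul_eq_mul_left h0 ?_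
    rw [Linear.card_GL, hq, Fin.prod_univ_eq_prod_range fun i => (r + 1) ^ Fintype.card (Fin 3) - (r + 1) ^ i] at hc
    simp only [Fintype.card_fin, Finset.prod_range_succ, Finset.prod_range_zero] at hc
    rw [Nat.add_sub_cancel, Nat.sub_eq_of_eq_add (show (r + 1) ^ 3 = r * (r * (r + 3) + 3) + (r + 1) ^ 0 by ring),
      Nat.sub_eq_of_eq_add (show (r + 1) ^ 3 = r * (r + 2) * (r + 1) + (r + 1) ^ 1 by ring),
      Nat.sub_eq_of_eq_add (show (r + 1) ^ 3 = r * (r + 1) ^ 2 + (r + 1) ^ 2 by ring)] at hc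
    rw [hc]
    ring
  have hr : Even r := Nat.even_iff.2 (by omega)
  have ho : Odd ((r + 1) ^ 3 * (r * (r + 3) + 3)) := hr.add_one.pow.mul ((hr.mul_right _).add_odd (by decide))
  rcases h with ⟨h, h'⟩ | ⟨h, h'⟩
  · obtain ⟨l, hl⟩ := exists_pow_eq_neg_one (F := F) (k := n + 1) ⟨u, by rw [hq', Nat.add_sub_cancel, h]⟩
    exact fusion_simple_of_wr_quot _ (QuotientGroup.mk'_surjective _) hk (wr_sl3 h2 hl)
      (by rw [hc, h']; nth_rw 1 [h]; ring) ((hu.pow (n := 2)).mul (hv.mul ho)) S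
  · obtain ⟨x, hx⟩ := IsAlgClosed.exists_pow_nat_eq (-1 : AlgebraicClosure F) (n := 2 ^ (n + 2)) (by positivity)
    have h0 : x ≠ 0 := fun e => by simp [e] at hx
    have h1 : x ^ Nat.card F = -x⁻¹ := by
      rw [← mul_left_inj' h0, ← pow_succ, hq', show r + 1 + 1 = r + 2 from rfl, h, pow_mul, hx, hu.neg_one_pow]
      simp [h0]
    obtain ⟨s, hs⟩ := (PSL2.frob_eq_self_iff (F := F) (x := x - x⁻¹)).1 (by
      rw [map_sub, map_inv₀, PSL2.frob_apply, h1]
      simp [inv_neg, add_comm, sub_eq_add_neg])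
    obtain ⟨_, a, b, e⟩ := exists_mc_sl3 h2 (algebraMap F _) (u := Units.mk0 x h0) (m := n + 2) (by omega)
      (Units.ext hx) (by simpa using hs)
    exact fusion_simple_of_mc_quot _ (QuotientGroup.mk'_surjective _) hk e (by omega)
      (by rw [hc, h]; nth_rw 1 [h']; ring) ((hv.pow (n := 2)).mul (hu.mul ho)) S

end Cfsg.Agent.S5318
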