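import Cfsg.Statements.S5319
import Cfsg.Agent.Lib.Grp.SylThree
import Cfsg.Agent.Lib.Unitary.Simple
import Cfsg.Agent.Lib.Unitary.Gram

set_option autoImplicit false
open Cfsg

namespace Cfsg.Agent.S5319

open Cfsg.Lib Cfsg.Lib.Grp Cfsg.Lib.Unitary Matrix in

/-- Let q be an odd prime power and F a field with q² elements. Then the 2-fusion system of PSU(3,q) (realised as the special unitary group of the standard Hermitian form over F modulo its centre) on a Sylow 2-subgroup is simple. -/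
theorem result {F : Type*} [Field F] [Fintype F] (q : ℕ) (hq : Fintype.card F = q ^ 2) (hodd : q % 2 = 1) (S : Sylow 2 (Cfsg.PSU 3 F q)) :
    (Cfsg.groupFusionSystem (S : Subgroup (Cfsg.PSU 3 F q))).IsSimple 2 := by
  have := isSimpleGroup_PSU hq (n := 3) le_rfl (by omega)
  obtain ⟨σ, hσ⟩ := exists_isBar hq
  have h2 := neg_one_ne_one_of_odd (F := F) (by rw [hq, Nat.pow_mod, hodd])
  have hk : ∀ x : SU 3 F q, QuotientGroup.mk' (Subgroup.center _) x = 1 → Odd (orderOf x) :=
    fun x hx => by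
      have := Subgroup.orderOf_dvd_natCard _ ((QuotientGroup.eq_one_iff x).1 hx)
      rw [card_center_SU hq (by norm_num)] at this
      exact Odd.of_dvd_nat (by decide : Odd 3) (this.trans (Nat.gcd_dvd_left _ _))
  obtain ⟨r, n, u, v, rfl, hu, hv, h⟩ := two_adic_cases hodd hσ.two_le
  have hc : Nat.card (SU 3 F (r + 1)) = (r + 2) ^ 2 * r * ((r + 1) ^ 3 * (r * (r + 1) + 1)) := by
    refine Nat.eq_of_mul_eq_mul_left (r + 1).succ_pos ((card_SU hq (by norm_num)).trans ?_)
    simp only [guOrder_def, Finset.prod_range_succ, Finset.prod_range_zero]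
    norm_num
    rw [Nat.sub_eq_of_eq_add (show (r + 1) ^ 2 = r * (r + 2) + 1 by ring)]
    ring
  have hr : Even r := Nat.even_iff.2 (by omega)
  have ho : Odd ((r + 1) ^ 3 * (r * (r + 1) + 1)) := hr.add_one.pow.mul (hr.mul_right _).add_one
  have hF := hσ.card_sub_one
  rw [Nat.add_sub_cancel] at hF
  rcases h with ⟨h, h'⟩ | ⟨h, h'⟩
  · obtain ⟨l, hl⟩ := exists_pow_eq_neg_one (F := F) (k := n + 2) ⟨u * v, by
      rw [hF, show r + 1 + 1 = r + 2 from rfl, h']; nth_rw 1 [h]; ring⟩
    have h1 : σ l = -l := by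
      rw [hσ.eq, pow_succ, h, pow_mul, ← Units.val_pow_eq_pow_val, hl]
      simp [hu.neg_one_pow]
    obtain ⟨e⟩ := hσ.nonempty_msuEquiv (J := !![0, 1, 0; 1, 0, 0; 0, 0, 1]) (n := 3)
      (fun i j => by fin_cases i <;> fin_cases j <;> simp) (by simp [det_fin_three]) (by simp)
    have := Finite.of_equiv _ e.toEquiv.symm
    exact fusion_simple_of_mc_quot ((QuotientGroup.mk' _).comp e.toMonoidHom)
      ((QuotientGroup.mk'_surjective _).comp e.surjective) (fun x hx => e.orderOf_eq x ▸ hk _ hx)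
      (MC.comap (mSU σ _).subtype (mSU σ _).subtype_injective (a := ⟨_, mem_mSU.2 (by
        ext i j
        fin_cases i <;> fin_cases j <;> simp [coe_dg3, mul_apply, Fin.sum_univ_three, h1])⟩) (b := ⟨_, mem_mSU.2 (by
        ext i j
        fin_cases i <;> fin_cases j <;> simp [coe_sw3, mul_apply, Fin.sum_univ_three])⟩) (mc_dg3 h2 (by omega) hl))
      (by omega) (by rw [Nat.card_congr e.toEquiv, hc, h']; nth_rw 1 [h]; ring) ((hv.pow (n := 2)).mul (hu.mul ho)) S
  · obtain ⟨l, hl⟩ := exists_pow_eq_neg_one (F := F) (k := n + 1) ⟨r * u, by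
      rw [hF, show r + 1 + 1 = r + 2 from rfl, h]; ring⟩
    have h1 : σ l = (l : F)⁻¹ := eq_inv_of_mul_eq_one_right (by
      rw [hσ.norm_eq, show r + 1 + 1 = r + 2 from rfl, h, pow_succ, pow_mul, pow_mul, ← Units.val_pow_eq_pow_val, hl]
      simp)
    exact fusion_simple_of_wr_quot _ (QuotientGroup.mk'_surjective _) hk
      (WR.comap (SU 3 F _).subtype (SU 3 F _).subtype_injective (x := ⟨_, hσ.mem_SU_iff.2 (by
        ext i j
        fin_cases i <;> fin_cases j <;> simp [coe_dg3, mul_apply, Fin.sum_univ_three, h1])⟩) (y := ⟨_, hσ.mem_SU_iff.2 (by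
        ext i j
        fin_cases i <;> fin_cases j <;> simp [coe_dg3, mul_apply, Fin.sum_univ_three, h1])⟩) (t := ⟨_, hσ.mem_SU_iff.2 (by
        ext i j
        fin_cases i <;> fin_cases j <;> simp [coe_sw3, mul_apply, Fin.sum_univ_three])⟩) (wr_sl3 h2 hl))
      (by rw [hc, h]; nth_rw 1 [h']; ring) ((hu.pow (n := 2)).mul (hv.mul ho)) S

end Cfsg.Agent.S5319
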