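import Cfsg.Statements.S3915
import Cfsg.Agent.Lib.Comp.Component
import Cfsg.Agent.Lib.Coprime.FT

set_option autoImplicit false
open Cfsg

namespace Cfsg.Agent.S3915

open Subgroup Cfsg.Lib.Comp

theorem exists_nc {G : Type*} [Group G] [Finite G] (h : IsQuasisimple G) :
    ∃ x : G, x ∉ center G ∧ ∃ k, orderOf x = 2 ^ k := by
  obtain ⟨S⟩ : Nonempty (Sylow 2 G) := inferInstance
  by_contra hh
  push Not at hh
  have hle : (S : Subgroup G) ≤ center G := by
    intro x hx
    by_contra hc
    obtain ⟨k, hk⟩ := (IsPGroup.iff_orderOf.1 S.isPGroup') ⟨x, hx⟩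
    exact hh x hc k (by rw [← hk, ← Subgroup.orderOf_coe])
  have hs : Group.IsSolvable (G ⧸ center G) := by
    apply Cfsg.Lib.Coprime.isSolvable_of_not_two_dvd
    intro hd
    exact S.not_dvd_index (hd.trans (index_dvd_of_le hle))
  haveI : Group.IsSolvable (center G) := Group.isSolvable_of_comm fun a b => Subtype.ext (mem_center_iff.1 b.2 a)
  exact isQuasisimple_not_isSolvable h
    (Group.isSolvable_of_ker_le_range (center G).subtype (QuotientGroup.mk' (center G)) (by simp))

theorem exists_nc' {G : Type*} [Group G] [Finite G] {L : Subgroup G} (h : IsComponent L) :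
    ∃ x ∈ L, x ∉ centralizer (L : Set G) ∧ ∃ k, orderOf x = 2 ^ k := by
  obtain ⟨x, hx, k, hk⟩ := exists_nc h.2
  refine ⟨x, x.2, fun hc => hx ?_, k, by rw [Subgroup.orderOf_coe, hk]⟩
  rw [← centralizer_subgroupOf_self]
  exact hc

def Sup1 {G : Type*} [Group G] (A : Subgroup G) : Prop :=
  ∀ K K' : Subgroup G, IsComponent K → IsComponent K' → ¬ A ≤ centralizer (K : Set G) →
    ¬ A ≤ centralizer (K' : Set G) → K = K'

theorem le_cent {G : Type*} [Group G] {K L : Subgroup G} (hK : IsComponent K) (hL : IsComponent L)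
    (hne : L ≠ K) : L ≤ centralizer (K : Set G) :=
  commutator_eq_bot_iff_le_centralizer.1 (isComponent_commutator_eq_bot_of_ne hL hK hne)

theorem sup1_of_le {G : Type*} [Group G] {A L : Subgroup G} (hL : IsComponent L) (h : A ≤ L) : Sup1 A := by
  intro K K' hK hK' h1 h2
  have e1 : L = K := by
    by_contra hne
    exact h1 (h.trans (le_cent hK hL hne))
  have e2 : L = K' := by
    by_contra hne
    exact h2 (h.trans (le_cent hK' hL hne))
  rw [← e1, ← e2]

theorem sup1_conj {G : Type*} [Group G] {A : Subgroup G} (h : Sup1 A) (g : G) :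
    Sup1 (A.map (MulAut.conj g).toMonoidHom) := by
  have key : ∀ K : Subgroup G, A ≤ centralizer ((K.map (MulAut.conj g⁻¹).toMonoidHom : Subgroup G) : Set G) →
      A.map (MulAut.conj g).toMonoidHom ≤ centralizer (K : Set G) := by
    rintro K hA _ ⟨a, ha, rfl⟩ k hk
    have := hA ha (g⁻¹ * k * g) ⟨k, hk, by simp⟩
    simp only [MulEquiv.toMonoidHom_eq_coe, MonoidHom.coe_coe, MulAut.conj_apply]
    calc k * (g * a * g⁻¹) = g * (g⁻¹ * k * g * a) * g⁻¹ := by group
      _ = g * (a * (g⁻¹ * k * g)) * g⁻¹ := by rw [this]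
      _ = _ := by group
  intro K K' hK hK' h1 h2
  have := h _ _ (isComponent_map_conj hK g⁻¹) (isComponent_map_conj hK' g⁻¹) (fun hh => h1 (key _ hh))
    (fun hh => h2 (key _ hh))
  exact map_injective (MulAut.conj g⁻¹).injective this

/-- Let G be a finite group in which, for every prime p, any two cyclic p-subgroups of the same order are conjugate. If the layer E(G), the subgroup generated by the components of G, is non-trivial, then E(G)/Z(E(G)) is a non-abelian simple group. -/
theorem result {G : Type*} [Group G] [Finite G] (hP : ∀ (p : ℕ), p.Prime → ∀ A B : Subgroup G, IsCyclic ↥A → IsCyclic ↥B → IsPGroup p ↥A → Nat.card ↥A = Nat.card ↥B → ∃ g : G, B = A.map (MulAut.conj g).toMonoidHom) (hE : Cfsg.layer G ≠ ⊥) :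
    IsSimpleGroup (↥(Cfsg.layer G) ⧸ Subgroup.center ↥(Cfsg.layer G)) ∧ ¬ IsMulCommutative (↥(Cfsg.layer G) ⧸ Subgroup.center ↥(Cfsg.layer G)) := by
  have huniq : ∀ K L : Subgroup G, IsComponent K → IsComponent L → K = L := by
    intro K L hK hL
    by_contra hne
    obtain ⟨x, hxK, hxc, a, ha⟩ := exists_nc' hK
    obtain ⟨y, hyL, hyc, b, hb⟩ := exists_nc' hL
    have hxL : x ∈ centralizer (L : Set G) := le_cent hL hK hne hxK
    have hyK : y ∈ centralizer (K : Set G) := le_cent hK hL (Ne.symm hne) hyL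
    have hc : Commute x y := hyK x hxK
    have hn : ¬ Sup1 (zpowers (x * y)) := by
      intro h
      refine hne (h K L hK hL (fun hh => hxc ?_) (fun hh => hyc ?_))
      · simpa using mul_mem (hh (mem_zpowers _)) (inv_mem hyK)
      · simpa using mul_mem (inv_mem hxL) (hh (mem_zpowers _))
    have key : ∀ (M : Subgroup G) (z : G) (c : ℕ), IsComponent M → z ∈ M → orderOf z = 2 ^ c →
        orderOf (x * y) ∣ 2 ^ c → False := by
      intro M z c hM hz hc hd
      apply hn
      have ho : orderOf (z ^ (orderOf z / orderOf (x * y))) = orderOf (x * y) :=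
        orderOf_pow_orderOf_div (orderOf_pos z).ne' (hc ▸ hd)
      have hpg : IsPGroup 2 (zpowers (z ^ (orderOf z / orderOf (x * y)))) := by
        obtain ⟨j, -, hj⟩ := (Nat.dvd_prime_pow Nat.prime_two).1 hd
        exact IsPGroup.of_card (n := j) (by rw [Nat.card_zpowers, ho, hj])
      obtain ⟨g, hg⟩ := hP 2 Nat.prime_two _ (zpowers (x * y)) inferInstance inferInstance hpg
        (by rw [Nat.card_zpowers, Nat.card_zpowers, ho])
      rw [hg]
      exact sup1_conj (sup1_of_le hM (zpowers_le.2 (M.pow_mem hz _))) g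
    rcases le_total a b with hab | hab
    · refine key L y b hL hyL hb (orderOf_dvd_of_pow_eq_one ?_)
      rw [hc.mul_pow, orderOf_dvd_iff_pow_eq_one.1 (ha ▸ pow_dvd_pow 2 hab), ← hb, pow_orderOf_eq_one, mul_one]
    · refine key K x a hK hxK ha (orderOf_dvd_of_pow_eq_one ?_)
      have e : y ^ 2 ^ a = 1 := orderOf_dvd_iff_pow_eq_one.1 (by rw [hb]; exact pow_dvd_pow 2 hab)
      rw [hc.mul_pow, e, ← ha, pow_orderOf_eq_one, mul_one]
  obtain ⟨L, hL⟩ : ∃ L : Subgroup G, IsComponent L := by
    by_contra hh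
    push Not at hh
    exact hE (layer_eq_bot_iff.2 hh)
  have : layer G = L := le_antisymm (layer_le fun K hK => (huniq K L hK hL).le) (le_layer hL)
  have hq : IsQuasisimple (layer G) := this ▸ hL.2
  exact ⟨hq.2, isQuasisimple_quotient_center_not_isMulCommutative hq⟩

end Cfsg.Agent.S3915
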