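import Cfsg.Statements.S4023
import Cfsg.Agent.Lib.BG.T04_PGroup
import Cfsg.Agent.Lib.BG.Quo
import Cfsg.Agent.Lib.PGroup.RankOne

set_option autoImplicit false
open Cfsg

namespace Cfsg.Agent.S4023

open Subgroup Cfsg.Lib Cfsg.Lib.BG Cfsg.Lib.Transfer

theorem exists_p3 {G : Type*} [Group G] [Finite G] {p : ℕ} [hp : Fact p.Prime] {P : Subgroup G} (hP : IsPGroup p P)
    (he : ∀ x ∈ P, x ^ p = 1) (hab : ¬ IsMulCommutative P) :
    ∃ H ≤ P, ¬ IsMulCommutative H ∧ Nat.card H ≤ p ^ 3 := by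
  have hN : P ≤ 𝐍(𝐙(P)) := norm_center (le_norm P)
  have h1 : quo P 𝐙(P) ≠ ⊥ := fun h => hab (abelian_iff.2 (((quo_eq_bot_iff hN).1 h).trans inf_le_right))
  obtain ⟨y, hy, hy1⟩ := exists_ne_one (center_ne_bot_of_nil (pgroup_nil (pgroup_quo hP _)) h1)
  obtain ⟨x, hx, rfl⟩ := mem_quo.1 hy.1
  have hxZ : (x : G) ∉ 𝐂(P) := fun h => hy1 (by
    rw [← MonoidHom.mem_ker, qhom_ker, mem_subgroupOf]; exact ⟨hx, h⟩)
  rw [mem_cent] at hxZ
  push Not at hxZ
  obtain ⟨u, hu, hux⟩ := hxZ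
  have hz : u * x * u⁻¹ * (x : G)⁻¹ ∈ 𝐙(P) := by
    have := hy.2 (qhom _ ⟨u, hN hu⟩) (mem_quo.2 ⟨_, hu, rfl⟩)
    rw [← mul_inv_eq_one, mul_inv_rev, ← mul_assoc, ← map_inv, ← map_inv, ← map_mul, ← map_mul, ← map_mul,
      ← MonoidHom.mem_ker, qhom_ker, mem_subgroupOf] at this
    exact this
  set z := u * x * u⁻¹ * (x : G)⁻¹ with hzdef
  have hc : ∀ a ∈ P, Nat.card (zpowers a) ≤ p := fun a ha => by
    rw [Nat.card_zpowers]; exact orderOf_le_of_pow_eq_one hp.out.pos (he a ha)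
  have hB : zpowers (x : G) ≤ 𝐍(zpowers z) := norm_of_cent (by
    rw [cent_zpowers]; exact (zpowers_le.2 hx).trans (le_cent1_iff.2 hz.2))
  have hH : zpowers u ≤ 𝐍(zpowers z ⊔ zpowers (x : G)) := by
    refine zpowers_le.2 (mem_normalizer_of_conj_le ?_)
    rw [conj_sup, conj_zpowers, conj_zpowers, sup_le_iff, zpowers_le, zpowers_le]
    constructor
    · rw [hz.2 u hu, mul_inv_cancel_right]; exact mem_sup_left (mem_zpowers z)
    · have : u * x * u⁻¹ = z * x := by rw [hzdef]; group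
      rw [this]; exact mul_mem (mem_sup_left (mem_zpowers z)) (mem_sup_right (mem_zpowers _))
  refine ⟨zpowers z ⊔ zpowers (x : G) ⊔ zpowers u, sup_le (sup_le (zpowers_le.2 hz.1) (zpowers_le.2 hx))
    (zpowers_le.2 hu), fun h => hux (abelian_cent h (mem_sup_left (mem_sup_right (mem_zpowers _))) u
      (mem_sup_right (mem_zpowers u))), ?_⟩
  have e1 := Nat.le_of_dvd (Nat.mul_pos Nat.card_pos Nat.card_pos) (Coprime.card_sup_dvd hH)
  have e2 := Nat.le_of_dvd (Nat.mul_pos Nat.card_pos Nat.card_pos) (Coprime.card_sup_dvd hB)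
  calc _ ≤ _ := e1
    _ ≤ (p * p) * p := Nat.mul_le_mul (e2.trans (Nat.mul_le_mul (hc _ hz.1) (hc _ hx))) (hc _ hu)
    _ = p ^ 3 := by ring

theorem main {G : Type*} [Group G] [Finite G] {p : ℕ} [hp : Fact p.Prime] {P : Subgroup G} (hP : IsPGroup p P)
    (h : ∀ H K : Subgroup G, H ≤ P → K ≤ P → Nat.card H = Nat.card K → Nonempty (H ≃* K)) :
    IsCyclic P ∨ Cfsg.IsElementaryAbelian p P ∨ (p = 2 ∧ Nonempty (P ≃* QuaternionGroup 2)) ∨
      (p ≠ 2 ∧ ¬ IsMulCommutative P ∧ Nat.card P = p ^ 3 ∧ ∀ x ∈ P, x ^ p = 1) := by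
  have hcyc : ∀ x ∈ P, ∀ k : ℕ, p ^ k ∣ orderOf x → ∀ K ≤ P, Nat.card K = p ^ k → IsCyclic K := by
    intro x hx k hk K hK hc
    obtain ⟨e⟩ := h (zpowers (x ^ (orderOf x / p ^ k))) K (zpowers_le.2 (P.pow_mem hx _)) hK (by
      rw [Nat.card_zpowers, orderOf_pow_orderOf_div (orderOf_pos x).ne' hk, hc])
    exact isCyclic_of_surjective e e.surjective
  by_cases he : ∀ x ∈ P, x ^ p = 1
  · by_cases hab : IsMulCommutative P
    · exact Or.inr (Or.inl ⟨hab, he⟩)
    have hp2 : p ≠ 2 := by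
      rintro rfl
      exact hab ⟨⟨fun a b => Commute.of_orderOf_dvd_two (fun x => orderOf_dvd_of_pow_eq_one
        (Subtype.ext (he _ x.2))) a b⟩⟩
    obtain ⟨H, hH, hHab, hHc⟩ := exists_p3 hP he hab
    have h3 : p ^ 3 ≤ Nat.card P := by
      obtain ⟨k, hk⟩ := IsPGroup.iff_card.1 hP
      rw [hk]
      refine Nat.pow_le_pow_right hp.out.pos ?_
      by_contra hlt
      apply hab
      rcases (by omega : k = 2 ∨ k ≤ 1) with rfl | hk1
      · exact IsPGroup.isMulCommutative_of_card_eq_prime_sq hk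
      · exact abelian_of_cyclic (isCyclic_of_card_dvd_prime (p := p) (by
          rw [hk]; exact (pow_dvd_pow p hk1).trans (by simp)))
    refine Or.inr (Or.inr (Or.inr ⟨hp2, hab, le_antisymm (rank2_exponent_p_p3group ?_ he) h3, he⟩))
    by_contra hr
    obtain ⟨A, hA⟩ := exists_elem_of_le_rk (show 3 ≤ rk p P by omega)
    obtain ⟨K, hHK, hK, hKc⟩ := PGroup.exists_between_card_eq_pow hP hH hHc h3
    obtain ⟨e⟩ := h A K hA.le hK (hA.card.trans hKc.symm)
    refine hHab (abelian_of_le ⟨⟨fun a b => e.symm.injective ?_⟩⟩ hHK)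
    rw [map_mul, map_mul]
    exact hA.abelian.is_comm.comm _ _
  push Not at he
  obtain ⟨x, hx, hxp⟩ := he
  have h2 : p ^ 2 ∣ orderOf x := by
    obtain ⟨k, hk⟩ := (IsPGroup.iff_orderOf.1 hP) ⟨x, hx⟩
    rw [← Subgroup.orderOf_coe] at hk
    change orderOf x = _ at hk
    rw [hk]
    refine pow_dvd_pow p ?_
    by_contra hlt
    exact hxp (orderOf_dvd_iff_pow_eq_one.1 (hk ▸ (pow_dvd_pow p (by omega : k ≤ 1)).trans (by simp)))
  have hr : rk p P ≤ 1 := by
    by_contra hr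
    obtain ⟨A, hA⟩ := exists_elem_of_le_rk (show 2 ≤ rk p P by omega)
    exact hA.not_cyclic le_rfl (hcyc x hx 2 h2 A hA.le hA.card)
  rcases PGroup.isCyclic_or_quaternion_of_pRankLE_one hP (rk_le_iff.1 hr) with hc | ⟨rfl, n, ⟨e⟩⟩
  · exact Or.inl hc
  refine Or.inr (Or.inr (Or.inl ⟨rfl, ?_⟩))
  rcases n with _ | n
  · exact ⟨e⟩
  exfalso
  have ha : 2 ^ 3 ∣ orderOf (e.symm (QuaternionGroup.a 1) : G) := by
    rw [Subgroup.orderOf_coe, MulEquiv.orderOf_eq, QuaternionGroup.orderOf_a_one]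
    exact ⟨2 ^ n, by ring⟩
  have hb : orderOf (e.symm (QuaternionGroup.xa 0) : G) = 4 := by
    rw [Subgroup.orderOf_coe, MulEquiv.orderOf_eq, QuaternionGroup.orderOf_xa]
  obtain ⟨K, hHK, hK, hKc⟩ := PGroup.exists_between_card_eq_pow (k := 3) hP
    (zpowers_le.2 (e.symm (QuaternionGroup.xa 0)).2) (by rw [Nat.card_zpowers, hb]; norm_num)
    (Nat.le_of_dvd Nat.card_pos (ha.trans (P.orderOf_dvd_natCard (e.symm _).2)))
  obtain ⟨y, hy, rfl⟩ := cyclic_iff.1 (hcyc _ (e.symm _).2 3 ha K hK hKc)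
  have hyP : y ∈ P := hK (mem_zpowers y)
  obtain ⟨k, hk⟩ := hHK (mem_zpowers _)
  have e1 : e ⟨y, hyP⟩ ^ k = QuaternionGroup.xa 0 := by
    rw [← map_zpow, ← e.apply_symm_apply (QuaternionGroup.xa 0)]
    congr 1
    exact Subtype.ext hk
  have e2 : orderOf (e ⟨y, hyP⟩) = 8 := by
    rw [MulEquiv.orderOf_eq, ← Subgroup.orderOf_coe, ← Nat.card_zpowers, hKc]; rfl
  rcases hq : e ⟨y, hyP⟩ with i | i
  · rw [hq] at e1
    have : ∀ k : ℤ, QuaternionGroup.a i ^ k = QuaternionGroup.a ((k : ZMod _) * i) := by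
      intro k
      induction k using Int.induction_on with
      | zero => simp
      | succ j ih => rw [zpow_add_one, ih, QuaternionGroup.a_mul_a]; congr 1; push_cast; ring
      | pred j ih => rw [zpow_sub_one, ih, mul_inv_eq_iff_eq_mul, QuaternionGroup.a_mul_a]; congr 1; push_cast; ring
    rw [this] at e1
    cases e1
  · rw [hq, QuaternionGroup.orderOf_xa] at e2
    omega

/-- Let p be a prime and G a finite group in which any two p-subgroups of the same order are conjugate, with Sylow p-subgroup P. Then P is cyclic, or elementary abelian, or p = 2 and P is a quaternion group of order 8, or p is odd and P is non-abelian of order p³ and exponent p. -/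
theorem result {G : Type*} [Group G] [Finite G]
    {p : ℕ} [Fact p.Prime] (hC : ∀ H K : Subgroup G, IsPGroup p H → IsPGroup p K → Nat.card H = Nat.card K →
      ∃ g : G, K = H.map (MulAut.conj g).toMonoidHom) (P : Sylow p G) :
    IsCyclic P ∨ Cfsg.IsElementaryAbelian p (P : Subgroup G) ∨
      (p = 2 ∧ Nonempty ((P : Subgroup G) ≃* QuaternionGroup 2)) ∨
      (p ≠ 2 ∧ ¬ IsMulCommutative P ∧ Nat.card P = p ^ 3 ∧ Monoid.exponent P = p) := by
  rcases main P.isPGroup' (fun H K hH hK hc => by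
    obtain ⟨g, rfl⟩ := hC H K (pgroup_of_le P.isPGroup' hH) (pgroup_of_le P.isPGroup' hK) hc
    exact ⟨H.equivMapOfInjective _ (MulAut.conj g).injective⟩) with h | h | h | ⟨h1, h2, h3, h4⟩
  · exact Or.inl h
  · exact Or.inr (Or.inl h)
  · exact Or.inr (Or.inr (Or.inl h))
  · refine Or.inr (Or.inr (Or.inr ⟨h1, h2, h3, ?_⟩))
    have hp : p.Prime := Fact.out
    haveI : Nontrivial P := by
      by_contra hn
      rw [not_nontrivial_iff_subsingleton] at hn
      exact h2 ⟨⟨fun a b => Subsingleton.elim _ _⟩⟩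
    refine ((Nat.dvd_prime hp).1 (Monoid.exponent_dvd_of_forall_pow_eq_one fun x => Subtype.ext (h4 _ x.2))).resolve_left ?_
    rw [Monoid.exp_eq_one_iff]
    exact not_subsingleton _

end Cfsg.Agent.S4023
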