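import Cfsg.Statements.S4024
import Cfsg.Agent.S4023
import Cfsg.Agent.Lib.Core.PSolvable

set_option autoImplicit false
open Cfsg

namespace Cfsg.Agent.S4024

open Subgroup Cfsg.Lib Cfsg.Lib.BG Cfsg.Lib.Transfer

theorem le_of_exp {G : Type*} [Group G] [Finite G] {p : ℕ} [hp : Fact p.Prime]
    (hC : ∀ H K : Subgroup G, IsPGroup p H → IsPGroup p K → Nat.card H = Nat.card K →
      ∃ g : G, K = H.map (MulAut.conj g).toMonoidHom) {P : Subgroup G} (he : ∀ x ∈ P, x ^ p = 1)
    (H : Subgroup G) (hH : H.Normal) (hdiv : p ∣ Nat.card H) : P ≤ H := by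
  intro x hx
  by_cases h1 : x = 1
  · rw [h1]; exact H.one_mem
  obtain ⟨X, hX, hc⟩ := exists_card_eq_prime hp.out hdiv
  have ho : Nat.card (zpowers x) = p := by rw [Nat.card_zpowers]; exact orderOf_eq_prime (he x hx) h1
  obtain ⟨g, hg⟩ := hC X (zpowers x) (IsPGroup.of_card (n := 1) (by rw [hc, pow_one]))
    (IsPGroup.of_card (n := 1) (by rw [ho, pow_one])) (hc.trans ho.symm)
  have := mem_zpowers x
  rw [hg] at this
  obtain ⟨y, hy, rfl⟩ := this
  exact hH.conj_mem _ (hX hy) g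

theorem ab_of_exp {G : Type*} [Group G] [Finite G] {p : ℕ} [hp : Fact p.Prime]
    (hC : ∀ H K : Subgroup G, IsPGroup p H → IsPGroup p K → Nat.card H = Nat.card K →
      ∃ g : G, K = H.map (MulAut.conj g).toMonoidHom) {P : Subgroup G} (hP : IsPGroup p P) (he : ∀ x ∈ P, x ^ p = 1)
    (H : Subgroup G) [H.Normal] (hsolv : Cfsg.IsPSolvable p H) (hdiv : p ∣ Nat.card H) : IsMulCommutative P := by
  have hHn : (⊤ : Subgroup G) ≤ 𝐍(H) := le_normalizer_of_normal
  have hKn : (⊤ : Subgroup G) ≤ 𝐍(𝐎({p}ᶜ, H)) := norm_pcore hHn _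
  have hX : Cfsg.IsPSolvable p (quo H 𝐎({p}ᶜ, H)) := Core.isPSolvable_map (Core.isPSolvable_subgroupOf hsolv _) _
  haveI : Nontrivial (quo H 𝐎({p}ᶜ, H)) := by
    rw [nontrivial_iff_ne_bot]
    intro h
    exact ((pcore_pi _ H).of_le ((quo_eq_bot_iff (le_top.trans hKn)).1 h)).not_dvd hp.out rfl hdiv
  have h1 : 𝐎({p}, quo H 𝐎({p}ᶜ, H)) ≠ ⊥ := by
    rcases Core.pCore_ne_bot_or_of_isPSolvable hX with h | h
    · rwa [pcore_p_eq, Ne, map_eq_bot_iff_of_injective _ (subtype_injective _)]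
    · have := pcore_quo_pcore {p}ᶜ H
      rw [pcore_p'_eq p (quo H _), map_eq_bot_iff_of_injective _ (subtype_injective _)] at this
      exact absurd this h
  have h2 := center_ne_bot_of_nil (pgroup_nil (pcore_pgroup p _)) h1
  have hle := le_of_exp hC he (copre _ 𝐙(𝐎({p}, quo H 𝐎({p}ᶜ, H))))
    (normalizer_eq_top_iff.1 (eq_top_iff.2 (norm_copre hKn (norm_center (norm_pcore (quo_norm hHn _) _)))))
    (by rw [card_copre]; exact Dvd.dvd.mul_left (pgroup_dvd_card (pgroup_of_le (pcore_pgroup p _) inf_le_left) h2) _)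
  have h3 := (quo_abelian_iff (le_top.trans hKn)).1
    (abelian_of_le (abelian_center _) ((le_copre_iff (le_top.trans hKn)).1 hle))
  exact abelian_iff_der.2 (eq_bot_mono ((PiGrp.of_pgroup hP (Set.mem_singleton p)).inf_eq_bot (pcore_pi _ H))
    (le_inf (der_le P) h3))

/-- Let p be an odd prime and G a finite group in which any two p-subgroups of the same order are conjugate, with Sylow p-subgroup P. If H is a normal p-solvable subgroup of G whose order is divisible by p, then P is abelian, and either P ≤ H or P is cyclic. -/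
theorem result {G : Type*} [Group G] [Finite G]
    {p : ℕ} [Fact p.Prime] (hp : p ≠ 2) (hC : ∀ H K : Subgroup G, IsPGroup p H → IsPGroup p K → Nat.card H = Nat.card K →
      ∃ g : G, K = H.map (MulAut.conj g).toMonoidHom) (P : Sylow p G)
    (H : Subgroup G) [H.Normal] (hsolv : Cfsg.IsPSolvable p H) (hdiv : p ∣ Nat.card H) :
    IsMulCommutative P ∧ ((P : Subgroup G) ≤ H ∨ IsCyclic P) := by
  rcases S4023.result hC P with h | h | h | ⟨-, -, -, h⟩
  · exact ⟨abelian_of_cyclic h, Or.inr h⟩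
  · exact ⟨h.1, Or.inl (le_of_exp hC h.2 H ‹_› hdiv)⟩
  · exact absurd h.1 hp
  · have he : ∀ x ∈ (P : Subgroup G), x ^ p = 1 := fun x hx => by
      rw [← h]; exact congrArg Subtype.val (Monoid.pow_exponent_eq_one (⟨x, hx⟩ : P))
    exact ⟨ab_of_exp hC P.isPGroup' he H hsolv hdiv, Or.inl (le_of_exp hC he H ‹_› hdiv)⟩

end Cfsg.Agent.S4024
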