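import Cfsg.Statements.S4020
import Cfsg.Agent.S4024
import Cfsg.Agent.S3863
import Cfsg.Agent.Lib.BG.T10_7
import Cfsg.Agent.Lib.ZStar.Main
import Cfsg.Agent.Lib.Inv.SylowTwo
import Cfsg.Agent.Lib.FGS.ClassFour

set_option autoImplicit false
open Cfsg

namespace Cfsg.Agent.S4020
open Cfsg.Lib.Inv

open Subgroup Cfsg.Lib Cfsg.Lib.BG Cfsg.Lib.Transfer

theorem exists_inv {G : Type*} [Group G] [Finite G] {p : ℕ} [hp : Fact p.Prime]
    (hC : ∀ H K : Subgroup G, IsPGroup p H → IsPGroup p K → Nat.card H = Nat.card K →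
      ∃ g : G, K = H.map (MulAut.conj g).toMonoidHom) {P : Subgroup G} (hP : Syl p P ⊤) (he : ∀ x ∈ P, x ^ p = 1)
    (hab : ¬ IsMulCommutative P) (hc : Nat.card P = p ^ 3) :
    ∃ x n : G, orderOf x = p ∧ n ^ 2 * x * (n ^ 2)⁻¹ = x⁻¹ := by
  have hab' := hab
  rw [abelian_iff, le_cent_iff] at hab'
  push Not at hab'
  obtain ⟨u, hu, x, hx, hux⟩ := hab'
  have hz : u * x * u⁻¹ * x⁻¹ ∈ 𝐙(P) := A10.der_eq_center_p3group hab hc ▸ comm_mem_comm hu hx
  set z := u * x * u⁻¹ * x⁻¹ with hzdef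
  have hz1 : z ≠ 1 := fun h => hux (by rwa [hzdef, mul_inv_eq_one, mul_inv_eq_iff_eq_mul] at h)
  have hx1 : x ≠ 1 := by rintro rfl; simp at hux
  have hox : orderOf x = p := orderOf_eq_prime (he x hx) hx1
  have hcx : Nat.card (zpowers x) = p := by rw [Nat.card_zpowers, hox]
  have hZ := A10.card_center_p3group hab hc
  have hZz : zpowers z = 𝐙(P) := zpowers_eq_of_prime (hZ ▸ hp.out) hz hz1
  obtain ⟨g, hg⟩ := hC 𝐙(P) (zpowers x) (pgroup_of_le hP.pgroup inf_le_left)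
    (pgroup_of_le hP.pgroup (zpowers_le.2 hx)) (hZ.trans hcx.symm)
  change zpowers x = g ⋆ 𝐙(P) at hg
  have h1 : Syl p (g ⋆ P) 𝐂[x] := by
    refine (hP.conj_top g).of_le ?_ le_top
    rw [← cent_zpowers, hg, ← conj_centralizer]
    exact conj_mono g (cent_symm inf_le_right)
  have hzx : z ∈ 𝐂[x] := mem_cent1.2 (hz.2 x hx).symm
  obtain ⟨c, hcx', hle⟩ := Syl.exists_le_conj h1 (pgroup_of_le hP.pgroup (zpowers_le.2 hz.1)) (zpowers_le.2 hzx)
  rw [conj_conj] at hle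
  set R := (c * g) ⋆ P with hR
  have hRab : ¬ IsMulCommutative R := by rwa [hR, abelian_conj]
  have hRc : Nat.card R = p ^ 3 := by rw [hR, card_conj, hc]
  have hZR : 𝐙(R) = zpowers x := by
    rw [hR, ← conj_centralizer, ← conj_inf, ← conj_conj, ← hg, conj_zpowers, mem_cent1.1 hcx', mul_inv_cancel_right]
  have hzR : z ∈ R := hle (mem_zpowers z)
  have hzc : z ∉ 𝐂(R) := fun h => by
    have h2 : z ∈ zpowers x := hZR ▸ ⟨hzR, h⟩
    have h3 := zpowers_eq_of_prime (hcx ▸ hp.out) h2 hz1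
    have h4 : x ∈ 𝐙(P) := by rw [← hZz, h3]; exact mem_zpowers x
    exact hux (h4.2 u hu)
  rw [mem_cent] at hzc
  push Not at hzc
  obtain ⟨v, hv, hvz⟩ := hzc
  have hw : v * z * v⁻¹ * z⁻¹ ∈ 𝐙(R) := A10.der_eq_center_p3group hRab hRc ▸ comm_mem_comm hv hzR
  set w := v * z * v⁻¹ * z⁻¹ with hwdef
  have hw1 : w ≠ 1 := fun h => hvz (by rwa [hwdef, mul_inv_eq_one, mul_inv_eq_iff_eq_mul] at h)
  have hxw : x⁻¹ ∈ zpowers w := by
    rw [zpowers_eq_of_prime (hcx ▸ hp.out) (hZR ▸ hw) hw1]; exact inv_mem (mem_zpowers x)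
  obtain ⟨k, hk⟩ := (mem_powers_iff_mem_zpowers.2 hxw)
  have hvk : ∀ k : ℕ, v ^ k * z * (v ^ k)⁻¹ = w ^ k * z := by
    intro k
    induction k with
    | zero => simp
    | succ j ih =>
      have e1 : Commute v (w ^ j) := (show Commute v w from hw.2 v hv).pow_right j
      calc v ^ (j + 1) * z * (v ^ (j + 1))⁻¹ = v * (v ^ j * z * (v ^ j)⁻¹) * v⁻¹ := by rw [pow_succ']; group
        _ = (v * w ^ j) * z * v⁻¹ := by rw [ih]; group
        _ = w ^ j * (v * z * v⁻¹ * z⁻¹) * z := by rw [e1.eq]; group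
        _ = _ := by rw [← hwdef, pow_succ]
  have a1 : u * x * u⁻¹ = z * x := by rw [hzdef]; group
  have a2 : u * z * u⁻¹ = z := by rw [hz.2 u hu, mul_inv_cancel_right]
  have hxR : x ∈ 𝐙(R) := hZR ▸ mem_zpowers x
  have b1 : v ^ k * x * (v ^ k)⁻¹ = x := by rw [hxR.2 _ (R.pow_mem hv k), mul_inv_cancel_right]
  have b2 : v ^ k * z * (v ^ k)⁻¹ = x⁻¹ * z := by rw [hvk]; exact congrArg (· * z) hk
  generalize v ^ k = y at b1 b2
  have c0 : x * z = z * x := hz.2 x hx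
  have c1 : u * y * u * x * (u * y * u)⁻¹ = z := by
    calc _ = u * (y * (u * x * u⁻¹) * y⁻¹) * u⁻¹ := by group
      _ = u * ((y * z * y⁻¹) * (y * x * y⁻¹)) * u⁻¹ := by rw [a1]; group
      _ = u * (x⁻¹ * (z * x)) * u⁻¹ := by rw [b1, b2]; group
      _ = z := by rw [← c0, inv_mul_cancel_left, a2]
  have c2 : u * y * u * z * (u * y * u)⁻¹ = x⁻¹ := by
    calc _ = u * (y * (u * z * u⁻¹) * y⁻¹) * u⁻¹ := by group
      _ = u * (x⁻¹ * z) * u⁻¹ := by rw [a2, b2]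
      _ = (u * x * u⁻¹)⁻¹ * (u * z * u⁻¹) := by group
      _ = x⁻¹ := by rw [a1, a2]; group
  refine ⟨x, u * y * u, hox, ?_⟩
  calc _ = u * y * u * (u * y * u * x * (u * y * u)⁻¹) * (u * y * u)⁻¹ := by rw [pow_two]; group
    _ = _ := by rw [c1, c2]

theorem q8a : ∀ a : QuaternionGroup 2, a ^ 4 = 1 := by decide
theorem q8b : ∀ a b : QuaternionGroup 2, a * a = 1 → a ≠ 1 → b * b = 1 → b ≠ 1 → a = b := by decide

/-- Let G be a finite group in which, for every prime p, any two p-subgroups of the same order are conjugate. Then every Sylow subgroup of G is cyclic, elementary abelian, or a quaternion group of order 8. -/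
theorem result {G : Type*} [Group G] [Finite G]
    (hD : ∀ p : ℕ, p.Prime → ∀ H K : Subgroup G, IsPGroup p H → IsPGroup p K → Nat.card H = Nat.card K →
      ∃ g : G, K = H.map (MulAut.conj g).toMonoidHom) {p : ℕ} [Fact p.Prime] (P : Sylow p G) :
    IsCyclic P ∨ Cfsg.IsElementaryAbelian p (P : Subgroup G) ∨ Nonempty ((P : Subgroup G) ≃* QuaternionGroup 2) := by
  have hp : p.Prime := Fact.out
  rcases S4023.main P.isPGroup' (fun H K hH hK hc => by
    obtain ⟨g, rfl⟩ := hD p hp H K (pgroup_of_le P.isPGroup' hH) (pgroup_of_le P.isPGroup' hK) hc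
    exact ⟨H.equivMapOfInjective _ (MulAut.conj g).injective⟩) with h | h | h | ⟨h1, h2, h3, h4⟩
  · exact Or.inl h
  · exact Or.inr (Or.inl h)
  · exact Or.inr (Or.inr h.2)
  exfalso
  obtain ⟨x, n, hx, hn⟩ := exists_inv (hD p hp) (Syl.of_sylow_top P) h4 h2 h3
  have hne : x ≠ x⁻¹ := fun h => h1 ((Nat.prime_dvd_prime_iff_eq hp Nat.prime_two).1 (by
    rw [← hx]; exact orderOf_dvd_of_pow_eq_one (by rw [pow_two, mul_eq_one_iff_eq_inv.2 h])))
  obtain ⟨m, k, hm, hk⟩ := exists_pow_coprime_pow_pow_eq_one (p := 2) n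
  have hw : (n ^ m) ^ 2 * x * ((n ^ m) ^ 2)⁻¹ = x⁻¹ := by
    obtain ⟨j, rfl⟩ := Nat.coprime_two_right.1 hm
    have e : Commute ((n ^ 2) ^ 2) x := by
      have : (n ^ 2) ^ 2 * x * ((n ^ 2) ^ 2)⁻¹ = x := by
        calc _ = n ^ 2 * (n ^ 2 * x * (n ^ 2)⁻¹) * (n ^ 2)⁻¹ := by rw [pow_two (n ^ 2)]; group
          _ = n ^ 2 * x⁻¹ * (n ^ 2)⁻¹ := by rw [hn]
          _ = (n ^ 2 * x * (n ^ 2)⁻¹)⁻¹ := by group
          _ = x := by rw [hn, inv_inv]
      exact mul_inv_eq_iff_eq_mul.1 this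
    have e2 : (n ^ (2 * j + 1)) ^ 2 = n ^ 2 * ((n ^ 2) ^ 2) ^ j := by
      rw [← pow_mul, ← pow_mul, ← pow_mul, ← pow_add]; congr 1; ring
    rw [e2, ← hn]
    calc _ = n ^ 2 * (((n ^ 2) ^ 2) ^ j * x) * (((n ^ 2) ^ 2) ^ j)⁻¹ * (n ^ 2)⁻¹ := by group
      _ = _ := by rw [(e.pow_left j).eq]; group
  generalize n ^ m = w at hk hw
  obtain ⟨T, hT⟩ := (show IsPGroup 2 (zpowers w) from by
    obtain ⟨j, -, hj⟩ := (Nat.dvd_prime_pow Nat.prime_two).1 (orderOf_dvd_of_pow_eq_one hk)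
    exact IsPGroup.of_card (n := j) (by rw [Nat.card_zpowers, hj])).exists_le_sylow
  have hwT : w ∈ (T : Subgroup G) := hT (mem_zpowers w)
  have fin : ∀ (H : Subgroup G) [H.Normal], Group.IsSolvable H → p ∣ Nat.card H → False := fun H _ hs hd =>
    h2 (S4024.ab_of_exp (hD p hp) P.isPGroup' h4 H (Core.isPSolvable_of_isSolvable hs) hd)
  rcases S4023.result (hD 2 Nat.prime_two) T with h | h | ⟨-, ⟨e⟩⟩ | h
  · haveI := FGS.isSolvable_of_hasNormalPComplement_two (Inv.hasNormalPComplement_of_isCyclic T h)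
    exact fin ⊤ inferInstance (hx ▸ orderOf_dvd_natCard ⊤ (mem_top x))
  · rw [h.2 w hwT] at hw
    exact hne (by simpa using hw)
  · have h1 : w ^ 2 ≠ 1 := fun h => hne (by simpa [h] using hw)
    have h2 : (w ^ 2) ^ 2 = 1 := by
      have := q8a (e ⟨w, hwT⟩)
      rw [← map_pow, map_eq_one_iff _ e.injective] at this
      rw [← pow_mul]
      exact congrArg Subtype.val this
    have hi := ZStar.isolated_of_sylow T (orderOf_eq_prime h2 h1) fun g hg => by
      have := q8b (e ⟨_, hg⟩) (e ⟨_, pow_mem hwT 2⟩)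
        (by rw [← map_mul, map_eq_one_iff _ e.injective]; exact Subtype.ext (by
          change g * w ^ 2 * g⁻¹ * (g * w ^ 2 * g⁻¹) = 1
          calc _ = g * (w ^ 2) ^ 2 * g⁻¹ := by rw [pow_two (w ^ 2)]; group
            _ = 1 := by rw [h2]; group))
        (by rw [Ne, map_eq_one_iff _ e.injective]; exact fun h => h1 (by simpa using congrArg Subtype.val h))
        (by rw [← map_mul, map_eq_one_iff _ e.injective]; exact Subtype.ext (by
          change w ^ 2 * w ^ 2 = 1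
          rw [← pow_two, h2]))
        (by rw [Ne, map_eq_one_iff _ e.injective]; exact fun h => h1 (congrArg Subtype.val h))
      exact congrArg Subtype.val (e.injective this)
    have h3 := ZStar.zstar hi x
    rw [show w ^ 2 * x * (w ^ 2)⁻¹ * x⁻¹ = (x⁻¹) ^ 2 by rw [hw, pow_two]] at h3
    have h4 := orderOf_dvd_natCard _ h3
    rw [Nat.Coprime.orderOf_pow (by
      rw [orderOf_inv, hx]; exact (Nat.coprime_primes hp Nat.prime_two).2 ‹p ≠ 2›), orderOf_inv, hx] at h4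
    exact fin (oddCore G) (Coprime.isSolvable_of_not_two_dvd (Core.odd_card_oddCore G).not_two_dvd_nat) h4
  · exact h.1 rfl

end Cfsg.Agent.S4020
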