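import Cfsg.Statements.S0338
import Cfsg.Agent.Lib.Perm.Zass3

set_option autoImplicit false
open Cfsg

namespace Cfsg.Agent.S0338

/-- A Zassenhaus group of odd degree is a simple group. -/
theorem result {G Ω : Type*} [Group G] [MulAction G Ω] [Fintype Ω]
    (hZ : Cfsg.IsZassenhausGroup G Ω) (hodd : Odd (Fintype.card Ω)) : IsSimpleGroup G := by
  have h := Lib.Perm.ZT.of_zassenhaus hZ
  have := h.finite
  obtain ⟨a⟩ := h.nonempty
  obtain ⟨b, hb⟩ := h.exists_ne a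
  have hn : Even (Nat.card (Lib.Perm.zker G a)) := by
    rw [← Nat.card_eq_fintype_card, ← h.card_zker a] at hodd
    exact Nat.not_odd_iff_even.1 (Nat.odd_add_one.1 hodd)
  obtain ⟨g, hg, -⟩ := hZ.2.2.2.1
  have : Nontrivial G := ⟨⟨g, 1, hg⟩⟩
  exact ⟨fun N hN => (eq_or_ne N ⊥).imp id fun h0 =>
    h.eq_top_of_even hb.symm hn (Lib.Perm.zker_le_of_normal hZ N h0)⟩

end Cfsg.Agent.S0338
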