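import Cfsg.Statements.S0089
import Cfsg.Agent.Lib.Transfer.Fusion

set_option autoImplicit false
open Cfsg

namespace Cfsg.Agent.S0089

/-- When all Sylow subgroups are abelian, the derived subgroup meets the centre trivially. -/
theorem result {G : Type*} [Group G] [Finite G] (h : ∀ p : ℕ, p.Prime → ∀ P : Sylow p G, IsMulCommutative P) : commutator G ⊓ Subgroup.center G = ⊥ := by
  rw [eq_bot_iff]
  rintro x ⟨h1, h2⟩
  rw [Subgroup.mem_bot, ← orderOf_eq_one_iff]
  by_contra hne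
  obtain ⟨q, hq, c, hc⟩ := Nat.exists_prime_and_dvd hne
  have : Fact q.Prime := ⟨hq⟩
  have hc0 : c ≠ 0 := by
    rintro rfl
    exact (orderOf_pos x).ne' (by simpa using hc)
  have ho : orderOf (x ^ c) = q := by
    rw [orderOf_pow_of_dvd hc0 ⟨q, by rw [hc, mul_comm]⟩, hc, Nat.mul_div_cancel _ (Nat.pos_of_ne_zero hc0)]
  obtain ⟨P, hP⟩ := (IsPGroup.of_card (p := q) (n := 1) (G := Subgroup.zpowers (x ^ c))
    (by rw [Nat.card_zpowers, ho, pow_one])).exists_le_sylow
  have hPc : IsMulCommutative (P : Subgroup G) := h q hq P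
  have h3 : x ^ c ∈ (P : Subgroup G) ⊓ commutator G ⊓ Subgroup.center G :=
    ⟨⟨hP (Subgroup.mem_zpowers _), pow_mem h1 c⟩, pow_mem h2 c⟩
  rw [Lib.Transfer.inf_commutator_inf_center_eq_bot_of_abelian_hall _ P.card_coprime_index,
    Subgroup.mem_bot] at h3
  rw [h3, orderOf_one] at ho
  exact hq.ne_one ho.symm

end Cfsg.Agent.S0089
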