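import Cfsg.Statements.S2202
import Cfsg.Agent.Lib.OddChar.AbCent
import Cfsg.Agent.Lib.PF.Sec3Prod
import Cfsg.Agent.S0089

set_option autoImplicit false
open Cfsg

namespace Cfsg.Agent.S2202

open Subgroup Lib.OddChar Lib.PSL2 in
theorem sylow_comm {G : Type*} [Group G] [Finite G] {T : Sylow 2 G} (h : AbCent T) {F : Type}
    [Field F] [Finite F] [CharP F 2] (f : G →* Matrix.ProjectiveSpecialLinearGroup (Fin 2) F)
    (hZ : f.ker ≤ center G) (p : ℕ) (hp : p.Prime) (P : Sylow p G) : IsMulCommutative P := by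
  have := Fact.mk hp
  by_cases h2 : p = 2
  · subst h2
    obtain ⟨g, hg⟩ := Lib.Inv.exists_conj_mem_sylow T P.isPGroup'
    refine ⟨⟨fun a b => Subtype.ext ?_⟩⟩
    have := h.comm_of_mem (hg a a.2) (hg b b.2)
    rwa [conj_mul, conj_mul, mul_left_inj, mul_right_inj] at this
  · obtain ⟨n, hn⟩ := (P.isPGroup'.map f).exists_card_eq
    have := psl_even_isCyclic (H := (P : Subgroup G).map f) (hn ▸ (hp.odd_of_ne_two h2).pow)
    exact (f.subgroupMap P).isMulCommutative_of_isCyclic_of_ker_le_center fun a ha =>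
      mem_center_iff.2 fun b => Subtype.ext (mem_center_iff.1 (hZ (congrArg Subtype.val ha)) b)

/-- Finite groups in which the centralizer of every involution is abelian. Let G be a finite group of even order in which the centralizer of every element of order 2 is abelian. Then the Sylow 2-subgroups of G are cyclic, or a Sylow 2-subgroup of G is normal, or G is isomorphic to the direct product of SL₂(F) for a finite field F of characteristic two and an abelian group of odd order. -/
theorem result {G : Type*} [Group G] [Finite G] (heven : Even (Nat.card G)) (h : ∀ t : G, orderOf t = 2 → IsMulCommutative ↥(Subgroup.centralizer ({t} : Set G))) :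
    (∀ P : Sylow 2 G, IsCyclic ↥P) ∨ (∀ P : Sylow 2 G, (P : Subgroup G).Normal) ∨
    (∃ (F : Type) (_ : Field F) (_ : Fintype F) (A : Type) (_ : CommGroup A) (_ : Finite A), CharP F 2 ∧ Odd (Nat.card A) ∧ Nonempty (G ≃* Matrix.SpecialLinearGroup (Fin 2) F × A)) := by
  obtain ⟨T⟩ : Nonempty (Sylow 2 G) := inferInstance
  refine (em _).imp_right fun h1 => (em _).imp_right fun h2 => ?_
  push Not at h1 h2
  obtain ⟨P, hP⟩ := h1
  obtain ⟨Q, hQ⟩ := h2
  have hA : Lib.OddChar.AbCent P := ⟨hP, fun hn => hQ (by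
    have := Sylow.unique_of_normal P hn
    rwa [Subsingleton.elim Q P]), fun t a b ht ha hb => congrArg Subtype.val
      ((h t ht).is_comm.comm ⟨a, Subgroup.mem_centralizer_singleton_iff.2 ha⟩
        ⟨b, Subgroup.mem_centralizer_singleton_iff.2 hb⟩)⟩
  obtain ⟨n, f, hn, -, hf, hZ, ho⟩ := hA.exists_hom
  have hK := GaloisField.card 2 n (by omega)
  have h4 : 4 ≤ Nat.card (GaloisField 2 n) :=
    hK ▸ (Nat.pow_le_pow_right two_pos hn : 2 ^ 2 ≤ 2 ^ n)
  have hS := Lib.PSL2.isSimpleGroup_psl h4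
  have h0 := Cfsg.Agent.S0089.result (sylow_comm hA f hZ)
  have h1 : commutator G ⊓ f.ker = ⊥ := eq_bot_iff.2 (h0 ▸ inf_le_inf_left _ hZ)
  have h3 : (commutator G).map f = ⊤ := by
    rw [commutator_def, Subgroup.map_commutator, Subgroup.map_top_of_surjective f hf]
    refine (hS.eq_bot_or_eq_top_of_normal _ inferInstance).resolve_left fun e =>
      Lib.PSL2.not_isMulCommutative_psl (F := GaloisField 2 n) ⟨⟨fun a b => ?_⟩⟩
    exact Subgroup.mem_centralizer_iff.1
      (Subgroup.commutator_eq_bot_iff_le_centralizer.1 e (Subgroup.mem_top b)) a (Subgroup.mem_top a)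
  have h5 : commutator G ⊔ f.ker = ⊤ := by
    rw [← Subgroup.comap_map_eq, h3, Subgroup.comap_top]
  have e1 := Lib.PF.prodEquivSup h1 fun a _ b hb => Subgroup.mem_center_iff.1 (hZ hb) a
  have e2 : commutator G ≃* Matrix.ProjectiveSpecialLinearGroup (Fin 2) (GaloisField 2 n) :=
    MulEquiv.ofBijective (f.comp (commutator G).subtype) ⟨(injective_iff_map_eq_one _).2 fun a ha =>
      Subtype.ext (Subgroup.mem_bot.1 (h1 ▸ ⟨a.2, ha⟩)), fun y => by
        obtain ⟨x, hx, e⟩ := h3.ge (Subgroup.mem_top y)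
        exact ⟨⟨x, hx⟩, e⟩⟩
  obtain ⟨e3⟩ := Lib.PSL2.equiv_sl_psl_of_even (F := GaloisField 2 n) (by
    rw [hK, Nat.not_odd_iff_even, Nat.even_pow]; exact ⟨even_two, by omega⟩)
  letI : CommGroup f.ker := { (inferInstance : Group f.ker) with
    mul_comm := fun a b => Subtype.ext (Subgroup.mem_center_iff.1 (hZ b.2) a) }
  have e4 : Shrink.{0} f.ker ≃* f.ker := Shrink.mulEquiv
  refine ⟨GaloisField 2 n, inferInstance, Fintype.ofFinite _, Shrink.{0} f.ker, inferInstance,
    inferInstance, inferInstance, by rwa [Nat.card_congr e4.toEquiv], ⟨?_⟩⟩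
  exact (Subgroup.topEquiv.symm.trans ((MulEquiv.subgroupCongr h5).symm.trans e1.symm)).trans
    ((e2.trans e3.symm).prodCongr e4.symm)

end Cfsg.Agent.S2202
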