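import Cfsg.Statements.S4034
import Cfsg.Agent.Lib.BG.Hall
import Cfsg.Agent.Lib.FGS.Kazarin

set_option autoImplicit false
open Cfsg

namespace Cfsg.Agent.S4034

/-- Let G be a finite group and p a prime. Every conjugacy class of p-regular elements of G (elements of order prime to p) has p-power size if and only if G has an abelian p-complement, i.e. an abelian subgroup of order prime to p and p-power index. -/
theorem result {G : Type*} [Group G] [Finite G] {p : ℕ} (hp : p.Prime) :
    (∀ x : G, (orderOf x).Coprime p → ∃ k : ℕ, (ConjClasses.mk x).carrier.ncard = p ^ k) ↔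
    (∃ H : Subgroup G, IsMulCommutative H ∧ ¬ p ∣ Nat.card H ∧ ∃ k : ℕ, H.index = p ^ k) := by
  open Subgroup Cfsg.Lib Cfsg.Lib.BG Cfsg.Lib.Transfer in
  open Cfsg.Lib.FGS in
  haveI := Fact.mk hp
  simp only [ncard_carrier_eq_index]
  refine ⟨fun h => ?_, fun ⟨H, hH, h1, k, hk⟩ x hx => ?_⟩
  · have h1 : pResidual p G ≤ solvableRadical G := pResidual_le_iff.2 fun x hx => (h x hx).elim fun _ e => kazarin hp e.dvd
    haveI := (isPGroup_quotient_of_pResidual_le _ h1).isNilpotent
    have h2 : Group.IsSolvable G := Group.isSolvable_of_ker_le_range (solvableRadical G).subtype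
      (QuotientGroup.mk' (solvableRadical G)) (by simp)
    obtain ⟨H, hH⟩ := Hall.exists (M := (⊤ : Subgroup G)) {p}ᶜ inferInstance
    have h3 := hH.pi.coprime_p
    refine ⟨H, PGroup.isMulCommutative_iff.2 fun x hx y hy => commutatorElement_eq_one_iff_mul_comm.1 (mem_bot.1 ?_),
      Core.coprime_iff_not_dvd.1 h3, exists_index_eq_pow fun q hq hqp e => hqp ?_⟩
    · obtain ⟨a, ha⟩ := h x (h3.coprime_dvd_left (H.orderOf_dvd_natCard hx))
      obtain ⟨b, hb⟩ := h y (h3.coprime_dvd_left (H.orderOf_dvd_natCard hy))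
      exact (Core.inf_eq_bot_of_isPGroup_of_coprime (Core.pCore_isPGroup p G) h3).le
        ⟨commutator_mem_pCore hp ha.dvd hb.dvd, comm_le_left (le_norm H) (commutator_mem_commutator hx hy)⟩
    · simpa using hH.idx q hq (by simpa using e)
  · obtain ⟨g, -, hg⟩ := exists_le_conj_of_abelian (H := zpowers x) (K := H) (X := ⊤) le_top le_top (by
      rw [relIndex_top_right, hk, Nat.card_zpowers]; exact hx.pow_right k)
    refine ((Nat.dvd_prime_pow hp).1 ((index_dvd_of_le (H := g ⋆ H) fun y hy => ?_).trans
      ((index_conj g H).trans hk).dvd)).imp fun _ h => h.2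
    exact mem_cent1_comm (le_centralizer (g ⋆ H) (hg (mem_zpowers x)) |> centralizer_le (Set.singleton_subset_iff.2 hy))

end Cfsg.Agent.S4034
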