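import Cfsg.Statements.S4160
import Cfsg.Agent.Lib.BG.Hall
import Cfsg.Agent.Lib.FGS.ClassSize2

set_option autoImplicit false
open Cfsg

namespace Cfsg.Agent.S4160

/-- Let G be a finite group and p ≠ q primes each dividing the size of some conjugacy class of G, such that no conjugacy class size is divisible by pq. Then G has a normal p-complement or a normal q-complement. -/
theorem result {G : Type*} [Group G] [Finite G] (p q : ℕ) (hp : p.Prime) (hq : q.Prime) (hpq : p ≠ q)
    (hp' : ∃ x : G, p ∣ (Subgroup.centralizer ({x} : Set G)).index) (hq' : ∃ x : G, q ∣ (Subgroup.centralizer ({x} : Set G)).index) (h : ∀ x : G, ¬ p * q ∣ (Subgroup.centralizer ({x} : Set G)).index) :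
    Cfsg.HasNormalPComplement p G ∨ Cfsg.HasNormalPComplement q G := by
  open Subgroup Cfsg.Lib Cfsg.Lib.BG Cfsg.Lib.Transfer in
  open Cfsg.Lib.FGS Classical in
  haveI := Fact.mk hp
  haveI := Fact.mk hq
  haveI := Fintype.ofFinite G
  by_contra! H
  have h1 := two_mul_card_cent_sylow H.1
  have h2 := two_mul_card_cent_sylow H.2
  have h3 : Finset.univ.erase (1 : G) ⊆ (Finset.univ.filter fun x : G => x ≠ 1 ∧ ¬ p ∣ (𝐂[x]).index) ∪
      (Finset.univ.filter fun x : G => x ≠ 1 ∧ ¬ q ∣ (𝐂[x]).index) := fun x hx => by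
    have := Finset.ne_of_mem_erase hx
    simp only [Finset.mem_union, Finset.mem_filter, Finset.mem_univ, true_and]
    by_contra! e
    exact h x (Nat.Coprime.mul_dvd_of_dvd_of_dvd ((Nat.coprime_primes hp hq).2 hpq) (e.1 this) (e.2 this))
  have h4 := (Finset.card_le_card h3).trans (Finset.card_union_le _ _)
  rw [Finset.card_erase_of_mem (Finset.mem_univ _), Finset.card_univ] at h4
  omega

end Cfsg.Agent.S4160
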