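import Cfsg.Statements.S4355
import Cfsg.Agent.Lib.Fusion.Camina

set_option autoImplicit false
open Cfsg

namespace Cfsg.Agent.S4355

/-- If every element of 2-power order of a finite group has a conjugacy class of odd size, then the Sylow 2-subgroups of the group are abelian. -/
theorem result {G : Type*} [Group G] [Finite G]
    (h : ∀ x : G, (∃ k : ℕ, orderOf x = 2 ^ k) → ¬ 2 ∣ (Subgroup.centralizer ({x} : Set G)).index) (P : Sylow 2 G) :
    IsMulCommutative P := by
  refine Cfsg.Lib.Fusion.sylow_comm_of_central P fun x hx => ?_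
  obtain ⟨k, hk⟩ := P.isPGroup' ⟨x, hx⟩
  obtain ⟨j, -, hj⟩ := (Nat.dvd_prime_pow Nat.prime_two).1
    (orderOf_dvd_of_pow_eq_one (show x ^ 2 ^ k = 1 from congrArg Subtype.val hk))
  obtain ⟨g, hg⟩ := Cfsg.Lib.Transfer.exists_conj_le_of_not_dvd_index (h x ⟨j, hj⟩) P.isPGroup'
  exact ⟨g • P, hg⟩

end Cfsg.Agent.S4355
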