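import Cfsg.Statements.S3703
import Cfsg.Agent.Lib.Spec.GK
import Cfsg.Agent.Lib.Frobenius.Theorem
import Cfsg.Agent.Lib.PLocal.FPF

set_option autoImplicit false
open Cfsg

namespace Cfsg.Agent.S3703

section
open Subgroup Cfsg.Lib Cfsg.Lib.Spec Cfsg.Lib.BG Cfsg.Lib.Transfer

theorem norm_ne {G : Type*} [Group G] [Finite G] {Q F : Subgroup G} {h : G} {m : ℕ} (hm : 0 < m) (h0 : Q ≠ ⊥)
    (hs : Group.IsNilpotent Q) (hF : F ≤ 𝐍(Q)) (hQ : h ∈ 𝐍(Q)) (hh : h ∈ 𝐍(F)) (hc : (Nat.card F).Coprime (Nat.card Q))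
    (he : ⁅Q, F⁆ = Q) (hf : ∀ i, 0 < i → i < m → F ⊓ 𝐂[h ^ i] = ⊥) : ∃ x ∈ Q, (x * h) ^ m ≠ h ^ m := by
  classical
  by_contra! hn
  haveI := Fintype.ofFinite F
  let a : G → Abelianization Q := fun g => if hg : g ∈ Q then Abelianization.of ⟨g, hg⟩ else 1
  have a_mul : ∀ x ∈ Q, ∀ y ∈ Q, a (x * y) = a x * a y := fun x hx y hy => by
    simp only [a, dif_pos hx, dif_pos hy, dif_pos (Q.mul_mem hx hy), ← map_mul]; rfl
  have a_one : a 1 = 1 := by simp only [a, dif_pos Q.one_mem]; exact map_one _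
  have h1 : ∀ u ∈ 𝐍(Q), ∀ x ∈ Q, ∀ n, (x * h) ^ n * (h ^ n)⁻¹ ∈ Q ∧
      a (u * ((x * h) ^ n * (h ^ n)⁻¹) * u⁻¹) = ∏ i ∈ Finset.range n, a (u * (h ^ i * x * (h ^ i)⁻¹) * u⁻¹) := by
    intro u hu x hx n
    induction n with
    | zero => simpa using a_one
    | succ n ih =>
      have e : (x * h) ^ (n + 1) * (h ^ (n + 1))⁻¹ = (x * h) ^ n * (h ^ n)⁻¹ * (h ^ n * x * (h ^ n)⁻¹) := by
        rw [pow_succ, pow_succ]; group
      have h2 := conj_mem_of_norm (pow_mem hQ n) hx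
      refine ⟨e ▸ Q.mul_mem ih.1 h2, ?_⟩
      rw [Finset.prod_range_succ, ← ih.2, ← a_mul _ (conj_mem_of_norm hu ih.1) _ (conj_mem_of_norm hu h2), e]
      congr 1; group
  let T : G → Abelianization Q := fun z => ∏ f : F, a (f * z * (f : G)⁻¹)
  have T_mul : ∀ x ∈ Q, ∀ y ∈ Q, T (x * y) = T x * T y := fun x hx y hy => by
    rw [← Finset.prod_mul_distrib]
    refine Finset.prod_congr rfl fun f _ => ?_
    rw [← a_mul _ (conj_mem_of_norm (hF f.2) hx) _ (conj_mem_of_norm (hF f.2) hy)]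
    congr 1; group
  have T_one : T 1 = 1 := Finset.prod_eq_one fun f _ => by simpa using a_one
  have T_inv : ∀ x ∈ Q, T x * T x⁻¹ = 1 := fun x hx => by rw [← T_mul _ hx _ (Q.inv_mem hx), mul_inv_cancel, T_one]
  have hT : ∀ z ∈ Q, T z = 1 := by
    let K : Subgroup G :=
      { carrier := {z | z ∈ Q ∧ T z = 1}
        one_mem' := ⟨Q.one_mem, T_one⟩
        mul_mem' := fun {x y} hx hy => ⟨Q.mul_mem hx.1 hy.1, by rw [T_mul _ hx.1 _ hy.1, hx.2, hy.2, one_mul]⟩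
        inv_mem' := fun {x} hx => ⟨Q.inv_mem hx.1, by simpa [hx.2] using T_inv x hx.1⟩ }
    have : ⁅Q, F⁆ ≤ K := comm_le_iff.2 fun x hx f hf => by
      have h2 := conj_mem_of_norm (hF hf) (Q.inv_mem hx)
      refine ⟨he ▸ comm_mem_comm hx hf, ?_⟩
      rw [mul_assoc, mul_assoc, ← mul_assoc f, T_mul _ hx _ h2, ← T_inv x hx]
      congr 1
      exact Fintype.prod_equiv (Equiv.mulRight (⟨f, hf⟩ : F)) _ _ fun g => by simp [mul_assoc]
    exact fun z hz => (this (he.symm ▸ hz)).2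
  have h2 : ∀ y ∈ Q, a y ^ Nat.card F = 1 := fun y hy => by
    have h3 : ∏ f : F, ∏ i ∈ Finset.range m, a (f * (h ^ i * ((f : G)⁻¹ * y * f) * (h ^ i)⁻¹) * (f : G)⁻¹) = 1 :=
      Finset.prod_eq_one fun f _ => by
        rw [← (h1 f (hF f.2) _ (conj_mem_of_norm' (hF f.2) hy) m).2, hn _ (conj_mem_of_norm' (hF f.2) hy)]
        simpa using a_one
    rw [Finset.prod_comm, Finset.prod_eq_single 0 (fun i hi h4 => ?_) (by simp [hm])] at h3
    · simpa [mul_assoc] using h3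
    rw [← hT _ (conj_mem_of_norm (pow_mem hQ i) hy)]
    let φ : F → F := fun f => ⟨f * (h ^ i * (f : G)⁻¹ * (h ^ i)⁻¹), F.mul_mem f.2
      (conj_mem_of_norm (pow_mem hh i) (F.inv_mem f.2))⟩
    refine Fintype.prod_bijective φ (Finite.surjective_iff_bijective.1 fun k => ?_) _ _ fun f => ?_
    · obtain ⟨x, hx, e⟩ := Frobenius.exists_conj_eq_mul (pow_mem hh i)
        (hf i (Nat.pos_of_ne_zero h4) (Finset.mem_range.1 hi)) k.2
      exact ⟨⟨x, hx⟩, Subtype.ext (by simp only [φ, ← mul_assoc, e, mul_inv_cancel_right])⟩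
    · congr 1; simp only [φ]; group
  haveI := (nontrivial_iff_ne_bot Q).2 h0
  refine (Group.IsSolvable.commutator_lt_top_of_nontrivial Q).not_ge fun y _ => ?_
  have h3 := h2 y y.2
  simp only [a, dif_pos y.2] at h3
  rw [← Abelianization.ker_of, MonoidHom.mem_ker, ← orderOf_eq_one_iff]
  exact Nat.eq_one_of_dvd_coprimes hc (orderOf_dvd_of_pow_eq_one h3)
    ((orderOf_map_dvd _ _).trans (orderOf_dvd_natCard y))

end

/-- Let N be a normal subgroup of the finite group G such that G/N is a Frobenius group with kernel F and cyclic complement H, where the order of F is coprime to that of N and F is not contained in the image of C_G(N) in G/N. Then G has an element of order p·#H for some prime p dividing the order of N. (A standard tool in recognising groups by their element orders.) -/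
theorem result {G : Type*} [Group G] [Finite G] (N : Subgroup G) [N.Normal]
    (Fb Hb : Subgroup (G ⧸ N)) [Fb.Normal] (hHb : Cfsg.IsFrobeniusComplement Hb) (hker : Cfsg.frobeniusKernel Hb = (Fb : Set (G ⧸ N)))
    (hcyc : IsCyclic Hb) (hcop : (Nat.card Fb).Coprime (Nat.card N))
    (hnot : ¬ Fb ≤ (Subgroup.centralizer (N : Set G)).map (QuotientGroup.mk' N)) :
    ∃ p : ℕ, p.Prime ∧ p ∣ Nat.card N ∧ ∃ g : G, orderOf g = p * Nat.card Hb := by
  open Subgroup Cfsg.Lib Cfsg.Lib.Spec Cfsg.Lib.BG Cfsg.Lib.Transfer in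
  let π := QuotientGroup.mk' N
  change ¬ Fb ≤ (Subgroup.centralizer (N : Set G)).map π at hnot
  have hπ : Function.Surjective π := QuotientGroup.mk'_surjective N
  have hN : ∀ x ∈ N, π x = 1 := fun x hx => (QuotientGroup.eq_one_iff x).2 hx
  have hN' : ∀ x, π x = 1 → x ∈ N := fun x hx => (QuotientGroup.eq_one_iff x).1 hx
  have hk : π.ker = N := QuotientGroup.ker_mk' N
  have hnN : ∀ g : G, g ∈ 𝐍(N) := fun g => le_normalizer_of_normal (mem_top g)
  obtain ⟨-, -, -, hf⟩ := Frobenius.kernel_of_coe_eq hHb hker.symm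
  have hNF : N ≤ Fb.comap π := fun x hx => by
    rw [mem_comap, hN x hx]; exact one_mem _
  have hi : N.relIndex (Fb.comap π) = Nat.card Fb := by
    have := relIndex_ker (Fb.comap π) π
    rwa [hk, map_comap_eq_self_of_surjective hπ] at this
  obtain ⟨F, -, h2, h3, h4⟩ := Coprime.exists_complement hNF le_normalizer_of_normal (hi ▸ hcop.symm)
  have h5 : F.map π = Fb := by
    rw [← map_comap_eq_self_of_surjective hπ Fb, ← h3, Subgroup.map_sup, (Subgroup.map_eq_bot_iff _).2 hk.ge,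
      bot_sup_eq]
  have hinj : ∀ x ∈ F, π x = 1 → x = 1 := fun x hx e =>
    mem_bot.1 (h2 ▸ mem_inf.2 ⟨hN' x e, hx⟩)
  have hc : (Nat.card F).Coprime (Nat.card N) := by rwa [h4, hi]
  have hs : Group.IsSolvable F := by
    haveI := nil_sol (PLocal.isNilpotent_of_fpf le_normalizer_of_normal hHb.1 hf)
    exact Group.isSolvable_of_isSolvable_injective (f := (π.comp F.subtype).codRestrict Fb fun x => h5 ▸ mem_map_of_mem _ x.2)
      ((injective_iff_map_eq_one _).2 fun x e => Subtype.ext (hinj x x.2 (congrArg Subtype.val e)))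
  obtain ⟨p, hp, hpN, P, hP, hFP, hn⟩ : ∃ p : ℕ, p.Prime ∧ p ∣ Nat.card N ∧ ∃ P, Syl p P N ∧ F ≤ 𝐍(P) ∧ ¬ P ≤ 𝐂(F) := by
    by_contra! h
    refine hnot (h5 ▸ map_mono (cent_symm (Syl.le_of_forall fun q hq hd => ?_)))
    haveI := Fact.mk hq
    obtain ⟨P, a, b⟩ := Syl.exists_inv (p := q) le_normalizer_of_normal hc (.inl hs)
    exact ⟨P, a, h q hq hd P a b⟩
  haveI := Fact.mk hp
  obtain ⟨b, hb, hb'⟩ := cyclic_iff.1 hcyc
  obtain ⟨h, rfl, hhF, hhP⟩ : ∃ h, π h = b ∧ h ∈ 𝐍(F) ∧ h ∈ 𝐍(P) := by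
    obtain ⟨h, rfl⟩ := hπ b
    have e0 : N ⊔ h ⋆ F = N ⊔ F := by
      have e1 := conj_sup h N F
      rw [conj_eq_of_norm (hnN h), h3, conj_eq_of_norm (le_normalizer_of_normal (mem_top h))] at e1
      rw [← e1, h3]
    have s1 : Group.IsSolvable ↥(h ⋆ F) :=
      Group.isSolvable_of_surjective (f := (MulAut.conj h).toMonoidHom.subgroupMap F)
          (MonoidHom.subgroupMap_surjective _ _)
    obtain ⟨n, hn, e⟩ := Coprime.exists_map_conj_eq_of_sup_eq (B := h ⋆ F) le_normalizer_of_normal e0 h2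
      (by rwa [card_conj]) (.inl s1)
    have e2 : n * h ∈ 𝐍(F) := norm_of_conj_eq (by rw [← conj_conj]; exact e)
    have e4 : F ≤ 𝐍((n * h) ⋆ P) := by
      have := conj_mono (n * h) hFP
      rwa [conj_eq_of_norm e2, conj_normalizer] at this
    obtain ⟨c, hc', e3⟩ := Syl.inv_trans (hP.conj_of_norm (hnN (n * h))) hP
      le_normalizer_of_normal hc (.inl hs) e4 hFP
    refine ⟨c * (n * h), ?_, mul_mem (cent_le_norm _ hc'.2) e2, norm_of_conj_eq (by rw [← conj_conj, ← e3])⟩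
    rw [map_mul, map_mul, hN n hn, hN c hc'.1, one_mul, one_mul]
  have hm : orderOf (π h) = Nat.card Hb := by rw [← hb', Nat.card_zpowers]
  have key : ∀ g, π g = π h → g ^ Nat.card Hb ≠ 1 → ∃ p : ℕ, p.Prime ∧ p ∣ Nat.card N ∧ ∃ g : G, orderOf g = p * Nat.card Hb :=
    fun g e h1 => by
      obtain ⟨q, hq, h6⟩ := Nat.exists_prime_and_dvd (mt orderOf_eq_one_iff.1 h1)
      have h7 : Nat.card Hb ∣ orderOf g := by rw [← hm, ← e]; exact orderOf_map_dvd _ _
      refine ⟨q, hq, h6.trans (N.orderOf_dvd_natCard (hN' _ ?_)),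
        mem_sp_of_dvd_orderOf g ?_⟩
      · rw [map_pow, e, ← hm, pow_orderOf_eq_one]
      · rw [orderOf_pow_of_dvd Nat.card_pos.ne' h7] at h6
        exact Nat.mul_dvd_of_dvd_div h7 h6 |> (mul_comm q _ ▸ ·)
  by_cases h1 : h ^ Nat.card Hb = 1
  swap
  · exact key h rfl h1
  have hcP := coprime_mono hc le_rfl hP.le
  have hle : ⁅P, F⁆ ≤ P := comm_le_left hFP
  have h9 : ∀ i, 0 < i → i < Nat.card Hb → ∀ y ∈ F ⊓ 𝐂[h ^ i], π y ∈ (⊥ : Subgroup (G ⧸ N)) := fun i i0 im y hy => by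
    rw [← hf (π h ^ i) (pow_mem hb i) (pow_ne_one_of_lt_orderOf i0.ne' (hm ▸ im))]
    exact ⟨h5 ▸ mem_map_of_mem _ hy.1, mem_cent1.2 (by rw [← map_pow, ← map_mul, ← map_mul, mem_cent1.1 hy.2])⟩
  obtain ⟨x, hx, e⟩ := norm_ne (Q := ⁅P, F⁆) (F := F) (h := h) (m := Nat.card Hb) Nat.card_pos
    (fun e => hn (comm_eq_bot_iff.1 e)) (nil_of_le hP.nil hle) (right_norm_comm _ _)
    (norm_comm (zpowers_le.2 hhP) (zpowers_le.2 hhF) (mem_zpowers h)) hhF (coprime_mono hcP le_rfl hle)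
    (coprime_commGid hFP hcP) fun i i0 im => eq_bot_iff.2 fun y hy => mem_bot.2 (hinj y hy.1 (mem_bot.1 (h9 i i0 im y hy)))
  exact key (x * h) (by rw [map_mul, hN x (hP.le (hle hx)), one_mul]) (h1 ▸ e)

end Cfsg.Agent.S3703
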