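import Cfsg.Statements.S5892
import Cfsg.Agent.Lib.PSL2.Classify

set_option autoImplicit false
open Cfsg

namespace Cfsg.Agent.S5892

/-- Let F be a finite field of odd order q ≥ 5 and characteristic p, and let M be a maximal subgroup of PSL₂(F). Then one of the following holds: |M| = q(q − 1)/2 (the stabiliser of a point of the projective line); q ≥ 13 and M is dihedral of order q − 1; q ∉ {7, 9} and M is dihedral of order q + 1; q = q₀² and M ≅ PGL₂(F₀) with |F₀| = q₀; q = q₀^r for an odd prime r and M ≅ PSL₂(F₀) with |F₀| = q₀; q ≡ ±1 (mod 10) with q = p or q = p², p ≡ ±3 (mod 10), and M ≅ A₅; q = p ≡ ±3 (mod 8), q ≢ ±1 (mod 10), and M ≅ A₄; or q = p ≡ ±1 (mod 8) and M ≅ S₄. -/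
theorem result {F : Type*} [Field F] [Fintype F] (p : ℕ)
    [Fact p.Prime] [CharP F p] (hodd : Odd (Fintype.card F)) (h5 : 5 ≤ Fintype.card F)
    (M : Subgroup (Matrix.ProjectiveSpecialLinearGroup (Fin 2) F)) (hM : IsCoatom M) :
    2 * Nat.card M = Fintype.card F * (Fintype.card F - 1) ∨
    (13 ≤ Fintype.card F ∧ (∃ k : ℕ, 2 * k = Fintype.card F - 1 ∧ Nonempty (M ≃* DihedralGroup k))) ∨
    (Fintype.card F ≠ 7 ∧ Fintype.card F ≠ 9 ∧ (∃ k : ℕ, 2 * k = Fintype.card F + 1 ∧ Nonempty (M ≃* DihedralGroup k))) ∨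
    (∃ (F₀ : Type) (_ : Field F₀) (_ : Fintype F₀), Fintype.card F = Fintype.card F₀ ^ 2 ∧
        Nonempty (M ≃* Matrix.ProjGenLinGroup (Fin 2) F₀)) ∨
    (∃ (F₀ : Type) (_ : Field F₀) (_ : Fintype F₀) (r : ℕ), r.Prime ∧ Odd r ∧ Fintype.card F = Fintype.card F₀ ^ r ∧
        Nonempty (M ≃* Matrix.ProjectiveSpecialLinearGroup (Fin 2) F₀)) ∨
    ((Fintype.card F % 10 = 1 ∨ Fintype.card F % 10 = 9) ∧
        (Fintype.card F = p ∨ (Fintype.card F = p ^ 2 ∧ (p % 10 = 3 ∨ p % 10 = 7))) ∧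
        Nonempty (M ≃* alternatingGroup (Fin 5))) ∨
    (Fintype.card F = p ∧ (p % 8 = 3 ∨ p % 8 = 5) ∧ ¬ (p % 10 = 1 ∨ p % 10 = 9) ∧
        Nonempty (M ≃* alternatingGroup (Fin 4))) ∨
    (Fintype.card F = p ∧ (p % 8 = 1 ∨ p % 8 = 7) ∧ Nonempty (M ≃* Equiv.Perm (Fin 4))) := by
  open Cfsg.Lib.PSL2 in
  rw [← Nat.card_eq_fintype_card] at *
  have hd := gcd_two_eq_of_odd hodd
  have ho := Nat.odd_iff.1 hodd
  rcases classify_psl (AlgebraicClosure F) p (by omega) hM with ⟨x, rfl⟩ | ⟨a, b, m, h, rfl⟩ |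
    ⟨-, h1, V, hV, rfl, h2⟩ | h | ⟨k, c, n, h1, h2, h3, rfl⟩
  · left
    rw [← card_stabilizerL_mul x, hd]
  · have := h.dihedral_dihL
    rw [hd] at this
    rcases h.eq_or_eq with rfl | rfl
    · have h7 := h.ne_of_isCoatom_split hM
      exact Or.inr (Or.inl ⟨by omega, _, by omega, this⟩)
    · have h7 := h.ne_of_isCoatom_nonsplit hM
      exact Or.inr (Or.inr (Or.inl ⟨h7.1, h7.2, _, by omega, this⟩))
  · refine Or.inr (Or.inr (Or.inr (Or.inr (Or.inr (Or.inr ?_)))))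
    by_cases h8 : Nat.card F % 8 = 3 ∨ Nat.card F % 8 = 5
    · exact Or.inl ⟨h1, h1 ▸ h8, h2 h8, equiv_normalizer_four_psl_alt h8 hV⟩
    · exact Or.inr ⟨h1, by omega, equiv_normalizer_four_psl_perm (by omega) hV⟩
  · exact Or.inr (Or.inr (Or.inr (Or.inr (Or.inr (Or.inl h)))))
  · obtain ⟨F₀, _, _, e1, ⟨e2⟩, ⟨e3⟩⟩ := exists_type_field k
    rcases h1.eq_two_or_odd' with rfl | hn
    · obtain ⟨e⟩ := equiv_comap_range_subHom_pgl k.subtype h2 (Or.inl even_two) c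
      exact Or.inr (Or.inr (Or.inr (Or.inl ⟨F₀, _, _, e1 ▸ h2, ⟨e.trans e3⟩⟩)))
    · obtain ⟨e⟩ := equiv_comap_range_subHom_psl k.subtype h2 (Or.inl hn) c
      exact Or.inr (Or.inr (Or.inr (Or.inr (Or.inl ⟨F₀, _, _, n, h1, hn, e1 ▸ h2, ⟨e.trans e2⟩⟩))))

end Cfsg.Agent.S5892
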