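import Cfsg.Statements.S1011
import Cfsg.Agent.Lib.Small.Order

set_option autoImplicit false
open Cfsg

namespace Cfsg.Agent.S1011

/-- A simple group of order 504 is isomorphic to the projective special linear group of dimension 2 over the field with 8 elements. -/
theorem result {G : Type*} [Group G] [Finite G] [IsSimpleGroup G] (h : Nat.card G = 504) {F : Type*} [Field F] [Fintype F] (hF : Fintype.card F = 8) : Nonempty (G ≃* Matrix.ProjectiveSpecialLinearGroup (Fin 2) F) := by
  obtain ⟨χ, θ, h1⟩ := Lib.Small.exists_tri (B := 23) (p := 7) (q := 8) (z := 9) (by norm_num) h rfl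
    (by norm_num) (by norm_num) (by norm_num) (by decide) (by decide +kernel)
  exact h1.equiv_psl_even (Lib.Small.not_isMulCommutative_of_simple (by rw [h]; norm_num))
    (k := 3) rfl rfl (by decide) F hF

end Cfsg.Agent.S1011
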