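import Cfsg.Statements.S5735
import Cfsg.Agent.Lib.BS.Binary

set_option autoImplicit false
open Cfsg

namespace Cfsg.Agent.S5735

open Subgroup Cfsg.Lib Cfsg.Lib.BS Cfsg.Lib.Bin

theorem charP_two {F : Type*} [Field F] [Fintype F] {n : ℕ} (hF : Fintype.card F = 2 ^ n) :
    CharP F 2 := Sz.charP_of_card hF

theorem good_psl {G F : Type*} [Group G] [Finite G] [Field F] [Fintype F] {a : ℕ} (ha : 2 ≤ a)
    (hF : Fintype.card F = 2 ^ a) (e : G ≃* Matrix.ProjectiveSpecialLinearGroup (Fin 2) F) :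
    BinGood G ∧ ∀ P : Sylow 2 G, (center (P : Subgroup G)).map (P : Subgroup G).subtype = P :=
  have := charP_two hF
  binGood_psl (by rw [Nat.card_eq_fintype_card, hF]; exact Nat.pow_le_pow_right two_pos ha) e

theorem sl_psl {F : Type*} [Field F] [Fintype F] {a : ℕ} (ha : 2 ≤ a)
    (hF : Fintype.card F = 2 ^ a) : Nonempty (Matrix.SpecialLinearGroup (Fin 2) F ≃*
      Matrix.ProjectiveSpecialLinearGroup (Fin 2) F) :=
  PSL2.equiv_sl_psl_of_even (by
    rw [Nat.card_eq_fintype_card, hF, Nat.not_odd_iff_even]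
    exact (Nat.even_pow' (by omega)).2 even_two)

theorem good_sz {G : Type*} [Group G] [Finite G] (h : Lie.IsoSuzuki G) : BinGood G := by
  obtain ⟨F, _, _, m, hm, hF, ⟨e⟩⟩ := h
  exact binGood_sz ((Sz.lieModel hF).congr e) (Sz.exists_ne_zero_ne_one hm hF)

theorem good_u3 {G F : Type*} [Group G] [Finite G] [IsSimpleGroup G] [Field F] [Fintype F] {a : ℕ}
    (ha : 2 ≤ a) (hF : Fintype.card F = (2 ^ a) ^ 2) (e : G ≃* PSU 3 F (2 ^ a)) : BinGood G := by
  have := charP_two (hF.trans (pow_mul 2 a 2).symm)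
  obtain ⟨σ, b⟩ := Unitary.exists_isBar hF
  obtain ⟨M, -⟩ := U3.exists_model_PSU b
  exact binGood_u3 (M.map e.symm) (lt_of_lt_of_le (by norm_num) (Nat.pow_le_pow_right two_pos ha))

/-- Let G be a finite simple group with exactly one conjugacy class of involutions, and let H be a proper subgroup of even order. Then the action of G on the cosets of H is binary if and only if one of the following holds: G ≅ SL₂(2^a) with a ≥ 2 and H is a Sylow 2-subgroup; G is a Suzuki group Sz(2^(2a+1)) with a ≥ 1 and H is the centre of a Sylow 2-subgroup; G ≅ PSU₃(2^a) with a ≥ 2 and H is the centre of a Sylow 2-subgroup. Here an action is binary (relational complexity 2) when, for every n ≥ 2 and all n-tuples I, J of points, if for every pair of positions some group element carries the corresponding pair of entries of I to those of J, then a single group element carries I to J. -/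
theorem result {G : Type*} [Group G] [Finite G] [IsSimpleGroup G] (hinv : ∃ s : G, orderOf s = 2)
    (hone : ∀ s t : G, orderOf s = 2 → orderOf t = 2 → IsConj s t)
    (H : Subgroup G) (hH : H ≠ ⊤) (heven : Even (Nat.card H)) :
    (∀ (n : ℕ) (I J : Fin n → G ⧸ H), 2 ≤ n →
        (∀ i j : Fin n, i ≠ j → ∃ g : G, g • I i = J i ∧ g • I j = J j) → ∃ g : G, ∀ i, g • I i = J i) ↔
      (((∃ (F : Type) (_ : Field F) (_ : Fintype F) (a : ℕ), 2 ≤ a ∧ Fintype.card F = 2 ^ a ∧ Nonempty (G ≃* Matrix.SpecialLinearGroup (Fin 2) F)) ∧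
          ∃ P : Sylow 2 G, H = P) ∨
        (Cfsg.Lie.IsoSuzuki G ∧ ∃ P : Sylow 2 G, H = (Subgroup.center (P : Subgroup G)).map (P : Subgroup G).subtype) ∨
        ((∃ (F : Type) (_ : Field F) (_ : Fintype F) (a : ℕ), 2 ≤ a ∧ Fintype.card F = (2 ^ a) ^ 2 ∧ Nonempty (G ≃* Cfsg.PSU 3 F (2 ^ a))) ∧
          ∃ P : Sylow 2 G, H = (Subgroup.center (P : Subgroup G)).map (P : Subgroup G).subtype)) := by
  refine ⟨fun hb => ?_, ?_⟩
  · obtain ⟨M, hM⟩ := (IsBin.tri hb).exists_se hone hH heven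
    obtain ⟨F, _, _, a, ha, hF, ⟨e⟩⟩ | h | ⟨F, _, _, a, ha, hF, ⟨e⟩⟩ := isBender_of_se hM
    · obtain ⟨h1, h2⟩ := good_psl ha hF e
      obtain ⟨P, hP⟩ := (h1.iff hH heven).1 hb
      exact Or.inl ⟨⟨F, _, _, a, ha, hF, ⟨e.trans (sl_psl ha hF).some.symm⟩⟩, P, hP.trans (h2 P)⟩
    · exact Or.inr (Or.inl ⟨h, ((good_sz h).iff hH heven).1 hb⟩)
    · exact Or.inr (Or.inr ⟨⟨F, _, _, a, ha, hF, ⟨e⟩⟩, ((good_u3 ha hF e).iff hH heven).1 hb⟩)
  · rintro (⟨⟨F, _, _, a, ha, hF, ⟨e⟩⟩, P, hP⟩ | ⟨h, hP⟩ | ⟨⟨F, _, _, a, ha, hF, ⟨e⟩⟩, hP⟩)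
    · obtain ⟨h1, h2⟩ := good_psl ha hF (e.trans (sl_psl ha hF).some)
      exact (h1.iff hH heven).2 ⟨P, hP.trans (h2 P).symm⟩
    · exact ((good_sz h).iff hH heven).2 hP
    · exact ((good_u3 ha hF e).iff hH heven).2 hP

end Cfsg.Agent.S5735
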