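import Cfsg.Statements.S2807
import Cfsg.Agent.Lib.Fusion.Transfer

set_option autoImplicit false
open Cfsg

namespace Cfsg.Agent.S2807

open Cfsg.Lib.Fusion Cfsg.Lib.Transfer Subgroup

/-- Let S be a Sylow p-subgroup of the finite group G. If S ∩ G' ≠ S ∩ (N_G(S))' (derived subgroups), then the wreath product Z_p ≀ Z_p — realised as a Sylow p-subgroup of the symmetric group of degree p² — is a homomorphic image of S. -/
theorem result {G : Type*} [Group G] [Finite G] {p : ℕ} [Fact p.Prime] (S : Sylow p G) (h : (S : Subgroup G) ⊓ commutator G ≠ (S : Subgroup G) ⊓ ⁅Subgroup.normalizer ((S : Subgroup G) : Set G), Subgroup.normalizer ((S : Subgroup G) : Set G)⁆) : ∃ (P : Sylow p (Equiv.Perm (Fin (p ^ 2)))) (f : ↥(S : Subgroup G) →* ↥(P : Subgroup (Equiv.Perm (Fin (p ^ 2))))), Function.Surjective f := by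
  by_contra hw
  refine h (le_antisymm ?_ (inf_le_inf_left _ (commutator_mono le_top le_top)))
  have := Sat.focal_le_of_not_wreath (sat_group S) hw
    (K := ⁅normalizer ((S : Subgroup G) : Set G), normalizer ((S : Subgroup G) : Set G)⁆)
    fun f hf x hx => by
      obtain ⟨g, -, e, hg, -⟩ := (grp_group _).exists_conj hf
      have := commutator_mem_commutator (inv_mem (le_normalizer hx)) (mem_normalizer_of_conj_le hg)
      simpa [e x hx, commutatorElement_def, mul_assoc] using this
  rw [(sylGrp_group S).focal_eq] at this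
  exact le_inf inf_le_left this

end Cfsg.Agent.S2807
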