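import Cfsg.Statements.S3103
import Cfsg.Agent.Lib.PGroup.AutGL
import Cfsg.Agent.Lib.TI.Basic
import Cfsg.Agent.Lib.Core.PSolvable
import Cfsg.Agent.S0256

set_option autoImplicit false
open Cfsg

namespace Cfsg.Agent.S3103

open Subgroup Cfsg.Lib
open scoped commutatorElement

theorem exists_gl_hom : ∃ f : GL (Fin 4) (ZMod 2) →* alternatingGroup (Fin 8),
    Function.Injective f := by
  obtain ⟨e⟩ := Cfsg.Agent.S0256.result (F := ZMod 2) (by simp)
  have hu : ∀ u : (ZMod 2)ˣ, (u : ZMod 2) = 1 := by decide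
  let s : GL (Fin 4) (ZMod 2) →* Matrix.SpecialLinearGroup (Fin 4) (ZMod 2) :=
    { toFun := fun g => ⟨g, hu (Matrix.GeneralLinearGroup.det g)⟩
      map_one' := rfl
      map_mul' := fun _ _ => rfl }
  refine ⟨e.toMonoidHom.comp ((QuotientGroup.mk' _).comp s), ?_⟩
  rw [injective_iff_map_eq_one]
  intro g hg
  have h1 : (QuotientGroup.mk' (center _)) (s g) = 1 := (map_eq_one_iff _ e.injective).1 hg
  rw [QuotientGroup.mk'_apply, QuotientGroup.eq_one_iff,
    Matrix.SpecialLinearGroup.mem_center_iff] at h1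
  obtain ⟨r, hr, h2⟩ := h1
  have hr1 : r = 1 := (by decide : ∀ r : ZMod 2, r ^ 4 = 1 → r = 1) r (by simpa using hr)
  rw [hr1, map_one] at h2
  exact Units.ext h2.symm

/-- Let X be a finite 2-constrained group with no nontrivial normal subgroup of odd order such that O₂(X) has sectional 2-rank at most 4. Then X/O₂(X) is isomorphic to a subgroup of the alternating group of degree 8. -/
theorem result {X : Type*} [Group X] [Finite X] (hc : Cfsg.IsPConstrained 2 X) (hO : Cfsg.oddCore X = ⊥)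
    (h4 : Cfsg.SectionalPRankLE 2 4 ↥(Cfsg.pCore 2 X)) :
    ∃ f : X ⧸ Cfsg.pCore 2 X →* ↥(alternatingGroup (Fin 8)), Function.Injective f := by
  have hQ : IsPGroup 2 (pCore 2 X) := Core.pCore_isPGroup 2 X
  have hch : centralizer (pCore 2 X : Set X) ≤ pCore 2 X := by
    have := (Core.isPConstrained_iff_of_sup_eq (p := 2) hQ
      (by rw [Core.pPrimePCore_eq_pCore hO, show pPrimeCore 2 X = ⊥ from hO, bot_sup_eq])).1 hc
    rwa [Core.pPrimePCore_eq_pCore hO] at this
  set Q := pCore 2 X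
  haveI : Group.IsNilpotent Q := hQ.isNilpotent
  have hcm : ∀ x y : Q ⧸ frattini Q, x * y = y * x := fun x y => by
    obtain ⟨x, rfl⟩ := QuotientGroup.mk_surjective x
    obtain ⟨y, rfl⟩ := QuotientGroup.mk_surjective y
    rw [← commutatorElement_eq_one_iff_mul_comm, ← QuotientGroup.mk'_apply, ← QuotientGroup.mk'_apply,
      ← map_commutatorElement, QuotientGroup.mk'_apply, QuotientGroup.eq_one_iff]
    exact Core.commutator_le_frattini_of_isNilpotent inferInstance
      (commutator_mem_commutator (mem_top _) (mem_top _))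
  have he : ∀ x : Q ⧸ frattini Q, x ^ 2 = 1 := fun x => by
    obtain ⟨x, rfl⟩ := QuotientGroup.mk_surjective x
    rw [← QuotientGroup.mk_pow, QuotientGroup.eq_one_iff]
    exact PGroup.pow_mem_frattini hQ x
  have hn : Nat.card (Q ⧸ frattini Q) ≤ 2 ^ 4 := by
    let e : (⊤ : Subgroup Q) ≃* Q := topEquiv
    let N : Subgroup (⊤ : Subgroup Q) := (frattini Q).comap e.toMonoidHom
    let e' : (⊤ : Subgroup Q) ⧸ N ≃* Q ⧸ frattini Q :=
      QuotientGroup.congr N (frattini Q) e (map_comap_eq_self_of_surjective e.surjective _)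
    have := h4 ⊤ N ⊤ ⟨⟨fun a b => Subtype.ext (e'.injective (by
      simp only [coe_mul, map_mul]; exact hcm _ _))⟩⟩
      fun a _ => e'.injective (by rw [map_pow, map_one, he])
    rwa [card_top, Nat.card_congr e'.toEquiv] at this
  obtain ⟨f₁, hf₁⟩ := PGroup.exists_hom_aut_quotient Q (frattini Q)
  obtain ⟨f₂, hf₂⟩ := PGroup.exists_aut_hom_GL hcm he hn
  obtain ⟨f₃, hf₃⟩ := exists_gl_hom
  have hker : ∀ g, g ∈ Q ↔ f₁ g = 1 := fun g => by
    constructor
    · intro hg
      ext x
      obtain ⟨x, rfl⟩ := QuotientGroup.mk_surjective x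
      have : MulAut.conjNormal g x = (⟨g, hg⟩ : Q) * x * (⟨g, hg⟩ : Q)⁻¹ := rfl
      rw [hf₁, this, QuotientGroup.mk_mul, QuotientGroup.mk_mul, hcm _ (x : Q ⧸ frattini Q),
        QuotientGroup.mk_inv, mul_inv_cancel_right]
      rfl
    · intro hg
      refine TI.mem_pCore_of_commutator_le_frattini hch fun x hx => ?_
      have h1 := hf₁ g ⟨x, hx⟩
      rw [hg, MulAut.one_apply, QuotientGroup.eq] at h1
      have h2 := (inferInstance : (frattini Q).Normal).conj_mem _ (inv_mem h1)
        (MulAut.conjNormal g ⟨x, hx⟩)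
      refine ⟨_, h2, ?_⟩
      simp [commutatorElement_def, mul_assoc]
  refine ⟨QuotientGroup.lift Q (f₃.comp (f₂.comp f₁)) fun g hg => by
    simp [(hker g).1 hg], ?_⟩
  rw [injective_iff_map_eq_one]
  intro x hx
  obtain ⟨x, rfl⟩ := QuotientGroup.mk_surjective x
  rw [QuotientGroup.eq_one_iff, hker]
  exact (map_eq_one_iff _ hf₂).1 ((map_eq_one_iff _ hf₃).1 hx)

end Cfsg.Agent.S3103
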