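import Cfsg.Statements.S0989
import Cfsg.Agent.Lib.CharDeg.SelfCent
import Cfsg.Agent.Lib.Small.Basic

set_option autoImplicit false
open Cfsg

namespace Cfsg.Agent.S0989

/-- In the symmetric group on p or p + 1 letters, p a prime, the normalizer of a Sylow p-subgroup has order p * (p - 1). -/
theorem result {α : Type*} [Fintype α] [DecidableEq α] (p : ℕ) [Fact p.Prime] (hα : Fintype.card α = p ∨ Fintype.card α = p + 1) (P : Sylow p (Equiv.Perm α)) : Nat.card ↥(Subgroup.normalizer ((P : Subgroup (Equiv.Perm α)) : Set (Equiv.Perm α))) = p * (p - 1) := by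
  have hp := (Fact.out : p.Prime)
  have h2 := hp.two_le
  have hct : ∀ σ : Equiv.Perm α, orderOf σ = p → σ.cycleType = {p} := by
    intro σ h
    have hc := Equiv.Perm.isCycle_of_prime_order' (σ := σ) (h ▸ hp) (by rw [h]; omega)
    rw [hc.cycleType, ← hc.orderOf, h]
  have hsc : ∀ σ : Equiv.Perm α, orderOf σ = p → Cfsg.Lib.CharDeg.SelfCent p σ := by
    intro σ h
    refine ⟨hp, h, (Subgroup.eq_of_le_of_card_ge ?_ ?_).symm⟩
    · rw [Subgroup.zpowers_le, Subgroup.mem_centralizer_singleton_iff]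
    · rw [Equiv.Perm.nat_card_centralizer, hct σ h, Nat.card_zpowers, h]
      rcases hα with h1 | h1 <;> simp [h1]
  have hd : p ∣ Nat.card (Equiv.Perm α) := by
    rw [Nat.card_eq_fintype_card, Fintype.card_perm]
    exact Nat.dvd_factorial hp.pos (by omega)
  obtain ⟨x, hx⟩ := exists_prime_orderOf_dvd_card' p hd
  obtain ⟨Q, hQ⟩ := (hsc x hx).exists_sylow
  have hP : Nat.card P = p := by
    rw [Sylow.card_eq_multiplicity, ← Q.card_eq_multiplicity, hQ, Nat.card_zpowers, hx]
  obtain ⟨y, hyP, hy⟩ := Cfsg.Lib.Small.exists_mem_orderOf_eq_prime hp (dvd_of_eq hP.symm)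
  have hPy : (P : Subgroup (Equiv.Perm α)) = Subgroup.zpowers y :=
    (Subgroup.eq_of_le_of_card_ge (Subgroup.zpowers_le.mpr hyP)
      (by rw [hP, Nat.card_zpowers, hy])).symm
  have h1 := (hsc y hy).card_classes_mul
  have h3 : Nat.card {C : ConjClasses (Equiv.Perm α) // ∃ g ∈ C.carrier, orderOf g = p} = 1 := by
    rw [Nat.card_eq_one_iff_exists]
    refine ⟨⟨ConjClasses.mk y, y, ConjClasses.mem_carrier_mk, hy⟩, ?_⟩
    rintro ⟨C, g, hg, hgo⟩
    rw [ConjClasses.mem_carrier_iff_mk_eq] at hg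
    subst hg
    exact Subtype.ext (ConjClasses.mk_eq_mk_iff_isConj.mpr
      (Equiv.Perm.isConj_iff_cycleType_eq.mpr (by rw [hct g hgo, hct y hy])))
  rw [h3, one_mul] at h1
  rw [hPy, ← h1, ← Subgroup.relIndex_bot_left,
    ← Subgroup.relIndex_mul_relIndex _ _ _ bot_le Subgroup.le_normalizer,
    Subgroup.relIndex_bot_left, Nat.card_zpowers, hy]

end Cfsg.Agent.S0989
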