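import Cfsg.Statements.S2553
import Cfsg.Agent.S3103
import Cfsg.Agent.S0496
import Cfsg.Agent.S0721
import Cfsg.Agent.S0494
import Cfsg.Agent.S0495
import Cfsg.Agent.S0255
import Cfsg.Agent.S0497
import Cfsg.Agent.S0984
import Cfsg.Agent.S0989
import Cfsg.Agent.S0990
import Cfsg.Agent.Lib.Small.Sieve
import Cfsg.Agent.Lib.Alt.Aut
import Cfsg.Agent.Lib.Alt.Arith
import Cfsg.Agent.Lib.Core.MinNormal
import Cfsg.Agent.Lib.Core.PPrimeCore
import Cfsg.Agent.Lib.Linear.Basic

set_option autoImplicit false
open Cfsg

namespace Cfsg.Agent.S2553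

open Subgroup Cfsg.Lib

theorem card_a8 : Nat.card (alternatingGroup (Fin 8)) = 20160 := by
  have := Alt.two_mul_card_alt_fin (n := 8) (by norm_num)
  have h : Nat.factorial 8 = 40320 := by decide
  omega

variable {G : Type*} [Group G] [Finite G]

theorem top_equiv {N : Subgroup G} (h : Nat.card G ≤ Nat.card N) : Nonempty (G ≃* N) := by
  have : N = ⊤ := Subgroup.eq_top_of_le_card N h
  exact ⟨topEquiv.symm.trans (MulEquiv.subgroupCongr this.symm)⟩

theorem card_le (f : G →* alternatingGroup (Fin 8)) (hf : Function.Injective f) :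
    Nonempty (G ≃* alternatingGroup (Fin 8)) ∨ Nat.card G ≤ 2520 := by
  by_cases hR : f.range = ⊤
  · exact Or.inl ⟨MulEquiv.ofBijective f ⟨hf, MonoidHom.range_eq_top.1 hR⟩⟩
  right
  haveI : IsSimpleGroup (alternatingGroup (Fin 8)) := alternatingGroup.isSimpleGroup (by simp)
  have h1 := Small.two_mul_card_dvd_factorial
    (Small.not_isMulCommutative_of_simple (by rw [card_a8]; norm_num)) hR
  have h2 := card_mul_index f.range
  rw [card_a8] at h1 h2
  have h3 : Nat.card f.range = Nat.card G := (Nat.card_congr (f.ofInjective hf).toEquiv).symm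
  rw [h3] at h2
  have h4 : 8 ≤ f.range.index := by
    by_contra h
    have := h1.trans (Nat.factorial_dvd_factorial (show f.range.index ≤ 7 by omega))
    revert this; decide
  nlinarith

theorem minNormal (hO : pPrimeCore 2 G = ⊥) (hO2 : pCore 2 G = ⊥) (hd : Nat.card G ∣ 20160)
    (hle : Nat.card G ≤ 2520) {M : Subgroup G} (hM : Core.IsMinNormal M) :
    IsSimpleGroup M ∧ ¬ IsMulCommutative M ∧ (Nat.card M = 60 ∨ Nat.card M = 168 ∨
      Nat.card M = 360 ∨ Nat.card M = 504 ∨ Nat.card M = 2520) := by
  haveI := hM.normal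
  have hns : ¬ Group.IsSolvable M := fun hs => by
    obtain ⟨q, hq, hp⟩ := hM.exists_isPGroup hs
    haveI := Fact.mk hq
    by_cases h2 : q = 2
    · subst h2
      exact hM.ne_bot (le_bot_iff.1 (hO2 ▸ Core.le_pCore hM.normal hp))
    · obtain ⟨k, hk⟩ := IsPGroup.iff_card.1 hp
      refine hM.ne_bot (le_bot_iff.1 (hO ▸ Core.le_pPrimeCore hM.normal ?_))
      rw [hk]
      exact Nat.Coprime.pow_left _ ((Nat.coprime_primes hq Nat.prime_two).2 h2)
  have hnc : ¬ IsMulCommutative M := fun hc => hns (isSolvable_of_comm fun a b => hc.is_comm.comm a b)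
  have hMle : Nat.card M ≤ 2520 := (card_le_card_group M).trans hle
  have hMd : Nat.card M ∣ 20160 := (card_subgroup_dvd_card M).trans hd
  obtain ⟨T, _, m, hT, hm, ⟨e⟩⟩ := S0721.result M hM.ne_bot hM.min
  haveI : Finite (Fin m → T) := Finite.of_equiv _ e.toEquiv
  haveI : Finite T := Finite.of_injective (fun t : T => (fun _ => t : Fin m → T))
    fun a b h => congrFun h ⟨0, hm⟩
  have hTc : ¬ IsMulCommutative T := fun hc => hnc ⟨⟨fun a b => e.injective (by
    rw [map_mul, map_mul]; funext i; exact hc.is_comm.comm _ _)⟩⟩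
  have hT60 : 60 ≤ Nat.card T := by
    by_cases h : Nat.card T ≤ 1092
    · rcases S0496.result hTc h with h | h | h | h | h | h <;> omega
    · omega
  have hc : Nat.card M = Nat.card T ^ m := by
    rw [Nat.card_congr e.toEquiv, Nat.card_pi, Finset.prod_const, Finset.card_univ, Fintype.card_fin]
  have hm1 : m = 1 := by
    by_contra h
    have h1 : Nat.card T ^ 2 ≤ Nat.card T ^ m := Nat.pow_le_pow_right (by omega) (by omega)
    nlinarith
  subst hm1
  haveI hs : IsSimpleGroup M := (e.trans (MulEquiv.piUnique fun _ : Fin 1 => T)).isSimpleGroup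
  refine ⟨hs, hnc, ?_⟩
  by_cases h : Nat.card M ≤ 1092
  · rcases S0496.result hnc h with h | h | h | h | h | h
    · simp [h]
    · simp [h]
    · simp [h]
    · simp [h]
    · rw [h] at hMd; exact absurd hMd (by decide)
    · rw [h] at hMd; exact absurd hMd (by decide)
  · obtain ⟨k, hk⟩ := hMd
    have h1 : Nat.card M ≠ 1120 := Small.card_ne_of_excl (B := 50) (by decide +kernel) (by decide) (by decide)
    have h2 : Nat.card M ≠ 1260 := Small.card_ne_of_excl (B := 50) (by decide +kernel) (by decide) (by decide)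
    have h3 : Nat.card M ≠ 1344 := Small.card_ne_of_excl (B := 50) (by decide +kernel) (by decide) (by decide)
    have h4 : Nat.card M ≠ 1440 := Small.card_ne_of_excl (B := 50) (by decide +kernel) (by decide) (by decide)
    have h5 : Nat.card M ≠ 1680 := Small.card_ne_of_excl (B := 50) (by decide +kernel) (by decide) (by decide)
    have h6 : Nat.card M ≠ 2016 := Small.card_ne_of_excl (B := 50) (by decide +kernel) (by decide) (by decide)
    have h7 : Nat.card M ≠ 2240 := Small.card_ne_of_excl (B := 50) (by decide +kernel) (by decide) (by decide)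
    generalize Nat.card M = n at *
    have hk1 : 8 ≤ k := by nlinarith
    have hk2 : k ≤ 18 := by nlinarith
    interval_cases k <;> omega

theorem cent_bot (hO : pPrimeCore 2 G = ⊥) (hO2 : pCore 2 G = ⊥) (hd : Nat.card G ∣ 20160)
    (hle : Nat.card G ≤ 2520) {N : Subgroup G} (hN : Core.IsMinNormal N) :
    centralizer (N : Set G) = ⊥ := by
  by_contra h0
  haveI := hN.normal
  obtain ⟨M, hM, hMC⟩ := Core.exists_isMinNormal_le (N := centralizer (N : Set G)) inferInstance h0
  haveI := hM.normal
  obtain ⟨-, hnc, h1⟩ := minNormal hO hO2 hd hle hN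
  obtain ⟨-, -, h2⟩ := minNormal hO hO2 hd hle hM
  rcases hN.inf_eq_bot_or_le M with h | h
  · have h3 := Core.card_sup_of_disjoint (H := N) (N := M) le_normalizer_of_normal h
    have h4 := (card_le_card_group (N ⊔ M)).trans hle
    have h5 : 60 ≤ Nat.card N := by omega
    have h6 : 60 ≤ Nat.card M := by omega
    nlinarith
  · exact hnc ⟨⟨fun a b => Subtype.ext ((hMC (h b.2)) a a.2)⟩⟩

theorem seven (f : G →* alternatingGroup (Fin 8)) (hf : Function.Injective f) (N : Subgroup G)
    [N.Normal] (hN : Nat.card N = 168 ∨ Nat.card N = 504) : Nat.card N = 168 ∧ N = ⊤ := by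
  haveI : Fact (Nat.Prime 7) := ⟨by norm_num⟩
  obtain ⟨P⟩ : Nonempty (Sylow 7 N) := inferInstance
  have hP : Nat.card P = 7 := by
    rw [P.card_eq_multiplicity]
    rcases hN with h | h <;> rw [h] <;> decide +kernel
  set P' : Subgroup G := (P : Subgroup N).map N.subtype with hP'
  set Q : Subgroup (Equiv.Perm (Fin 8)) := (P'.map f).map (alternatingGroup (Fin 8)).subtype with hQ
  have hQc : Nat.card Q = 7 := by
    rw [hQ, card_map_of_injective (subtype_injective _), card_map_of_injective hf, hP',
      card_map_of_injective (subtype_injective _)]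
    exact hP
  let S : Sylow 7 (Equiv.Perm (Fin 8)) := Sylow.ofCard Q (by
    rw [hQc, Alt.card_perm_fin]; decide +kernel)
  have h1 := S0989.result 7 (Or.inr (by simp)) S
  have h2 := (S0990.result (by simp) 7 (by norm_num) S).2
  rw [h1] at h2
  have h3 : (S : Subgroup (Equiv.Perm (Fin 8))).subgroupOf (alternatingGroup (Fin 8)) = P'.map f :=
    comap_map_eq_self_of_injective (subtype_injective _) _
  rw [h3] at h2
  have h4 : Nat.card (normalizer (P' : Set G)) ∣ 21 := by
    have := card_dvd_of_le (le_normalizer_map (H := P') f)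
    rw [card_map_of_injective hf] at this
    have h5 : Nat.card (normalizer ((P'.map f : Subgroup _) : Set (alternatingGroup (Fin 8)))) = 21 := by
      omega
    exact h5 ▸ this
  have h5 := le_normalizer_map (H := (P : Subgroup N)) N.subtype
  have h6 := card_dvd_of_le h5
  have h7 := card_mul_index (normalizer ((P : Subgroup N) : Set N))
  have h8 := card_sylow_modEq_one 7 N
  rw [P.card_eq_index_normalizer] at h8
  have h9 : Nat.card ((normalizer ((P : Subgroup N) : Set N)).map N.subtype) =
      Nat.card (normalizer ((P : Subgroup N) : Set N)) := card_map_of_injective (subtype_injective _)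
  have h10 := h6.trans h4
  rw [h9] at h10
  change (normalizer ((P : Subgroup N) : Set N)).index ≡ 1 [MOD 7] at h8
  have key : Nat.card N = 168 ∧ Nat.card (normalizer ((P : Subgroup N) : Set N)) = 21 := by
    unfold Nat.ModEq at h8
    generalize Nat.card (normalizer ((P : Subgroup N) : Set N)) = a at *
    generalize (normalizer ((P : Subgroup N) : Set N)).index = b at *
    have : a ∈ Nat.divisors 21 := Nat.mem_divisors.2 ⟨h10, by norm_num⟩
    have h11 : Nat.divisors 21 = {1, 3, 7, 21} := by decide
    rw [h11] at this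
    simp only [Finset.mem_insert, Finset.mem_singleton] at this
    rcases this with rfl | rfl | rfl | rfl <;> omega
  refine ⟨key.1, ?_⟩
  have h11 : (normalizer ((P : Subgroup N) : Set N)).map N.subtype = normalizer (P' : Set G) :=
    Subgroup.eq_of_le_of_card_ge h5 (by rw [h9, key.2]; exact Nat.le_of_dvd (by norm_num) h4)
  have h12 := Sylow.normalizer_sup_eq_top P
  rw [eq_top_iff, ← h12]
  refine sup_le ?_ le_rfl
  change normalizer (P' : Set G) ≤ N
  rw [← h11]
  exact map_subtype_le _

theorem orbit_six {N : Type*} [Group N] [Finite N] [IsSimpleGroup N] (hN : Nat.card N = 360)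
    {H : Subgroup N} (hH : H ≠ ⊤) (h8 : H.index ≤ 8) : H.index = 6 := by
  have hnc : ¬ IsMulCommutative N := Small.not_isMulCommutative_of_simple (by rw [hN]; norm_num)
  have h1 := Small.two_mul_card_dvd_factorial hnc hH
  have h2 := card_mul_index H
  rw [hN] at h1 h2
  have h3 : 6 ≤ H.index := by
    by_contra h
    have := h1.trans (Nat.factorial_dvd_factorial (show H.index ≤ 5 by omega))
    revert this; decide
  have h7 : H.index ≠ 7 := fun h => by rw [h] at h2; omega
  have h8' : H.index ≠ 8 := fun h => by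
    rw [h] at h2
    have hH45 : Nat.card H = 45 := by omega
    haveI : Fact (Nat.Prime 5) := ⟨by norm_num⟩
    obtain ⟨P⟩ : Nonempty (Sylow 5 H) := inferInstance
    have hP : Nat.card P = 5 := by
      rw [P.card_eq_multiplicity, hH45]; decide +kernel
    have hPi : (P : Subgroup H).index = 9 := by
      have := card_mul_index (P : Subgroup H)
      rw [hH45] at this
      change Nat.card P * _ = _ at this
      rw [hP] at this
      omega
    have hn : Nat.card (Sylow 5 H) = 1 := by
      have a1 := card_sylow_modEq_one 5 H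
      have a2 := P.card_dvd_index
      rw [hPi] at a2
      unfold Nat.ModEq at a1
      generalize Nat.card (Sylow 5 H) = a at *
      have : a ∈ Nat.divisors 9 := Nat.mem_divisors.2 ⟨a2, by norm_num⟩
      have h11 : Nat.divisors 9 = {1, 3, 9} := by decide
      rw [h11] at this
      simp only [Finset.mem_insert, Finset.mem_singleton] at this
      rcases this with rfl | rfl | rfl <;> omega
    haveI : Subsingleton (Sylow 5 H) := (Nat.card_eq_one_iff_unique.1 hn).1
    haveI : (P : Subgroup H).Normal := P.normal_of_subsingleton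
    set P' : Subgroup N := (P : Subgroup H).map H.subtype with hP'
    have hP'c : Nat.card P' = 5 := by
      rw [hP', card_map_of_injective (subtype_injective _)]; exact hP
    let S : Sylow 5 N := Sylow.ofCard P' (by rw [hP'c, hN]; decide +kernel)
    have b1 : H ≤ normalizer (P' : Set N) := by
      have := le_normalizer_map (H := (P : Subgroup H)) H.subtype
      rwa [normalizer_eq_top, ← MonoidHom.range_eq_map, range_subtype] at this
    have b2 := index_dvd_of_le b1
    have b3 := card_sylow_modEq_one 5 N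
    rw [S.card_eq_index_normalizer] at b3
    change (normalizer (P' : Set N)).index ≡ 1 [MOD 5] at b3
    rw [h] at b2
    have b4 : (normalizer (P' : Set N)).index = 1 := by
      unfold Nat.ModEq at b3
      generalize (normalizer (P' : Set N)).index = a at *
      have : a ∈ Nat.divisors 8 := Nat.mem_divisors.2 ⟨b2, by norm_num⟩
      have h11 : Nat.divisors 8 = {1, 2, 4, 8} := by decide
      rw [h11] at this
      simp only [Finset.mem_insert, Finset.mem_singleton] at this
      rcases this with rfl | rfl | rfl | rfl <;> omega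
    have b5 : P'.Normal := normalizer_eq_top_iff.1 (index_eq_one.1 b4)
    rcases b5.eq_bot_or_eq_top with h | h
    · rw [h, card_bot] at hP'c; omega
    · rw [h, card_top, hN] at hP'c; omega
  omega

theorem six (f : G →* Equiv.Perm (Fin 8)) (hf : Function.Injective f) (N : Subgroup G)
    [N.Normal] [IsSimpleGroup N] (hN : Nat.card N = 360) (hC : centralizer (N : Set G) = ⊥) :
    ∃ g : G →* Equiv.Perm (Fin 6), Function.Injective g := by
  classical
  letI : MulAction G (Fin 8) := MulAction.compHom (Fin 8) f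
  have hsm : ∀ (g : G) (x : Fin 8), g • x = f g x := fun _ _ => rfl
  let D : SubMulAction G (Fin 8) :=
    { carrier := {x | ¬ ∀ n ∈ N, n • x = x}
      smul_mem' := fun g x hx h => hx fun n hn => by
        have := h (g * n * g⁻¹) (‹N.Normal›.conj_mem n hn g)
        rw [smul_smul, inv_mul_cancel_right, mul_smul] at this
        exact smul_left_cancel g this }
  have horb : ∀ x ∈ D, (MulAction.orbit N x).ncard = 6 := fun x hx => by
    rw [← MulAction.index_stabilizer]
    refine orbit_six hN (fun h => hx fun n hn => ?_) ?_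
    · have : (⟨n, hn⟩ : N) ∈ MulAction.stabilizer N x := h ▸ mem_top _
      exact this
    · rw [MulAction.index_stabilizer]
      have := Set.ncard_le_card (MulAction.orbit N x)
      simpa using this
  have hsub : ∀ x ∈ D, MulAction.orbit N x ⊆ D := fun x hx => by
    rintro _ ⟨n, rfl⟩
    exact D.smul_mem (n : G) hx
  obtain ⟨x, hx⟩ : ∃ x, x ∈ D := by
    by_contra h
    push Not at h
    have : N = ⊥ := by
      rw [eq_bot_iff]
      intro n hn
      have : f n = 1 := Equiv.ext fun x => not_not.1 (h x) n hn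
      exact (map_eq_one_iff f hf).1 this
    rw [this, card_bot] at hN; omega
  have hD : (D : Set (Fin 8)) = MulAction.orbit N x := by
    refine Set.Subset.antisymm (fun y hy => ?_) (hsub x hx)
    by_contra hyx
    have hdis : Disjoint (MulAction.orbit N x) (MulAction.orbit N y) := by
      rw [Set.disjoint_left]
      intro z h1 h2
      exact hyx (by
        rw [← MulAction.orbit_eq_iff] at h1 h2 ⊢
        rw [← h1, h2])
    have h1 := Set.ncard_union_eq hdis
    have h2 := Set.ncard_le_card (MulAction.orbit N x ∪ MulAction.orbit N y)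
    rw [horb x hx, horb y hy] at h1
    rw [h1] at h2
    simp at h2
  have hDc : Nat.card D = 6 := by
    change (D : Set (Fin 8)).ncard = 6
    rw [hD]; exact horb x hx
  let e : D ≃ Fin 6 := Finite.equivFinOfCardEq hDc
  let φ : G →* Equiv.Perm D := MulAction.toPermHom G D
  have hker : φ.ker ⊓ N = ⊥ := by
    rw [eq_bot_iff]
    rintro n ⟨h1, hn⟩
    have : f n = 1 := Equiv.ext fun y => by
      by_cases hy : y ∈ D
      · have := congrArg (fun σ : Equiv.Perm D => (σ ⟨y, hy⟩ : Fin 8)) (MonoidHom.mem_ker.1 h1)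
        exact this
      · exact not_not.1 hy n hn
    exact (map_eq_one_iff f hf).1 this
  have hk : φ.ker = ⊥ := by
    rw [eq_bot_iff, ← hC]
    intro g hg n hn
    exact (commute_of_normal_of_disjoint φ.ker N inferInstance inferInstance
      (disjoint_iff.2 hker) g n hg hn).symm.eq
  exact ⟨e.permCongrHom.toMonoidHom.comp φ,
    e.permCongrHom.injective.comp ((MonoidHom.ker_eq_bot_iff φ).1 hk)⟩

theorem sl_gl : Nonempty (Matrix.SpecialLinearGroup (Fin 3) (ZMod 2) ≃* GL (Fin 3) (ZMod 2)) := by
  have hu : ∀ u : (ZMod 2)ˣ, (u : ZMod 2) = 1 := by decide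
  refine ⟨MulEquiv.ofBijective Matrix.SpecialLinearGroup.toGL
    ⟨Matrix.SpecialLinearGroup.toGL_injective, fun g => ?_⟩⟩
  exact ⟨⟨g, hu (Matrix.GeneralLinearGroup.det g)⟩, Units.ext rfl⟩

theorem two_cases {a n : ℕ} (h1 : a ∣ n) (h2 : n ∣ 2 * a) (ha : 0 < a) : n = a ∨ n = 2 * a := by
  obtain ⟨k, rfl⟩ := h1
  rw [mul_comm 2 a] at h2 ⊢
  have := Nat.dvd_of_mul_dvd_mul_left ha h2
  rcases (Nat.dvd_prime Nat.prime_two).1 this with rfl | rfl <;> simp

theorem main [Nontrivial G] (f : G →* alternatingGroup (Fin 8)) (hf : Function.Injective f)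
    (hO : pPrimeCore 2 G = ⊥) (hO2 : pCore 2 G = ⊥) :
    (∃ n : ℕ, 5 ≤ n ∧ n ≤ 8 ∧ Nonempty (G ≃* alternatingGroup (Fin n))) ∨
    Nonempty (G ≃* Equiv.Perm (Fin 5)) ∨ Nonempty (G ≃* Equiv.Perm (Fin 6)) ∨
      Nonempty (G ≃* GL (Fin 3) (ZMod 2)) := by
  rcases card_le f hf with h | hle
  · exact Or.inl ⟨8, by norm_num, le_rfl, h⟩
  have hd : Nat.card G ∣ 20160 := card_a8 ▸ card_dvd_of_injective f hf
  obtain ⟨N, hN⟩ := Core.exists_isMinNormal (G := G)
  haveI := hN.normal
  obtain ⟨hs, hnc, hc⟩ := minNormal hO hO2 hd hle hN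
  have hC := cent_bot hO hO2 hd hle hN
  have hNd := card_subgroup_dvd_card N
  rcases hc with h | h | h | h | h
  · obtain ⟨e⟩ := S0494.result h
    let a : Equiv.Perm (Fin 5) ≃* MulAut (alternatingGroup (Fin 5)) :=
      MulEquiv.ofBijective _ (Alt.conjNormal_bijective (α := Fin 5) (by simp) (by simp))
    let φ : G →* Equiv.Perm (Fin 5) :=
      ((MulAut.congr e).trans a.symm).toMonoidHom.comp (MulAut.conjNormal (H := N))
    have hφ : Function.Injective φ := by
      refine ((MulAut.congr e).trans a.symm).injective.comp ?_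
      rw [injective_iff_map_eq_one]
      intro g hg
      have : g ∈ centralizer (N : Set G) := fun n hn => by
        have := congrArg (fun σ : MulAut N => (σ ⟨n, hn⟩ : G)) hg
        simp only [MulAut.conjNormal_apply, MulAut.one_apply] at this
        rw [mul_inv_eq_iff_eq_mul] at this
        exact this.symm
      rwa [hC] at this
    have h1 := card_dvd_of_injective φ hφ
    rw [Alt.card_perm_fin] at h1
    rw [h] at hNd
    rcases two_cases hNd h1 (by norm_num) with h2 | h2
    · obtain ⟨e'⟩ := top_equiv (N := N) (by omega)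
      exact Or.inl ⟨5, le_rfl, by norm_num, ⟨e'.trans e⟩⟩
    · exact Or.inr (Or.inl ⟨MulEquiv.ofBijective φ (hφ.bijective_of_nat_card_le (by
        rw [Alt.card_perm_fin, h2]; decide))⟩)
  · have h1 := (seven f hf N (Or.inl h)).2
    haveI : Fact (Nat.Prime 7) := ⟨by norm_num⟩
    obtain ⟨e1⟩ := S0495.result h (ZMod.card 7)
    obtain ⟨e2⟩ := S0255.result (ZMod.card 7) (ZMod.card 2)
    obtain ⟨e3⟩ := sl_gl
    obtain ⟨e'⟩ := top_equiv (N := N) (by rw [h1, card_top])
    exact .inr (.inr (.inr ⟨((e'.trans (e1.trans e2)).trans ((QuotientGroup.quotientMulEquivOfEq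
      (card_eq_one.1 (Lib.Linear.card_center_SL.trans (by simp)))).trans
        QuotientGroup.quotientBot)).trans e3⟩))
  · obtain ⟨φ, hφ⟩ := six ((alternatingGroup (Fin 8)).subtype.comp f)
      ((subtype_injective _).comp hf) N h hC
    have h1 := card_dvd_of_injective φ hφ
    rw [Alt.card_perm_fin] at h1
    rw [h] at hNd
    rcases two_cases hNd h1 (by norm_num) with h2 | h2
    · obtain ⟨e'⟩ := top_equiv (N := N) (by omega)
      obtain ⟨e⟩ := S0497.result h
      exact Or.inl ⟨6, by norm_num, by norm_num, ⟨e'.trans e⟩⟩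
    · exact Or.inr (Or.inr (Or.inl ⟨MulEquiv.ofBijective φ (hφ.bijective_of_nat_card_le (by
        rw [Alt.card_perm_fin, h2]; decide))⟩))
  · have := (seven f hf N (Or.inr h)).1
    omega
  · obtain ⟨e'⟩ := top_equiv (N := N) (by omega)
    obtain ⟨e⟩ := S0984.result h
    exact Or.inl ⟨7, by norm_num, by norm_num, ⟨e'.trans e⟩⟩

/-- Let H be a nontrivial subgroup of GL(4,2) (a group isomorphic to the alternating group of degree 8) whose largest normal 2-subgroup and largest normal subgroup of odd order are both trivial. Then H is isomorphic to an alternating group of degree n for some 5 ≤ n ≤ 8, to the symmetric group of degree 5 or 6, or to GL(3,2). -/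
theorem result (H : Subgroup (GL (Fin 4) (ZMod 2))) (hH : H ≠ ⊥) (hO : Cfsg.pPrimeCore 2 ↥H = ⊥) (hO2 : Cfsg.pCore 2 ↥H = ⊥) :
    (∃ n : ℕ, 5 ≤ n ∧ n ≤ 8 ∧ Nonempty (↥H ≃* alternatingGroup (Fin n))) ∨
    Nonempty (↥H ≃* Equiv.Perm (Fin 5)) ∨ Nonempty (↥H ≃* Equiv.Perm (Fin 6)) ∨ Nonempty (↥H ≃* GL (Fin 3) (ZMod 2)) := by
  obtain ⟨f, hf⟩ := S3103.exists_gl_hom
  haveI : Nontrivial H := (Subgroup.nontrivial_iff_ne_bot H).2 hH
  exact main (f.comp H.subtype) (hf.comp (Subgroup.subtype_injective H)) hO hO2

end Cfsg.Agent.S2553
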