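import Cfsg.Statements.S5787
import Cfsg.Agent.Lib.Asch.SpThree

set_option autoImplicit false
open Cfsg

namespace Cfsg.Agent.S5787



/-- Every maximal subgroup of Sp_4(q), q odd, is of one of the listed geometric types or lies in the residual class. Let F be a finite field of odd order q, f the standard alternating form on F^4 (coordinates Fin 2 ⊕ Fin 2), and H a maximal subgroup of the isometry group Sp_4(F) (inside GL_4(F)). Then H is the intersection with Sp_4(F) of one of: the stabiliser of a non-zero totally isotropic subspace; the stabiliser of a decomposition into two orthogonal non-degenerate 2-spaces; for q ≥ 5, of a decomposition into two totally isotropic 2-spaces; the normaliser of a degree-2 subfield K of the matrix algebra, self-adjoint with f(k v, v) = 0; for q ≥ 5, the normaliser of a degree-2 subfield closed under adjoints but not self-adjoint; a subfield group whose F₀-structure carries a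 non-zero multiple of f, |F| = |F₀|^r with r prime; for q = p prime, the normaliser of an absolutely irreducible symplectic-type 2-group of exponent 4, order 32, centre of order 2 and minus type inside the similarity group of f — or else H lies in the residual class of the symplectic case. -/
theorem result {F : Type*} [Field F] [Fintype F] (hodd : Odd (Fintype.card F)) (H : Subgroup (Matrix.GeneralLinearGroup (Fin 2 ⊕ Fin 2) F)) (hH : Cfsg.Geo.IsMaximalIn (Cfsg.spGL 2 F) H) :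
    (∃ W : Submodule F (Fin 2 ⊕ Fin 2 → F), W ≠ ⊥ ∧ Cfsg.Geo.IsTotallySingularFor (Cfsg.sympForm 2 F) W ∧ H = Cfsg.Geo.subspaceStabilizer W ⊓ Cfsg.spGL 2 F) ∨
    (∃ D : Fin 2 → Submodule F (Fin 2 ⊕ Fin 2 → F), Cfsg.Geo.IsNondegenerateMDecomposition (Cfsg.sympForm 2 F) 2 D ∧ H = Cfsg.Geo.decompositionStabilizer D ⊓ Cfsg.spGL 2 F) ∨
    (5 ≤ Fintype.card F ∧ ∃ D : Fin 2 → Submodule F (Fin 2 ⊕ Fin 2 → F), Cfsg.Geo.IsMDecomposition 2 D ∧ (∀ i, Cfsg.Geo.IsTotallySingularFor (Cfsg.sympForm 2 F) (D i)) ∧ H = Cfsg.Geo.decompositionStabilizer D ⊓ Cfsg.spGL 2 F) ∨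
    (∃ K : Subalgebra F (Matrix (Fin 2 ⊕ Fin 2) (Fin 2 ⊕ Fin 2) F), Cfsg.Geo.IsFieldSubalgebra 2 K ∧ Cfsg.Geo.IsSelfAdjointFor (Cfsg.sympForm 2 F) K ∧ (∀ k ∈ K, ∀ v : (Fin 2 ⊕ Fin 2 → F), (Cfsg.sympForm 2 F) (Matrix.mulVec k v) v = 0) ∧ H = Cfsg.Geo.subalgebraNormalizer K ⊓ Cfsg.spGL 2 F) ∨
    (5 ≤ Fintype.card F ∧ ∃ K : Subalgebra F (Matrix (Fin 2 ⊕ Fin 2) (Fin 2 ⊕ Fin 2) F), Cfsg.Geo.IsFieldSubalgebra 2 K ∧ Cfsg.Geo.IsAdjointClosedFor (Cfsg.sympForm 2 F) K ∧ ¬ Cfsg.Geo.IsSelfAdjointFor (Cfsg.sympForm 2 F) K ∧ H = Cfsg.Geo.subalgebraNormalizer K ⊓ Cfsg.spGL 2 F) ∨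
    (∃ (F₀ : Subfield F) (r : ℕ) (P : Matrix.GeneralLinearGroup (Fin 2 ⊕ Fin 2) F) (ζ : F), r.Prime ∧ Fintype.card F = Nat.card F₀ ^ r ∧ ζ ≠ 0 ∧ Cfsg.Geo.IsFormRationalStructure (Cfsg.sympForm 2 F) F₀ ζ P ∧ H = Cfsg.Geo.subfieldSubgroup F₀ P ⊓ Cfsg.spGL 2 F) ∨
    (∃ (p : ℕ) (R : Subgroup (Matrix.GeneralLinearGroup (Fin 2 ⊕ Fin 2) F)), p.Prime ∧ Fintype.card F = p ∧ Cfsg.Geo.IsSymplecticTypeGroup 2 R ∧ Cfsg.Geo.ActsAbsolutelyIrreducibly (Cfsg.Geo.matrixSet R) ∧ R ≤ Cfsg.Geo.similarityGroup (Cfsg.sympForm 2 F) ∧ Nat.card R = 32 ∧ Nat.card (Subgroup.center R) = 2 ∧ Cfsg.Geo.IsOfMinusType 2 R ∧ H = Cfsg.Geo.subgroupNormalizer R ⊓ Cfsg.spGL 2 F) ∨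
    Cfsg.Geo.InSymplecticResidualClass H := by
  open Cfsg.Lib.Asch in
  have hc : Fintype.card (Fin 2 ⊕ Fin 2) = 4 := by simp
  cases spGLMax le_rfl (fun _ => three_le_of_odd hodd) hH with
  | ts W h1 h2 h3 => exact .inl ⟨W, h1, h2, h3⟩
  | nd W k h1 h2 h3 h4 h =>
    have := Submodule.one_le_finrank_iff.2 h1
    omega
  | dec t k D h1 h2 h3 h4 hD h =>
    rw [hc] at h2 h3
    obtain ⟨rfl, rfl⟩ : t = 2 ∧ k = 1 := by interval_cases t <;> omega
    exact .inr (.inl ⟨D, hD, h⟩)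
  | pair e m D h0 _ he h1 h2 h3 h =>
    obtain rfl : m = 2 := by omega
    exact .inr (.inr (.inl ⟨five_le_of_odd h0 fun h4 => not_max_sp_pair h4 hH he, D, h2, h3, h⟩))
  | fld r K h1 h2 hK h3 h4 h =>
    rw [hc] at h2
    obtain rfl : r = 2 := by
      have := Nat.le_of_dvd (by decide) h2
      have := h1.two_le
      omega
    repeat (first | exact .inl ⟨K, hK, h3, h4, h⟩ | right)
  | ufld K h0 _ h1 h2 h3 h =>
    repeat (first | exact .inl ⟨five_le_of_odd h0 fun h4 => not_max_sp_ufld h4 hH h1 h2 h3, K, h1.fld, h2, h3, h⟩ | right)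
  | tens k l e P f₁ f₂ h0 hI hP h1 h2 h3 h4 hT h5 h6 h =>
    rw [hc] at h3
    nlinarith
  | pow k t e P f₁ h0 h1 h2 h3 h4 h5 h6 h => simpa using (pow_cases' h1 h2 h3 (by simp)).2.2
  | res h => repeat (first | exact h | right)
  | base h =>
    cases h with
    | sub F₀ r P ζ h1 h2 h3 h4 h => repeat (first | exact .inl ⟨F₀, r, P, ζ, h1, h2, h3, h4, h⟩ | right)
    | quad Q h0 h1 h2 h => exact absurd hodd h0
    | extra R k h1 h2 h3 h4 h5 h6 h7 h8 h9 h =>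
      obtain rfl : k = 2 := by have := two_pow_cases h1 (by simp); omega
      repeat (first | exact .inl ⟨_, R, h2, rfl, h4, h5, h6, h7, h8, h9, h⟩ | right)

end Cfsg.Agent.S5787
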