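import Cfsg.Statements.S4278
import Cfsg.Agent.Lib.Oct.Fix
import Cfsg.Agent.Lib.Oct.Chev

set_option autoImplicit false
open Cfsg

namespace Cfsg.Agent.S4278

/-- In the Chevalley group of type G₂ over a finite field of odd order, any two involutions are conjugate. -/
theorem result {F : Type*} [Field F] [Fintype F] (hF : Odd (Fintype.card F)) (s t : ↥(Cfsg.Lie.chevG2.group F)) (hs : orderOf s = 2) (ht : orderOf t = 2) : IsConj s t := by
  obtain ⟨e⟩ := Lib.Oct.nonempty_chev_equiv (F := F)
  have h := fun x (hx : orderOf x = 2) => Lib.Oct.isConj_invol (t := e x) (Lib.Orth.two_ne_zero_of_odd_card hF)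
    (by rw [← map_pow, ← hx, pow_orderOf_eq_one, map_one]) (by rintro h; simp [e.map_eq_one_iff.1 h] at hx)
  simpa using e.symm.toMonoidHom.map_isConj ((h s hs).symm.trans (h t ht))

end Cfsg.Agent.S4278
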