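import Cfsg.Statements.S4279
import Cfsg.Agent.Lib.Oct.Fix
import Cfsg.Agent.Lib.Oct.Chev

set_option autoImplicit false
open Cfsg

namespace Cfsg.Agent.S4279

open Cfsg.Lib Cfsg.Lib.Oct Matrix Subgroup
open scoped MatrixGroups

variable {F : Type*} [Field F]

theorem card_Gam : Nat.card (Gam F) = Nat.card (GL (Fin 2) F) * Nat.card SL(2, F) := by
  rw [← Nat.card_prod]
  refine (Nat.card_eq_of_bijective (fun p => gamD p.1 * gamR p.2) ⟨fun p r h => ?_, fun ⟨⟨A, B⟩, h⟩ => ?_⟩).symm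
  · have h1 : p.1 = r.1 := mul_right_cancel (congrArg (·.1.1) h)
    exact Prod.ext h1 (psi_gamR_injective (congrArg psi (mul_left_cancel (h.trans (congrArg (gamD · * _) h1.symm)))))
  · refine ⟨(A, ⟨(A⁻¹ * B).1, ?_⟩), Subtype.ext (Prod.ext (mul_one _) (Units.ext (A.mul_inv_cancel_left _)))⟩
    rw [Units.val_mul, det_mul, ← mem_Gam.1 h, ← det_mul, A.inv_mul, det_one]

theorem psi_scalar (c : Fˣ) : psi (gamD (GeneralLinearGroup.scalar _ c)) = 1 :=
  psi_eq_one_iff.2 ⟨c, (smul_one_eq_diagonal _).symm, (smul_one_eq_diagonal _).symm⟩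

theorem card_ker : Nat.card (psi (F := F)).ker = Nat.card Fˣ := by
  refine (Nat.card_eq_of_bijective (fun c => ⟨_, psi_scalar c⟩) ⟨fun c d h => ?_, fun ⟨g, h⟩ => ?_⟩).symm
  · exact Units.ext (congrArg (·.1.1.1.1 0 0) h)
  · obtain ⟨c, h1, h2⟩ := psi_eq_one_iff.1 h
    have hc : c ≠ 0 := by rintro rfl; exact g.1.1.ne_zero (by simpa using h1)
    exact ⟨.mk0 c hc, Subtype.ext (Subtype.ext (Prod.ext (Units.ext (h1.trans (smul_one_eq_diagonal _)).symm)
      (Units.ext (h2.trans (smul_one_eq_diagonal _)).symm)))⟩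

theorem card_range [Finite F] : Nat.card (psi (F := F)).range = Nat.card F ^ 2 * (Nat.card F ^ 2 - 1) ^ 2 := by
  have h := (psi (F := F)).ker.card_mul_index
  cases nonempty_fintype F
  rw [index_ker, card_ker, card_Gam, card_GL_field, GLC.card_SL_eq 1, Nat.card_units, Nat.card_eq_fintype_card] at h
  obtain ⟨m, hm⟩ := Nat.exists_eq_add_of_lt (Fintype.one_lt_card (α := F))
  refine Nat.eq_of_mul_eq_mul_left (Nat.sub_pos_of_lt Fintype.one_lt_card) (h.trans ?_)
  rw [Nat.card_eq_fintype_card, hm]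
  have h1 : (1 + m + 1) ^ 2 - (1 + m + 1) = (1 + m + 1) * (1 + m) := Nat.sub_eq_of_eq_add (by ring)
  simp [Fin.prod_univ_two, h1]; ring

/-- The determinant. -/
def dt : Gam F →* Fˣ := GeneralLinearGroup.det.comp ((MonoidHom.fst _ _).comp (Gam F).subtype)

theorem psi_neg : psi (gamL (-1 : SL(2, F))) = psi (gamR (-1)) := G2_ext_cd fun X Y => by
  rw [gamL_smul, gamR_smul, inv_neg_one]; simp

/-- In the Chevalley group G of type G₂ over a finite field F of odd order q, the centralizer of an involution t has order q²(q² − 1)² and contains two elementwise commuting subgroups, each isomorphic to SL(2, F), which meet exactly in the subgroup generated by t and whose join has index 2 in the centralizer. -/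
theorem result {F : Type*} [Field F] [Fintype F] (hF : Odd (Fintype.card F)) (t : ↥(Cfsg.Lie.chevG2.group F)) (ht : orderOf t = 2) : Nat.card (Subgroup.centralizer ({t} : Set ↥(Cfsg.Lie.chevG2.group F))) = Fintype.card F ^ 2 * (Fintype.card F ^ 2 - 1) ^ 2 ∧ ∃ L₁ L₂ : Subgroup ↥(Cfsg.Lie.chevG2.group F), Nonempty (L₁ ≃* Matrix.SpecialLinearGroup (Fin 2) F) ∧ Nonempty (L₂ ≃* Matrix.SpecialLinearGroup (Fin 2) F) ∧ (∀ x ∈ L₁, ∀ y ∈ L₂, x * y = y * x) ∧ L₁ ⊓ L₂ = Subgroup.zpowers t ∧ L₁ ⊔ L₂ ≤ Subgroup.centralizer ({t} : Set ↥(Cfsg.Lie.chevG2.group F)) ∧ (L₁ ⊔ L₂).relIndex (Subgroup.centralizer ({t} : Set ↥(Cfsg.Lie.chevG2.group F))) = 2 := by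
  obtain ⟨e⟩ := nonempty_chev_equiv (F := F)
  have h2 := Orth.two_ne_zero_of_odd_card hF
  obtain ⟨g, hg⟩ := isConj_iff.1 (isConj_invol (t := e t) h2
    (by rw [← map_pow, ← ht, pow_orderOf_eq_one, map_one]) (by rintro h; simp [e.map_eq_one_iff.1 h] at ht))
  let ψ := (MulAut.conj g).trans e.symm
  let Ψ := ψ.toMonoidHom.comp psi
  have h1 : Ψ (gamR (-1)) = t := e.symm_apply_eq.2 hg
  have h3 : centralizer {t} = Ψ.range := by
    ext x
    obtain ⟨x, rfl⟩ := ψ.surjective x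
    rw [mem_centralizer_singleton_iff, ← h1]
    refine ⟨fun h => ?_, ?_⟩
    · obtain ⟨y, rfl⟩ := exists_eq_psi_of_commute (A := -1) (g := x)
        (by simpa [det_fin_two, ← neg_add', one_add_one_eq_two, ofNat_apply] using h2) (ψ.injective (by simpa [Ψ] using h))
      exact ⟨y, rfl⟩
    · rintro ⟨y, hy⟩
      rw [← hy, ← map_mul, ← map_mul]
      exact congrArg Ψ (Subtype.ext (Prod.ext ((mul_one _).trans (one_mul _).symm)
        (Units.ext ((mul_neg_one _).trans (neg_one_mul _).symm))))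
  have h4 : ∀ {x}, Ψ x = 1 ↔ psi x = 1 := ψ.map_eq_one_iff
  rw [h3]
  refine ⟨?_, (Ψ.comp gamL).range, (Ψ.comp gamR).range,
    ⟨(MonoidHom.ofInjective (ψ.injective.comp psi_gamL_injective)).symm⟩,
    ⟨(MonoidHom.ofInjective (ψ.injective.comp psi_gamR_injective)).symm⟩, ?_, le_antisymm ?_ ?_,
    sup_le (fun _ ⟨_, h⟩ => ⟨_, h⟩) fun _ ⟨_, h⟩ => ⟨_, h⟩, ?_⟩
  · rw [MonoidHom.range_comp, card_map_of_injective ψ.injective, card_range, Nat.card_eq_fintype_card]
  · rintro _ ⟨A, rfl⟩ _ ⟨B, rfl⟩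
    exact (gamL_comm A B).map Ψ
  · rintro _ ⟨⟨A, rfl⟩, B, h⟩
    obtain ⟨c, h5, h6⟩ := psi_eq_one_iff.1 (h4.1 ((map_mul Ψ (gamR B) (gamL A⁻¹)).trans (by
      rw [map_inv, map_inv]; exact mul_inv_eq_one.2 h)))
    have h7 : B.1 = c • 1 := (mul_one _).symm.trans h6
    have h8 := B.2
    rw [h7, det_smul, det_one, mul_one, Fintype.card_fin, sq_eq_one_iff] at h8
    rw [← h, ← h1]
    rcases h8 with rfl | rfl
    · rw [show B = 1 from Subtype.ext (by simpa using h7), map_one]; exact one_mem _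
    · rw [show B = -1 from Subtype.ext (by simpa using h7)]; exact mem_zpowers _
  · exact (zpowers_le_of_mem ⟨⟨-1, (congrArg ψ psi_neg).trans h1⟩, -1, h1⟩)
  have h5 : ((Ψ.comp gamL).range ⊔ (Ψ.comp gamR).range).comap Ψ = (powMonoidHom 2).range.comap dt := by
    refine le_antisymm ((comap_mono (K' := ((powMonoidHom 2).range.comap dt).map Ψ) (sup_le ?_ ?_)).trans ?_) ?_
    · rintro _ ⟨A, rfl⟩
      exact ⟨gamL A, ⟨1, Units.ext ((one_pow 2).trans A.2.symm)⟩, rfl⟩
    · rintro _ ⟨A, rfl⟩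
      exact ⟨gamR A, ⟨1, Units.ext ((one_pow 2).trans det_one.symm)⟩, rfl⟩
    · refine (comap_map_eq _ _).le.trans (sup_le le_rfl fun x hx => ?_)
      obtain ⟨c, h5, -⟩ := psi_eq_one_iff.1 (h4.1 hx)
      have hc : c ≠ 0 := by rintro rfl; exact x.1.1.ne_zero (by simpa using h5)
      exact ⟨.mk0 c hc, Units.ext (by simp [dt, h5])⟩
    · rintro ⟨⟨A, B⟩, h⟩ ⟨c, hc⟩
      have hc' : A.1.det = c ^ 2 := (congrArg Units.val hc).symm
      have : (⟨(A, B), h⟩ : Gam F) = gamD (GeneralLinearGroup.scalar _ c) *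
          (gamL ⟨(c⁻¹).1 • A.1, by simp [hc']⟩ * gamR ⟨(c⁻¹).1 • B.1, by simp [← mem_Gam.1 h, hc']⟩) := by
        refine Subtype.ext (Prod.ext (Units.ext ?_) (Units.ext ?_))
        · change _ = diagonal (fun _ => c.1) * (_ • _ * 1)
          simp [← smul_one_eq_diagonal]
        · change _ = diagonal (fun _ => c.1) * (1 * _ • _)
          simp [← smul_one_eq_diagonal]
      rw [mem_comap, this, map_mul, map_mul, h4.2 (psi_scalar c), one_mul]
      exact mul_mem_sup ⟨_, rfl⟩ ⟨_, rfl⟩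
  rw [MonoidHom.range_eq_map Ψ, ← relIndex_comap, relIndex_top_right, h5, index_comap_of_surjective _ fun c =>
    let ⟨A, hA⟩ := GeneralLinearGroup.det_surjective (n := Fin 2) c; ⟨gamD A, hA⟩,
    IsCyclic.index_powMonoidHom_range, Nat.card_units, Nat.card_eq_fintype_card, Nat.gcd_eq_right (hF.tsub_odd odd_one).two_dvd]

end Cfsg.Agent.S4279
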