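import Cfsg.Statements.S1248
import Cfsg.Agent.Lib.Unitary.U3

set_option autoImplicit false
open Cfsg

namespace Cfsg.Agent.S1248

open Cfsg.Lib.Unitary Subgroup
open scoped commutatorElement

theorem aux {F : Type*} [Field F] [CharP F 2] {σ : F →+* F} (h : IsBar 4 σ) {S : Type*} [Group S]
    (e : S ≃* Heis h.invol) : Nat.card S = 64 ∧ IsKleinFour (center S) ∧
      center S = closure {x : S | orderOf x = 2} ∧ center S = commutator S ∧
      Nat.card (S ⧸ center S) = 16 ∧ ∀ x : S ⧸ center S, x ^ 2 = 1 := by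
  have hz : ∀ a : S, a ∈ center S ↔ (e a).x = 0 := fun a =>
    (mem_center_equiv e).symm.trans h.mem_center_heis
  have hsq : ∀ a : S, a ^ 2 = 1 ↔ a ∈ center S := fun a => by
    rw [hz, ← e.map_eq_one_iff, map_pow, sq, Heis.eq_one_iff]
    simp [CharTwo.add_self_eq_zero]
  have h1 : Nat.card S = 64 := by rw [Nat.card_congr e.toEquiv, h.card_heis]; rfl
  have h2 : Nat.card (center S) = 4 := by
    rw [Nat.card_congr (centerCongr e).toEquiv, h.card_center_heis]
  have : Finite S := Nat.finite_of_card_ne_zero (by omega)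
  have : Nontrivial (center S) := Finite.one_lt_card_iff_nontrivial.1 (by omega)
  refine ⟨h1, ⟨h2, (Monoid.exponent_eq_prime_iff Nat.prime_two).2 fun g hg => orderOf_eq_prime
    (Subtype.ext ((hsq _).2 g.2)) hg⟩, le_antisymm (fun a ha => ?_) ((closure_le _).2 fun a ha => ?_),
    le_antisymm (fun a ha => ?_) ?_, ?_, fun x => ?_⟩
  · rcases eq_or_ne a 1 with rfl | h3
    · exact one_mem _
    · exact subset_closure (orderOf_eq_prime ((hsq a).2 ha) h3)
  · exact (hsq a).1 (by rw [← show orderOf a = 2 from ha, pow_orderOf_eq_one])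
  · have h3 := (e a).rel
    rw [(hz a).1 ha, zero_mul, CharTwo.add_eq_zero] at h3
    obtain ⟨c, hc⟩ := h.exists_trace_eq h3.symm
    obtain ⟨u, hu⟩ := h.exists_heis c
    obtain ⟨v, hv⟩ := h.exists_heis 1
    have : a = ⁅e.symm u, e.symm v⁆ := e.injective (by
      rw [map_commutatorElement, e.apply_symm_apply, e.apply_symm_apply, commutatorElement_def]
      ext
      · simp [(hz a).1 ha]
      · have h4 := u.rel
        have h5 := v.rel
        simp only [Heis.mul_y, Heis.mul_x, Heis.inv_x, Heis.inv_y, hu, hv, map_neg, map_one] at *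
        linear_combination -hc - h4 - h5 + (σ c) * CharTwo.two_eq_zero (R := F))
    exact this ▸ commutator_mem_commutator (mem_top _) (mem_top _)
  · rw [commutator_def, commutator_le]
    intro a _ b _
    simp [hz, commutatorElement_def]
  · have := card_eq_card_quotient_mul_card_subgroup (center S)
    rw [h1, h2] at this
    omega
  · obtain ⟨a, rfl⟩ := QuotientGroup.mk_surjective x
    rw [← QuotientGroup.mk_pow, QuotientGroup.eq_one_iff, hz]
    simp [CharTwo.two_eq_zero]

/-- Let F be a field with 16 elements and S a Sylow 2-subgroup of PSU(3) over F (the unitary group U₃(4)). Then |S| = 64; the centre Z(S) is a Klein four-group and coincides with the subgroup generated by the involutions of S and with the derived subgroup; and every element of S ⧸ Z(S) squares to the identity, S ⧸ Z(S) having order 16. -/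
theorem result {F : Type*} [Field F] [Fintype F] (hF : Fintype.card F = 16) (S : Sylow 2 (Cfsg.PSU 3 F 4)) : Nat.card S = 64 ∧ IsKleinFour (Subgroup.center (S : Subgroup (Cfsg.PSU 3 F 4))) ∧ Subgroup.center (S : Subgroup (Cfsg.PSU 3 F 4)) = Subgroup.closure {x : (S : Subgroup (Cfsg.PSU 3 F 4)) | orderOf x = 2} ∧ Subgroup.center (S : Subgroup (Cfsg.PSU 3 F 4)) = commutator (S : Subgroup (Cfsg.PSU 3 F 4)) ∧ Nat.card ((S : Subgroup (Cfsg.PSU 3 F 4)) ⧸ Subgroup.center (S : Subgroup (Cfsg.PSU 3 F 4))) = 16 ∧ ∀ x : (S : Subgroup (Cfsg.PSU 3 F 4)) ⧸ Subgroup.center (S : Subgroup (Cfsg.PSU 3 F 4)), x ^ 2 = 1 := by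
  obtain ⟨σ, h⟩ := exists_isBar (q := 4) hF
  have : CharP F 2 := (CharP.charP_iff_prime_eq_zero Nat.prime_two).mpr
    (eq_zero_of_pow_eq_zero (n := 2) (by have := h.cast_q; push_cast at this ⊢; linear_combination this))
  obtain ⟨e⟩ := h.nonempty_sylow_PSU_equiv 2 S
  exact aux h e

end Cfsg.Agent.S1248
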