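import Cfsg.Statements.S3269
import Cfsg.Agent.Lib.Inv.ZStarElt
import Cfsg.Agent.Lib.Quat.Basic
import Cfsg.Agent.Lib.BG.Hall
import Cfsg.Agent.Lib.Transfer.Fusion
import Cfsg.Agent.Lib.Core.PPrimeCore

set_option autoImplicit false
open Cfsg

namespace Cfsg.Agent.S3269

open Subgroup Cfsg.Lib Cfsg.Lib.BG
open scoped commutatorElement IsMulCommutative Cfsg.Lib.Transfer

/-- Let G be a finite group whose Sylow 2-subgroup S is an internal direct product Q × R with Q generalized quaternion (of order at least 8) and R a subgroup all of whose involutions are central in R. Then G is not simple. In particular no finite simple group has a Sylow 2-subgroup that is a direct product of one or more generalized quaternion groups. -/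
theorem result {G : Type*} [Group G] [Finite G]
    (S : Sylow 2 G) (Q R : Subgroup G) (hQR : Cfsg.IsInternalDirectProduct Q R (S : Subgroup G))
    (n : ℕ) (hn : 1 ≤ n) (eQ : ↥Q ≃* QuaternionGroup (2 ^ n))
    (hR : ∀ r ∈ R, orderOf r = 2 → ∀ s ∈ R, r * s = s * r) :
    ¬ IsSimpleGroup G := by
  classical
  intro hG
  obtain ⟨hQ, hRS, hc, hi, hs⟩ := hQR
  obtain ⟨a, b, h⟩ := Quat.exists_qgen (by positivity) eQ
  have hm : 2 ≤ 2 ^ n := Nat.le_self_pow (by omega) 2
  set z := a ^ 2 ^ n with hz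
  have hRQ : R ≤ 𝐂(Q) := fun r hr q hq => hc q hq r hr
  have hmem : ∀ x ∈ (S : Subgroup G), ∃ q ∈ Q, ∃ r ∈ R, q * r = x := fun x hx =>
    (mem_sup_left_norm (norm_of_cent hRQ)).1 (hs ▸ hx)
  have hcen : ∀ x ∈ (S : Subgroup G), x ^ 2 = 1 → x ∈ 𝐂((S : Subgroup G)) := by
    intro x hx h2
    obtain ⟨q, hq, r, hr, rfl⟩ := hmem x hx
    rw [Commute.mul_pow (hc q hq r hr)] at h2
    have h3 : q ^ 2 ∈ Q ⊓ R := mem_inf.2 ⟨pow_mem hq 2, by
      rw [eq_inv_of_mul_eq_one_left h2]; exact inv_mem (pow_mem hr 2)⟩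
    rw [hi, mem_bot] at h3
    rw [h3, one_mul] at h2
    rw [← hs]
    refine mul_mem (le_centralizer_iff.1 (sup_le ?_ ?_) (mem_zpowers q))
      (le_centralizer_iff.1 (sup_le ?_ ?_) (mem_zpowers r)) <;>
      rw [le_centralizer_iff, zpowers_le]
    · rcases h.eq_of_sq_eq_one hq h3 with e | e <;> rw [e]
      exacts [one_mem _, fun y hy => (h.commute_z hy).symm]
    · exact fun y hy => (hc q hq y hy).symm
    · exact hRQ hr
    · by_cases h1 : r = 1
      · rw [h1]; exact one_mem _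
      · exact fun y hy => (hR r hr (orderOf_eq_prime h2 h1) y hy).symm
  have hwc : IsWeaklyClosed (S : Subgroup G) (S : Subgroup G) :=
    ⟨le_rfl, fun g hg => eq_of_le_of_card_ge hg (card_map_of_injective (MulAut.conj g).injective).ge⟩
  have hfus : ∀ x ∈ (S : Subgroup G), x ^ 2 = 1 → ∀ g : G, g * x * g⁻¹ ∈ (S : Subgroup G) →
      ∃ u ∈ 𝐍((S : Subgroup G)), u * x * u⁻¹ = g * x * g⁻¹ := fun x hx h2 g hg =>
    Transfer.exists_normalizer_conj_eq_of_isWeaklyClosed' hwc (hcen x hx h2)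
      (hcen _ hg (by rw [conj_pow, h2, mul_one, mul_inv_cancel]))
  have hzQ' : z ∈ ⁅Q, Q⁆ := by
    rw [h.commutator_eq, hz, ← Nat.sub_add_cancel hn, Nat.pow_succ', pow_mul]
    exact pow_mem (mem_zpowers _) _
  have hSQ : (S : Subgroup G) ≤ 𝐍(Q) := hs ▸ sup_le le_normalizer (norm_of_cent hRQ)
  have hSR : (S : Subgroup G) ≤ 𝐍(R) :=
    hs ▸ sup_le (norm_of_cent (le_centralizer_iff.1 hRQ)) le_normalizer
  have key : ∀ x ∈ (S : Subgroup G), IsConj z x → x ≠ z → x ∈ R := by
    intro x hx hzx hne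
    obtain ⟨g, rfl⟩ := isConj_iff.1 hzx
    obtain ⟨u, hu, e⟩ := hfus z (hQ h.z_mem) h.z_sq g hx
    rw [← e] at hne ⊢
    by_contra hxR
    have h1 : u ⋆ Q ≤ S := (Transfer.conj_mono u hQ).trans (conj_eq_of_norm hu).le
    have h2 : u ⋆ Q ⊓ R = ⊥ := by
      by_contra h0
      obtain ⟨y, hy⟩ := exists_prime_orderOf_dvd_card' 2 (pgroup_dvd_card
        (pgroup_of_le S.isPGroup' (inf_le_left.trans h1)) h0)
      have := h.eq_z_of_orderOf (Transfer.mem_conj.1 y.2.1) (by
        rw [← orderOf_coe] at hy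
        rw [← hy]
        simpa using (SemiconjBy.conj_mk u⁻¹ (y : G)).orderOf_eq.symm)
      refine hxR ?_
      rw [← hz] at this
      rw [← this]
      simpa [mul_assoc] using y.2.2
    have h3 : u ⋆ Q ≤ 𝐂(R) := cent_of_norm_of_disjoint (h1.trans hSR) (hRS.trans (by
      rw [← conj_eq_of_norm hu, ← Transfer.conj_normalizer]; exact Transfer.conj_mono u hSQ)) h2
    have h4 : ⁅u ⋆ Q, u ⋆ Q⁆ ≤ Q := commutator_le.2 fun y hy y' hy' => by
      obtain ⟨q, hq, r, hr, rfl⟩ := hmem y (h1 hy)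
      obtain ⟨q', hq', r', hr', rfl⟩ := hmem y' (h1 hy')
      have h5 : Commute r (q' * r') := h3 hy' r hr
      have h6 : Commute r' (q * r) := h3 hy r' hr'
      have h7 : Commute q r' := hc q hq r' hr'
      have : ⁅q * r, q' * r'⁆ = ⁅q, q'⁆ := by
        rw [commutatorElement_def, commutatorElement_def, mul_assoc q r, h5.eq]
        calc _ = q * q' * (r' * q⁻¹) * r'⁻¹ * q'⁻¹ := by group
          _ = _ := by rw [← h7.inv_left.eq]; group
      rw [this]
      exact commutator_le_self Q (commutator_mem_commutator hq hq')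
    have h5 : u * z * u⁻¹ ∈ Q := h4 (by
      rw [← map_commutator]; exact Transfer.conj_mem_conj.2 hzQ')
    refine hne (h.eq_z_of_orderOf h5 ?_)
    rw [← h.orderOf_z]
    exact (SemiconjBy.conj_mk u z).orderOf_eq.symm
  have := abelian_center (S : Subgroup G)
  have := Fintype.ofFinite ↥𝐙((S : Subgroup G))
  let X : Finset ↥𝐙((S : Subgroup G)) := Finset.univ.filter fun x => IsConj z x
  let z' : ↥𝐙((S : Subgroup G)) := ⟨z, hQ h.z_mem, hcen z (hQ h.z_mem) h.z_sq⟩
  set w := ∏ x ∈ X, x with hw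
  have hw1 : (w : G) ≠ 1 := by
    intro e
    have h1 : z' ∈ X := Finset.mem_filter.2 ⟨Finset.mem_univ _, IsConj.refl _⟩
    have h2 : ∏ x ∈ X.erase z', x ∈ R.subgroupOf _ := prod_mem fun x hx =>
      key x x.2.1 (Finset.mem_filter.1 (Finset.mem_of_mem_erase hx)).2
        fun e => Finset.ne_of_mem_erase hx (Subtype.ext e)
    rw [hw, ← Finset.mul_prod_erase X _ h1, coe_mul] at e
    have h3 : z ∈ Q ⊓ R := mem_inf.2 ⟨h.z_mem, by
      rw [show z = _ from eq_inv_of_mul_eq_one_left e]; exact inv_mem h2⟩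
    rw [hi, mem_bot] at h3
    exact h.z_ne_one h3
  have hw2 : (w : G) ^ 2 = 1 := by
    rw [← coe_pow, hw, ← Finset.prod_pow, Finset.prod_eq_one, coe_one]
    intro x hx
    obtain ⟨g, hg⟩ := isConj_iff.1 (Finset.mem_filter.1 hx).2
    exact Subtype.ext (by rw [coe_pow, ← hg, conj_pow, h.z_sq, mul_one, mul_inv_cancel, coe_one])
  have hiso : Inv.IsoElt 2 (w : G) := by
    refine Inv.isoElt_of_sylow S w.2.1 fun g hg => ?_
    obtain ⟨u, hu, e⟩ := hfus w w.2.1 hw2 g hg
    rw [← e]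
    let φ := normalizerMonoidHom 𝐙((S : Subgroup G)) ⟨u, norm_center le_rfl hu⟩
    have hφ : ∀ x, (φ x : G) = u * x * u⁻¹ := fun x => rfl
    rw [← hφ, hw, map_prod]
    refine congrArg _ (Finset.prod_equiv φ.toEquiv (fun x => ?_) fun x _ => rfl)
    simp only [X, Finset.mem_filter, Finset.mem_univ, true_and, MulEquiv.toEquiv_eq_coe,
      EquivLike.coe_coe, hφ]
    exact ⟨fun h => h.trans (isConj_iff.2 ⟨u, rfl⟩), fun h => h.trans (isConj_iff.2 ⟨u, rfl⟩).symm⟩
  rcases (inferInstance : (oddCore G).Normal).eq_bot_or_eq_top with h1 | h1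
  · have h2 : (w : G) ∈ center G := mem_center_iff.2 fun g => by
      have := hiso.zstar g
      rw [h1, mem_bot, mul_inv_eq_one, mul_inv_eq_iff_eq_mul] at this
      exact this.symm
    rcases (inferInstance : (center G).Normal).eq_bot_or_eq_top with h3 | h3
    · rw [h3] at h2; exact hw1 h2
    · rcases h.eq_of_central hm h.mem_a (fun y _ => (mem_center_iff.1 (h3 ▸ mem_top a) y).symm)
        with e | e
      · exact h.a_sq_ne_one hm (by rw [e, one_pow])
      · exact h.a_sq_ne_one hm (by rw [e, h.z_sq])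
  · have := Core.odd_card_oddCore G
    rw [h1, card_top] at this
    exact this.not_two_dvd_nat (h.orderOf_z ▸ orderOf_dvd_natCard _)

end Cfsg.Agent.S3269
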