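import Cfsg.Statements.S3225
import Cfsg.Agent.Lib.Inv.Misc
import Cfsg.Agent.Lib.Transfer.Fusion

set_option autoImplicit false
open Cfsg

namespace Cfsg.Agent.S3225
open Cfsg.Lib.Inv

open Subgroup Cfsg.Lib Cfsg.Lib.Inv Cfsg.Lib.Transfer

/-- Let G be a finite group of even order with no subgroup of index 2, S a Sylow 2-subgroup of G and M a subgroup of index 2 in S such that, for some n ≥ 1, every element of S outside M has order greater than 2^(n−1). Then every element of S of order 2ⁿ is conjugate in G to an element of M. -/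
theorem result {G : Type*} [Group G] [Finite G] (hev : Even (Nat.card G))
    (hG : ∀ H : Subgroup G, H.index ≠ 2) (S : Sylow 2 G) (M : Subgroup G) (hMS : M ≤ (S : Subgroup G)) (hM : M.relIndex (S : Subgroup G) = 2)
    (n : ℕ) (hn : 1 ≤ n) (hord : ∀ y ∈ (S : Subgroup G), y ∉ M → 2 ^ (n - 1) < orderOf y)
    (x : G) (hx : x ∈ (S : Subgroup G)) (hxn : orderOf x = 2 ^ n) :
    ∃ g : G, g * x * g⁻¹ ∈ M := by
  by_contra hcon
  push Not at hcon
  haveI : (M.subgroupOf (S : Subgroup G)).Normal := normal_of_index_eq_two hM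
  have hc : Nat.card ((S : Subgroup G) ⧸ M.subgroupOf (S : Subgroup G)) = 2 := hM
  haveI : IsCyclic ((S : Subgroup G) ⧸ M.subgroupOf (S : Subgroup G)) := isCyclic_of_prime_card hc
  haveI : IsMulCommutative ((S : Subgroup G) ⧸ M.subgroupOf (S : Subgroup G)) := inferInstance
  have hxM : x ∉ M := by simpa using hcon 1
  have key : ∀ (m : ℕ) (a : G), a * x ^ m * a⁻¹ ∈ (S : Subgroup G) →
      (a * x ^ m * a⁻¹) * (x ^ m)⁻¹ ∈ M := by
    intro m a ha
    rcases Nat.even_or_odd m with ⟨k, rfl⟩ | hm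
    · have h0 : (k + k) * 2 ^ (n - 1) = 2 ^ n * k := by
        obtain ⟨j, rfl⟩ := Nat.exists_eq_add_of_le' hn
        rw [Nat.add_sub_cancel]; ring
      have h1 : (x ^ (k + k)) ^ 2 ^ (n - 1) = 1 := by
        rw [← pow_mul, h0, pow_mul, ← hxn, pow_orderOf_eq_one, one_pow]
      have h2 : ∀ y ∈ (S : Subgroup G), y ^ 2 ^ (n - 1) = 1 → y ∈ M := fun y hy h => by
        by_contra hyM
        exact absurd (Nat.le_of_dvd (by positivity) (orderOf_dvd_of_pow_eq_one h))
          (not_le.2 (hord y hy hyM))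
      exact mul_mem (h2 _ ha (by rw [conj_pow, h1, mul_one, mul_inv_cancel]))
        (inv_mem (h2 _ (pow_mem hx _) h1))
    · have hco : m.Coprime (orderOf x) := by
        rw [hxn]; exact (Nat.coprime_two_right.2 hm).pow_right n
      obtain ⟨k, hk⟩ := exists_pow_eq_self_of_coprime hco
      have h3 : ∀ g : G, g * x ^ m * g⁻¹ ∉ M := fun g h => hcon g (by
        have := pow_mem h k
        rwa [conj_pow, hk] at this)
      have h4 := h3 1
      rw [one_mul, inv_one, mul_one] at h4
      exact (mul_mem_iff_of_index_two hM (a := ⟨_, ha⟩) (b := ⟨_, inv_mem (pow_mem hx m)⟩)).2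
        (iff_of_false (h3 a) fun h => h4 (inv_mem_iff.1 h))
  have hx2 : x ^ 2 ^ n = 1 := by rw [← hxn, pow_orderOf_eq_one]
  obtain ⟨V, hV⟩ := exists_hom_ne_one_of_controlled (p := 2) S.not_dvd_index hx hxM ⟨n, hx2⟩ key
  refine hG V.ker ?_
  rw [index_ker]
  have h1 : Nat.card V.range ∣ 2 := by
    have := card_subgroup_dvd_card V.range
    rwa [hc] at this
  rcases (Nat.dvd_prime Nat.prime_two).1 h1 with h | h
  · have h2 : V x ∈ V.range := MonoidHom.mem_range.2 ⟨x, rfl⟩
    rw [card_eq_one.1 h] at h2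
    exact absurd (mem_bot.1 h2) hV
  · exact h

end Cfsg.Agent.S3225
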