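import Cfsg.Statements.S4402
import Cfsg.Agent.Lib.FGS.D8X

set_option autoImplicit false
open Cfsg

namespace Cfsg.Agent.S4402

open Subgroup Cfsg.Lib Cfsg.Lib.D8W

/-- Let S be a finite 2-group of sectional 2-rank at most 4 and P a proper subgroup isomorphic to the wreath product of the dihedral group of order 8 by a group of order 2 (equivalently, to a Sylow 2-subgroup of the symmetric group of degree 8; order 128). Then Z(S) = Z(P) has order 2, P has index 2 in its normalizer N_S(P), N_S(P)/Z(S) is again isomorphic to that wreath product, and every elementary abelian subgroup V of order 16 that is normal in P satisfies N_S(V) = P. -/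
theorem result {S : Type*} [Group S] [Finite S] (h2 : IsPGroup 2 S) (hr : Cfsg.SectionalPRankLE 2 4 S)
    (P : Subgroup S) (hPlt : P ≠ ⊤) (hP : ∃ T : Sylow 2 (Equiv.Perm (Fin 8)), Nonempty (↥P ≃* ↥(T : Subgroup (Equiv.Perm (Fin 8))))) :
    Subgroup.center S = (Subgroup.center ↥P).map P.subtype ∧ Nat.card ↥(Subgroup.center S) = 2 ∧
    P.relIndex (Subgroup.normalizer (P : Set S)) = 2 ∧
    (∃ (_ : ((Subgroup.center S).subgroupOf (Subgroup.normalizer (P : Set S))).Normal) (T : Sylow 2 (Equiv.Perm (Fin 8))),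
      Nonempty (↥(Subgroup.normalizer (P : Set S)) ⧸ (Subgroup.center S).subgroupOf (Subgroup.normalizer (P : Set S)) ≃*
        ↥(T : Subgroup (Equiv.Perm (Fin 8))))) ∧
    ∀ V : Subgroup S, V ≤ P → (∀ g ∈ P, ∀ v ∈ V, g * v * g⁻¹ ∈ V) → Cfsg.IsElementaryAbelian 2 V → Nat.card ↥V = 16 →
      Subgroup.normalizer (V : Set S) = P := by
  obtain ⟨T, ⟨e0⟩⟩ := hP
  let e : P ≃* W := e0.trans (equiv_sylow T).some.symm
  let ι : W →* S := P.subtype.comp e.symm.toMonoidHom
  have hι : Function.Injective ι := P.subtype_injective.comp e.symm.injective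
  have hr' : ι.range = P := by
    ext x
    exact ⟨by rintro ⟨w, rfl⟩; exact (e.symm w).2, fun hx => ⟨e ⟨x, hx⟩, by simp [ι]⟩⟩
  let c : normalizer (P : Set S) →* MulAut W := (MulAut.congr e).toMonoidHom.comp P.normalizerMonoidHom
  have hc : ∀ (n : normalizer (P : Set S)) (w : W), ι (c n w) = n * ι w * (n : S)⁻¹ := fun n w => by
    simp [c, ι, normalizerMonoidHom]; rfl
  have sr := FGS.sr_top hr
  have nV : ∀ i, normalizer (((V i).map ι : Subgroup S) : Set S) = P := fun i => by
    have le : P ≤ normalizer (((V i).map ι : Subgroup S) : Set S) := by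
      rw [← hr']
      rintro _ ⟨g, rfl⟩
      refine mem_normalizer_fintype ?_
      rintro _ ⟨v, hv, rfl⟩
      exact ⟨_, V_conj i v hv g, by simp⟩
    by_contra hne
    obtain ⟨x, hx, hxP, hx2, hxN⟩ := PGroup.exists_mem_normalizer_of_lt (h2.to_subgroup _) (lt_of_le_of_ne le (Ne.symm hne))
    refine hxP (hr' ▸ no_fix' sr hι (hc ⟨x, hxN⟩) ((fix_or_swap _).resolve_right fun h => ?_) (hr'.symm ▸ hx2))
    have h1 : ∀ w ∈ V i, w ∈ V (!i) := fun w hw => by
      rw [← h, ← mem_map_iff_mem hι, hc]
      exact (mem_normalizer_iff.1 hx _).1 ⟨w, hw, rfl⟩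
    revert h1; cases i <;> decide +kernel
  have fx : ∀ n : normalizer (P : Set S), (∀ i w, c n w ∈ V i ↔ w ∈ V i) → (n : S) ∈ P := fun n h => by
    refine (nV false).le (mem_normalizer_fintype ?_)
    rintro _ ⟨v, hv, rfl⟩
    exact ⟨_, (h _ _).2 hv, hc _ _⟩
  have zs : ∀ x ∈ center S, x = 1 ∨ x = ι z := fun x hx => by
    have : x ∈ ι.range := by rw [hr', ← nV false]; exact center_le_normalizer _ hx
    obtain ⟨w, rfl⟩ := this
    exact ((central w).1 fun g => hι (by rw [map_mul, map_mul, mem_center_iff.1 hx])).imp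
      (fun h => by rw [h, map_one]) fun h => by rw [h]
  have z1 : ι z ≠ 1 := fun h => absurd (hι (h.trans (map_one ι).symm)) (by decide)
  have zm : ι z ∈ center S := by
    have : Nontrivial S := ⟨_, _, z1⟩
    have := h2.center_nontrivial
    obtain ⟨⟨x, hx⟩, h1⟩ := exists_ne (1 : center S)
    exact (zs x hx).resolve_left (fun h => h1 (Subtype.ext h)) ▸ hx
  have zc : Nat.card (center S) = 2 :=
    (Nat.card_eq_two_iff' 1).2 ⟨⟨_, zm⟩, fun h => z1 (congrArg Subtype.val h), fun y hy =>
      Subtype.ext ((zs _ y.2).resolve_left fun h => hy (Subtype.ext h))⟩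
  have ri : P.relIndex (normalizer (P : Set S)) = 2 := by
    obtain ⟨x, -, hxP, -, hxN⟩ := PGroup.exists_mem_normalizer_of_lt (h2.to_subgroup ⊤) (lt_top_iff_ne_top.2 hPlt)
    refine relIndex_eq_two_iff_exists_notMem_and.2 ⟨x, hxN, hxP, fun b hb => ?_⟩
    rcases fix_or_swap (c ⟨b, hb⟩) with h | h
    · exact .inr (fx _ h)
    · refine .inl (fx (⟨b, hb⟩ * ⟨x, hxN⟩) fun i w => ?_)
      rw [map_mul, MulAut.mul_apply, h, ((fix_or_swap (c ⟨x, hxN⟩)).resolve_left fun h => hxP (fx _ h)), Bool.not_not]
  refine ⟨le_antisymm (fun x hx => ?_) ?_, zc, ri, ?_, fun U hU hn hE h16 => ?_⟩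
  · have : x ∈ P := by rw [← nV false]; exact center_le_normalizer _ hx
    exact ⟨⟨x, this⟩, mem_center_iff.2 fun g => Subtype.ext (mem_center_iff.1 hx g), rfl⟩
  · rintro _ ⟨x, hx, rfl⟩
    have : P.subtype x = ι (e x) := by simp [ι]
    rw [this]
    rcases (central (e x)).1 (fun g => by
      obtain ⟨g, rfl⟩ := e.surjective g
      rw [← map_mul, ← map_mul, mem_center_iff.1 hx]) with h | h <;> rw [h]
    exacts [map_one ι ▸ one_mem _, zm]
  · have mX : ∀ (α : MulAut W) (x : X), α x.1 ∉ Q ∧ α x.1 * α x.1 = 1 := fun α x =>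
      ⟨fun h => x.2.1 (by simpa using map_Q α.symm h), by rw [← map_mul, x.2.2, map_one]⟩
    let f0 : MulAut W →* Equiv.Perm X :=
      { toFun := fun α => ⟨fun x => ⟨α x.1, mX α x⟩, fun x => ⟨α.symm x.1, mX α.symm x⟩,
          fun x => Subtype.ext (α.symm_apply_apply _), fun x => Subtype.ext (α.apply_symm_apply _)⟩
        map_one' := rfl
        map_mul' := fun _ _ => rfl }
    have hk : (f0.comp c).ker = (center S).subgroupOf (normalizer (P : Set S)) := by
      ext n
      rw [mem_subgroupOf, MonoidHom.mem_ker]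
      refine ⟨fun h => ?_, fun h => Equiv.ext fun x => Subtype.ext (hι ?_)⟩
      · have h1 : ∀ x : W, x ∉ Q ∧ x * x = 1 → c n x = x := fun x hx =>
          congrArg Subtype.val (Equiv.ext_iff.1 h ⟨x, hx⟩)
        have h3 : (n : S) ∈ ι.range := hr'.symm ▸ fx n ((fix_or_swap _).resolve_right fun h => by
          have := h true u
          rw [show u = t * (t * u) by decide, map_mul, h1 _ (by decide), h1 _ (by decide)] at this
          revert this; decide)
        obtain ⟨w, hw⟩ := h3
        rcases cent_X w (fun x hx => hι (by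
          have := hc n x
          rw [h1 x hx, ← hw] at this
          rw [map_mul, map_mul]
          exact (eq_mul_inv_iff_mul_eq.1 this).symm)) with a | a <;> rw [← hw, a]
        exacts [map_one ι ▸ one_mem _, zm]
      · change ι (c n x.1) = ι x.1
        rw [hc, ← mem_center_iff.1 h, mul_inv_cancel_right]
    have cN : Nat.card (normalizer (P : Set S)) = 256 := by
      have := (P.subgroupOf (normalizer (P : Set S))).card_mul_index
      rw [Nat.card_congr (subgroupOfEquivOfLe le_normalizer).toEquiv, Nat.card_congr e.toEquiv, card_W, ← relIndex, ri] at this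
      exact this.symm
    have cK : Nat.card (f0.comp c).ker = 2 := by
      rw [hk, ← zc]
      exact Nat.card_congr (subgroupOfEquivOfLe (center_le_normalizer _)).toEquiv
    obtain ⟨T', ⟨e'⟩⟩ := exists_sylow (f0.comp c) card_X (by
      have := (f0.comp c).ker.card_mul_index
      rw [cK, cN, index_ker] at this
      omega)
    exact ⟨inferInstance, T', ⟨((QuotientGroup.quotientMulEquivOfEq hk.symm).trans
      (QuotientGroup.quotientKerEquivRange _)).trans e'⟩⟩
  · have hU' : U ≤ ι.range := hr'.symm ▸ hU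
    obtain ⟨i, hi⟩ := eq_V (U := U.comap ι) (fun g v hv => by
        simpa using hn (ι g) (hr' ▸ ⟨g, rfl⟩) _ hv)
      (fun v hv w hw => hι (by have := hE.1; rw [map_mul, map_mul]; exact setLike_mul_comm (s := U) hv hw))
      (fun v hv => hι (by rw [map_mul, map_one, ← pow_two]; exact hE.2 _ hv))
      (by rw [← card_map_of_injective hι, map_comap_eq_self hU', h16])
    rw [← map_comap_eq_self hU', hi, nV]

end Cfsg.Agent.S4402
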