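import Cfsg.Statements.S2496
import Cfsg.Agent.Lib.Unitary.PrimeOrd

set_option autoImplicit false
open Cfsg

namespace Cfsg.Agent.S2496

open Lib.GLC Lib.Unitary Matrix Polynomial Module

theorem exists_uf {q : ℕ} (hq : 1 ≤ q) (k : ℕ) :
    ∃ s, uf q k = (q + 1) * s ∧ ∀ d, d ∣ q + 1 → (d ∣ s ↔ d ∣ k + 1) := by
  have h1 : ((q + 1 : ℕ) : ℤ) * ((-1) ^ k * ∑ i ∈ .range (k + 1), (-(q : ℤ)) ^ i) = uf q k := by
    have := geom_sum_mul (-(q : ℤ)) (k + 1)
    rw [uf_cast hq]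
    rw [neg_pow, pow_succ (-1)] at this
    rw [pow_succ (-1)]
    rcases neg_one_pow_eq_or ℤ k with h | h <;> rw [h] at this ⊢ <;> push_cast
    · linear_combination -this
    · linear_combination this
  obtain ⟨s, hs⟩ : q + 1 ∣ uf q k := Int.natCast_dvd_natCast.1 ⟨_, h1.symm⟩
  refine ⟨s, hs, fun d hd => ?_⟩
  rw [hs, Nat.cast_mul, mul_right_inj' (by positivity)] at h1
  rw [← Int.natCast_dvd_natCast, ← h1, (isUnit_neg_one.pow k).dvd_mul_left, ← ZMod.intCast_zmod_eq_zero_iff_dvd,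
    ← ZMod.natCast_eq_zero_iff]
  have : -(q : ZMod d) = 1 := by
    have := (ZMod.natCast_eq_zero_iff _ _).2 hd
    push_cast at this; linear_combination -this
  simp [this]

section
variable {F K : Type*} [Field F] [Field K] [Algebra F K] [Finite K] {q : ℕ} {σ : F →+* F}

theorem tor_pow (hσ : IsBar q σ) {a : K} (ha : a ≠ 0) (k : ℕ) :
    (∃ c : F, (Algebra.lmul F K a).prodMap (Algebra.lmul F K (a ^ q)⁻¹) ^ k = c • 1) ↔
      a ^ (k * (q + 1)) = 1 := by
  simp only [prodMap_pow_eq_smul_one_iff, lmul_pow_eq_smul_one_iff]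
  rw [inv_pow, pow_right_comm, pow_mul, pow_succ]
  refine ⟨fun ⟨c, h1, h2⟩ => mul_eq_one_iff_inv_eq₀ (by simp [ha]) |>.2 (h2.trans h1.symm), fun h => ?_⟩
  obtain ⟨c, hc⟩ := (exists_eq_algebraMap_iff (F := F) (pow_ne_zero k ha)).2 (by
    rw [hσ.card_sub_one, mul_comm, pow_mul, pow_succ, h, one_pow])
  exact ⟨c, hc, hc ▸ inv_eq_of_mul_eq_one_right h⟩

theorem tor_det (hσ : IsBar q σ) {a : K} (ha : a ≠ 0) {L : ℕ} (hL : Nat.card K - 1 = (q + 1) * L) :
    LinearMap.det ((Algebra.lmul F K a).prodMap (Algebra.lmul F K (a ^ q)⁻¹)) = 1 ↔ a ^ L = 1 := by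
  haveI := hσ.finite
  have h2 := hσ.two_le
  obtain ⟨G, hG⟩ : Nat.card F - 1 ∣ Nat.card K - 1 := by
    rw [Module.natCard_eq_pow_finrank (K := F) (V := K)]; exact Nat.sub_one_dvd_pow_sub_one _ _
  have h3 : L = (q - 1) * G := Nat.eq_of_mul_eq_mul_left (Nat.succ_pos q) (by
    rw [Nat.succ_eq_add_one, ← hL, hG, hσ.card_sub_one]; ring)
  rw [LinearMap.det_prodMap, ← Algebra.norm_apply, ← Algebra.norm_apply, ← map_mul, norm_eq_one_iff, hG,
    Nat.mul_div_cancel_left _ (by have : 1 < Nat.card F := Finite.one_lt_card; omega), h3, pow_mul,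
    ← inv_eq_one, ← inv_pow]
  congr! 2
  rw [pow_sub₀ _ ha (by omega)]; field_simp
end

/-- Let q be an odd prime power, n ≥ 4 even, and U = PSU(n,q) (realised over the field with q² elements). Then U has an element of order q^(n/2) + (−1)^(n/2) — that is, q^(n/2) + 1 when n/2 is even and q^(n/2) − 1 when n/2 is odd — if and only if the 2-part of n exceeds the 2-part of q + 1. -/
theorem result {F : Type*} [Field F] [Fintype F] {q : ℕ} (hF : Fintype.card F = q ^ 2) (hodd : Odd q)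
    {n : ℕ} (hn : 4 ≤ n) (heven : Even n) :
    (∃ g : Cfsg.PSU n F q, orderOf g = if Even (n / 2) then q ^ (n / 2) + 1 else q ^ (n / 2) - 1) ↔
      padicValNat 2 (q + 1) < padicValNat 2 n := by
  obtain ⟨σ, hσ⟩ := exists_isBar hF
  obtain ⟨m, rfl⟩ := heven.two_dvd
  obtain ⟨p, _, hp⟩ : ∃ p, CharP F p ∧ p.Prime := ⟨_, ringChar.charP F, CharP.char_is_prime F _⟩
  haveI := Fact.mk hp
  have h1 : 1 < q := hσ.two_le
  have hq2 : q ≠ 2 := by rintro rfl; exact absurd hodd (by decide)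
  rw [Nat.mul_div_cancel_left _ two_pos]
  obtain ⟨N, hN⟩ : ∃ N, N = if Even m then q ^ m + 1 else q ^ m - 1 := ⟨_, rfl⟩
  have h0 : 1 < q ^ m := Nat.one_lt_pow (by omega) h1
  have hN0 : 0 < N := by split_ifs at hN <;> omega
  obtain ⟨s, hs, hs'⟩ := exists_uf h1.le (m - 1)
  obtain ⟨L, hL, hL'⟩ := exists_uf h1.le (2 * m - 1)
  rw [Nat.sub_add_cancel (by omega)] at hs' hL'
  rw [uf, if_neg (Nat.not_even_iff_odd.2 ⟨m - 1, by omega⟩), Nat.sub_add_cancel (by omega)] at hL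
  have h2 : L = N * s := Nat.eq_of_mul_eq_mul_left (Nat.succ_pos q) (by
    rw [Nat.succ_eq_add_one, ← hL, mul_left_comm, ← hs, hN, uf, Nat.sub_add_cancel (by omega),
      pow_mul', ← one_pow 2, Nat.sq_sub_sq, one_pow]
    by_cases h : Even m
    · rw [if_pos h, if_neg (by rw [Nat.even_sub (by omega)]; simp [h])]
    · rw [if_neg h, if_pos (by rw [Nat.even_sub (by omega)]; simp [h]), mul_comm])
  have hd : L.gcd (q + 1) = (2 * m).gcd (q + 1) := Nat.dvd_antisymm
    (Nat.dvd_gcd ((hL' _ (Nat.gcd_dvd_right ..)).1 (Nat.gcd_dvd_left ..)) (Nat.gcd_dvd_right ..))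
    (Nat.dvd_gcd ((hL' _ (Nat.gcd_dvd_right ..)).2 (Nat.gcd_dvd_left ..)) (Nat.gcd_dvd_right ..))
  have h3 : N ∣ L / L.gcd (q + 1) ↔ padicValNat 2 (q + 1) < padicValNat 2 (2 * m) := by
    rw [Nat.dvd_div_iff_mul_dvd (Nat.gcd_dvd_left ..), hd, h2, mul_comm, Nat.mul_dvd_mul_iff_left hN0,
      hs' _ (Nat.gcd_dvd_right ..), padicValNat.mul two_ne_zero (by omega),
      padicValNat_self, add_comm 1, Nat.lt_succ_iff]
    refine ⟨fun h => not_lt.1 fun h' => pow_succ_padicValNat_not_dvd (p := 2) (n := m) (by omega) ((Nat.dvd_gcd ?_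
      ((pow_dvd_pow 2 h').trans pow_padicValNat_dvd)).trans h), fun h => ?_⟩
    · rw [pow_succ']; exact Nat.mul_dvd_mul_left 2 pow_padicValNat_dvd
    · refine (Nat.factorization_prime_le_iff_dvd (Nat.gcd_ne_zero_left (by omega)) (by omega)).1 fun r hr => ?_
      rw [Nat.factorization_gcd (by omega) (by omega), Finsupp.inf_apply, Nat.factorization_mul two_ne_zero (by omega)]
      rcases eq_or_ne r 2 with rfl | h4
      · exact inf_le_right.trans (by simpa only [Nat.factorization_def _ hr] using h)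
      · exact inf_le_left.trans (by simp [Nat.prime_two.factorization, h4.symm])
  rw [← hN, ← h3]
  obtain ⟨K, _, _, _, hK, hK'⟩ := hσ.exists_ext (n := m) (by omega)
  rw [← hK'] at hL
  constructor
  swap
  · intro h
    obtain ⟨a, ha, ha'⟩ := exists_orderOf_eq (K := K) (m := L) (hL ▸ dvd_mul_left ..)
    obtain ⟨g, hg⟩ := hσ.exists_psu_dvd_orderOf (n := 2 * m) (by omega) (m := L / L.gcd (q + 1))
      (hσ.sd_lmul_prodMap ha) (by simp [hK, two_mul])
      ((tor_det hσ ha hL).2 (ha' ▸ pow_orderOf_eq_one a)) fun k c h => by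
        have := (tor_pow hσ ha k).1 ⟨c, h⟩
        rw [mul_comm, pow_mul, ← orderOf_dvd_iff_pow_eq_one, orderOf_pow' _ (by omega), ha'] at this
        exact this
    exact exists_orderOf_of_dvd (h.trans hg)
  rintro ⟨g, hg⟩
  obtain ⟨g, rfl⟩ := QuotientGroup.mk_surjective g
  obtain ⟨r, hr, h4, h5, h6⟩ : ∃ r : ℕ, r.Prime ∧ r ∣ N ∧ orderOf ((q ^ 2 : ℕ) : ZMod r) = m ∧
      (Odd m → ¬ r ∣ q ^ m + 1) := by
    by_cases h : Even m
    · obtain ⟨r, hr, h4⟩ := zsigmondy (n := 2 * m) h1 (by omega) (by omega) (by omega)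
      refine ⟨r, hr, ?_, by rw [orderOf_sq_zmod (by omega), h4]; simp,
        fun h' => absurd h (Nat.not_even_iff_odd.2 h')⟩
      have := (dvd_pow_sub_one_iff (q := q) (by omega)).2 h4.dvd
      rw [pow_mul', ← one_pow 2, Nat.sq_sub_sq] at this
      rw [hN, if_pos h]
      refine (hr.dvd_mul.1 this).resolve_right fun h => ?_
      have := Nat.le_of_dvd (by omega) (h4 ▸ (dvd_pow_sub_one_iff (by omega)).1 h)
      omega
    · obtain ⟨r, hr, h4⟩ := zsigmondy (n := m) h1 (by omega) (by omega) (by rintro ⟨rfl, -⟩; simp at h)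
      have h5 := (dvd_pow_sub_one_iff (q := q) (by omega)).2 h4.dvd
      refine ⟨r, hr, by rwa [hN, if_neg h], by
        rw [orderOf_sq_zmod (by omega), h4, if_pos (Nat.not_even_iff_odd.1 h)], fun _ h6 => ?_⟩
      have h7 := (Nat.dvd_sub h6 h5)
      rw [show q ^ m + 1 - (q ^ m - 1) = 2 by omega, Nat.prime_dvd_prime_iff_eq hr Nat.prime_two] at h7
      subst h7
      have := h4 ▸ (dvd_pow_sub_one_iff (q := q) (k := 1) (by omega)).1
        (by simpa using (Nat.Odd.sub_odd hodd odd_one).two_dvd)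
      have := Nat.le_of_dvd one_pos this
      omega
  have hsd := hσ.sd_su g
  have hb := blocks_typ (toLin' g.1.1)
  have hdeg := sum_typ_toLin' g.1.1
  have hrp : r ≠ p := by
    rintro rfl
    have h7 := (ZMod.natCast_eq_zero_iff _ _).2 (hσ.card ▸ char_dvd_card (F := F) r)
    rw [h7, orderOf_zero] at h5
    omega
  obtain ⟨ψ, f, h11, h12, h13, h14, h15, h16⟩ := exists_block_of_prime_dvd p hsd.1 hr hrp
    (h4.trans (hg ▸ orderOf_toLin'_su g ▸ orderOf_map_dvd (QuotientGroup.mk' _) g))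
  have h17 := hsd.coeff_ne h14
  have h18 := coeff_zero_ne_of_dvd (dvd_pow_self ψ h13.ne') h17
  have h20 := h12.natDegree_pos
  have h21 := Nat.le_mul_of_pos_left ψ.natDegree h13
  rw [hσ.card, h5] at h16
  rw [Fintype.card_fin] at hdeg
  obtain ⟨ν, -, ⟨h24, h25⟩ | ⟨h24, h25⟩⟩ := hσ.exists_split hsd.2 h14 (h11.pow f) h17
  · obtain ⟨h7, h26⟩ := hσ.odd_of_dual_eq h11 h12 h18 ((hσ.dual_pow_eq_iff h11 h12 h18 h13).1 h24)
    rw [h25] at hdeg
    simp only [Multiset.singleton_add, Multiset.map_cons, Multiset.sum_cons, natDegree_pow] at hdeg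
    obtain ⟨t, ht⟩ := h16
    have h8 := Nat.odd_mul.1 (ht ▸ h7)
    obtain rfl : t = 1 := by
      obtain ⟨t, rfl⟩ := h8.2
      rcases t with _ | t
      · rfl
      · have : m * 3 ≤ m * (2 * (t + 1) + 1) := Nat.mul_le_mul_left m (by omega)
        omega
    rw [mul_one] at ht
    exact absurd (ht ▸ h15.trans (dvd_X_pow_sub_one_iff.1 h26)) (h6 h8.1)
  have h26 := typ_pp (toLin' g.1.1)
  rw [h25] at hdeg hb h26
  simp only [Multiset.insert_eq_cons, Multiset.cons_add, Multiset.singleton_add, Multiset.map_cons,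
    Multiset.sum_cons, natDegree_dual h17, natDegree_pow] at hdeg
  have h27 := Nat.le_of_dvd h20 h16
  obtain rfl : f = 1 := by
    by_contra h
    have := Nat.mul_le_mul_right ψ.natDegree (show 2 ≤ f by omega)
    omega
  obtain rfl := eq_zero_of_sum_natDegree (ν := ν) (fun P hP => h26 P (Multiset.mem_add.2 (.inr hP)))
    (by omega)
  obtain ⟨a, rfl⟩ := exists_minpoly_eq (K := K) h11 h12 (by rw [hK]; exact dvd_of_eq (by omega))
  have ha : a ≠ 0 := by rintro rfl; simp at h18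
  rw [pow_one, hσ.dual_minpoly ha, add_zero] at hb
  have h28 := hb.sim ((blocks_lmul (a := a) (by omega)).prodMap (blocks_lmul (a := (a ^ q)⁻¹) (by
    rw [← hσ.dual_minpoly ha, natDegree_dual h18]; omega)))
  have h29 := (tor_det hσ ha hL).1 (by rw [← h28.det_eq, LinearMap.det_toLin', g.1.2])
  rw [← hg, hσ.orderOf_psu_dvd_iff (by omega)]
  simp only [h28.pow_eq_smul_one_iff]
  rw [tor_pow hσ ha, Nat.div_mul_right_comm (Nat.gcd_dvd_left ..),
    Nat.mul_div_assoc _ (Nat.gcd_dvd_right ..), pow_mul, h29, one_pow]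

end Cfsg.Agent.S2496
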