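import Cfsg.Statements.S2910
import Cfsg.Agent.Lib.PGroup.Critical
import Cfsg.Agent.Lib.Transfer.Criteria
import Cfsg.Agent.Lib.Loc.PClosed

set_option autoImplicit false
open Cfsg

set_option linter.unusedVariables false
open Cfsg.Lib

namespace Cfsg.Agent.S2910

/-- Let p be an odd prime dividing the order of the finite group G and P a Sylow p-subgroup of G. If Ω₁(P) (generated by the elements of order dividing p) is contained in the centre of G, then G has a normal p-complement. In particular, if G is quasisimple then Ω₁(P) is not central in G. -/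
theorem result {G : Type*} [Group G] [Finite G] {p : ℕ} [Fact p.Prime] (hp : p ≠ 2) (hdiv : p ∣ Nat.card G) (P : Sylow p G) (hZ : Cfsg.omegaOne p (P : Subgroup G) ≤ Subgroup.center G) : Cfsg.HasNormalPComplement p G ∧ ¬ Cfsg.IsQuasisimple G := by
  open Subgroup Transfer in
  have h1 : HasNormalPComplement p G := by
    rw [← hasNormalPComplement_top_iff, hasNormalPComplement_subgroup_iff]
    intro Q _ hQ g _ hg hgo
    refine PGroup.le_centralizer_of_le_centralizer_omegaOne hp hQ (zpowers_le.mpr hg)
      (by rwa [Nat.card_zpowers]) ?_ (mem_zpowers g)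
    rw [le_centralizer_iff]
    refine le_trans ?_ (center_le_centralizer _)
    obtain ⟨k, hk⟩ := exists_conj_le_sylow P hQ
    rw [PGroup.omegaOne_le_iff]
    intro x hx hxp
    have := hZ (PGroup.mem_omegaOne (conj_le_iff.mp hk x hx) (by rw [conj_pow, hxp]; simp))
    have h2 := (inferInstance : (center G).Normal).conj_mem _ this k⁻¹
    simpa [mul_assoc] using h2
  refine ⟨h1, fun h => ?_⟩
  have h2 := hasNormalPComplement_iff_card_pResidual.mp h1
  have h3 : pResidual p G = ⊤ := by
    rw [← Loc.res_top]
    exact Loc.res_eq_of_perfect (Comp.isQuasisimple_commutator_eq_top h)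
  rw [h3, Subgroup.card_top] at h2
  exact Core.coprime_iff_not_dvd.mp h2 hdiv

end Cfsg.Agent.S2910
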