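import Cfsg.Statements.S5425
import Cfsg.Agent.Lib.Mathieu.Classes
import Cfsg.Agent.Lib.Grp.Tst
import Cfsg.Agent.Lib.Grp.Mat
import Cfsg.Agent.Lib.Grp.Ind
import Cfsg.Agent.Lib.Grp.Loc2
import Cfsg.Agent.Lib.Extraspecial.Large
import Cfsg.Agent.Lib.Extraspecial.Hall

set_option autoImplicit false
open Cfsg

namespace Cfsg.Agent.S5425

open Cfsg.Lib Cfsg.Lib.Golay Cfsg.Lib.Calc Cfsg.Lib.Grp Cfsg.Lib.Mathieu Cfsg.Lib.ES MulAction Subgroup
open scoped commutatorElement

set_option maxRecDepth 100000

def h_C : ℕ := (nat_lit 0xffbbcdeb38bad4734848485acb55f0a4ca41c5c0ffbbcdeb38021473302b48892855f6a4c6d2ba37ffbbcdeb3863a69a82115587713e8131c856ad12ffbbcdeb386c2b4496367bae359e6851a4060444ffbbcdeb382a1477b44b98644854d6a26ec045c3ffbbcdeb382d6168b5340ce44521c758aec03cc3ff33aefb782a5683b233aba4d7d94685064b8820cfb5de6ff86d0ea491f571877b2e70444b260820cfb5de6ff8959687303098805aaa343a6ed23cc3cfb5de6ff821e957b52a14ca0440cbb046c93a37e77dfdeb382262e34833589a5b51f0aa1971a8e0cf7fbd7b98259337b170120adab8d4886e01a8f2e7f3af7778058cf136b0552e54a03359c921ba2cdffb9d7b98019680b0ef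aa8b7b4c504d1a41ba32de79eeff58958225153074c97350efac40c1a16dd737dfe7d8658ea75cd043c040ce224ae4d1d2a5d6ffee773894e2e110c9b3c0d3a02a5c0b71d2aceeff9e6bd8699d10b26f424123d84a82cb71d2a4ff3beceb7802d33ac8285088c81a9679cad1c5d7ff359f7778041e6ab456505845ce8849cb21ba37ee7fbf6b9821c41732aab52f27ae26440a01cd2dd7bfbcf79861c22892aa452ed4c1d3b2ca0199f2ee75edff9823d0b70286b56573862a140ac1a66dd7bb9dff98626d088293455b7389ca0aca41bcd2ffbbcdeb38bc2954c9d6345ac41e6b53ca418440d6fbcf7f38942b49ddd6545a013d2131ca41ad0ceef5ccffd86aeb435e2853a400a5e299cac1c2c4d6ffee7738908cf992215380d85136a9cb71a16ceeff9e6bd868669331c2544125d1e8a9cb71da04eeff9e6bd86be2e131265cc1254027b20b71d684d73f9df7d863dd10b526b4c04a20555c0b719d52d73bbcffd8651680de75b24807c446740ad1a8f2ee7fbf6b98242697b176522f2754d1a1ca01882dd67fcf777892d3333608adae4729f13d0a01882ceef5ccffd86b9e6a5d114ae40b2ab03ccac18824d73bbcffd8638cf3ded19c0804554ba24ad18832fef5ecf798020cfa91cb5464db269099cac18837fe7bbe6bd8bc0ea332364b892451ebaccad18820fe75cdf7d8bae957b6289ba44b1cd0524ac18820ffb5be7738ba1474922b3398d85676a3cb218820ffbbcdeb38bdab49ca307b9ac5a928398a418820)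
noncomputable def h_code : ℕ → ℕ := get (nat_lit 160) h_C
def h_R0 : ℕ := (nat_lit 0x40a01800003c15bc100000011b580800000889cc0400000582b782000001be4d01000000edc9408000006fa8904000005060801800003025b00c000012dc92080000000cef03000003b72482000002871400c00001400b204000008096c030000020048810000028163c0c000008000000000002f912040000070c58818000030163c0c00001833160600000c145203000001004881000002045380c000018206a0600000e000000000001b8c882000001045380c00000913980800000a94b104000007040a018000018000000000004032004000004fa4a040000060a1a01800003861480c00001c2f7406000002103403000003060801800001003c80800001438a0060000061034030000007c8882000002033bc0c0000110b20080000040cef03000006040a01800000800000000000c00000000000a0000000000040000000000000123c0c00000000000000000e096c03000004040a01800000050d00c00001c31620600000d759004000002000000000000811b80c00000611e408000000103403000000)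
def h_D0 : ℕ := (nat_lit 0x18dbe73ea15d1f6ca0642c000000200100000003d0200000000000000000000000000000000000000000000000000000000000000000000000000000000000000)
noncomputable def h_L0 : Calc.Lv :=
  ⟨(nat_lit 33), (nat_lit 41), (nat_lit 3), (nat_lit 8), (nat_lit 1), get (nat_lit 14) (nat_lit 0x8805f0198065019c060010002401),
    fun l x => get (nat_lit 49) h_R0 (Nat.add (Nat.mul x (nat_lit 8)) (Nat.sub l (nat_lit 33))), get (nat_lit 43) h_D0⟩
def h_R1 : ℕ := (nat_lit 0xc4020000010000000000182f0300000500e010000037e203000004058020000025c2030000020000000000400000000003000000000065bb030000060000000000032e0300000000000000005)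
def h_D1 : ℕ := (nat_lit 0xb9bf0b08e2e9a270e93c34d2b3027d87000000000000000a81000000000000000902000000000000000204000000000000000c0800000000000000000000000000000000000)
noncomputable def h_L1 : Calc.Lv :=
  ⟨(nat_lit 29), (nat_lit 31), (nat_lit 5), (nat_lit 7), (nat_lit 2), get (nat_lit 13) (nat_lit 0x7407203b01f008003803a01),
    fun l x => get (nat_lit 44) h_R1 (Nat.add (Nat.mul x (nat_lit 2)) (Nat.sub l (nat_lit 29))), get (nat_lit 71) h_D1⟩
def h_U2 : ℕ := (nat_lit 0x700e005603201a80b006603601680a806802f01480c406002000)
def h_R2 : ℕ := (nat_lit 0x1c04000030701000002800800002e002000008040400002010100000b0c04000004101000000000000000800000000c4408000015102000009000000003c0000000040000000024000000005600800000c0000000033c08000010f0200000f08040000000000000018008000018000000006140400001c50100000a0000000028000000007800800003400000000d000000003a00200000e)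
def h_D2 : ℕ := (nat_lit 0x28ec4111011010110c0000000530100000001fc080000000d204000000054020000000270100000000c80800000005c040000000210200000000a81000000004c08000000014040000000090200000000181000000000c080000000000000000000000)
noncomputable def h_L2 : Calc.Lv :=
  ⟨(nat_lit 23), (nat_lit 25), (nat_lit 1), (nat_lit 16), (nat_lit 0), get (nat_lit 13) h_U2,
    fun l x => get (nat_lit 38) h_R2 (Nat.add (Nat.mul x (nat_lit 2)) (Nat.sub l (nat_lit 23))), get (nat_lit 45) h_D2⟩
def h_R3 : ℕ := (nat_lit 0xc0400000701000004c0400000b0100000380400001400000005000000010000000014040000000000000000000000c00000002)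
def h_D3 : ℕ := (nat_lit 0x38c3e900f10002719e9c2c000000010200000000c080000000302000000000000000000000)
noncomputable def h_L3 : Calc.Lv :=
  ⟨(nat_lit 7), (nat_lit 9), (nat_lit 0), (nat_lit 6), (nat_lit 0), get (nat_lit 12) (nat_lit 0x401501801701601000),
    fun l x => get (nat_lit 34) h_R3 (Nat.add (Nat.mul x (nat_lit 2)) (Nat.sub l (nat_lit 7))), get (nat_lit 42) h_D3⟩
noncomputable def h_L4 : Calc.Lv :=
  ⟨(nat_lit 2), (nat_lit 4), (nat_lit 4), (nat_lit 4), (nat_lit 0), get (nat_lit 10) (nat_lit 276758529024),
    fun l x => get (nat_lit 2) (nat_lit 25545) (Nat.add (Nat.mul x (nat_lit 2)) (Nat.sub l (nat_lit 2))), get (nat_lit 10) (nat_lit 538968064)⟩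
noncomputable def h_lvs : List Calc.Lv := [h_L0, h_L1, h_L2, h_L3, h_L4]
theorem h_ok : homOK 24 5 8 3 32 5 [566257349905449050746913390420428832, 219831189324463703170872507565312032, 235629048174234738326448191102270659, 218491600200565845167973200079898051, 561645638338386907819932002508211268, 517416510380188224552786912555216146, 10799368055438651229560583312554551, 970076220132446284830085442418361792] [3758328, 15772568, 16434824, 16434824, 16434824, 16434824, 16434824, 16434824] 21504 h_code h_lvs = true := by
  decide +kernel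

/-- chain for the centraliser -/
def LC : List (ℕ × List ℕ) := [(1, [984818244535754528103549039458486304, 22849695788120129743642241127334615, 757690812733311951574971253151406583, 150192040901303378811540058782303319, 966064462474775373887684870005701152, 966645197478477686322155744178645234, 974393911629576121603641721504310883, 553569948775767459391547678562787685, 20253679034687004961266006720961037, 18850264608482557109564318444932389, 22457238388354283599544079504026903, 560178103111123313626088543718855328, 177321120569712315412651001848700227, 524036860002757149269227177313949335, 770435795432020043064763937211169988, 144425101712557199717508394103358935]),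
   (0, [984818244535754528103549039458486304, 195100752139512967891757842405886007, 222360429286381420280197179012515885, 28896894310377910721042986201876516, 181139903376197919100047783427278885, 219637410817466430826848547651029042, 756186819887784326489901348660873251, 229243773725627374953854910409181228]),
   (3, [984818244535754528103549039458486304, 984202951082164080105044112956360736, 561225190495839078725639875070396448, 219831189324463703170872507565312032, 760286707898410673465132044032313376, 561106816386735037089007537071130656, 509627912470738903210713401779161120]),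
   (5, [984818244535754528103549039458486304, 220213109803259289183002082616117280, 187800359458060982176774145975617568, 759670655664982819726338242108295200, 509683897186675526072747839173265440, 548202598771861339890714224299706400]),
   (4, [984818244535754528103549039458486304, 976448692869377735270425038196672544, 966182099583441531322624363496310816, 970499966350631336865513127433832480])]
/-- chain for the extraspecial group -/
def LQ : List (ℕ × List ℕ) := [(1, [984818244535754528103549039458486304, 957297074270952116610733630057202368, 983555585391436845050202481383021024, 976990105829392847739289005721748544, 966064462474775373887684870005701152, 974897174784788785969838101811548832, 958241592925172551187255922413132288, 978232879086441799526177284869434624, 982021608937319164357533367611276480, 964807666673130604710404469913921120, 970076220132446284830085442418361792, 963253922990643266370642466366936704, 980754275699689251050013335820019936, 973945644914022110970435173357822304, 968819820085034082962198537347124512, 967655404336561563530357383050140992]),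
   (0, [984818244535754528103549039458486304, 29395921827946026794865043067537463, 195588707212493743259473963789125677, 146222987389865760054764078822557733, 569395182474747743155315348943013924, 229338649295338060071031103650007075, 769298237678039640540234586636027948, 520107653304826599579881071338489906])]
/-- its entries -/
def es : List ℕ := [29395921827946026794865043067537463, 146222987389865760054764078822557733, 195588707212493743259473963789125677, 229338649295338060071031103650007075, 520107653304826599579881071338489906, 569395182474747743155315348943013924, 769298237678039640540234586636027948, 957297074270952116610733630057202368, 958241592925172551187255922413132288, 963253922990643266370642466366936704, 964807666673130604710404469913921120, 966064462474775373887684870005701152, 967655404336561563530357383050140992, 968819820085034082962198537347124512, 970076220132446284830085442418361792, 973945644914022110970435173357822304, 974897174784788785969838101811548832, 976990105829392847739289005721748544, 978232879086441799526177284869434624,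 980754275699689251050013335820019936, 982021608937319164357533367611276480, 983555585391436845050202481383021024, 984818244535754528103549039458486304]

theorem card_SL : Nat.card (Matrix.SpecialLinearGroup (Fin 3) (ZMod 2)) = 168 := by
  have := Linear.card_SL_mul (ι := Fin 3) (F := ZMod 2)
  rw [Linear.card_GL, ZMod.card] at this
  simp only [Fintype.card_fin, Fin.prod_univ_three] at this
  exact (one_mul _).symm.trans this

theorem simple_SL : IsSimpleGroup (Matrix.SpecialLinearGroup (Fin 3) (ZMod 2)) := by
  have hZ : center (Matrix.SpecialLinearGroup (Fin 3) (ZMod 2)) = ⊥ :=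
    card_eq_one.1 (by rw [Linear.card_center_SL, ZMod.card]; rfl)
  have := Linear.isSimpleGroup_PSL (ι := Fin 3) (F := ZMod 2) (Or.inl (by simp))
  exact ((QuotientGroup.quotientMulEquivOfEq hZ).trans QuotientGroup.quotientBot).symm.isSimpleGroup

theorem main {G X : Type*} [Group G] [MulAction G X] [Finite G] [Finite X] {pt : ℕ → X} (hi : Inj 24 pt)
    (hf : Faithful G 24 pt) (ha : ∀ c, tOK (fun _ => true) c = true → ∃ g : G, Rep 24 5 pt g c) {z : G}
    (hz : Rep 24 5 pt z r2A) (ho : orderOf z = 2) (hc : Nat.card (centralizer {z}) = 21504) {Q : Subgroup G}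
    (hQ : Q = (pCore 2 (centralizer {z})).map (centralizer {z}).subtype) :
    IsExtraspecial 2 Q ∧ Nat.card Q = 2 ^ 7 ∧ (∃ E : Subgroup G, E ≤ Q ∧ IsElementaryAbelian 2 E ∧ Nat.card E = 2 ^ 4) ∧
      IsLargeExtraspecial Q ∧ ∃ K : Subgroup G, K ≤ centralizer {z} ∧ Q ⊓ K = ⊥ ∧ Q ⊔ K = centralizer {z} ∧
        Nonempty (K ≃* Matrix.SpecialLinearGroup (Fin 3) (ZMod 2)) := by
  have hl : ∀ {l : List ℕ}, Calc.allL l (tOK fun _ => true) = true → In 24 5 pt (⊤ : Subgroup G) l :=
    fun h => top_list fun c hc => ha c (Calc.allL_iff.1 h c hc)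
  have tC := Tst.cen hi hf hz
  have hC : Chn 24 5 pt LC (centralizer {z}) := tC.chn hi ha (by decide +kernel) (hc.trans (by decide +kernel)).le
  have F := coded_zmod 2
  have hi' := F.inj_vec (k := 3) (n := 8) rfl
  have hf' := F.faithful_SL (k := 3) (n := 8) rfl
  have hd := F.sl_list (k := 3) (n := 8) (w := 3) (r := 84) (As := [351, 185, 273, 273, 273, 273, 273, 273])
    (ds := [3758328, 15772568, 16434824, 16434824, 16434824, 16434824, 16434824, 16434824]) rfl (by decide +kernel)
  obtain ⟨f, -, -, a, b, c, ev⟩ := exists_hom_ker hi hf hi' hf' (tC.list' (hl (by decide +kernel)) (by decide +kernel))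
    (top_list hd) hc.le h_ok (by decide +kernel : surOK _ _ _ 168 [9926280, 16362248, 14599368, 6999944]
    [0, 0, 0, 0, 0, 0, 0, 0, 64555534603, 145155, 36992537910284, 95521544536323086]
    [(1, [0, 1, 2, 3, 4, 5, 6, 7], 7), (4, [8, 9, 10], 6), (2, [10, 11], 4)] = true)
    (es := es) (tC.list' (hl (by decide +kernel)) (by decide +kernel)) (xs := [1951747, 63540996, 2269033221, 37249028, 38467076, 177410, 20527876, 77058, 87042, 86786, 487427, 47362, 516867, 498435, 908291, 947971, 950787, 4097, 937987, 506115, 1347843, 1358851, 0]) (by decide +kernel)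
    (by decide +kernel : surOK _ _ _ 128 []
    [0, 0, 0, 0, 0, 0, 0, 0, 0, 0, 0, 0, 0, 0, 0, 0, 0, 0, 0, 0, 0, 0, 0]
    [(0, [0, 1, 2, 3, 4, 5, 6, 7, 8, 9, 10, 11, 12, 13, 14, 15, 16, 17, 18, 19, 20, 21, 22], 8), (1, [7, 8, 9, 10, 11, 12, 13, 14, 15, 16, 17, 18, 19, 20, 21, 22], 16)] = true)
  -- the complement
  have hK := hC.tail.tail
  generalize hK' : centralizer {z} ⊓ stabilizer G (pt _) ⊓ stabilizer G (pt _) = K at hK
  have k1 : K ≤ centralizer {z} := hK' ▸ inf_le_left.trans inf_le_left
  have k2 : Nat.card K = 168 := (hK.card hi).trans (by decide +kernel)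
  have k3 : ∀ c ∈ [566257349905449050746913390420428832, 219831189324463703170872507565312032], ∃ g ∈ K, Rep 24 5 pt g c :=
    (hK.tst hi hf (by decide) (by decide)).list' (hl (by decide +kernel)) (by decide +kernel)
  have k4 : (f.comp (inclusion k1)).range = ⊤ := by
    refine eq_top_of_le_card _ (card_SL.trans_le (le_card_of_surOK hi' hf' (cs := [3758328, 15772568])
      (by decide +kernel : surOK 8 3 _ 168 [9809352, 14526792, 14599368, 5164488]
    [0, 0, 767757, 5628938, 179717, 118532]
    [(1, [0, 1], 7), (4, [2, 3], 6), (2, [4, 5], 4)] = true) ?_))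
    simp only [List.mem_cons, List.not_mem_nil, or_false, forall_eq_or_imp, forall_eq] at k3 hd ⊢
    obtain ⟨⟨x, x1, x2⟩, y, y1, y2⟩ := k3
    obtain ⟨⟨u, hu⟩, ⟨v, hv⟩, -⟩ := hd
    exact ⟨⟨u, ⟨⟨x, x1⟩, ev ⟨x, k1 x1⟩ u _ _ 42014468 x2 hu (by decide +kernel)⟩, hu⟩,
      v, ⟨⟨y, y1⟩, ev ⟨y, k1 y1⟩ v _ _ 8705 y2 hv (by decide +kernel)⟩, hv⟩
  have k5 : Function.Bijective (f.comp (inclusion k1)) :=
    (MonoidHom.range_eq_top.1 k4).bijective_of_nat_card_le (k2.trans card_SL.symm).le
  have fs : Function.Surjective f := Function.Surjective.of_comp (g := inclusion k1) k5.2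
  -- the kernel
  have q1 : Nat.card (f.ker.map (centralizer {z}).subtype) = 2 ^ 7 :=
    (card_map_of_injective (subtype_injective _)).trans a
  have q2 : IsPGroup 2 (f.ker.map (centralizer {z}).subtype) := IsPGroup.of_card q1
  have := simple_SL
  have q3 : Q = f.ker.map (centralizer {z}).subtype := hQ.trans (map_pCore_eq (map_subtype_le _)
    ⟨fs, (comap_map_eq_self_of_injective (subtype_injective _) _).symm⟩ q2 fun h => by
      obtain ⟨n, hn⟩ := IsPGroup.iff_card.1 h
      have : 3 ∣ 2 ^ n := hn ▸ card_SL ▸ by decide
      exact absurd (Nat.prime_three.dvd_of_dvd_pow this) (by decide))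
  have q4 : ∀ x (hx : x ∈ centralizer {z}), x ∈ Q ↔ f ⟨x, hx⟩ = 1 := fun x hx =>
    q3 ▸ ⟨fun ⟨y, h1, h2⟩ => by rw [← h1]; exact congrArg f (Subtype.ext h2.symm), fun h => ⟨_, h, rfl⟩⟩
  rw [← q3] at q1 q2 b c
  have q5 : Q ≤ centralizer {z} := q3 ▸ map_subtype_le _
  have w : WChain 24 5 pt LQ Q := wChain_of_wOK (mem := fun c => memL c es) (fun _ h => c _ (memL_iff.1 h))
    (by decide +kernel)
  have hL : Chn 24 5 pt LQ Q := ⟨w, w.sChain hi (q1.trans (by decide +kernel)).le⟩
  have tQ := hL.tst hi hf (by decide) (by decide)
  have zQ : z ∈ Q := (tQ z _ hz).2 (by decide +kernel)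
  have z2 : Nat.card (zpowers z) = 2 := (Nat.card_zpowers z).trans ho
  have c1 : centralizer (Q : Set G) = zpowers z := by
    refine (eq_of_le_of_card_ge (zpowers_le.2 (mem_centralizer_iff.2 fun x hx => mem_cen.1 (q5 hx))) ?_).symm
    have := (card_cenL hi hf (by decide) (by decide) hC c b).trans (show _ = 2 by decide +kernel)
    rw [inf_eq_right.2 (centralizer_le (Set.singleton_subset_iff.2 zQ))] at this
    exact (this.trans z2.symm).le
  have sq : ∀ x ∈ Q, x ^ 2 ∈ zpowers z := fun x hx => by
    obtain ⟨d, hd⟩ := hL.exists_rep (by decide) hx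
    have := forall_ch hi hf (by decide) (by decide) (keep := fun _ _ => true) (fun _ => True)
      (B := fun d => Nat.beq (Calc.mul 24 5 d d) (idc 24 5) || Nat.beq (Calc.mul 24 5 d d) r2A)
      (fun _ _ _ _ _ _ _ => rfl) hL.wk hL.st (by decide +kernel) hx trivial hd
    rw [pow_two]
    rcases Bool.or_eq_true_iff.1 this with e | e
    · rw [(hd.mul hd).eq_of_faithful hf (Nat.eq_of_beq_eq_true e ▸ Rep.one (by decide))]
      exact one_mem _
    · rw [(hd.mul hd).eq_of_faithful hf (Nat.eq_of_beq_eq_true e ▸ hz)]
      exact mem_zpowers z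
  have ex : IsExtraspecial 2 Q := isExtraspecial_of_card q2 z2 (by rw [c1, inf_eq_right.2 (zpowers_le.2 zQ)])
    (commutator_le.2 fun x hx y hy => by
      have : ⁅x, y⁆ = x ^ 2 * (x⁻¹ * y) ^ 2 * y⁻¹ ^ 2 := by simp [commutatorElement_def, pow_two, mul_assoc]
      rw [this]
      exact mul_mem (mul_mem (sq x hx) (sq _ (mul_mem (inv_mem hx) hy))) (sq _ (inv_mem hy)))
    sq fun e => absurd (q1.symm.trans (e ▸ z2)) (by decide)
  have lg := lg_of_pCore ho hQ ex (c1 ▸ zpowers_le.2 zQ)
  obtain ⟨g, hg⟩ := ha 13284175184688486900142304532185549 (by decide +kernel)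
  have hy := hg.cjC (by decide) (by decide +kernel) hz
  refine ⟨ex, q1, ?_, lg.isLarge ex fun _ h1 h2 => lg.eq_bot_of_conj_mem ((tQ _ _ hy).2 (by decide +kernel))
    (hy.ne_of_ne hi hz (by decide +kernel)) h1 h2, K, k1, ?_, ?_, ⟨MulEquiv.ofBijective _ k5⟩⟩
  · have e1 := hl (l := [980754275699689251050013335820019936, 958241592925172551187255922413132288, 963253922990643266370642466366936704, 976990105829392847739289005721748544]) (by decide +kernel)
    have e2 := (card_cenEls hi hf (by decide) (by decide) hC e1).trans (show _ = 2 ^ 4 by decide +kernel)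
    have e3 := (tC.inf (Tst.cenL hi hf e1)).list' e1 (by decide +kernel)
    have e4 := Gen.of_surOK hi hf e3 e2.le (by decide +kernel : surOK _ _ _ 16 []
    [0, 0, 0, 0]
    [(1, [0, 1, 2, 3], 16)] = true)
    exact ⟨_, e4.le_of_tst e3 tQ (by decide +kernel), ⟨⟨⟨fun x y => Subtype.ext
      (e4.comm hf e3 e4 e3 (by decide +kernel) _ x.2 _ y.2)⟩⟩,
      e4.pow_eq_one hf (by decide) e3 (by decide +kernel) (by decide +kernel)⟩, e2⟩
  · refine eq_bot_iff.2 fun x hx => ?_
    exact congrArg Subtype.val (k5.1 (a₁ := ⟨x, hx.2⟩) (a₂ := 1) (((q4 x _).1 hx.1).trans (map_one _).symm))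
  · refine le_antisymm (sup_le q5 k1) fun x hx => ?_
    obtain ⟨k, hk⟩ := k5.2 (f ⟨x, hx⟩)
    have : x * (k : G)⁻¹ ∈ Q := (q4 _ (mul_mem hx (inv_mem (k1 k.2)))).2 (by
      change f (⟨x, hx⟩ * (inclusion k1 k)⁻¹) = 1
      rw [map_mul, map_inv, ← hk]
      exact mul_inv_cancel _)
    rw [← inv_mul_cancel_right x k]
    exact mul_mem_sup this k.2

/-- In the Mathieu group of degree 24 (the automorphism group of the length-24 binary Golay code, acting on the 24 coordinates), let z be an involution whose fixed points form an octad (the support of a code word of weight 8), and let Q be the largest normal 2-subgroup of the centralizer C of z. Then Q is extraspecial of order 2^7 with an elementary abelian subgroup of order 16 (plus type), Q is a large extraspecial 2-subgroup, and C is the split extension of Q by the special linear group of degree 3 over the field with two elements. -/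
theorem result (z : ↥Cfsg.M24) (hz : orderOf z = 2) (hfix : (Finset.univ.filter fun p : Cfsg.GolayPt => (z : Equiv.Perm Cfsg.GolayPt) p = p) ∈ Cfsg.octads) (Q : Subgroup ↥Cfsg.M24) (hQ : Q = (Cfsg.pCore 2 ↥(Subgroup.centralizer ({z} : Set ↥Cfsg.M24))).map (Subgroup.centralizer ({z} : Set ↥Cfsg.M24)).subtype) : Cfsg.IsExtraspecial 2 ↥Q ∧ Nat.card ↥Q = 2 ^ 7 ∧ (∃ E : Subgroup ↥Cfsg.M24, E ≤ Q ∧ Cfsg.IsElementaryAbelian 2 E ∧ Nat.card ↥E = 2 ^ 4) ∧ Cfsg.IsLargeExtraspecial Q ∧ ∃ K : Subgroup ↥Cfsg.M24, K ≤ Subgroup.centralizer ({z} : Set ↥Cfsg.M24) ∧ Q ⊓ K = ⊥ ∧ Q ⊔ K = Subgroup.centralizer ({z} : Set ↥Cfsg.M24) ∧ Nonempty (↥K ≃* Matrix.SpecialLinearGroup (Fin 3) (ZMod 2)) := by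
  obtain ⟨h, k, e⟩ := conj_2A z.2 (by rw [Subgroup.orderOf_coe, hz]) (mem_octads.1 hfix).2
  have h3 := card_cen_2A
  generalize mk r2A = y at h e h3
  obtain rfl : k * y * k⁻¹ = z := Subtype.ext e
  refine main (inj_pt.smul k) (fun g hg => ?_) (fun c hc => ?_) (h.conj k) hz ((cj_cen (k := k)).card.trans h3) hQ
  · have := faithful_M24 (k⁻¹ * g * k) fun i hi => by rw [mul_smul, mul_smul, hg i hi, inv_smul_smul]
    rwa [mul_assoc, inv_mul_eq_one, eq_comm, mul_eq_right] at this
  · obtain ⟨g, -, hg⟩ := Mem.top.exists hc
    exact ⟨_, hg.conj k⟩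

end Cfsg.Agent.S5425
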