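import Cfsg.Statements.S0852
import Cfsg.Agent.Lib.Frobenius.TIFN

set_option autoImplicit false
open Cfsg

namespace Cfsg.Agent.S0852

/-- Let K be a subgroup of the finite group G that meets each conjugate by an element outside its normalizer N trivially, is properly contained in N, and contains the centralizer of each of its non-identity elements (a T.I. subgroup with Frobenius normalizer). Let S be the set of irreducible characters of N taking at some element of K a value different from their degree, suppose S has at least two members, and let star be a linear isometry on the integer span of S into the generalized characters of G that agrees with induction on the members vanishing at the identity (so S is coherent, with star as the extending isometry). Then an irreducible character ψ of G is of the form star χ or -star χ for some χ in S if and only if ψ is not constant on the non-identity elements of K. -/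
theorem result {G : Type*} [Group G] [Fintype G] (K : Subgroup G) (hTI : ∀ g : G, g ∉ Subgroup.normalizer (K : Set G) → ∀ k ∈ K, g * k * g⁻¹ ∈ K → k = 1) (hlt : K < Subgroup.normalizer (K : Set G)) (hC : ∀ k ∈ K, k ≠ 1 → Subgroup.centralizer ({k} : Set G) ≤ K) [Fintype ↥(Subgroup.normalizer (K : Set G))] (S : Set (↥(Subgroup.normalizer (K : Set G)) → ℂ)) (hS : S = {χ : ↥(Subgroup.normalizer (K : Set G)) → ℂ | Cfsg.IsIrrCharacter ↥(Subgroup.normalizer (K : Set G)) χ ∧ ∃ k : ↥(Subgroup.normalizer (K : Set G)), (k : G) ∈ K ∧ χ k ≠ χ 1}) (htwo : ∃ χ ∈ S, ∃ ξ ∈ S, χ ≠ ξ) (star : (↥(Subgroup.normalizer (K : Set G)) → ℂ) → (G → ℂ)) (hstar : Cfsg.IsLinearIsometryOn (Cfsg.zspan S) star) (hext : ∀ α ∈ Cfsg.zspanOn S ({1}ᶜ : Set ↥(Subgroup.normalizer (K : Set G))), star α = Cfsg.indFun (Subgroup.normalizer (K : Set G)) α) (ψ : G → ℂ) (hψ : Cfsg.IsIrrCharacter G ψ) : (∃ χ ∈ S, ψ = star χ ∨ ψ = -star χ) ↔ ∃ a ∈ K, ∃ b ∈ K, a ≠ 1 ∧ b ≠ 1 ∧ ψ a ≠ ψ b := by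
  open Cfsg.Lib.Frobenius Cfsg.Lib.Char in
  let K' := K.subgroupOf (Subgroup.normalizer (K : Set G))
  have hC' := Cfsg.Lib.Frobenius.centralizer_le_subgroupOf (Subgroup.normalizer (K : Set G)) hC
  have hS' : S = {χ | IsIrrCharacter _ χ ∧ ∃ k ∈ K', χ k ≠ χ 1} := hS
  have hz : ∀ χ ∈ S, χ ∈ zspan S := fun χ hχ => Submodule.subset_span hχ
  have hirr : ∀ χ ∈ S, IsIrrCharacter _ χ := fun χ hχ => (hS' ▸ hχ).1
  constructor
  · rintro ⟨χ, hχ, hψχ⟩
    obtain ⟨ξ, hξ, hne⟩ : ∃ ξ ∈ S, χ ≠ ξ := by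
      obtain ⟨a, ha, b, hb, hab⟩ := htwo
      by_cases h : χ = a
      · exact ⟨b, hb, h ▸ hab⟩
      · exact ⟨a, ha, h⟩
    obtain ⟨a, ha, b, hb, ha1, hb1, hab⟩ := Cfsg.Lib.Frobenius.exists_apply_ne_of_two K' hC'
      (hirr χ hχ) (hS' ▸ hχ).2 (hirr ξ hξ) (hS' ▸ hξ).2 hne
    obtain ⟨v, hv⟩ := Cfsg.Lib.Frobenius.exists_res_sub_const hS' hstar hext
      (Cfsg.Lib.Char.Cfsg.IsGeneralizedCharacter.isClassFunction (hstar.2.2.2 χ (hz χ hχ)))
      (Cfsg.Lib.Char.Cfsg.IsIrrCharacter.isClassFunction (hirr χ hχ))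
      (fun ξ hξ => hstar.2.2.1 χ (hz χ hχ) ξ (hz ξ hξ))
    refine ⟨a, ha, b, hb, fun e => ha1 (Subtype.ext e), fun e => hb1 (Subtype.ext e), fun e => hab ?_⟩
    have e' : star χ a = star χ b := by
      rcases hψχ with rfl | rfl
      · exact e
      · simpa using e
    linear_combination hv b hb hb1 - hv a ha ha1 + e'
  · rintro ⟨a, ha, b, hb, ha1, hb1, hab⟩
    by_contra hcon
    push Not at hcon
    obtain ⟨v, hv⟩ := Cfsg.Lib.Frobenius.exists_res_sub_const hS' hstar hext
      (Cfsg.Lib.Char.Cfsg.IsIrrCharacter.isClassFunction hψ) Cfsg.Lib.Char.isClassFunction_zero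
      (fun χ hχ => by
        rw [Cfsg.Lib.Char.classInner_zero_left]
        have h1 : classInner (star χ) (star χ) = 1 := by
          rw [hstar.2.2.1 χ (hz χ hχ) χ (hz χ hχ)]
          exact Cfsg.Lib.Char.Cfsg.IsIrrCharacter.inner_self (hirr χ hχ)
        rcases Cfsg.Lib.Char.Cfsg.IsGeneralizedCharacter.irr_or_neg_irr_of_inner_self
          (hstar.2.2.2 χ (hz χ hχ)) h1 with h | h
        · exact Cfsg.Lib.Char.Cfsg.IsIrrCharacter.inner_eq_zero_of_ne hψ h (hcon χ hχ).1
        · have := Cfsg.Lib.Char.Cfsg.IsIrrCharacter.inner_eq_zero_of_ne hψ h (hcon χ hχ).2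
          rwa [Cfsg.Lib.Char.classInner_neg_right, neg_eq_zero] at this)
    have h1 := hv ⟨a, Subgroup.le_normalizer ha⟩ ha (fun e => ha1 (congrArg Subtype.val e))
    have h2 := hv ⟨b, Subgroup.le_normalizer hb⟩ hb (fun e => hb1 (congrArg Subtype.val e))
    simp only [Pi.zero_apply, sub_zero] at h1 h2
    exact hab (h1.trans h2.symm)

end Cfsg.Agent.S0852
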