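import Cfsg.Statements.S0853
import Cfsg.Agent.Lib.Frobenius.TIFN

set_option autoImplicit false
open Cfsg

namespace Cfsg.Agent.S0853

open Cfsg.Lib.Char in
theorem exists_int_of_const {K : Type*} [Group K] [Finite K] {φ : K → ℂ}
    (hφ : IsGeneralizedCharacter K φ) (lam : K →* ℂˣ) (hlam : lam ≠ 1) {v : ℂ}
    (hv : ∀ k, k ≠ 1 → φ k = v) : ∃ m : ℤ, v = m := by
  haveI := Fintype.ofFinite K
  have hK := card_ne_zero_complex K
  have e : φ = v • (fun _ => (1 : ℂ)) + ((φ 1 - v) / Nat.card K) • regChar K := by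
    funext k
    by_cases hk : k = 1
    · subst hk
      simp only [Pi.add_apply, Pi.smul_apply, smul_eq_mul, regChar_one]
      field_simp; ring
    · simp [regChar_of_ne_one hk, hv k hk]
  have hne : (fun _ : K => (1 : ℂ)) ≠ fun k => (lam k : ℂ) := fun h => hlam (by
    ext k
    simpa using (congrFun h k).symm)
  obtain ⟨a, ha⟩ := hφ.exists_inner_eq_int isGeneralizedCharacter_one
  obtain ⟨b, hb⟩ := hφ.exists_inner_eq_int (isIrrCharacter_hom lam).isGeneralizedCharacter
  rw [e, classInner_add_left, classInner_smul_left, classInner_smul_left, classInner_regChar_left] at ha hb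
  rw [isIrrCharacter_one.inner_self] at ha
  rw [isIrrCharacter_one.inner_eq_zero_of_ne (isIrrCharacter_hom lam) hne] at hb
  simp only [map_one, Units.val_one, mul_one, mul_zero, zero_add] at ha hb
  exact ⟨a - b, by push_cast; linear_combination ha - hb⟩

open Cfsg.Lib.Frobenius Cfsg.Lib.Char Cfsg.Lib.Induce in
theorem aux {G : Type*} [Group G] [Fintype G] (K : Subgroup G) (hTI : ∀ g : G, g ∉ Subgroup.normalizer (K : Set G) → ∀ k ∈ K, g * k * g⁻¹ ∈ K → k = 1) (hlt : K < Subgroup.normalizer (K : Set G)) (hC : ∀ k ∈ K, k ≠ 1 → Subgroup.centralizer ({k} : Set G) ≤ K) [Fintype ↥(Subgroup.normalizer (K : Set G))] (S : Set (↥(Subgroup.normalizer (K : Set G)) → ℂ)) (hS : S = {χ : ↥(Subgroup.normalizer (K : Set G)) → ℂ | Cfsg.IsIrrCharacter ↥(Subgroup.normalizer (K : Set G)) χ ∧ ∃ k : ↥(Subgroup.normalizer (K : Set G)), (k : G) ∈ K ∧ χ k ≠ χ 1}) (hne : S.Nonempty) (star : (↥(Subgroup.normalizer (K : Set G)) → ℂ) → (G → ℂ)) (hstar : Cfsg.IsLinearIsometryOn (Cfsg.zspan S) star)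 (hext : ∀ α ∈ Cfsg.zspanOn S ({1}ᶜ : Set ↥(Subgroup.normalizer (K : Set G))), star α = Cfsg.indFun (Subgroup.normalizer (K : Set G)) α) : ∃ m : ℤ, ∀ χ ∈ S, ∀ k : ↥(Subgroup.normalizer (K : Set G)), (k : G) ∈ K → k ≠ 1 → star χ k - χ k = (m : ℂ) * χ 1 / ((K.subgroupOf (Subgroup.normalizer (K : Set G))).index : ℂ) := by
  classical
  let N := Subgroup.normalizer (K : Set G)
  let K' := K.subgroupOf N
  have hC' := centralizer_le_subgroupOf N hC
  have hS' : S = {χ | IsIrrCharacter _ χ ∧ ∃ k ∈ K', χ k ≠ χ 1} := hS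
  have hz : ∀ χ ∈ S, χ ∈ zspan S := fun χ hχ => Submodule.subset_span hχ
  have hirr : ∀ χ ∈ S, IsIrrCharacter _ χ := fun χ hχ => (hS' ▸ hχ).1
  have hvan : ∀ χ ∈ S, ∀ x : N, (x : G) ∉ K → χ x = 0 := fun χ hχ x hx =>
    apply_eq_zero_of_fpf K' (hirr χ hχ) (hS' ▸ hχ).2
      (inf_centralizer_eq_bot_of_centralizer_le K' hC' hx)
  haveI := isNilpotent_of_centralizer_le K' (subgroupOf_ne_top_of_lt hlt) hC'
  haveI : Nontrivial K' := by
    obtain ⟨χ, hχ⟩ := hne
    obtain ⟨k, hk, hk1⟩ := (hS' ▸ hχ).2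
    exact ⟨⟨⟨k, hk⟩, 1, fun e => hk1 (by rw [show k = 1 from congrArg Subtype.val e])⟩⟩
  obtain ⟨lam, hlam⟩ := exists_hom_ne_one_of_isSolvable K'
  have hne : (fun k => (lam k : ℂ)) ≠ (fun _ : K' => (1 : ℂ)) := fun h => hlam (by
    ext k
    simpa using congrFun h k)
  have hξi := isIrrCharacter_indFun_of_centralizer_le K' hC' (isIrrCharacter_hom lam) hne
  set ξ := indFun K' fun k => (lam k : ℂ) with hξdef
  have hξ1 : ξ 1 = K'.index := by rw [hξdef, indFun_one]; simp
  have hξ : ξ ∈ S := by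
    rw [hS']
    refine ⟨hξi, ?_⟩
    by_contra hcon
    push Not at hcon
    have h1 := frobenius_reciprocity K' (fun k => (lam k : ℂ)) hξi.isClassFunction
    rw [← hξdef, hξi.inner_self] at h1
    have h2 : (fun h : K' => ξ h) = ξ 1 • fun _ => (1 : ℂ) := by
      funext h; simp [hcon h h.2]
    rw [h2, classInner_smul_right,
      (isIrrCharacter_hom lam).inner_eq_zero_of_ne isIrrCharacter_one hne, mul_zero] at h1
    exact one_ne_zero h1
  obtain ⟨v, hv⟩ := exists_res_sub_const hS' hstar hext (hstar.2.2.2 ξ (hz ξ hξ)).isClassFunction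
    hξi.isClassFunction (fun χ hχ => hstar.2.2.1 ξ (hz ξ hξ) χ (hz χ hχ))
  obtain ⟨m, rfl⟩ := exists_int_of_const (φ := fun k : K' => star ξ k - ξ k)
    ((((hstar.2.2.2 ξ (hz ξ hξ)).restrict N).sub hξi.isGeneralizedCharacter).restrict K') lam hlam
    (v := v) (fun k hk => hv k k.2 fun e => hk (Subtype.ext e))
  refine ⟨m, fun χ hχ k hk hk1 => ?_⟩
  obtain ⟨a, ha⟩ := (hirr χ hχ).isGeneralizedCharacter.exists_apply_one
  have hb : ξ 1 = ((K'.index : ℤ) : ℂ) := by rw [hξ1]; simp
  have hα := cross_mem_zspanOn hχ hξ ha hb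
  have e := congrFun (hext _ hα) k
  rw [isometry_map_cross hstar hχ hξ, indFun_apply_of_tifn hTI hC
    (((hirr χ hχ).isClassFunction.smul _).sub (hξi.isClassFunction.smul _))
    (fun x hx => by simp [hvan χ hχ x hx, hvan ξ hξ x hx]) (hα.2 1 (by simp))] at e
  have h0 : (K'.index : ℂ) ≠ 0 := Nat.cast_ne_zero.2 Subgroup.index_ne_zero_of_finite
  have h1 := hv k hk hk1
  simp only [Pi.sub_apply, Pi.smul_apply] at e
  simp only [zsmul_eq_mul, Int.cast_natCast] at e
  rw [eq_div_iff h0, ha]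
  linear_combination e + a * h1

/-- Let K be a subgroup of the finite group G that meets each conjugate by an element outside its normalizer N trivially, is properly contained in N, and contains the centralizer of each of its non-identity elements (a T.I. subgroup with Frobenius normalizer). Let S be the set of irreducible characters of N taking at some element of K a value different from their degree, suppose S has at least two members, and let star be a linear isometry on the integer span of S into the generalized characters of G that agrees with induction on the members vanishing at the identity (so S is coherent, with star as the extending isometry). Then there is a single integer m such that star χ k - χ k = m * χ 1 / e for every χ in S and every non-identity element k of K, where e is the index of K in N. -/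
theorem result {G : Type*} [Group G] [Fintype G] (K : Subgroup G) (hTI : ∀ g : G, g ∉ Subgroup.normalizer (K : Set G) → ∀ k ∈ K, g * k * g⁻¹ ∈ K → k = 1) (hlt : K < Subgroup.normalizer (K : Set G)) (hC : ∀ k ∈ K, k ≠ 1 → Subgroup.centralizer ({k} : Set G) ≤ K) [Fintype ↥(Subgroup.normalizer (K : Set G))] (S : Set (↥(Subgroup.normalizer (K : Set G)) → ℂ)) (hS : S = {χ : ↥(Subgroup.normalizer (K : Set G)) → ℂ | Cfsg.IsIrrCharacter ↥(Subgroup.normalizer (K : Set G)) χ ∧ ∃ k : ↥(Subgroup.normalizer (K : Set G)), (k : G) ∈ K ∧ χ k ≠ χ 1}) (htwo : ∃ χ ∈ S, ∃ ξ ∈ S, χ ≠ ξ) (star : (↥(Subgroup.normalizer (K : Set G)) → ℂ) → (G → ℂ)) (hstar : Cfsg.IsLinearIsometryOn (Cfsg.zspan S) star) (hext : ∀ α ∈ Cfsg.zspanOn S ({1}ᶜ : Set ↥(Subgroup.normalizer (K : Set G))), star α = Cfsg.indFun (Subgroup.normalizer (K : Set G)) α) : ∃ m : ℤ, ∀ χ ∈ S, ∀ k : ↥(Subgroup.normalizer (K : Set G)), (k : G) ∈ K → k ≠ 1 → star χ k - χ k = (m : ℂ) * χ 1 / ((K.subgroupOf (Subgroup.normalizer (K : Set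 G))).index : ℂ) := by
  obtain ⟨χ, hχ, -⟩ := htwo
  exact aux K hTI hlt hC S hS ⟨χ, hχ⟩ star hstar hext

end Cfsg.Agent.S0853
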