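import Cfsg.Statements.S1534
import Cfsg.Agent.Lib.PF.FeitCoh2

set_option autoImplicit false
open Cfsg

namespace Cfsg.Agent.S1534

open Cfsg.Lib Cfsg.Lib.PF Subgroup in

/-- Let G be a finite group and K a nontrivial nilpotent subgroup whose underlying set is a TI-subset of G, properly contained in its set normaliser N, with C_G(k) ≤ K for every non-identity k ∈ K; let e be the index of K in N and S the set of irreducible characters χ of N with χ k ≠ χ 1 for some k ∈ K. Then one of: S has exactly one member, Nat.card K = e + 1 and K is an elementary abelian p-group for some prime p; or K is a Sylow 2-subgroup of G (Nat.card K is the largest power of 2 dividing Nat.card G) and [K : [K,K]] < 4e²; or (S, N minus 1, induction to G) is coherent. -/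
theorem result {G : Type*} [Group G] [Fintype G] (K : Subgroup G) (hK1 : K ≠ ⊥) (hnil : Group.IsNilpotent K) (hTI : Cfsg.IsTISubset (K : Set G)) (hlt : K < Subgroup.normalizer (K : Set G)) (hC : ∀ k ∈ K, k ≠ 1 → Subgroup.centralizer ({k} : Set G) ≤ K) [Fintype ↥(Subgroup.normalizer (K : Set G))] : (Nat.card {χ : ↥(Subgroup.normalizer (K : Set G)) → ℂ // Cfsg.IsIrrCharacter ↥(Subgroup.normalizer (K : Set G)) χ ∧ ∃ k : ↥(Subgroup.normalizer (K : Set G)), (k : G) ∈ K ∧ χ k ≠ χ 1} = 1 ∧ Nat.card K = (K.subgroupOf (Subgroup.normalizer (K : Set G))).index + 1 ∧ ∃ p : ℕ, p.Prime ∧ Cfsg.IsElementaryAbelian p K) ∨ (Nat.card K = 2 ^ (Nat.card G).factorization 2 ∧ (⁅K, K⁆.subgroupOf K).index < 4 * (K.subgroupOf (Subgroup.normalizer (K : Set G))).index ^ 2) ∨ Cfsg.IsCoherent {χ : ↥(Subgroup.normalizer (K : Set G)) → ℂ | Cfsg.IsIrrCharacter ↥(Subgroup.normalizer (K : Set G)) χ ∧ ∃ k : ↥(Subgroup.normalizer (K : Set G)), (k : G) ∈ K ∧ χ k ≠ χ 1} {1}ᶜ (fun α => Cfsg.indFun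 (Subgroup.normalizer (K : Set G)) α) := by
  have hF := frobKer_normalizer hK1 hlt hC
  refine (em _).imp (fun he => ⟨hF.card_subtype.trans (hF.card_seqIndD_eq_one_iff.2 he), he,
    hF.elab_of_card he⟩) fun he => (hF.coherent_of_TI (normedTI_sharp_of_isTISubset hK1 hTI)).symm.imp
      (fun h => ⟨?_, h.2.2⟩) (hF.isCoherent he)
  obtain ⟨P, hP⟩ := h.1.exists_le_sylow
  have := (P : Subgroup G).nontrivial_iff_ne_bot.2 fun e => hK1 (eq_bot_iff.2 (e ▸ hP))
  obtain ⟨⟨z, hz⟩, h1⟩ := (center P).nontrivial_iff_exists_ne_one.1 P.isPGroup'.center_nontrivial |>.imp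
    fun z h => (⟨h.1, h.2⟩ : z ∈ center P ∧ z ≠ 1)
  obtain ⟨k, hk, hk1⟩ := K.bot_or_exists_ne_one.resolve_left hK1
  have hc : ∀ g ∈ (P : Subgroup G), g * z = z * g := fun g hg =>
    congrArg Subtype.val (mem_center_iff.1 h1.1 ⟨g, hg⟩)
  have hzK := hC k hk hk1 (mem_centralizer_singleton_iff.2 (hc k (hP hk)).symm)
  rw [← P.card_eq_multiplicity, le_antisymm hP fun g hg => hC z hzK (fun e => h1.2 (Subtype.ext e))
    (mem_centralizer_singleton_iff.2 (hc g hg))]

end Cfsg.Agent.S1534
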