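import Cfsg.Statements.S2793
import Cfsg.Agent.Lib.ZF.H

set_option autoImplicit false
open Cfsg

namespace Cfsg.Agent.S2793

/-- Let p be an odd prime, S a Sylow p-subgroup of the finite group G, J(S) the subgroup generated by the abelian subgroups of S of largest order, and suppose Z(J(S)) does not control strong fusion in G. Put H = N_G(Z(J(S))). Then the group F(p) of upper triangular 3 × 3 matrices (a b c; 0 a⁻¹ d; 0 0 1) over the field with p elements is involved in H, and Z(J(S)) contains a subgroup C of order p with |N_H(C) : C_H(C)| = p − 1. -/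
theorem result {G : Type*} [Group G] [Finite G] {p : ℕ} [Fact p.Prime] (hp : p ≠ 2) (S : Sylow p G) (h : ¬ Cfsg.ControlsStrongFusion p (Cfsg.centerThompsonAOf (S : Subgroup G))) (H : Subgroup G) (hH : H = Subgroup.normalizer ((Cfsg.centerThompsonAOf (S : Subgroup G)) : Set G)) : Cfsg.Involves ↥(Cfsg.fOver (ZMod p)) ↥H ∧ ∃ C : Subgroup G, C ≤ (Cfsg.centerThompsonAOf (S : Subgroup G)) ∧ Nat.card C = p ∧ (H ⊓ Subgroup.centralizer (C : Set G)).relIndex (H ⊓ Subgroup.normalizer (C : Set G)) = p - 1 := by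
  open Cfsg.Lib Cfsg.Agent.ZF in
  rw [PLocal.centerThompsonAOf_eq] at *
  obtain ⟨ω, hω⟩ := IsCyclic.exists_monoid_generator (α := (ZMod p)ˣ)
  obtain ⟨n, hn⟩ := hω (-1)
  obtain ⟨B, D, t, f, g, r, hB, hD, ht, z, hz, z1, z2⟩ := ZF.good_of_not_controls hp (ω := ω) hn S
    fun h' => h (h'.controlsStrongFusion (Lib.PLocal.centerThompsonOf_le _))
  have hS : (S : Subgroup G) ≤ H := hH ▸ Subgroup.le_normalizer.trans
    (Lib.PLocal.normalizer_le_normalizer_centerThompsonOf _)
  refine ⟨Lib.PLocal.hasSection_iff.mp (r.hasSection hω (hB.trans hS) (hD.trans hS) (hH ▸ ht)),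
    ZF.exists_index (ω := ω) ?_ (S.isPGroup'.to_le (Lib.PLocal.centerThompsonOf_le _)) (hH ▸ ht)
      hz z1 z2⟩
  rw [orderOf_eq_card_of_forall_mem_powers hω, Nat.card_eq_fintype_card, ZMod.card_units]

end Cfsg.Agent.S2793
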