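import Cfsg.Statements.S1006
import Cfsg.Agent.Lib.Small.O168

set_option autoImplicit false
open Cfsg

namespace Cfsg.Agent.S1006

open Lib.Small Lib.Small.O168

/-- In a simple group of order 168 there are 56 elements of order 3, all conjugate; 42 elements of order 4, all conjugate; and 48 elements of order 7 falling into two conjugacy classes of size 24, an element of order 7 not being conjugate to its inverse. -/
theorem result {G : Type*} [Group G] [Finite G] [IsSimpleGroup G] (h : Nat.card G = 168) : Nat.card {g : G // orderOf g = 3} = 56 ∧ (∀ s t : G, orderOf s = 3 → orderOf t = 3 → IsConj s t) ∧ Nat.card {g : G // orderOf g = 4} = 42 ∧ (∀ s t : G, orderOf s = 4 → orderOf t = 4 → IsConj s t) ∧ Nat.card {g : G // orderOf g = 7} = 48 ∧ ∀ x : G, orderOf x = 7 → Nat.card {g : G // IsConj x g} = 24 ∧ ¬ IsConj x x⁻¹ := by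
  refine ⟨card_three h, fun s t => isConj_three h, card_four h, fun s t => isConj_four h,
    card_seven h, fun x hx => ⟨?_, fun hc => ?_⟩⟩
  · have := card_isConj_mul_card_centralizer x
    rw [(selfCent h (Or.inr rfl) hx).cent, Nat.card_zpowers, hx] at this
    omega
  · obtain ⟨g, hg⟩ := isConj_iff.mp hc
    have h1 : g ∈ Subgroup.normalizer (Subgroup.zpowers x : Set G) := by
      rw [← Lib.Transfer.conj_eq_self_iff, Lib.Transfer.conj_zpowers, hg, Subgroup.zpowers_inv]
    have h2 := Subgroup.orderOf_dvd_natCard _ h1
    rw [card_normalizer_seven h hx] at h2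
    have h3 := Lib.Inv.mul_self_eq_one_of_odd_inv hg (Odd.of_dvd_nat (by decide) h2)
    have h4 := orderOf_dvd_of_pow_eq_one (x := x) (n := 2) (by rw [sq, h3])
    rw [hx] at h4
    omega

end Cfsg.Agent.S1006
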