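import Cfsg.Statements.S2384
import Cfsg.Agent.Lib.GLC.Unip

set_option autoImplicit false
open Cfsg

namespace Cfsg.Agent.S2384

/-- In `SL_n(q)`, `q` a power of the prime `p`, the number of conjugacy classes of elements of order prime to `p` (the semisimple classes) is `q^(n-1)`. -/
theorem result {F : Type*} [Field F] [Fintype F] {q : ℕ} (hq : Fintype.card F = q) (p : ℕ) [Fact p.Prime] [CharP F p] (n : ℕ) (hn : 1 ≤ n) :
    Nat.card {c : ConjClasses (Matrix.SpecialLinearGroup (Fin n) F) //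
      ∃ g : Matrix.SpecialLinearGroup (Fin n) F, ConjClasses.mk g = c ∧ (orderOf g).Coprime p} = q ^ (n - 1) := by
  open Lib.GLC Matrix Polynomial in
  obtain ⟨m, rfl⟩ : ∃ m, n = m + 1 := ⟨n - 1, by omega⟩
  have h1 : ∀ g : SpecialLinearGroup (Fin (m + 1)) F, (orderOf g).Coprime p ↔ Module.End.IsSemisimple (toLin' g.1) :=
    fun g => by
      rw [← orderOf_toLin'_sl]
      exact coprime_iff_isSemisimple p (isUnit_toLin'_gl (SpecialLinearGroup.toGL g))
  have h0 : ∀ f : Module.End F (Fin (m + 1) → F), LinearMap.det f = 1 ↔ f.charpoly.coeff 0 = (-1) ^ (m + 1) := fun f => by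
    rw [LinearMap.det_eq_sign_charpoly_coeff, Module.finrank_fin_fun]
    rcases neg_one_pow_eq_or F (m + 1) with h | h <;> simp [h, neg_eq_iff_eq_neg]
  refine (card_classes' (fun g : SpecialLinearGroup (Fin (m + 1)) F => (orderOf g).Coprime p)
    (fun g => (toLin' g.1).charpoly) (fun P => (P.Monic ∧ P.natDegree = m + 1) ∧
    P.coeff 0 = (-1) ^ (m + 1)) (fun a b ha hb => ⟨fun h => (sim_of_sl_isConj h).charpoly_eq, fun h => sl_isConj_of_sim
      (sim_of_charpoly_eq ((h1 a).1 ha) ((h1 b).1 hb) h) (detC_eq_top_of_isSemisimple ((h1 a).1 ha))⟩)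
    fun P => ⟨fun ⟨⟨h2, h3⟩, h4⟩ => ?_, ?_⟩).trans ?_
  · obtain ⟨f, hf, rfl⟩ := exists_isSemisimple (V := Fin (m + 1) → F) h2 (by simpa using h3)
    obtain ⟨g, hg⟩ := exists_sl_sim (n := Fin (m + 1)) ((h0 f).2 h4) (by simp)
    exact ⟨g, (h1 g).2 (hg.symm.isSemisimple hf), hg.charpoly_eq⟩
  · rintro ⟨g, -, rfl⟩
    exact ⟨⟨LinearMap.charpoly_monic _, by simp⟩, (h0 _).1 ((LinearMap.det_toLin' _).trans g.2)⟩
  rw [card_monic_coeff m (· = (-1) ^ (m + 1)), Nat.card_unique, Nat.card_eq_fintype_card, hq, Nat.add_sub_cancel, one_mul]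

end Cfsg.Agent.S2384
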