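import Cfsg.Statements.S2479
import Cfsg.Agent.Lib.GLC.ClassNum2
import Cfsg.Agent.S2384
import Cfsg.Agent.Lib.GLC.Ord2

set_option autoImplicit false
open Cfsg

namespace Cfsg.Agent.S2479

/-- The number of conjugacy classes of SL(n,q): for F a finite field with q elements, the number k of conjugacy classes of SL(n,F) satisfies q^(n−1) < k and k ≤ (5/2)·q^(n−1) for n ≥ 2, and k ≤ q^(n−1) + 3q^(n−2) for n ≥ 3. -/
theorem result {F : Type*} [Field F] [Fintype F] (n : ℕ) (hn : 2 ≤ n) :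
    Fintype.card F ^ (n - 1) < Nat.card (ConjClasses (Matrix.SpecialLinearGroup (Fin n) F)) ∧ 2 * Nat.card (ConjClasses (Matrix.SpecialLinearGroup (Fin n) F)) ≤ 5 * Fintype.card F ^ (n - 1) ∧
      (3 ≤ n → Nat.card (ConjClasses (Matrix.SpecialLinearGroup (Fin n) F)) ≤ Fintype.card F ^ (n - 1) + 3 * Fintype.card F ^ (n - 2)) := by
  open Cfsg.Lib.GLC Polynomial Matrix in
  haveI : NeZero n := ⟨by omega⟩
  obtain ⟨p, hp⟩ := CharP.exists F
  haveI := Fact.mk (CharP.char_is_prime F p)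
  have h1 := card_sl_le (F := F) (n := n)
  obtain ⟨Q, hQ⟩ := Nat.exists_eq_add_one_of_ne_zero (Fintype.card_pos (α := F)).ne'
  have h0 : 0 < Q := by have := Fintype.one_lt_card (α := F); omega
  rw [Nat.card_eq_fintype_card (α := F), hQ, Nat.add_sub_cancel, mul_comm] at h1
  refine ⟨?_, ?_, fun h => hQ ▸ Nat.le_of_mul_le_mul_left (h1.trans (wt_gl_le h0.ne' h le_rfl)) h0⟩
  · rw [← Cfsg.Agent.S2384.result rfl p n (by omega)]
    obtain ⟨x, hx⟩ := exists_psl_char (n := Fin n) (F := F) p (by simpa)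
    obtain ⟨x, rfl⟩ := QuotientGroup.mk_surjective x
    refine Finite.card_subtype_lt (x := ConjClasses.mk x) fun ⟨g, h2, h3⟩ => ?_
    obtain ⟨c, rfl⟩ := isConj_iff.1 (ConjClasses.mk_eq_mk_iff_isConj.1 h2)
    have := hx.trans (orderOf_map_dvd (QuotientGroup.mk' _) _)
    rw [← MulAut.conj_apply, MulEquiv.orderOf_eq] at this
    exact (Nat.Prime.coprime_iff_not_dvd Fact.out).1 h3.symm this
  · rw [hQ]
    refine Nat.le_of_mul_le_mul_left (le_trans ?_ (two_mul_wt_gl_le h0.ne' (by omega) le_rfl)) h0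
    rw [mul_left_comm]
    exact Nat.mul_le_mul_left _ h1

end Cfsg.Agent.S2479
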