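import Cfsg.Statements.S2480
import Cfsg.Agent.S2479

set_option autoImplicit false
open Cfsg

namespace Cfsg.Agent.S2480

/-- The number of conjugacy classes of PSL(n,q): for F a finite field with q elements, n ≥ 2 and d = gcd(n, q − 1), the number k of conjugacy classes of PSL(n,F) satisfies q^(n−1) ≤ d·k ≤ q^(n−1) + 5q^(n−2). -/
theorem result {F : Type*} [Field F] [Fintype F] (n : ℕ) (hn : 2 ≤ n) :
    Fintype.card F ^ (n - 1) ≤ Nat.gcd n (Fintype.card F - 1) * Nat.card (ConjClasses (Matrix.ProjectiveSpecialLinearGroup (Fin n) F)) ∧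
      Nat.gcd n (Fintype.card F - 1) * Nat.card (ConjClasses (Matrix.ProjectiveSpecialLinearGroup (Fin n) F)) ≤ Fintype.card F ^ (n - 1) + 5 * Fintype.card F ^ (n - 2) := by
  open Cfsg.Lib.GLC Polynomial Matrix in
  classical
  haveI : NeZero n := ⟨by omega⟩
  have := Fintype.ofFinite (Subgroup.center (SpecialLinearGroup (Fin n) F))
  have h1 := card_conjClasses_quot_center (SpecialLinearGroup (Fin n) F)
  have hZ := Lib.Linear.card_center_SL (ι := Fin n) (F := F)
  rw [Fintype.card_fin] at hZ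
  rw [mul_comm, hZ, ← Finset.add_sum_erase _ _ (Finset.mem_univ 1)] at h1
  simp only [OneMemClass.coe_one, mul_one, IsConj.refl] at h1
  rw [Nat.card_congr (Equiv.subtypeUnivEquiv fun _ => trivial)] at h1
  obtain ⟨h2, -, h3⟩ := Cfsg.Agent.S2479.result (F := F) n hn
  refine ⟨h2.le.trans (h1 ▸ le_self_add), h1 ▸ ?_⟩
  have h4 := card_sl_le (F := F) (n := n)
  obtain ⟨Q, hQ⟩ := Nat.exists_eq_add_one_of_ne_zero (Fintype.card_pos (α := F)).ne'
  have h0 : 0 < Q := by have := Fintype.one_lt_card (α := F); omega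
  have h5 : ∀ z ∈ Finset.univ.erase (1 : Subgroup.center (SpecialLinearGroup (Fin n) F)), ∃ m, m ≠ 0 ∧ m ≤ n / 2 ∧
      Q * Nat.card {C : ConjClasses (SpecialLinearGroup (Fin n) F) // IsConj (C.out * z) C.out} ≤ wt Q (Q + 1) n m := by
    intro z hz
    obtain ⟨c, hc⟩ := sl_mem_center_iff.1 z.2
    have h5 : c ^ n = 1 := by simpa [hc] using z.1.2
    have h6 : 0 < orderOf c := orderOf_pos_iff.2 (isOfFinOrder_iff_pow_eq_one.2 ⟨n, by omega, h5⟩)
    have h7 : orderOf c ≠ 1 := mt orderOf_eq_one_iff.1 fun e =>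
      Finset.ne_of_mem_erase hz (Subtype.ext (Subtype.ext (by rw [hc, e, one_smul]; rfl)))
    have h8 := card_fixed_le (n := n) h6
    rw [Nat.card_eq_fintype_card (α := F), hQ, Nat.add_sub_cancel, mul_comm] at h8
    refine ⟨_, (Nat.div_pos (orderOf_le_of_pow_eq_one (by omega) h5) h6).ne', Nat.div_le_div_left (by omega) two_pos,
      (Nat.mul_le_mul_left _ (Nat.card_le_card_of_injective _ (Subtype.impEmbedding _ _ fun C hC => ?_).injective)).trans h8⟩
    simpa [hc] using sim_of_sl_isConj hC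
  have h6 : (Finset.univ.erase (1 : Subgroup.center (SpecialLinearGroup (Fin n) F))).card = n.gcd Q - 1 := by
    rw [Finset.card_erase_of_mem (Finset.mem_univ _), Finset.card_univ, ← Nat.card_eq_fintype_card, hZ, hQ]; rfl
  have h7 := Nat.le_of_dvd h0 (Nat.gcd_dvd_right n Q)
  have h8 := Nat.le_of_dvd (by omega) (Nat.gcd_dvd_left n Q)
  rw [Nat.card_eq_fintype_card (α := F), hQ, Nat.add_sub_cancel, mul_comm] at h4
  rw [hQ] at h3 ⊢
  rcases hn.eq_or_lt with rfl | hn
  · have h9 := Finset.sum_le_card_nsmul _ _ 1 fun z hz => by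
      obtain ⟨m, h1, h2, h3⟩ := h5 z hz
      obtain rfl : m = 1 := by omega
      exact Nat.le_of_mul_le_mul_left (h3.trans ((wt_gl_one Q 2).trans (mul_one Q).ge)) h0
    have h10 := Nat.le_of_mul_le_mul_left (h4.trans (wt_gl_two Q 2)) h0
    rw [h6] at h9
    simp only [smul_eq_mul] at h9
    split_ifs at h10 <;> simp only [Nat.add_one_sub_one, pow_one, pow_zero, Nat.sub_self] <;> omega
  have h9 := Finset.sum_le_card_nsmul _ (fun z => 2 * _) (5 * (Q + 1) ^ (n / 2 - 1)) fun z hz => by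
    obtain ⟨m, h1, h2, h3⟩ := h5 z hz
    refine (Nat.le_of_mul_le_mul_left (le_trans ?_ (two_mul_wt_gl_le h0.ne' h1 (show m ≤ n by omega))) h0).trans
      (Nat.mul_le_mul_left _ (Nat.pow_le_pow_right Q.succ_pos (by omega)))
    rw [mul_left_comm]
    exact Nat.mul_le_mul_left _ h3
  rw [h6, ← Finset.mul_sum, smul_eq_mul, ← mul_assoc] at h9
  have h10 : (n.gcd Q - 1) * 5 * (Q + 1) ^ (n / 2 - 1) ≤ 4 * (Q + 1) ^ (n - 2) := by
    rcases le_or_gt n 4 with h | h
    · rw [show n - 2 = n / 2 - 1 + 1 by omega, pow_succ', ← mul_assoc]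
      exact Nat.mul_le_mul_right _ (by omega)
    · refine le_trans ?_ (Nat.mul_le_mul_left _ (Nat.pow_le_pow_right Q.succ_pos (show 2 + (n / 2 - 1) ≤ n - 2 by omega)))
      rw [pow_add, ← mul_assoc]
      exact Nat.mul_le_mul_right _ (by have : n.gcd Q - 1 ≤ Q := by omega
                                       nlinarith)
  have := h3 hn
  omega

end Cfsg.Agent.S2480
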