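import Cfsg.Statements.S4201
import Cfsg.Agent.Lib.FGS.Classes

set_option autoImplicit false
open Cfsg

namespace Cfsg.Agent.S4201

/-- If N is a normal subgroup of the finite group X then k(X) ≤ k(N)·k(X ⧸ N), where k denotes the number of conjugacy classes. -/
theorem result {X : Type*} [Group X] [Finite X] (N : Subgroup X) [N.Normal] : Nat.card (ConjClasses X) ≤ Nat.card (ConjClasses N) * Nat.card (ConjClasses (X ⧸ N)) := by
  open Cfsg.Lib.FGS Cfsg.Lib.BG in
  have h := kQ_piElt_le_mul N Set.univ
  have e : ∀ (H : Type _) [Group H], kQ (PiElt Set.univ : H → Prop) = Nat.card (ConjClasses H) := fun H _ => by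
    rw [← kQ_true]; exact kQ_congr fun x => ⟨fun _ => trivial, fun _ _ _ _ => trivial⟩
  rwa [e, e, e] at h

end Cfsg.Agent.S4201
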