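import Cfsg.Statements.S0981
import Cfsg.Agent.Lib.Small.Order

set_option autoImplicit false
open Cfsg

namespace Cfsg.Agent.S0981

/-- A simple group of order 4080 is isomorphic to the projective special linear group of dimension 2 over the field with 16 elements. -/
theorem result {G : Type*} [Group G] [Finite G] [IsSimpleGroup G] (h : Nat.card G = 4080) {F : Type*} [Field F] [Fintype F] (hF : Fintype.card F = 16) : Nonempty (G ≃* Matrix.ProjectiveSpecialLinearGroup (Fin 2) F) := by
  obtain ⟨χ, θ, h1⟩ := Lib.Small.exists_tri (B := 64) (p := 17) (q := 16) (z := 15) (by norm_num) h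
    rfl (by norm_num) (by norm_num) (by norm_num) (by decide) (by decide +kernel)
  exact h1.equiv_psl_even (Lib.Small.not_isMulCommutative_of_simple (by rw [h]; norm_num))
    (k := 4) rfl rfl (by decide) F hF

end Cfsg.Agent.S0981
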