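import Cfsg.Statements.S0983
import Cfsg.Agent.Lib.Small.SieveFT
import Cfsg.Agent.Lib.Small.SylCount2

set_option autoImplicit false
open Cfsg

namespace Cfsg.Agent.S0983

open Subgroup MulAction Lib.Small
open scoped Pointwise

theorem aux {G : Type*} [Group G] [Finite G] [IsSimpleGroup G] : Nat.card G ≠ 5400 := by
  intro h
  have : Fact (Nat.Prime 5) := ⟨by norm_num⟩
  have hG := not_isMulCommutative_of_simple (G := G) (by rw [h]; norm_num)
  have hP : ∀ P : Sylow 5 G, Nat.card P = 25 := fun P =>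
    (card_sylow_eq 5 P (k := 2) (m := 216) h (by decide)).1
  have hc := fun P => isMulCommutative_of_card_dvd_sq (p := 5) (hP P).dvd
  obtain ⟨P⟩ : Nonempty (Sylow 5 G) := inferInstance
  have h1 := mem_sylNums (B := 73) hG h (by decide) (by decide) P (hP P)
  rw [show sylNums 73 5400 5 25 = [36] by decide +kernel, List.mem_singleton] at h1
  have h2 := card_sylow_mul_card_normalizer P
  rw [h1, h] at h2
  obtain ⟨u, hu, h3⟩ := exists_mem_orderOf_eq_prime (H := normalizer ((P : Subgroup G) : Set G))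
    Nat.prime_three (by omega)
  have h4 : ∀ g : zpowers u, g • P = P := fun g =>
    Sylow.smul_eq_iff_mem_normalizer.2 (zpowers_le.2 hu g.2)
  have h5 : ∀ g : G, g • P = P → ∀ R : Sylow 5 G, (P : Subgroup G) ⊓ (g • R : Sylow 5 G) = ⊥ ↔
      (P : Subgroup G) ⊓ R = ⊥ := fun g hg R => by
    conv_lhs => rw [← hg]
    rw [Sylow.coe_subgroup_smul, Sylow.coe_subgroup_smul, ← smul_inf,
      smul_eq_iff_eq_inv_smul, smul_bot]
  have h6 : 25 ∣ {R : Sylow 5 G | (P : Subgroup G) ⊓ R = ⊥}.ncard :=
    dvd_ncard_of_orbits (A := (P : Subgroup G)) (fun g R hR => (h5 g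
      (Sylow.smul_eq_iff_mem_normalizer.2 (le_normalizer g.2)) R).2 hR) fun R hR => by
        rw [ncard_orbit_sylow, ← inf_relIndex_left, hR, relIndex_bot_left, hP]
  have h7 : 3 ∣ ({R : Sylow 5 G | (P : Subgroup G) ⊓ R = ⊥}ᶜ \ {P}).ncard := by
    refine dvd_ncard_of_orbits (A := zpowers u) (fun g R hR => ⟨(h5 g (h4 g) R).not.2 hR.1,
      fun e => hR.2 (smul_left_cancel g (e.trans (h4 g).symm))⟩) fun R hR => ?_
    rw [← index_stabilizer]
    refine ((Nat.dvd_prime Nat.prime_three).1 (by
      simpa [h3] using (stabilizer (zpowers u) R).index_dvd_card)).elim (fun h7 => ?_) (·.symm.dvd)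
    have h8 : u ∈ normalizer ((R : Subgroup G) : Set G) := Sylow.smul_eq_iff_mem_normalizer.1
      ((index_eq_one.1 h7).ge (mem_top ⟨u, mem_zpowers u⟩))
    generalize hH : normalizer (((P : Subgroup G) ⊓ R : Subgroup G) : Set G) = H
    have h9 : ∀ Q : Sylow 5 G, (P : Subgroup G) ⊓ R ≤ Q → (Q : Subgroup G) ≤ H := fun Q hQ =>
      have := hc Q
      hH ▸ ((Q : Subgroup G).le_centralizer.trans (centralizer_le hQ)).trans
        (centralizer_le_normalizer _)
    have h10 := one_lt_card_sylow hR.2 (h9 P inf_le_left) (h9 R inf_le_right)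
    have h13 := lt_index_of_simple (k := 9) hG h (by decide) (hH ▸ normalizer_ne_top_of_simple hR.1
      fun e => sylow_ne_top hG P (top_le_iff.1 (e.ge.trans inf_le_left)) : H ≠ ⊤)
    have h14 := card_sylow_mul_card_inf (h9 P inf_le_left)
    have h15 : 3 ∣ Nat.card ↥(normalizer ((P : Subgroup G) : Set G) ⊓ H) := h3 ▸
      orderOf_dvd_natCard _ ⟨hu, hH ▸ inf_normalizer_le_normalizer_inf ⟨hu, h8⟩⟩
    have h16 := hP P ▸ card_dvd_of_le (le_inf le_normalizer (h9 P inf_le_left))
    have h17 := card_sylow_modEq_one 5 H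
    have h18 := H.card_mul_index
    obtain ⟨s, hs⟩ : 75 ∣ _ := (by norm_num : Nat.Coprime 3 25).mul_dvd_of_dvd_of_dvd h15 h16
    have h19 : Nat.card H = 450 := by
      rw [h] at h18
      rw [hs] at h14
      have : 6 ≤ Nat.card (Sylow 5 H) := by unfold Nat.ModEq at h17; omega
      have : s * Nat.card (Sylow 5 H) ≤ 7 := by nlinarith
      have : s = 1 := by
        have : s ≠ 0 := by rintro rfl; simp [← h14] at h18
        nlinarith [Nat.pos_of_ne_zero this]
      unfold Nat.ModEq at h17
      subst s; omega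
    obtain ⟨j, h20, h21, h22⟩ := card_sylow_dvd_of_two_mul (k := 2) (m := 9) h19 (by decide)
      (by decide) h10
    have := Nat.le_of_dvd (by decide) h22
    interval_cases j <;> simp_all [Nat.ModEq]
  have h8 := Set.ncard_add_ncard_compl {R : Sylow 5 G | (P : Subgroup G) ⊓ R = ⊥}
  rw [← Set.ncard_sdiff_singleton_add_one (s := _ᶜ) (a := P) (by
    simpa using sylow_ne_bot (by rw [h]; decide) P), h1] at h8
  omega

/-- A non-abelian finite simple group of order greater than 3640 and at most 6232 has order 4080, 5616, 6048 or 6072. -/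
theorem result {G : Type*} [Group G] [Finite G] [IsSimpleGroup G] (hG : ¬ IsMulCommutative G) (h1 : 3640 < Nat.card G) (h2 : Nat.card G ≤ 6232) : Nat.card G = 4080 ∨ Nat.card G = 5616 ∨ Nat.card G = 6048 ∨ Nat.card G = 6072 := by
  have h := Lib.Small.card_mem_of_range hG (B := 79) (a := 3641) (k := 2592)
    (L := [4080, 5400, 5616, 6048, 6072]) (by decide +kernel) h1 (by omega)
  simpa [aux] using h

end Cfsg.Agent.S0983
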