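import Cfsg.Statements.S4774
import Cfsg.Agent.Lib.CharDeg.PSL2Deg

set_option autoImplicit false
open Cfsg

namespace Cfsg.Agent.S4774

open Cfsg.Lib.GLTwo Cfsg.Lib.Char Cfsg.Lib.PSL2 in

/-- Let F be a finite field of odd characteristic t with q > 5 elements and let S be isomorphic to PSL(2,F) or to SL(2,F). Then the vertices of the character degree graph of S are the primes dividing q(q²−1); the prime t is adjacent to no vertex; two distinct primes dividing q² − 1 are adjacent exactly when one of them is 2, or both divide q + 1, or both divide q − 1. -/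
theorem result (F : Type*) [Field F] [Fintype F] (t : ℕ) [Fact t.Prime] [CharP F t] (ht : t ≠ 2) (q : ℕ) (hq : Fintype.card F = q) (h5 : 5 < q) {S : Type*} [Group S] [Finite S] (hS : Nonempty (S ≃* Matrix.ProjectiveSpecialLinearGroup (Fin 2) F) ∨ Nonempty (S ≃* Matrix.SpecialLinearGroup (Fin 2) F)) : Cfsg.degreePrimes S = {r : ℕ | r.Prime ∧ r ∣ q * (q ^ 2 - 1)} ∧ ∀ r s : ℕ, (Cfsg.degreeGraph S).Adj r s ↔ (r ≠ s ∧ r.Prime ∧ s.Prime ∧ r ∣ q ^ 2 - 1 ∧ s ∣ q ^ 2 - 1 ∧ (r = 2 ∨ s = 2 ∨ (r ∣ q + 1 ∧ s ∣ q + 1) ∨ (r ∣ q - 1 ∧ s ∣ q - 1))) := by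
  subst hq
  have ho := odd_card_of_char_ne_two (F := F) t ht
  rw [Nat.card_eq_fintype_card, Nat.odd_iff] at ho
  have h1 : ¬ Fintype.card F - 1 ∣ 4 := fun h => by
    have := Nat.le_of_dvd (by norm_num) h
    omega
  have h2 : ¬ Fintype.card F + 1 ∣ 4 := fun h => by
    have := Nat.le_of_dvd (by norm_num) h
    omega
  refine ⟨degreePrimes_eq hS h1 h2, fun r s => ?_⟩
  rw [degreeGraph_adj_iff hS h1 h2, sq_sub_one_eq'']
  refine and_congr_right fun hne => and_congr_right fun hr => and_congr_right fun hs => ⟨?_, ?_⟩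
  · rintro (⟨e1, e2⟩ | ⟨e1, e2⟩)
    · exact ⟨e1.mul_right _, e2.mul_right _, Or.inr (Or.inr (Or.inl ⟨e1, e2⟩))⟩
    · exact ⟨e1.mul_left _, e2.mul_left _, Or.inr (Or.inr (Or.inr ⟨e1, e2⟩))⟩
  · rintro ⟨e1, e2, rfl | rfl | h⟩
    · rcases (Nat.Prime.dvd_mul hs).1 e2 with h | h
      · exact Or.inl ⟨by omega, h⟩
      · exact Or.inr ⟨by omega, h⟩
    · rcases (Nat.Prime.dvd_mul hr).1 e1 with h | h
      · exact Or.inl ⟨h, by omega⟩
      · exact Or.inr ⟨h, by omega⟩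
    · exact h

end Cfsg.Agent.S4774
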