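import Cfsg.Statements.S2476
import Cfsg.Agent.Lib.GLC.Ord2

set_option autoImplicit false
open Cfsg

namespace Cfsg.Agent.S2476

/-- The set of element orders of PSL(3,q): let F be a finite field of characteristic p with q elements and d = gcd(3, q − 1). The orders of elements of PSL(3,F) are exactly the divisors of (q² + q + 1)/d, of (q² − 1)/d, of q − 1, of p(q − 1)/d, and, when p = 2, of 4. -/
theorem result {F : Type*} [Field F] [Fintype F] (p : ℕ) [Fact p.Prime] [CharP F p] :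
    Set.range (orderOf : Matrix.ProjectiveSpecialLinearGroup (Fin 3) F → ℕ) =
      {m : ℕ | m ∣ (Fintype.card F ^ 2 + Fintype.card F + 1) / Nat.gcd 3 (Fintype.card F - 1) ∨
        m ∣ (Fintype.card F ^ 2 - 1) / Nat.gcd 3 (Fintype.card F - 1) ∨ m ∣ Fintype.card F - 1 ∨
        m ∣ p * (Fintype.card F - 1) / Nat.gcd 3 (Fintype.card F - 1) ∨ (p = 2 ∧ m ∣ 4)} := by
  open Lib.GLC Matrix Polynomial Module in
  rw [← Nat.card_eq_fintype_card]
  set q := Nat.card F with hq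
  have h1 : 1 < q := Finite.one_lt_card
  have hp : p.Prime := Fact.out
  have hM : (q ^ 3 - 1) / (q - 1) = q ^ 2 + q + 1 := by rw [← Nat.geomSum_eq h1]; simp [Finset.sum_range_succ]; ring
  have hN : (q ^ 2 - 1) / (q - 1) = q + 1 := by rw [← Nat.geomSum_eq h1]; simp [Finset.sum_range_succ]; ring
  have hd : (q + 2).gcd 3 = Nat.gcd 3 (q - 1) := by rw [show q + 2 = q - 1 + 3 by omega, Nat.gcd_add_self_left, Nat.gcd_comm]
  have hd1 := Nat.gcd_dvd_right 3 (q - 1)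
  have hd2 := hd1.trans (Nat.sub_one_dvd_pow_sub_one q 2)
  have hF : ∀ a : F, a ≠ 0 → a ^ (q - 1) = 1 := fun a ha => (exists_eq_algebraMap_iff (F := F) ha).1 ⟨a, rfl⟩
  obtain ⟨K, _, _, _, hK, hK'⟩ := exists_ext F (n := 2) two_ne_zero
  have hn : ∀ x : K, algebraMap F K (Algebra.norm F x) = x ^ (q + 1) := fun x => by
    rw [FiniteField.algebraMap_norm_eq_pow, hK', hN]
  rw [Nat.mul_div_assoc _ hd1]
  ext m
  rw [mem_range_orderOf_iff]
  constructor
  · rintro ⟨⟨g⟩, hg⟩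
    have hb := blocks_typ (toLin' g.1)
    have hdet := hb.det_eq
    have hu := hb.isUnit_iff.1 (isUnit_toLin'_gl (SpecialLinearGroup.toGL g))
    rw [LinearMap.det_toLin', g.2, finrank_fin_fun] at hdet
    by_cases h2 : ∀ P ∈ typ (toLin' g.1), P.natDegree = 1
    · refine .inr (.inr (.inl (hg.trans (orderOf_psl_dvd_iff.2 ⟨1, hb.pow_eq_smul_one_iff.2 fun P hP => ?_⟩))))
      simpa [hq] using dvd_X_pow_card_sub_one (irreducible_of_degree_eq_one ((degree_eq_iff_natDegree_eq_of_pos one_pos).2 (h2 P hP)))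
        (hu P hP) (h2 P hP).dvd
    obtain ⟨P, hP, h2⟩ : ∃ P ∈ typ (toLin' g.1), P.natDegree ≠ 1 := by simpa using h2
    obtain ⟨φ, e, h3, h4, h5, rfl⟩ := typ_pp _ P hP
    have h6 := (mul_natDegree_le hb hP).trans_eq (finrank_fin_fun F)
    have h7 := h4.natDegree_pos
    rw [natDegree_pow] at h2
    obtain ⟨rfl, h8⟩ | ⟨rfl, h8⟩ | ⟨rfl, h8⟩ | ⟨rfl, h8⟩ : e = 1 ∧ φ.natDegree = 3 ∨ e = 1 ∧ φ.natDegree = 2 ∨
        e = 2 ∧ φ.natDegree = 1 ∨ e = 3 ∧ φ.natDegree = 1 := by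
      have := (Nat.le_mul_of_pos_right e h7).trans h6
      interval_cases e <;> omega
    · rw [eq_singleton_of_le hb (typ_pp _) hP (by simp [h8])] at hb
      have := hg.trans (orderOf_psl_dvd_of_blocks p (t := 0) hb h3 h4 le_rfl)
      rw [Fintype.card_fin, hM, pow_zero, mul_one] at this
      exact .inl this
    · obtain ⟨b, e⟩ := exists_eq_pair hb (typ_pp _) hP (by simp [h8])
      obtain ⟨x, rfl⟩ := exists_minpoly_eq (K := K) h3 h4 (by rw [hK, h8])
      have h9 := (blocks_cyc (h3.pow 1)).det_eq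
      rw [det_eq_norm (blocks_cyc (h3.pow 1)) (by simp [finrank_adjoinRoot, hK, h8])] at h9
      have h10 : x ^ (q + 1) * algebraMap F K b = 1 := by
        rw [← hn, ← map_mul, h9, ← map_one (algebraMap F K)]; congr 1
        refine .trans ?_ hdet.symm; simp [e, finrank_adjoinRoot, h8]; ring
      refine .inr (.inl (hg.trans (orderOf_psl_dvd_iff.2 ⟨b ^ ((q ^ 2 - 1) / Nat.gcd 3 (q - 1)), hb.pow_eq_smul_one_iff.2 ?_⟩)))
      simp only [e, Multiset.insert_eq_cons, Multiset.mem_cons, Multiset.mem_singleton, forall_eq_or_imp, forall_eq,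
        X_sub_C_dvd_iff, pow_one, minpoly_dvd_iff, and_true]
      have hx := pow_ne_zero_iff (by omega) |>.1 (left_ne_zero_of_mul_eq_one h10)
      rw [map_pow, ← mul_right_inj' (pow_ne_zero _ (pow_ne_zero (q + 1) hx)), ← mul_pow, ← mul_pow, h10, one_pow, ← pow_succ,
        ← pow_mul, ← Nat.mul_div_assoc _ hd2, mul_comm, Nat.mul_div_assoc _ (hd ▸ Nat.gcd_dvd_left ..), pow_mul, ← hK',
        (exists_eq_algebraMap_iff (F := K) hx).1 ⟨x, rfl⟩, one_pow]
    all_goals obtain ⟨a, rfl⟩ : ∃ a, φ = X - C a := ⟨-φ.coeff 0, by simpa using h3.eq_X_add_C h8⟩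
    · obtain ⟨b, e⟩ := exists_eq_pair hb (typ_pp _) hP (by simp [h8])
      have h9 : a ^ 2 * b = 1 := by rw [hdet, e]; simp [coeff_zero_eq_eval_zero]; ring
      have ha : a ≠ 0 := by rintro rfl; simp at h9
      refine .inr (.inr (.inr (.inl (hg.trans (mul_comm p _ ▸ pow_one p ▸ orderOf_psl_dvd_iff.2
        ⟨(a ^ ((q - 1) / Nat.gcd 3 (q - 1))) ^ p ^ 1, hb.pow_eq_smul_one_iff.2 ?_⟩)))))
      simp only [e, Multiset.insert_eq_cons, Multiset.mem_cons, Multiset.mem_singleton, forall_eq_or_imp, forall_eq]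
      refine ⟨pow_dvd_X_pow_mul p (X_sub_C_dvd_iff.2 rfl) (by simpa using hp.two_le), X_sub_C_dvd_iff.2 ?_⟩
      rw [pow_mul]
      congr 1
      rw [← mul_right_inj' (pow_ne_zero ((q - 1) / Nat.gcd 3 (q - 1)) (pow_ne_zero 2 ha)), ← mul_pow, ← mul_pow, h9, one_pow, ← pow_succ, ← pow_mul, ← Nat.mul_div_assoc _ hd1, mul_comm,
        Nat.mul_div_assoc _ (Nat.gcd_dvd_left ..), pow_mul, hF a ha, one_pow]
    · rw [eq_singleton_of_le hb (typ_pp _) hP (by simp [h8])] at hb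
      have h9 : ∀ t, 3 ≤ p ^ t → m ∣ p ^ t := fun t ht => hg.trans (one_mul (p ^ t) ▸ orderOf_psl_dvd_iff.2
        ⟨_, hb.pow_eq_smul_one_iff.2 fun P hP => Multiset.mem_singleton.1 hP ▸ pow_dvd_X_pow_mul p (X_sub_C_dvd_iff.2 rfl) ht⟩)
      rcases hp.two_le.eq_or_lt with rfl | h
      exacts [.inr (.inr (.inr (.inr ⟨rfl, h9 2 (by simp)⟩))),
        .inr (.inr (.inr (.inl ((pow_one p ▸ h9 1 (by rwa [pow_one])).mul_right _))))]
  obtain ⟨a, ha, h2⟩ := exists_orderOf_eq (K := F) dvd_rfl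
  rintro (h | h | h | h | ⟨rfl, h⟩) <;> refine Exists.imp (fun _ => h.trans) ?_
  · exact exists_psl_singer.imp fun _ h => by rw [h, Fintype.card_fin, hM]
  · obtain ⟨x, hx, h3⟩ := exists_orderOf_eq (K := K) dvd_rfl
    refine exists_psl_dvd_orderOf ((Algebra.lmul F K x).prodMap ((Algebra.norm F x)⁻¹ • 1 : End F F)) (by simp [hK])
      (by rw [LinearMap.det_prodMap, det_smul_one, finrank_self, pow_one]; exact mul_inv_cancel₀ (Algebra.norm_ne_zero_iff.2 hx))
      fun k c hk => ?_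
    rw [prodMap_pow_eq_smul_one_iff, lmul_pow_eq_smul_one_iff, smul_one_pow_eq_iff] at hk
    have h4 : q ^ 2 - 1 ∣ (q + 2) * k := by
      rw [← hK', ← h3, orderOf_dvd_iff_pow_eq_one, pow_mul, pow_succ, mul_pow, hk.1, ← hk.2, ← hn, ← map_pow, ← map_mul,
        ← mul_pow, mul_inv_cancel₀ (Algebra.norm_ne_zero_iff.2 hx), one_pow, map_one]
    rw [Nat.div_dvd_iff_dvd_mul hd2 (Nat.gcd_pos_of_pos_left _ three_pos), ← hd, ← Nat.gcd_mul_right]
    refine Nat.dvd_gcd h4 ((Nat.dvd_add_right (h4.mul_left (q - 2))).1 ⟨k, ?_⟩)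
    zify [show 2 ≤ q from h1, Nat.one_le_pow 2 q (by omega)]; ring
  · refine exists_psl_of_blocks (μ := {X - C a, X - C a⁻¹, X - C 1}) (by simp [-map_one, monic_X_sub_C])
      (by simp [-map_one]) (by simp [ha]; ring) fun j c hj => h2 ▸ orderOf_dvd_of_pow_eq_one ?_
    rw [X_sub_C_dvd_iff.1 (hj _ (by simp)), ← X_sub_C_dvd_iff.1 (hj (X - C 1) (by simp)), one_pow]
  · refine exists_psl_of_blocks (μ := {(X - C a) ^ 2, X - C (a ^ 2)⁻¹}) (by simp [monic_X_sub_C, Monic.pow])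
      (by simp) (by simp [ha, coeff_zero_eq_eval_zero]; ring) fun j c hj => ?_
    have h3 := hj ((X - C a) ^ 2) (by simp)
    have h4 := X_sub_C_dvd_iff.1 ((dvd_pow_self _ two_ne_zero).trans h3)
    refine Nat.Coprime.mul_dvd_of_dvd_of_dvd (.coprime_dvd_right (Nat.div_dvd_of_dvd hd1) (.coprime_dvd_left (char_dvd_card p)
      ((Nat.coprime_self_sub_right h1.le).2 (by simp)))) ((dvd_pow_self p (Nat.clog_pos hp.one_lt one_lt_two).ne').trans
      (pow_clog_dvd_of_dvd p (irreducible_X_sub_C a) (h4 ▸ pow_ne_zero j ha) h3)) ?_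
    rw [Nat.div_dvd_iff_dvd_mul hd1 (Nat.gcd_pos_of_pos_left _ three_pos), ← Nat.gcd_mul_right]
    refine Nat.dvd_gcd (h2 ▸ orderOf_dvd_of_pow_eq_one ?_) (dvd_mul_right ..)
    rw [pow_mul, pow_succ, mul_pow, h4, ← X_sub_C_dvd_iff.1 (hj (X - C (a ^ 2)⁻¹) (by simp)), ← mul_pow,
      mul_inv_cancel₀ (pow_ne_zero 2 ha), one_pow]
  · refine exists_psl_of_blocks (μ := {(X - C 1) ^ 3}) (by simp [-map_one, monic_X_sub_C, Monic.pow])
      (by simp [-map_one]) (by simp [coeff_zero_eq_eval_zero]) fun j c hj => ?_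
    have h3 := hj _ (Multiset.mem_singleton_self _)
    exact pow_clog_dvd_of_dvd 2 (irreducible_X_sub_C 1)
      (X_sub_C_dvd_iff.1 ((dvd_pow_self _ three_ne_zero).trans h3) ▸ pow_ne_zero j one_ne_zero) h3

end Cfsg.Agent.S2476
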