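import Cfsg.Statements.S2497
import Cfsg.Agent.Lib.CIT.Orders

set_option autoImplicit false
open Cfsg

namespace Cfsg.Agent.S2497

/-- Let G be a finite non-abelian simple group in which every non-identity element has prime-power order. Then G is isomorphic to one of: the alternating group of degree 6, PSL(2,q) for q ∈ {4, 7, 8, 17}, PSL(3,4), or the Suzuki group over the field with 8 or with 32 elements. -/
theorem result {G : Type*} [Group G] [Finite G] [IsSimpleGroup G] (hG : ¬ IsMulCommutative G)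
    (h : ∀ g : G, g ≠ 1 → IsPrimePow (orderOf g)) :
    Nonempty (G ≃* alternatingGroup (Fin 6)) ∨
    (∃ (F : Type) (_ : Field F) (_ : Fintype F), Fintype.card F ∈ ({4, 7, 8, 17} : Finset ℕ) ∧
      Nonempty (G ≃* Matrix.ProjectiveSpecialLinearGroup (Fin 2) F)) ∨
    (∃ (F : Type) (_ : Field F) (_ : Fintype F), Fintype.card F = 4 ∧
      Nonempty (G ≃* Matrix.ProjectiveSpecialLinearGroup (Fin 3) F)) ∨
    (∃ (F : Type) (_ : Field F) (_ : Fintype F),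
      (Fintype.card F = 8 ∧ Nonempty (G ≃* ↥(Cfsg.Lie.Sz F 4))) ∨ (Fintype.card F = 32 ∧ Nonempty (G ≃* ↥(Cfsg.Lie.Sz F 8)))) := by
  open Lib Lib.CIT in
  have hn : ¬ Group.IsSolvable G := fun h => hG ⟨⟨IsSimpleGroup.comm_iff_isSolvable.2 h⟩⟩
  obtain ⟨f⟩ := quot_pCore_equiv hn
  rcases eppo_cases h hn with ⟨F, _, _, h1, ⟨e⟩⟩ | ⟨F, _, _, h1⟩ | ⟨F, _, _, h1, ⟨e⟩⟩ | ⟨-, -, N, h1⟩ |
    ⟨F, _, _, h1, -, e⟩
  · exact .inr (.inl ⟨F, _, ‹_›, by rcases h1 with ⟨h1, -⟩ | ⟨h1, -⟩ <;> simp [h1], ⟨f.trans e⟩⟩)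
  · exact .inr (.inr (.inr ⟨F, _, _, h1.imp (fun ⟨h1, _, ⟨e⟩⟩ => ⟨h1, ⟨f.trans e⟩⟩)
      fun ⟨h1, _, ⟨e⟩⟩ => ⟨h1, ⟨f.trans e⟩⟩⟩))
  · rcases h1 with ⟨h1, -⟩ | ⟨h1, -⟩ | ⟨h1, -⟩ | ⟨h1, -⟩
    · have := Fintype.ofFinite (GaloisField 2 2)
      have h2 : Nat.card (GaloisField 2 2) = 4 := GaloisField.card 2 2 two_ne_zero
      obtain ⟨e1⟩ := PSL2.equiv_psl_alt_five (.inr (Nat.card_eq_fintype_card.trans h1))
      obtain ⟨e2⟩ := PSL2.equiv_psl_alt_five (.inl h2)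
      exact .inr (.inl ⟨GaloisField 2 2, _, ‹_›, by simp [← Nat.card_eq_fintype_card, h2],
        ⟨e.trans (e1.trans e2.symm)⟩⟩)
    · exact .inr (.inl ⟨F, _, ‹_›, by simp [h1], ⟨e⟩⟩)
    · obtain ⟨e1⟩ := PSL2.equiv_psl_alt_six (Nat.card_eq_fintype_card.trans h1)
      exact .inl ⟨e.trans e1⟩
    · exact .inr (.inl ⟨F, _, ‹_›, by simp [h1], ⟨e⟩⟩)
  · exact (not_simple_of_index hG h1).elim
  · exact .inr (.inr (.inl ⟨F, _, _, h1, e⟩))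

end Cfsg.Agent.S2497
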