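import Cfsg.Statements.S5382
import Cfsg.Agent.Lib.Mod.J2
import Cfsg.Agent.S1720

set_option autoImplicit false
open Cfsg

namespace Cfsg.Agent.S5382

set_option maxRecDepth 100000
open Cfsg.Lib Cfsg.Lib.Calc Cfsg.Lib.F2 Cfsg.Lib.Grp Cfsg.Lib.Mod.J2

namespace K1

/-- tables -/
noncomputable def D0 : List ℕ := [nat_lit 0x874653201, nat_lit 0x487652310]
/-- a chain -/
noncomputable def ch : List Grp.Lv := [⟨0, 2, 1, 16, [0]⟩, ⟨2, 2, 1, 4096, [1]⟩, ⟨4, 5, 1, 18004049920, [4, 5, 6, 7]⟩, ⟨5, 4, 1, 13438550016, [8, 9, 10]⟩, ⟨6, 3, 1, 8858370048, [11, 12]⟩]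
/-- the base -/
def bs : List ℕ := [0, 2, 4, 5, 6]

theorem cS : smK 9 4 (get 4) 240 (prdF (2 + 2) 5 (prdF 2 2 (cycF 2) (cycF 2)) (altF 5 15)) D0 [([0], 5), ([1], 9), ([3, 3], 1), ([0, 0], 1), ([2, 3, 3, 0], 1), ([2, 3, 2, 1], 1), ([2, 3, 0, 1], 1), ([2, 2, 1, 1], 1), ([3, 2, 1, 0], 1), ([2, 1, 2, 1], 1), ([3, 0, 3, 0], 1)] ch = true := by decide +kernel
/-- edges -/
noncomputable def t1 : ℕ := nat_lit 0x20000210222122100120200010210220121220102200002112012102202100002112222211000120012200001111201100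
/-- words for the elements of the dictionary -/
def ws : List (List ℕ × ℕ) := [([0], 5), ([1], 9), ([3, 3], 1), ([0, 0], 1), ([2, 3, 3, 0], 1), ([2, 3, 2, 1], 1), ([2, 3, 0, 1], 1), ([2, 2, 1, 1], 1), ([3, 2, 1, 0], 1), ([2, 1, 2, 1], 1), ([3, 0, 3, 0], 1), ([3, 2, 2, 3, 0], 1), ([3, 2, 1, 2], 1), ([2, 1, 0, 0, 1], 1), ([2, 1, 2, 1, 0], 1), ([3, 3, 3, 3], 1), ([1, 0, 1, 2], 1)]

end K1

namespace K2

/-- tables -/
noncomputable def D0 : List ℕ := [nat_lit 0x487653021, nat_lit 0x874651320]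
/-- a chain -/
noncomputable def ch : List Grp.Lv := [⟨0, 4, 1, 12576, [0, 4, 5]⟩, ⟨1, 3, 1, 4608, [1, 3]⟩, ⟨4, 5, 1, 13442744320, [6, 7, 8, 9]⟩, ⟨5, 4, 1, 5133828096, [10, 11, 12]⟩, ⟨6, 3, 1, 4831838208, [13, 14]⟩]
/-- the base -/
def bs : List ℕ := [0, 1, 4, 5, 6]

theorem cS : smK 9 4 (get 4) 720 (prdF 4 5 (altF 4 15) (altF 5 15)) D0 [([0], 14), ([1], 2), ([1, 2], 1), ([2, 1], 1), ([0, 0, 0], 1), ([2, 2, 2], 1), ([1, 0, 1, 0], 1), ([3, 2, 3, 2], 1), ([0, 3, 2, 3, 0], 1), ([3, 0, 0, 3, 2], 1), ([2, 1, 0, 1, 2], 1), ([2, 1, 2, 2, 2, 3, 2, 2], 1), ([2, 1, 0, 0, 1, 0, 0, 1], 1)] ch = true := by decide +kernel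
/-- edges -/
noncomputable def t1 : ℕ := nat_lit 0x20000120121121200120200010120220112120201100002121012102201200002212212122000110012100001211201200
/-- edges -/
noncomputable def t2 : ℕ := nat_lit 0x100000003000000000003000000003001000000020002020000000000000001000000000000003001000000000000000000
/-- words for the elements of the dictionary -/
def ws : List (List ℕ × ℕ) := [([0], 14), ([1], 2), ([1, 2], 1), ([2, 1], 1), ([0, 0, 0], 1), ([2, 2, 2], 1), ([1, 0, 1, 0], 1), ([3, 2, 3, 2], 1), ([0, 3, 2, 3, 0], 1), ([3, 0, 0, 3, 2], 1), ([2, 1, 0, 1, 2], 1), ([2, 1, 2, 2, 2, 3, 2, 2], 1), ([2, 1, 0, 0, 1, 0, 0, 1], 1), ([3, 0, 1, 2, 2, 1], 1), ([0, 1, 0, 0, 3, 0], 1), ([2, 2, 1, 0, 0], 1), ([2, 3, 2, 2, 2, 3], 1), ([3, 0, 0, 3, 2, 1], 1), ([2, 1, 2, 2, 3, 2], 1), ([2, 2, 3, 0, 0], 1), ([1, 0, 0, 0, 1, 0], 1), ([2, 2, 3, 2, 1, 0, 0], 1), ([0, 1, 0,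 0, 0, 0], 1), ([3, 0, 1, 0, 3], 1), ([1, 0, 1, 2, 2], 1), ([3, 2, 3, 0, 0], 1), ([2, 1, 2, 2, 3, 0, 1], 1)]

end K2

namespace K3

/-- tables -/
noncomputable def D0 : List ℕ := [nat_lit 0x4611, nat_lit 0x8d1]
/-- a chain -/
noncomputable def ch : List Grp.Lv := [⟨0, 5, 1, 82480, [1, 0, 2, 4]⟩, ⟨2, 4, 1, 77856, [5, 6, 7]⟩, ⟨1, 3, 1, 73728, [8, 9]⟩]
/-- the base -/
def bs : List ℕ := [0, 2, 1]

theorem cS : smK 5 3 (get 4) 60 (altF 5 15) D0 [([0], 2), ([1], 4), ([1, 1], 1), ([2, 1], 1), ([1, 0, 3], 1), ([3, 0], 1), ([0, 1, 0], 1), ([2, 3, 2], 1)] ch = true := by decide +kernel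
/-- edges -/
noncomputable def t1 : ℕ := nat_lit 0x20000410232144100120300040410330333440104300004112042403403400002144424214000130044300004441201100
/-- words for the elements of the dictionary -/
def ws : List (List ℕ × ℕ) := [([0], 2), ([1], 4), ([1, 1], 1), ([2, 1], 1), ([1, 0, 3], 1), ([3, 0], 1), ([0, 1, 0], 1), ([2, 3, 2], 1), ([0, 3, 0], 1), ([], 1), ([1, 0, 1], 1), ([0, 3, 3, 0], 1), ([2, 1, 2], 1), ([2, 1, 0, 1, 0], 1)]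

end K3

/-- edges -/
noncomputable def t1 : ℕ := nat_lit 0x5652525763617772426331216117661764722742751214317310413215273242331327263326354565754411153327554341
/-- edges -/
noncomputable def t2 : ℕ := nat_lit 0x615045200000244140334052250236550546300001000403300210210550115325442204000600002051046300335603062
/-- orbit -/
noncomputable def t3 : ℕ := nat_lit 0x18b0e0bd76e56ab529d2a13e74c972a4c78d162438301fbe76e5ab364bd72c56a54264a911a24280f9e3a6cb92203c68c16203860a0c080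
/-- edges -/
noncomputable def t4 : ℕ := nat_lit 0x1000000000000000000000000000000000000000000000000000000000000000000000000000000000000000000000
/-- edges -/
noncomputable def t5 : ℕ := nat_lit 0x1122122211211111212211222212221211111212221122221220221111211112111112111111212221122112101221211122
/-- edges -/
noncomputable def t6 : ℕ := nat_lit 0x4340052200150522303240666060542510452604002000406360026424001400302563655320600606213650000036506000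
/-- classes -/
noncomputable def t7 : ℕ := nat_lit 0x7a2044743048000005c081100000000000000000000000c410240000000000000000000000064504800000000000bc2825dc3088000000000000000000000000000044081132284400000000000400421000000241048000005c08213a1844f44048000004004310000000000000000000000012084400000000000000000000000e4504800000000000fc20255c2088000000000000000000000000000064081172284400000000000400411000001fc508800000010001000000000003b8609000000000000000002f8809000000000000000000000000000000000000000000000044083100000000000338c09000000000000000003708110000000000000000000000000000000000000000000000000001000000000002b8409000000000000000003f0811000000000000000000000000000000000000000000000064083100000000000238c09000000000000000000000010000000000000000000000000000000000000000000000000000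
/-- words for the elements of the dictionary -/
def ws : List (List ℕ × ℕ) := [([0], 4), ([1, 0, 1, 0, 1, 2, 1, 0, 0, 1, 2, 2, 1, 2, 1, 0, 1, 2, 2, 1, 2], 1), ([0, 0, 1, 0, 0, 1, 2, 2, 1, 0, 0, 1, 2, 2, 1, 0, 1, 0, 0, 1, 0], 1), ([1, 0, 1, 0, 0], 1), ([0, 1, 0, 0], 1), ([1, 2, 2, 1, 0], 1), ([0, 0, 1], 1), ([2, 2, 1], 1), ([2, 2, 1, 2, 1], 1), ([2, 2, 1, 2], 1), ([2, 1, 0, 0, 1], 1), ([1, 2, 2], 1), ([1, 0, 0], 1), ([0, 1, 0, 1, 0, 1, 0], 1), ([1, 0, 0, 1, 2, 1, 2, 2, 1, 2], 1), ([2, 1, 0, 1, 2, 1, 2, 2, 1, 0, 0, 1], 1), ([2, 1, 2, 1, 2, 1, 2], 1), ([1, 0, 1, 2, 1, 2, 1, 0, 1, 0, 0], 1), ([0, 1, 0, 0, 1, 0, 1, 2, 2, 1], 1), ([1, 2, 2, 1, 0, 0, 1, 0, 1, 2, 1, 0], 1), ([2, 2, 1, 2, 1, 0, 1, 0, 1, 2, 1], 1), ([2, 1, 2, 2, 1, 2, 1, 2, 1, 0, 0, 1, 2, 1, 2, 2, 1, 0, 0], 1), ([2, 1, 0, 1, 0, 0, 1, 2, 1, 0, 0, 1, 2, 2, 1], 1), ([2, 2, 1, 0, 0, 1, 0, 1, 2,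 2, 1, 0, 1, 0, 1, 0, 0, 1, 0], 1), ([1, 0, 0, 1, 2, 2, 1, 0, 1, 2, 2, 1, 2, 1, 0], 1), ([2, 1, 0, 0, 1, 2, 1, 0, 0, 1, 0, 1, 2, 2, 1, 0, 1, 0, 0], 1), ([2, 2, 1, 2, 1, 0, 0, 1, 2, 1, 2, 2, 1, 0, 1, 2, 2, 1, 0], 1), ([1, 0, 1, 0, 1, 0, 0, 1, 0, 1, 2, 2, 1, 0, 1, 2, 1, 0, 1, 0, 1, 0, 0], 1), ([2, 2, 1, 2, 1, 2, 1, 0, 1, 2, 1, 0, 0, 1, 2, 1, 2, 2, 1, 2, 1, 2, 1], 1), ([1, 0, 1, 2, 2, 1, 0, 1, 2, 2, 1, 2, 2, 1, 2, 1, 2, 1, 0, 0, 1], 1), ([1, 0, 0, 1, 2, 1, 0, 0, 1, 2, 2, 1, 0, 1, 2, 1, 0, 0, 1, 0, 0], 1), ([0, 1, 0, 0, 1, 0, 1, 2, 1, 0, 0, 1, 2, 1, 2, 1, 0, 0], 1), ([1, 0, 0, 1, 0, 0, 1, 2, 2, 1, 0, 1, 2, 1, 2, 1, 0, 0, 1, 0], 1), ([0, 1, 2, 2, 1, 0, 1, 0, 1, 2, 1, 0, 0, 1, 2, 1, 0, 1, 2, 1, 0, 1], 1), ([1, 2, 1, 2, 1, 0, 0, 1, 0, 1, 0, 0, 1, 2, 1, 2, 1, 0], 1), ([0, 1, 0, 0, 1, 2, 1, 2, 2, 1, 2, 2, 1, 2, 1, 0, 1, 0, 0, 1, 2, 1, 0, 1, 0], 1), ([2, 1,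 2, 2, 1, 0, 1, 0, 1, 2, 1, 0, 0, 1, 2, 2, 1, 2, 2, 1], 1), ([1, 2, 1, 0, 1, 2, 1, 0, 1, 2, 2, 1, 0, 1, 2, 1, 2, 1, 0, 0, 1, 2], 1), ([1, 0, 0, 1, 0, 1, 2, 1, 2, 2, 1, 2, 2, 1, 0, 1, 2, 2, 1, 0, 0], 1), ([1, 2, 1, 0, 1, 2, 2, 1, 0, 1, 0, 1, 2, 2, 1, 0, 1, 0, 0, 1, 2, 1, 2, 2], 1), ([1, 0, 1, 2, 2, 1, 0, 1, 0, 0, 1, 0, 0, 1, 2, 1, 2, 2, 1, 2], 1), ([1, 0, 1, 0, 0, 1, 2, 1, 2, 1, 0, 1, 2, 2, 1, 0, 1, 2], 1), ([1, 2, 2, 1, 2, 1, 2, 2, 1, 2, 2, 1, 0, 1, 0, 0, 1, 0, 0], 1), ([2, 2, 1, 0, 0, 1, 2, 1, 0, 0, 1, 0, 0, 1, 0, 1, 2, 1, 2, 2, 1], 1), ([0, 0, 1, 0, 1, 2, 2, 1, 2, 1, 0, 0, 1, 2, 1, 2, 1, 0, 0, 1, 2, 1, 0, 1], 1), ([0, 1, 0, 0, 1, 0, 1, 2, 2, 1, 2, 2, 1, 2, 1, 0, 0, 1, 2, 1], 1), ([0, 1, 2, 1, 0, 0, 1, 2, 1, 0, 1, 0, 1, 2, 2, 1, 2, 1], 1), ([2, 2, 1, 2, 2, 1, 2, 1, 0, 0, 1, 0, 0, 1, 0, 1, 0, 0, 1], 1), ([2, 2, 1, 2, 1, 2, 1, 0, 1, 2, 1, 0, 1, 0,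 1, 0, 0], 1), ([2, 1, 0, 1, 2, 1, 2, 1, 0, 1, 2, 1, 0, 1, 0, 1, 2], 1), ([2, 1, 0, 1, 0, 1, 0, 0, 1, 2, 2, 1, 2, 2, 1, 2, 2, 1, 0, 1, 2, 1, 2, 1, 2], 1), ([1, 0, 0, 1, 2, 2, 1, 0, 0, 1, 0, 1, 0, 1, 0, 0, 1, 0, 0, 1], 1), ([1, 0, 1, 2, 2, 1, 2, 1, 2, 2, 1, 0, 1, 0, 1, 2, 1, 0], 1), ([0, 1, 0, 1, 0, 0, 1, 0, 0, 1, 0, 0, 1, 0, 1, 0, 0, 1, 2, 2, 1, 0, 1, 2], 1), ([2, 1, 2, 1, 0, 0, 1, 2, 1, 2, 1, 0, 0, 1, 2, 2, 1, 0, 1, 0, 0], 1), ([1, 0, 1, 2, 1, 2, 2, 1, 0, 1, 2, 2, 1, 0, 0, 1, 0, 1, 0, 0, 1, 2], 1), ([1, 2, 2, 1, 0, 0, 1, 2, 2, 1, 2, 1, 2, 1, 0, 0, 1, 0, 0, 1, 0, 1], 1)]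
theorem c0 : litK 100 7 (get 7) D0 ws (fun D =>
    band (pgOK 100 (get 7) (get 4) 2 D bs [51, 52, 53, 25, 31, 3, 54] [(8, [19, 2, 28, 8, 16, 50]), (15, [5, 14, 12, 8, 23]), (4, [5, 2, 4, 12]), (2, [1, 2, 6]), (0, [1, 3]), (0, [1]), (0, [])]
    [⟨0, 64, 4, t6, [0, 1, 2, 3, 4, 5]⟩, ⟨1, 2, 1, 105312291668557186697918027683670432318895095400549111254310977536, [6]⟩])
    (band (clsOK (get 7) 2 2 D bs [51, 52, 53, 25, 31, 3, 54] [56, 57, 58] [3, 4] [[], [55]] (get 23 t7) 0 128)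
    (band (cenChk 100 (get 7) (get 4) 604800 D bs [4]
    [⟨⟨48, 100, 3, t1, [5, 6, 0, 7, 8, 9, 2]⟩, [10, 11, 2, 12, 13, 14, 0], 0, 0, 0⟩,
    ⟨⟨59, 63, 3, t2, [15, 16, 17, 18, 19, 20]⟩, [18, 20, 21, 15, 22, 16], t3, 1, 0⟩,
    ⟨⟨96, 6, 2, 254629497041810760783555711051172270131480317282937365421430697225480301799712040396259328, [23, 24]⟩, [25, 26], 3318485681544, 0, 0⟩,
    ⟨⟨36, 4, 3, 127314748520905380391777855525586135065740158630318310111450037041972291763523043352117248, [27]⟩, [28], 155865608, 1, 0⟩,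
    ⟨⟨19, 2, 1, 28269553036454149273332760011886696253239742350009903329945699220681916416, [29]⟩, [30], 7827, 0, 0⟩,
    ⟨⟨2, 1, 0, 0, []⟩, [], 2, 1, 0⟩,
    ⟨⟨23, 2, 1, t4, [31]⟩, [31], 11927, 0, 0⟩,
    ⟨⟨17, 1, 0, 0, []⟩, [], 17, 1, 0⟩]
    [⟨60, 7, t5, [32, 33]⟩, ⟨1, 0, 0, []⟩, ⟨2, 1, 127314748520905380391777855525586135065716774604121015664758778084648831235226136322506752, [3]⟩, ⟨1, 0, 0, []⟩, ⟨1, 0, 0, [31]⟩, ⟨1, 0, 0, []⟩, ⟨2, 0, 0, []⟩, ⟨1, 0, 0, []⟩] 240)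
    (band (pgOK 100 (get 7) (get 4) 2 D bs [4, 50] [(0, [1]), (0, [])]
    [⟨48, 4, 2, 110427941548649020599002861848826996132600261469373105939229386012098560, [0, 1]⟩])
    (band (cmOK (get 7) D bs [4] [34, 35, 4, 50])
    (band (nrmW (get 7) D bs [4, 50] [(40, [[50], [50, 4]]), (41, [[50, 4], [4]])])
    (ordP (get 7) D bs 2 4))))))) = true := by decide +kernel

theorem c1 : litK 100 7 (get 7) D0 ws (fun D => litK 9 4 (get 4) K1.D0 K1.ws fun E =>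
    band (lowG 9 (get 4) (get 4) E K1.bs [3, 13] [(2, [13, 3, 13, 13, 13, 3, 13, 3, 13, 3, 13]), (16, [3, 13, 3]), (17, [2, 2, 2, 16, 16, 2, 2, 16]), (18, [16, 16]), (10, [18, 17, 18, 17, 17, 18, 17, 17, 17, 17]), (9, [18, 18, 17, 17, 18, 17, 17, 18, 17]), (12, [9, 9, 9, 9, 9, 10, 9])]
    [⟨2, 2, 1, 4096, [0, 1]⟩, ⟨0, 2, 1, 16, [2, 3]⟩, ⟨4, 5, 2, 4850712576, [4, 5]⟩, ⟨5, 4, 2, 4848615424, [6, 7]⟩, ⟨6, 3, 2, 4563402752, [8]⟩] 240)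
    (homChk 100 9 7 (get 7) (get 4) (get 7) (get 4) D E bs K1.bs [34, 35, 36, 37, 38, 39] [3, 13, 14, 7, 1, 15] 2
    [⟨⟨0, 60, 7, K1.t1, [0, 1]⟩, [4, 5], 0, 0, 0⟩,
    ⟨⟨1, 4, 2, 105312291668557186697918027683670432318933790471509745127192002560, [2, 3]⟩, [2, 3], 0, 0, 0⟩]
    [[[0, 0, 1, 0, 0, 0, 0, 0, 0, 1, 0, 0], [1, 0, 0, 1]], []] 240)) = true := by decide +kernel

theorem c2 : litK 100 7 (get 7) D0 ws (fun D => litK 9 4 (get 4) K2.D0 K2.ws fun E =>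
    band (lowG 9 (get 4) (get 4) E K2.bs [2, 15] [(23, [2, 15, 2, 2, 2, 2, 15, 15, 15, 2, 2, 2]), (24, [2, 2, 15, 2, 2, 15, 15, 2]), (8, [24, 24, 23, 23]), (25, [23, 23, 24, 23, 24, 24, 24, 24, 23, 24, 23, 23]), (26, [25, 8, 25, 8, 25, 8, 8, 25, 25, 25, 8, 8, 25, 25]), (27, [8, 8, 8, 25, 25, 8, 8, 25, 8, 8, 8, 8, 8]), (28, [27, 27, 27, 27, 27, 26, 27])]
    [⟨0, 4, 3, 8464, [0, 1]⟩, ⟨1, 3, 1, 4608, [2, 3]⟩, ⟨5, 5, 2, 8875212800, [4, 5]⟩, ⟨6, 4, 2, 4831969280, [6, 7]⟩, ⟨4, 3, 2, 4563402752, [8]⟩] 720)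
    (homChk 100 9 7 (get 7) (get 4) (get 7) (get 4) D E bs K2.bs [40, 41, 42, 43, 44, 45, 46, 47, 48, 49] [2, 15, 16, 17, 18, 0, 19, 20, 21, 22] 2
    [⟨⟨0, 60, 9, K2.t1, [0, 1]⟩, [5, 6], 0, 0, 0⟩,
    ⟨⟨1, 12, 3, K2.t2, [2, 3, 4]⟩, [7, 8, 9], 0, 0, 0⟩]
    [[[0, 0, 0, 0, 1, 1, 0, 1, 1, 1, 1, 0, 1, 1, 1, 0, 0, 0, 1], [0, 0, 0, 0, 1, 1, 0, 0, 1, 1, 0, 1, 0, 1, 1, 1, 0, 0, 0, 0], [0, 0, 0, 0, 1, 1, 0, 0, 0, 0, 0, 0]], []] 720)) = true := by decide +kernel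

theorem c3 : litK 100 7 (get 7) D0 ws (fun D => litK 5 3 (get 3) K3.D0 K3.ws fun E =>
    band (lowG 5 (get 3) (get 4) E K3.bs [10, 2, 11, 11] [(15, [10, 10, 11, 11, 11, 11, 10, 11, 2, 11]), (8, [2, 10, 11, 2, 11, 11, 2, 10, 10, 11, 11, 11]), (7, [15, 8, 15, 15, 8, 15, 8, 8])]
    [⟨0, 5, 2, 70176, [0, 1, 2, 2]⟩, ⟨1, 4, 3, 73984, [4, 5]⟩, ⟨2, 3, 2, 69632, [6]⟩] 60)
    (band (kerOK (get 3) E K3.bs [4, 50] [34, 35, 4, 50] [10, 2, 11, 11])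
    (homChk 100 5 7 (get 7) (get 3) (get 7) (get 4) D E bs K3.bs [34, 35, 4, 50, 37, 36, 38, 39] [10, 2, 11, 11, 12, 13, 14, 0] 4
    [⟨⟨0, 60, 5, K3.t1, [0, 1, 2, 3]⟩, [6, 7, 2, 3], 0, 0, 0⟩,
    ⟨⟨1, 4, 2, 210624583337114373395836055367340864637828881149692373511857766400, [4, 5]⟩, [4, 5], 0, 0, 0⟩]
    [[[0, 0, 0, 1, 3, 1, 1, 1, 0, 1, 1, 3, 2, 2], [2, 3, 2, 0, 3, 1, 1, 3, 0, 3]], []] 240))) = true := by decide +kernel


/-- Let G be a finite group of Hall–Janko type: it has more than one class of involutions and an involution z whose centralizer C has generalized Fitting subgroup Q extraspecial of order 32 with C/Q isomorphic to the commutator subgroup of the isometry group of the elliptic quadratic form in dimension 4 over the field with two elements (the alternating group of degree 5), with z not weakly closed in Q. Then for every involution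 t not conjugate to z, the centralizer of t is isomorphic to the direct product of an elementary abelian group of order 4 and the alternating group of degree 5, and the normalizer of the largest normal 2-subgroup of that centralizer is isomorphic to the direct product of the alternating groups of degrees 4 and 5. -/
theorem result {G : Type*} [Group G] [Finite G] (z : G) (hz : orderOf z = 2) (Q : Subgroup (Subgroup.centralizer ({z} : Set G))) [Q.Normal] (hF : Cfsg.generalizedFittingSubgroup (Subgroup.centralizer ({z} : Set G)) = Q) (hQ : Cfsg.IsExtraspecial 2 Q) (hcard : Nat.card Q = 2 ^ 5) (e : (Subgroup.centralizer ({z} : Set G)) ⧸ Q ≃* Cfsg.Omega (ZMod 2) (Cfsg.quadFormMinus 1 (ZMod 2) 1 1)) (hnwc : ∃ g : G, (∃ hq : g * z * g⁻¹ ∈ Subgroup.centralizer ({z} : Set G), (⟨g * z * g⁻¹, hq⟩ : Subgroup.centralizer ({z} : Set G)) ∈ Q) ∧ g * z * g⁻¹ ≠ z)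 (hcl : ∃ x y : G, orderOf x = 2 ∧ orderOf y = 2 ∧ ¬ IsConj x y) (t : G) (ht : orderOf t = 2) (htz : ¬ IsConj t z) : Nonempty (↥(Subgroup.centralizer ({t} : Set G)) ≃* (Multiplicative (ZMod 2) × Multiplicative (ZMod 2)) × alternatingGroup (Fin 5)) ∧ Nonempty (↥(Subgroup.normalizer (((Cfsg.pCore 2 ↥(Subgroup.centralizer ({t} : Set G))).map (Subgroup.subtype (Subgroup.centralizer ({t} : Set G))) : Subgroup G) : Set G)) ≃* alternatingGroup (Fin 4) × alternatingGroup (Fin 5)) := by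
  obtain ⟨_, _, _, γ, C⟩ := hasCx (S1720.result z hz Q hF hQ hcard e hnwc hcl) ws
  obtain ⟨_, _, _, _, K1⟩ := (((Sm.cyc 2).prod (.cyc 2)).prod (.alt 3 15)).hasCx K1.cS rfl K1.ws
  obtain ⟨_, _, _, _, K2⟩ := ((Sm.alt 2 15).prod (.alt 3 15)).hasCx K2.cS rfl K2.ws
  obtain ⟨_, _, _, _, K3⟩ := (Sm.alt 3 15).hasCx K3.cS rfl K3.ws
  have h := of_litK c0
  have k1 := band_eq_true.1 (of_litK (of_litK c1))
  have k2 := band_eq_true.1 (of_litK (of_litK c2))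
  have k3 := of_litK (of_litK c3)
  simp only [band_eq_true] at h k3
  obtain ⟨h1, h2, h3, h4, h5, h6, h7⟩ := h
  have a := fun g => C.exists_isConj (g := g) (C.pgp two_pos h1) (by decide) (by decide) h2
  simp only [List.mem_cons, List.not_mem_nil, or_false, exists_eq_or_imp, exists_eq_left] at a
  have b : IsConj t (γ 4) := (a t ht).resolve_left fun b => htz (b.trans ((a z hz).resolve_right fun c =>
    (NCj.of_card ((gset_one (γ := γ) _ ▸ C.card_cen_le h3).trans_lt ?_)).not_isConj c).symm)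
  · rw [Subgroup.card_eq_card_quotient_mul_card_subgroup Q, hcard, Nat.card_congr e.toEquiv, T2.J.card_omega_four]
    norm_num
  obtain ⟨_, γ, C, rfl⟩ := C.of_isConj b
  have c := C.card_cen_le h3
  have d := C.cmOK h5
  have p := C.pgp two_pos h4
  rw [gset_one] at c d
  obtain ⟨f, s⟩ := C.exists_epi K3 rfl k3.2.2 (K3.lowG k3.1) d k3.2.1 p.card.ge c
  have : IsSimpleGroup (alternatingGroup (Fin (3 + 2))) := alternatingGroup.isSimpleGroup_five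
  rw [map_pCore_eq (gsub_le.2 fun i j => d i (by revert i; decide)) s (.of_card p.card) fun e => by
    obtain ⟨n, e⟩ := e.exists_card_eq
    exact absurd (Nat.prime_three.dvd_of_dvd_pow (e ▸ K3.card ▸ by norm_num : 3 ∣ 2 ^ n)) (by norm_num)]
  obtain ⟨f⟩ := C.nonempty_equiv' K1 rfl k1.2 (K1.lowG k1.1) (fun i j => d i (by revert i; decide)) c (B := ⊤)
    (fun _ _ => trivial) (Subgroup.card_top.trans K1.card).le
  obtain ⟨g⟩ := C.nonempty_equiv' K2 rfl k2.2 (K2.lowG k2.1) (C.nrmW h6) (p.card ▸ card_normalizer_le'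
    (mem_gsub (by simp)) (ncard_conj_le fun e => by simpa [e] using C.ordP h7) c :) (B := ⊤)
    (fun _ _ => trivial) (Subgroup.card_top.trans K2.card).le
  exact ⟨⟨f.symm.trans Subgroup.topEquiv⟩, ⟨g.symm.trans Subgroup.topEquiv⟩⟩

end Cfsg.Agent.S5382
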