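import Cfsg.Statements.S2061
import Cfsg.Agent.Lib.Mathieu.Classes
import Cfsg.Agent.Lib.Grp.Aut

set_option autoImplicit false
open Cfsg

namespace Cfsg.Agent.S2061

open Cfsg.Lib Cfsg.Lib.Golay Cfsg.Lib.Calc Cfsg.Lib.Grp Cfsg.Lib.Mathieu MulAction
open scoped Pointwise
set_option maxHeartbeats 400000
set_option maxRecDepth 100000

theorem h1 : ∀ c ∈ [881858501671389042782904780254752963, 234127864083396158983920601914215425], ∃ g ∈ (⊤ : Subgroup Spor.M12), Rep 24 5 G.pt g c :=
  same12.list (mem12.list (by decide +kernel))

theorem h2 : ∀ c ∈ [983466438638941357681693243757634660, 860198954013955395408560929959454288], ∃ g ∈ (⊤ : Subgroup Spor.M12), Rep 24 5 G.pt g c :=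
  same12.list (mem12.list (by decide +kernel))

theorem h3 : surOK 24 5 [881858501671389042782904780254752963, 234127864083396158983920601914215425] 95040 [894994840040110785999614392145299872, 732404589337367837574510459135009344, 234113164811180828075469505452057632, 978239198764604640668953934463309856, 303972014349329906305369256209090592, 630264916018297267747726081680246816, 715872302521680643580706198532491296, 232652365823391711183829569059784736]
    [0, 0, 14346, 20741, 12548225549, 118532, 57396743, 140637808573198, 123145302179341, 933656327]
    [(0, [0, 1], 12), (1, [2, 3], 11), (2, [4, 5], 10), (3, [6, 7], 9), (4, [8, 9], 8)] = true := by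
  decide +kernel

theorem h4 : orbCl 24 5 [983466438638941357681693243757634660, 860198954013955395408560929959454288] [975772984215696459177337332309213485, 652514829522461100270296349147545805]
    (ph 0x1000300020002000600000000000000010005000000240000000000040003000000010002000a00010000000e000500000000004600000002000700230003000100200000000800000007000400010000000800060000002d0011000d0011000400000012001100000000005a000500020011000d000f0000000d000000020000000900040004000000020006000a0003001b000b00100004000000090003000000220000001c0009000200330006001000110004000b001a00090000000e000100000005000000020008001d00010000001800000002000a0015004f00020002000b000900140006000000020005000000010005001e00010002 127 3336629 499)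
    (fun e => bor (!relOK 24 5 881858501671389042782904780254752963
      [([false, false, true, false, false, true, false, false], true)] e)
      (memL e [595151360256427030557912619012850755, 809120750875672342879247236739514369, 297723636878088061075722738558313900, 609698512867675794569127683645718529, 817403572713698863228470508310306817, 713073281705620136416251770057195778, 305669146507548120061839315771345037, 648577841681865016332584807302440326, 799154485223112592205984882891430025, 802792630155614325110661539586656387, 632737062427447448458818092389638578, 311023987714909723361056493777846466, 235866023745927859273996546294887817, 721008367182860730710022706904305938, 899228834153709788095330027794143532, 838058588150254001842693827121647826, 234127864083396158983920601914215425, 858949212866134157652818794487350349, 879747377833504757950915806840960306, 316007166678578524912147864063380614]))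
    396 234127864083396158983920601914215425 = true := by
  decide +kernel

theorem out_le : Nat.card (Out Spor.M12) ≤ 2 :=
  have := simple_M12
  clsS12.card_out_le inj_pt (faithful_P24.subgroup _) (by norm_num) (by norm_num) chS12 (z := 240)
    (by decide +kernel) (h1 _ List.mem_cons_self)
    (Gen.of_surOK inj_pt (faithful_P24.subgroup _) h1 (by rw [Subgroup.card_top, card_M12]) h3)
    (B := 23) (a := 10) (b := 2) (p := (858941438737700568270003674631244801, 10)) (by decide +kernel)
    (by decide +kernel) h2 h4 (by decide +kernel)

theorem out_ne : Nat.card (Out Spor.M12) ≠ 1 := by
  obtain ⟨g, h1, hg⟩ : ∃ g ∈ M24, Rp g 542639877959532440114821260717301486 := ⟨_, (mk _).2, mk_rep (by decide +kernel)⟩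
  obtain ⟨x, -, hx⟩ : ∃ x ∈ (⊤ : Subgroup Spor.M12), Rep 24 5 G.pt x 860920589307070950875358729706015808 :=
    same12.list (mem12.list (l := [_]) (by decide +kernel)) _ List.mem_cons_self
  have hc := (show Cj g Spor.M12 Spor.M12 from by
      have := (Cj.self (K := M24) h1).inf (Cj.stab (show g • G.toF 340831 = (G.toF 340831)ᶜ from
        (hg.smul_toF _).trans ((congrArg G.toF (by decide +kernel)).trans (G.toF_compl _))))
      rw [show stabilizer P24 (G.toF 340831)ᶜ = stabilizer P24 (G.toF 340831) from
        Subgroup.ext fun k => by
          rw [mem_stabilizer_iff, mem_stabilizer_iff, Finset.smul_finset_def, Finset.smul_finset_def,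
            Finset.compl_eq_univ_sdiff, Finset.image_sdiff _ _ (MulAction.injective k), Finset.image_univ_of_surjective
            (MulAction.surjective k), ← Finset.compl_eq_univ_sdiff, ← Finset.compl_eq_univ_sdiff, compl_inj_iff]] at this
      rwa [Spor.M12, squareDodecad_eq])
  refine card_out_ne_one hc.equiv (x := x) fun h => ?_
  have h2 : Rep 24 5 G.pt (hc.equiv x) (mul 24 5 (mul 24 5 542639877959532440114821260717301486 860920589307070950875358729706015808) 62802482236325625524075885693131431) :=
    Rep.subgroup_iff.2 ((Rep.mul hg (Rep.subgroup_iff.1 hx)).mul (Rep.inv (by norm_num) hg (by norm_num)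
      (fun i hi => of_decide_eq_true (of_allLt (f := fun i => decide (get 5 62802482236325625524075885693131431 i < 24)) (by decide +kernel) hi))
      (by decide +kernel)))
  have h3 := (trAny_iff inj_pt (faithful_P24.subgroup _) (by norm_num) (by norm_num) chS12 hx h2 [1, 2, 3]).2 h
  revert h3
  decide +kernel

/-- The outer automorphism group of the Mathieu group M₁₂ (the stabiliser of a dodecad in the automorphism group of the length-24 binary code) has order 2. -/
theorem result : Nat.card (Cfsg.Out ↥Cfsg.Spor.M12) = 2 := by
  have := out_le
  have := out_ne
  have : 0 < Nat.card (Out Spor.M12) := Nat.card_pos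
  omega

end Cfsg.Agent.S2061
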