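import Cfsg.Statements.S2686
import Cfsg.Agent.Lib.Bal.Lin

set_option autoImplicit false
open Cfsg

namespace Cfsg.Agent.S2686

open Cfsg.Lib Cfsg.Lib.Linear Cfsg.Lib.Bal

/-- A criterion for the failure of local balance in almost simple groups with linear socle. Let F be a finite field of characteristic r and K = PSL_n(F) (n ≥ 2) simple. Let A be a group of automorphisms of K containing all inner automorphisms (an almost simple group with socle K), and β ∈ A an automorphism of prime order p ≠ r that is not inner-diagonal (not induced by conjugation by an invertible matrix). Then the largest normal subgroup of C_A(β) of order prime to p is nontrivial if and only if β is the composite of an inner-diagonal automorphism with the automorphism induced by a field automorphism applied entrywise (β is of field type) and p does not divide the number of fixed points of β on K. -/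
theorem result
    (F : Type*) [Field F] [Fintype F] (r : ℕ) [Fact r.Prime] [CharP F r] (n : ℕ) (hn : 2 ≤ n)
    (hK : IsSimpleGroup (Matrix.ProjectiveSpecialLinearGroup (Fin n) F))
    (𝒢 : Subgroup (MulAut (Matrix.ProjectiveSpecialLinearGroup (Fin n) F))) (hinn : ∀ k : Matrix.ProjectiveSpecialLinearGroup (Fin n) F, MulAut.conj k ∈ 𝒢)
    (p : ℕ) [Fact p.Prime] (hpr : p ≠ r) (β : MulAut (Matrix.ProjectiveSpecialLinearGroup (Fin n) F)) (hβ : β ∈ 𝒢) (hord : orderOf β = p)
    (hnot : ¬ Cfsg.IsInnerDiagonalAutPSL β) :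
    Cfsg.pPrimeCore p ↥(𝒢 ⊓ Subgroup.centralizer {β}) ≠ ⊥ ↔
      ((∃ γ φ : MulAut (Matrix.ProjectiveSpecialLinearGroup (Fin n) F), Cfsg.IsInnerDiagonalAutPSL γ ∧ Cfsg.IsFieldAutPSL φ ∧ β = φ.trans γ) ∧
        Nat.Coprime p (Nat.card ↥(MonoidHom.eqLocus β.toMonoidHom (MonoidHom.id (Matrix.ProjectiveSpecialLinearGroup (Fin n) F))))) := by
  haveI : Nontrivial (Fin n) := Fin.nontrivial_iff_two_le.2 hn
  have hZ := center_eq_bot_of_simple hK
  have hp : p.Prime := Fact.out
  have hd := fun β => (aut_PSL_decomp (F := F) hn β).imp fun g h => h.imp fun τ h =>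
    h.imp_right fun h => And.intro ((Fintype.card_fin n).symm ▸ h.1) h.2
  obtain ⟨g, σ, rfl | ⟨h3, rfl⟩⟩ := hd β
  · have hσ : σ ≠ 1 := fun h => hnot (isInnerDiagonalAutPSL_iff.2 ⟨g, by simp [h]⟩)
    have h1 := mul_pow_eq_nrm _ (fieldAut_mul_innDiag σ) g p
    rw [← hord, pow_orderOf_eq_one, hord, ← map_pow] at h1
    have ho : orderOf σ = p := orderOf_eq_prime (innDiag_mul_fieldAut_eq_one h1.symm).2 hσ
    obtain ⟨k, hk⟩ := (isTwist_fieldAut σ).exists_conj (g := g) (ho ▸ hord ▸ pow_orderOf_eq_one _)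
    have := core_iff_field_PSL hZ hinn hpr ho hd (innDiag k) (P := ∃ γ φ,
      Cfsg.IsInnerDiagonalAutPSL γ ∧ Cfsg.IsFieldAutPSL φ ∧ innDiag g * fieldAut σ = φ.trans γ)
      ⟨_, _, isInnerDiagonalAutPSL_iff.2 ⟨g, rfl⟩, isFieldAutPSL_iff.2 ⟨σ, rfl⟩, rfl⟩
    rwa [← hk] at this
  obtain ⟨θ, h1, h2, h4, -⟩ := exists_autType (F := F) h3
  have h5 : θ (innDiag g * fieldAut σ * graphAut) ^ p = 1 := by
    rw [← map_pow, ← hord, pow_orderOf_eq_one, map_one]
  rw [map_mul, map_mul, h1.ge ⟨g, rfl⟩, h2, h4, one_mul, Prod.mk_mul_mk, mul_one, one_mul,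
    Prod.pow_mk, Prod.mk_eq_one] at h5
  obtain rfl : p = 2 := ((Nat.prime_dvd_prime_iff_eq Nat.prime_two hp).1 ((orderOf_eq_prime
    (by decide) (by decide)).symm.dvd.trans (orderOf_dvd_of_pow_eq_one h5.2))).symm
  have h2F : (2 : F) ≠ 0 := fun h => hpr ((Nat.prime_dvd_prime_iff_eq Fact.out Nat.prime_two).1
    ((CharP.cast_eq_zero_iff F r 2).1 h)).symm
  rcases eq_or_ne σ 1 with rfl | hσ
  · have e : innDiag g * fieldAut 1 * graphAut = 1 * grAut g⁻¹ * 1⁻¹ := by simp [grAut]
    rw [e] at hord ⊢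
    rcases (orderOf_grAut h3).1 (by simpa using hord) with hM | hM
    exacts [core_iff_symm_PSL hZ hinn h2F h3 hM 1 _, core_iff_alt_PSL hZ hinn h2F h3 hM 1 _]
  obtain ⟨k, hk⟩ := (isTwist_fieldGraph hσ h5.1).exists_conj (g := g)
    (by rw [← mul_assoc, ← hord, pow_orderOf_eq_one])
  rw [mul_assoc, hk]
  exact core_iff_graphField_PSL hZ hinn h2F (by simpa using h3) hσ h5.1 _ _

end Cfsg.Agent.S2686
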