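import Cfsg.Statements.S4039
import Cfsg.Agent.Lib.BG.Hall
import Cfsg.Agent.Lib.FGS.MaxNil

set_option autoImplicit false
open Cfsg

namespace Cfsg.Agent.S4039

/-- A finite group possessing a maximal subgroup that is nilpotent of class at most 2 is solvable. -/
theorem result {G : Type*} [Group G] [Finite G]
    (M : Subgroup G) (hmax : IsCoatom M) (hnil : Group.IsNilpotent M) (hcl : Group.nilpotencyClass ↥M ≤ 2) :
    Group.IsSolvable G := by
  open Subgroup Cfsg.Lib Cfsg.Lib.BG Cfsg.Lib.Transfer in
  obtain ⟨S, hS⟩ := Syl.exists (p := 2) M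
  have h := congrArg (Subgroup.map M.subtype) (Subgroup.lowerCentralSeries_eq_bot_iff_nilpotencyClass_le.2 hcl)
  simp only [Subgroup.lowerCentralSeries_succ, Subgroup.lowerCentralSeries_zero, map_commutator, ← MonoidHom.range_eq_map, range_subtype, Subgroup.map_bot] at h
  exact FGS.isSolvable_of_max_nil hmax hnil hS (eq_bot_mono h (commutator_mono (der_mono hS.le) hS.le))

end Cfsg.Agent.S4039
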