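import Cfsg.Statements.S4470
import Cfsg.Agent.Lib.Char.Central
import Cfsg.Agent.Lib.Sz.Weights

set_option autoImplicit false
open Cfsg

namespace Cfsg.Agent.S4470

open Module Lib.Sz

theorem arc {z w : ℂ} (hz : ‖z‖ = 1) (hw : ‖w‖ = 1)
    (h : ⌈(z.arg + Real.pi) / (Real.pi / 6)⌉ = ⌈(w.arg + Real.pi) / (Real.pi / 6)⌉) {u : ℂ}
    (hu : w * u = z) : ‖u - (√3 / 2 : ℝ)‖ < 1 / 2 := by
  have hπ : 0 < Real.pi / 6 := by positivity
  have h1 : |z.arg - w.arg| < Real.pi / 6 := by
    have := Int.abs_sub_lt_one_of_floor_eq_floor (a := -((z.arg + Real.pi) / (Real.pi / 6)))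
      (b := -((w.arg + Real.pi) / (Real.pi / 6))) (by rw [Int.floor_neg, Int.floor_neg, h])
    rw [neg_sub_neg, ← sub_div, add_sub_add_right_eq_sub, abs_div, abs_of_pos hπ,
      div_lt_one hπ, abs_sub_comm] at this
    exact this
  have h2 : u = Complex.exp ((z.arg - w.arg : ℝ) * Complex.I) := by
    have hz' := Complex.norm_mul_exp_arg_mul_I z
    have hw' := Complex.norm_mul_exp_arg_mul_I w
    rw [hz] at hz'
    rw [hw] at hw'
    refine mul_left_cancel₀ (a := w) (by rintro rfl; simp at hw) ?_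
    rw [hu]
    generalize z.arg = s, w.arg = t at hz' hw' ⊢
    rw [← hz', ← hw']
    push_cast
    rw [one_mul, one_mul, ← Complex.exp_add]
    congr 1; ring
  generalize z.arg - w.arg = θ at h1 h2
  have h3 : √3 / 2 < Real.cos θ := by
    rw [← Real.cos_pi_div_six, ← Real.cos_abs θ]
    exact Real.cos_lt_cos_of_nonneg_of_le_pi (abs_nonneg _) (by linarith [Real.pi_pos]) h1
  have h4 : √3 * √3 = 3 := Real.mul_self_sqrt (by norm_num)
  have h5 : 0 < √3 := by positivity
  refine lt_of_pow_lt_pow_left₀ 2 (by norm_num) ?_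
  rw [Complex.sq_norm, Complex.normSq_apply, h2]
  simp only [Complex.sub_re, Complex.sub_im, Complex.ofReal_re, Complex.ofReal_im,
    Complex.exp_ofReal_mul_I_re, Complex.exp_ofReal_mul_I_im]
  nlinarith [Real.sin_sq_add_cos_sq θ]

variable {G E : Type*} [Group G] [Finite G] [NormedAddCommGroup E] [InnerProductSpace ℂ E]
  [FiniteDimensional ℂ E] (R : G →* (E →L[ℂ] E)) (hR : ∀ g v, ‖R g v‖ = ‖v‖)

include hR

omit [Finite G] [FiniteDimensional ℂ E] in
theorem inner_map (g : G) (u v : E) : inner ℂ (R g u) (R g v) = inner ℂ u v :=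
  (LinearIsometry.mk (R g : E →ₗ[ℂ] E) (hR g)).inner_map_map u v

omit [Finite G] in
theorem norm_lt (g : G) {a : ℂ} {c : ℝ} (hc : 0 < c)
    (h : ∀ z v, v ≠ 0 → R g v = z • v → ‖z - a‖ < c) : ‖R g - a • 1‖ < c := by
  have := FiniteDimensional.complete ℂ E
  rcases subsingleton_or_nontrivial (E →L[ℂ] E) with h0 | h0
  · rwa [Subsingleton.elim (R g - a • 1) 0, norm_zero]
  have h1 : star (R g) = R g⁻¹ := by
    refine ((ContinuousLinearMap.eq_adjoint_iff _ _).2 fun x y => ?_).symm
    rw [← inner_map R hR g, ← ContinuousLinearMap.mul_apply, ← map_mul, mul_inv_cancel, map_one]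
    rfl
  have : IsStarNormal (R g - a • 1) := ⟨by
    have h2 : Commute (R g⁻¹) (R g) := (Commute.refl g).inv_left.map R
    rw [star_sub, star_smul, star_one, h1]
    exact ((h2.sub_right ((Commute.one_right _).smul_right _)).sub_left
      ((Commute.one_left _).smul_left _))⟩
  obtain ⟨z, hz, h2⟩ := spectrum.exists_nnnorm_eq_spectralRadius (R g - a • 1)
  rw [IsStarNormal.spectralRadius_eq_nnnorm, ENNReal.coe_inj] at h2
  rw [ContinuousLinearMap.spectrum_eq] at hz
  obtain ⟨v, hv⟩ := (End.HasEigenvalue.of_mem_spectrum hz).exists_hasEigenvector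
  have h3 : R g v - a • v = z • v := hv.apply_eq_smul
  have h4 := h (z + a) v hv.2 (by rw [add_smul, ← h3, sub_add_cancel])
  rw [add_sub_cancel_right] at h4
  exact (congrArg NNReal.toReal h2).ge.trans_lt h4

theorem comm_of_comm_conj {a b : G} (hb : ‖R b - 1‖ < 1) (h : Commute a (b * a * b⁻¹)) :
    R a * R b = R b * R a := by
  have hs : End.IsSemisimple (R a : E →ₗ[ℂ] E) := by
    refine End.isSemisimple_of_squarefree_aeval_eq_zero
      (Polynomial.separable_X_pow_sub_C (1 : ℂ) (n := orderOf a)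
        (by exact_mod_cast (orderOf_pos a).ne') one_ne_zero).squarefree ?_
    rw [map_sub, map_pow, Polynomial.aeval_X, Polynomial.aeval_C, map_one,
      ← ContinuousLinearMap.coe_pow, ← map_pow, pow_orderOf_eq_one, map_one]
    exact sub_self _
  refine ContinuousLinearMap.ext fun v => ?_
  have hv : v ∈ ⨆ α, End.eigenspace (R a : E →ₗ[ℂ] E) α := hs.iSup_eigenspace_eq_top.ge trivial
  induction hv using Submodule.iSup_induction' with
  | zero => simp
  | add x y _ _ hx hy => rw [map_add, map_add, hx, hy]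
  | mem α w hw =>
    have hw : R a w = α • w := End.mem_eigenspace_iff.1 hw
    have hm : ∀ x y v, R x (R y v) = R (x * y) v := fun x y v => by rw [map_mul]; rfl
    set y := R b⁻¹ (R a (R b w) - α • R b w) with hy
    have hby : R b y = R a (R b w) - α • R b w := by rw [hy, hm, mul_inv_cancel, map_one]; rfl
    have h1 : R a y = α • y := by
      have h2 : a * (b⁻¹ * (a * b)) = b⁻¹ * (a * b) * a := by
        have := h.eq
        calc a * (b⁻¹ * (a * b)) = b⁻¹ * (b * a * b⁻¹ * a) * b := by group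
          _ = b⁻¹ * (a * (b * a * b⁻¹)) * b := by rw [this]
          _ = _ := by group
      rw [hy]
      simp only [map_sub, map_smul, hm, inv_mul_cancel, map_one, ContinuousLinearMap.one_apply,
        mul_one, h2, smul_sub, hw]
      rw [← hm _ a, hw, map_smul]
    have h2 : inner ℂ y (R b y) = 0 := by
      by_cases h0 : y = 0
      · simp [h0]
      have hα : starRingEnd ℂ α * α = 1 := by
        have h3 := inner_map R hR a y y
        rw [h1, inner_smul_left, inner_smul_right, ← mul_assoc] at h3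
        exact mul_right_cancel₀ (inner_self_ne_zero.2 h0) (h3.trans (one_mul _).symm)
      rw [hby, inner_sub_right, inner_smul_right, ← inner_map R hR a y (R b w), h1,
        inner_smul_left, ← mul_assoc, mul_comm α, hα, one_mul, sub_self]
    have h3 : y = 0 := by
      by_contra h0
      have h4 : ‖R b y - y‖ < ‖y‖ := by
        have := (R b - 1).le_opNorm y
        exact this.trans_lt (by simpa using mul_lt_mul_of_pos_right hb (norm_pos_iff.2 h0))
      have h5 := norm_sub_sq (𝕜 := ℂ) y (R b y)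
      rw [h2, hR b y, norm_sub_rev y] at h5
      simp only [map_zero, mul_zero, sub_zero] at h5
      nlinarith [norm_nonneg (R b y - y)]
    rw [h3, map_zero, eq_comm, sub_eq_zero] at hby
    change R a (R b w) = R b (R a w)
    rw [hby, hw, map_smul]

theorem comm_of_small (hi : Function.Injective R) {a : G} {α : ℂ} (ha : ‖R a - α • 1‖ < 1 / 2)
    {b : G} (hb : ‖R b - 1‖ < 1) : a * b = b * a := by
  by_contra hne
  obtain ⟨b, ⟨hb, hne⟩, hmin⟩ := Set.exists_min_image {b | ‖R b - 1‖ < 1 ∧ a * b ≠ b * a}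
    (fun b => ‖R b - 1‖) (Set.toFinite _) ⟨b, hb, hne⟩
  have h1 : 0 < ‖R b - 1‖ := norm_pos_iff.2 fun e => hne (by
    rw [hi ((sub_eq_zero.1 e).trans (map_one R).symm), mul_one, one_mul])
  have h2 : ‖R (a * b * a⁻¹ * b⁻¹) - 1‖ < ‖R b - 1‖ := by
    have h3 : R (a * b * a⁻¹ * b⁻¹) - 1 =
        ((R a - α • 1) * (R b - 1) - (R b - 1) * (R a - α • 1)) * R (a⁻¹ * b⁻¹) := by
      have : (R a - α • 1) * (R b - 1) - (R b - 1) * (R a - α • 1) = R (a * b) - R (b * a) := by
        simp only [sub_mul, mul_sub, mul_one, one_mul, smul_mul_assoc, mul_smul_comm, map_mul,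
          smul_sub]
        abel
      rw [this, sub_mul, ← map_mul, ← map_mul, ← map_one R]
      congr 2 <;> group
    have h4 : ‖R (a⁻¹ * b⁻¹)‖ ≤ 1 :=
      ContinuousLinearMap.opNorm_le_bound _ zero_le_one fun v => by rw [hR, one_mul]
    rw [h3]
    refine (norm_mul_le _ _).trans_lt ((mul_le_of_le_one_right (norm_nonneg _) h4).trans_lt
      ((norm_sub_le _ _).trans_lt ?_))
    nlinarith [norm_mul_le (R a - α • 1) (R b - 1), norm_mul_le (R b - 1) (R a - α • 1)]
  have h3 : a * (a * b * a⁻¹ * b⁻¹) = a * b * a⁻¹ * b⁻¹ * a := by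
    by_contra h
    exact absurd (hmin _ ⟨h2.trans hb, h⟩) (not_le.2 h2)
  have h4 : Commute a (b * a * b⁻¹) := by
    have : Commute a (a⁻¹ * (a * b * a⁻¹ * b⁻¹))⁻¹ :=
      ((Commute.refl a).inv_right.mul_right h3).inv_right
    convert this using 1
    group
  exact hne (hi (by rw [map_mul, map_mul, comm_of_comm_conj R hR hb h4]))

theorem main (hi : Function.Injective R) : ∃ A : Subgroup G, A.Normal ∧
    (∀ x ∈ A, ∀ y ∈ A, x * y = y * x) ∧ ∀ H : Subgroup G, (∀ x ∈ H, ∀ y ∈ H, x * y = y * x) →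
      (A.subgroupOf H).index ≤ 12 ^ finrank ℂ E := by
  let α : ℂ := (√3 / 2 : ℝ)
  let S : Set G := {g | ∀ z v, v ≠ 0 → R g v = z • v → ‖z - α‖ < 1 / 2}
  have hm : ∀ x y v, R x (R y v) = R (x * y) v := fun x y v => by rw [map_mul]; rfl
  have hS : ∀ a ∈ S, ∀ b ∈ S, a * b = b * a := fun a ha b hb =>
    comm_of_small R hR hi (norm_lt R hR a (by norm_num) ha) (by
      have := norm_lt R hR b (a := 1) one_pos fun z v hv h => by
        have h1 := norm_sub_le_norm_sub_add_norm_sub z α 1
        have h2 : ‖α - 1‖ ≤ 1 / 2 := by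
          have h4 : √3 * √3 = 3 := Real.mul_self_sqrt (by norm_num)
          have h5 : 0 < √3 := by positivity
          rw [show α - 1 = ((√3 / 2 - 1 : ℝ) : ℂ) by simp [α], Complex.norm_real, Real.norm_eq_abs,
            abs_le]
          constructor <;> nlinarith
        linarith [hb z v hv h]
      rwa [one_smul] at this)
  refine ⟨Subgroup.closure S, ⟨fun x hx g => ?_⟩, fun x hx y hy => ?_, fun H hH => ?_⟩
  · refine (Subgroup.closure_le ((Subgroup.closure S).comap (MulAut.conj g).toMonoidHom)).2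
      (fun s (hs : s ∈ S) => Subgroup.subset_closure (k := S) fun z v hv h =>
        hs z (R g⁻¹ v) (fun e => hv ?_) ?_) hx
    · rw [← norm_eq_zero, ← hR g⁻¹, e, norm_zero]
    · rw [← map_smul, ← h, hm, hm]
      congr 2
      simp [mul_assoc]
  · exact (Subgroup.closure_le (Subgroup.centralizer {x})).2 (fun s hs => by
      rintro _ rfl
      exact ((Subgroup.closure_le (Subgroup.centralizer {s})).2 (fun t ht => by
        rintro _ rfl
        exact hS _ hs _ ht) hx s rfl).symm) hy x rfl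
  let σ : H →* End ℂ E := (ContinuousLinearMap.toLinearMapRingHom.toMonoidHom.comp R).comp H.subtype
  have hσ : ∀ h v, σ h v = R h v := fun _ _ => rfl
  have hf : ∀ i j, σ i * σ j = σ j * σ i := fun i j => by
    rw [← map_mul, ← map_mul, show i * j = j * i from Subtype.ext (hH _ i.2 _ j.2)]
  let Ω := {χ : H → ℂ | wt (fun i => σ i) χ ≠ ⊥}
  have : Finite Ω := Submodule.finite_ne_bot_of_iSupIndep
    (iSupIndep_wt (fun i => σ i) Function.injective_id)
  have hΩ : ∀ ω : Ω, ∃ v ∈ wt (fun i => σ i) ω.1, v ≠ 0 := fun ω => (Submodule.ne_bot_iff _).1 ω.2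
  have h1 := card_le_finrank (fun i => σ i) (J := Ω) Subtype.val_injective hΩ
  have hn : ∀ (ω : Ω) h, ‖ω.1 h‖ = 1 := fun ω h => by
    obtain ⟨v, hv, h0⟩ := hΩ ω
    have := hR h v
    rw [← hσ, hv h, norm_smul] at this
    exact mul_right_cancel₀ (norm_ne_zero_iff.2 h0) (this.trans (one_mul _).symm)
  let c : H → Ω → Finset.Icc (1 : ℤ) 12 := fun h ω =>
    ⟨⌈((ω.1 h).arg + Real.pi) / (Real.pi / 6)⌉, by
      have hπ : 0 < Real.pi / 6 := by positivity
      rw [Finset.mem_Icc, Int.one_le_ceil_iff, Int.ceil_le, div_le_iff₀ hπ]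
      refine ⟨div_pos ?_ hπ, ?_⟩
      · linarith [Complex.neg_pi_lt_arg (ω.1 h)]
      · push_cast; linarith [Complex.arg_le_pi (ω.1 h)]⟩
  have h2 : Function.Injective fun q : H ⧸ (Subgroup.closure S).subgroupOf H => c q.out := by
    intro q q' e
    rw [← q.out_eq', ← q'.out_eq', QuotientGroup.eq]
    refine Subgroup.subset_closure fun z v hv h => ?_
    obtain ⟨ω, w, h3, h4, h5⟩ := exists_wt hf (W := (σ (q.out⁻¹ * q'.out)).eigenspace z)
      ((Submodule.ne_bot_iff _).2 ⟨v, End.mem_eigenspace_iff.2 h, hv⟩) fun i w hw =>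
        End.mem_eigenspace_iff.2 (by
          rw [← End.mul_apply, hf, End.mul_apply, End.mem_eigenspace_iff.1 hw, map_smul])
    have h6 : ω (q.out⁻¹ * q'.out) = z :=
      smul_left_injective ℂ h4 ((h5 _).symm.trans (End.mem_eigenspace_iff.1 h3))
    let ω' : Ω := ⟨ω, (Submodule.ne_bot_iff _).2 ⟨w, h5, h4⟩⟩
    refine arc (hn ω' q'.out) (hn ω' q.out) (congrArg Subtype.val (congrFun e ω')).symm ?_
    rw [← h6]
    exact wt_mul σ (x := id) h5 h4 (mul_inv_cancel_left _ _)
  refine (Nat.card_le_card_of_injective _ h2).trans ?_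
  rw [Nat.card_fun, Nat.card_eq_fintype_card (α := Finset.Icc (1 : ℤ) 12), Fintype.card_coe]
  exact Nat.pow_le_pow_right (by norm_num) h1

omit hR

theorem exists_unitary {G : Type*} [Group G] [Fintype G] {m : ℕ}
    (ρ : Representation ℂ G (Fin m → ℂ)) :
    ∃ (E : Submodule ℂ (EuclideanSpace ℂ (G × Fin m))) (R : G →* (E →L[ℂ] E))
      (e : (Fin m → ℂ) ≃ₗ[ℂ] E), (∀ g v, R g (e v) = e (ρ g v)) ∧ ∀ g v, ‖R g v‖ = ‖v‖ := by
  let ι : (Fin m → ℂ) →ₗ[ℂ] EuclideanSpace ℂ (G × Fin m) :=
    (WithLp.linearEquiv 2 ℂ (G × Fin m → ℂ)).symm.toLinearMap ∘ₗ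
      LinearMap.pi fun x => LinearMap.proj x.2 ∘ₗ ρ x.1
  have hι : ∀ v x, ι v x = ρ x.1 v x.2 := fun _ _ => rfl
  have hi : Function.Injective ι := fun v w h => funext fun i => by
    simpa [hι] using congrArg (fun u => u (1, i)) h
  let e := LinearEquiv.ofInjective ι hi
  let R : G →* (LinearMap.range ι →L[ℂ] LinearMap.range ι) :=
    (Module.End.toContinuousLinearMap _).toMonoidHom.comp (Lib.Char.transportRep ρ e)
  have hR : ∀ g v, R g (e v) = e (ρ g v) := fun g v => by
    change e (ρ g (e.symm (e v))) = _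
    simp
  have hR' : ∀ g v, ‖R g v‖ = ‖v‖ := fun g v => by
    obtain ⟨v, rfl⟩ := e.surjective v
    rw [hR]
    change ‖ι _‖ = ‖ι _‖
    rw [EuclideanSpace.norm_eq, EuclideanSpace.norm_eq]
    congr 1
    refine Fintype.sum_equiv ((Equiv.mulRight g).prodCongr (Equiv.refl _)) _ _ fun x => ?_
    simp [hι]
  exact ⟨_, R, e, hR, hR'⟩

/-- Let the finite group G have a faithful character of degree n. Then G has an abelian normal subgroup A such that every abelian subgroup H of G satisfies [H : H ⊓ A] ≤ 12^n. -/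
theorem result {G : Type*} [Group G] [Finite G] (χ : G → ℂ) (hχ : Cfsg.IsCharacter G χ) (hfaith : ∀ g : G, χ g = χ 1 → g = 1) (n : ℕ) (hn : Cfsg.charDegree χ = n) : ∃ A : Subgroup G, A.Normal ∧ (∀ x ∈ A, ∀ y ∈ A, x * y = y * x) ∧ ∀ H : Subgroup G, (∀ x ∈ H, ∀ y ∈ H, x * y = y * x) → (A.subgroupOf H).index ≤ 12 ^ n := by
  obtain ⟨m, ρ, rfl⟩ := hχ
  have := Fintype.ofFinite G
  have hm : m = n := by
    rw [← hn]
    change m = ⌊(ρ.character 1).re⌋₊
    simp
  obtain ⟨E, R, e, hR, hR'⟩ := exists_unitary ρ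
  have hi : Function.Injective R := (injective_iff_map_eq_one _).2 fun g hg => hfaith g
      ((Lib.Char.character_eq_character_one_iff ρ g).2 (LinearMap.ext fun v => e.injective (by
        rw [← hR, hg]; rfl)))
  have := main (E := E) R hR' hi
  rwa [← e.finrank_eq, Module.finrank_fin_fun, hm] at this

end Cfsg.Agent.S4470
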