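import Cfsg.Statements.S4471
import Cfsg.Agent.S4470
import Cfsg.Agent.Lib.PGroup.Basic
import Cfsg.Agent.Lib.Core.Fitting

set_option autoImplicit false
open Cfsg

namespace Cfsg.Agent.S4471

open Module Lib.Sz Subgroup

section
variable {G V : Type*} [Group G] [AddCommGroup V] [Module ℂ V] [FiniteDimensional ℂ V]

theorem finrank_iSup_eq {J : Type*} [Finite J] {D : J → Submodule ℂ V} (h : iSupIndep D) {d : ℕ}
    (hd : ∀ j, finrank ℂ (D j) = d) : finrank ℂ ↥(⨆ j, D j) = Nat.card J * d := by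
  classical
  have := Fintype.ofFinite J
  have h1 := LinearMap.finrank_range_of_inj h.dfinsupp_lsum_injective
  rw [← Submodule.iSup_eq_range_dfinsupp_lsum] at h1
  rw [h1]
  refine (finrank_directSum ℂ fun j => D j).trans ?_
  simp [hd]

attribute [local instance] arrowAction in
theorem monomial [Finite G] (ρ : Representation ℂ G V) (hρ : ρ.IsIrreducible)
    (hi : Function.Injective ρ) {a : G} (ha : ∀ g h : G, Commute (g * a * g⁻¹) (h * a * h⁻¹))
    {μ : ℂ} {p : ℕ} (hp : p.Prime) (hW : finrank ℂ (End.eigenspace (ρ a) μ) = p)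
    (hn : ¬ p ∣ finrank ℂ V) : ∃ K : Subgroup G, K.Normal ∧ IsMulCommutative K ∧
      K.index ∣ (finrank ℂ V).factorial := by
  classical
  set f : G → End ℂ V := fun g => ρ (g * a * g⁻¹)
  have : Nontrivial V := nontrivial_of_finrank_pos (R := ℂ) (Nat.pos_of_ne_zero fun e => hn (by simp [e]))
  obtain ⟨χ, v, -, hv, hχ⟩ := exists_wt (f := f) (fun i j => ((ha i j).map ρ).eq) (W := ⊤)
    top_ne_bot fun _ _ _ => trivial
  have hm : ∀ (g : G) (ψ : G → ℂ), ∀ w ∈ wt f ψ, ρ g w ∈ wt f (g • ψ) := fun g ψ w hw =>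
    apply_mem_wt ρ (x := fun g => g * a * g⁻¹) hw (s := fun i => g⁻¹ * i) fun i => by group
  have hd : ∀ (g : G) (ψ : G → ℂ), finrank ℂ (wt f ψ) ≤ finrank ℂ (wt f (g • ψ)) := fun g ψ =>
    LinearMap.finrank_le_finrank_of_injective (f := (ρ g).restrict (hm g ψ)) fun x y h =>
      Subtype.ext (apply_injective ρ g (congrArg Subtype.val h))
  set Ω := MulAction.orbit G χ
  have : Finite Ω := Set.finite_range _
  have hd' : ∀ ω : Ω, finrank ℂ (wt f ω.1) = finrank ℂ (wt f χ) := by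
    rintro ⟨_, g, rfl⟩
    exact le_antisymm ((hd g⁻¹ (g • χ)).trans_eq (by rw [inv_smul_smul])) (hd g χ)
  have hind := iSupIndep_wt f (J := Ω) Subtype.val_injective
  have htop : ⨆ ω : Ω, wt f ω.1 = ⊤ := by
    rcases hρ.eq_bot_or_eq_top ⟨⨆ ω : Ω, wt f ω.1, fun g w hw =>
      (iSup_le fun ω w hw => Submodule.mem_iSup_of_mem (g • ω) (hm g _ w hw) :
        _ ≤ Submodule.comap (ρ g) (⨆ ω : Ω, wt f ω.1)) hw⟩ with h | h
    · have h1 : ⨆ ω : Ω, wt f ω.1 = ⊥ := congrArg Subrepresentation.toSubmodule h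
      exact absurd (h1.le (Submodule.mem_iSup_of_mem ⟨χ, MulAction.mem_orbit_self χ⟩ hχ)) hv
    · exact congrArg Subrepresentation.toSubmodule h
  have h1 := finrank_iSup_eq hind hd'
  rw [htop, finrank_top] at h1
  have he : ∀ ψ : G → ℂ, wt f ψ ≤ End.eigenspace (ρ a) (ψ 1) := fun ψ w hw =>
    End.mem_eigenspace_iff.2 (by simpa [f] using hw 1)
  have h2 : End.eigenspace (ρ a) μ = ⨆ ω : {ω : Ω // ω.1 1 = μ}, wt f ω.1.1 := by
    have h3 : ⨆ ω : {ω : Ω // ω.1 1 = μ}, wt f ω.1.1 ≤ End.eigenspace (ρ a) μ :=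
      iSup_le fun ω => (he _).trans_eq (by rw [ω.2])
    refine (eq_of_le_of_inf_le_of_le_sup h3 (z := ⨆ ν, ⨆ _ : ν ≠ μ, End.eigenspace (ρ a) ν)
      ((End.eigenspaces_iSupIndep (ρ a) μ).le_bot.trans bot_le) (le_top.trans (htop.ge.trans
        (iSup_le fun ω => ?_)))).symm
    by_cases h : ω.1 1 = μ
    · exact le_sup_of_le_left (le_iSup (fun ω : {ω : Ω // ω.1 1 = μ} => wt f ω.1.1) ⟨ω, h⟩)
    · exact le_sup_of_le_right ((he _).trans (le_iSup₂_of_le (ω.1 1) h le_rfl))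
  have h3 := finrank_iSup_eq (hind.comp (Subtype.val_injective (p := fun ω : Ω => ω.1 1 = μ)))
    fun ω => hd' ω.1
  have h4 : finrank ℂ (wt f χ) = 1 := by
    refine (hp.eq_one_or_self_of_dvd _ (Dvd.intro_left _ (h3.symm.trans ?_))).resolve_right
      fun e => hn (h1 ▸ e ▸ Dvd.intro_left _ rfl)
    rw [← hW, h2]
    rfl
  refine ⟨(MulAction.toPermHom G Ω).ker, inferInstance, ⟨⟨fun x y => Subtype.ext (hi ?_)⟩⟩, ?_⟩
  · refine LinearMap.eqLocus_eq_top.1 (top_le_iff.1 (htop.ge.trans (iSup_le fun ω w hw => ?_)))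
    obtain ⟨u, -, hu⟩ := finrank_eq_one_iff'.1 ((hd' ω).trans h4)
    have hs : ∀ x : (MulAction.toPermHom G Ω).ker, ∃ c : ℂ, ρ x u = c • u := fun x => by
      have e : (x : G) • ω = ω := congrArg (fun s : Equiv.Perm Ω => s ω) x.2
      obtain ⟨c, hc⟩ := hu ⟨ρ x u, (congrArg (fun ω : Ω => wt f ω.1) e).le (hm x _ u u.2)⟩
      exact ⟨c, (congrArg Subtype.val hc).symm⟩
    obtain ⟨c, hc⟩ := hu ⟨w, hw⟩
    obtain ⟨s, hs'⟩ := hs x
    obtain ⟨t, ht⟩ := hs y
    obtain rfl : c • (u : V) = w := congrArg Subtype.val hc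
    simp [LinearMap.mem_eqLocus, hs', ht, smul_smul, mul_comm s t]
  · rw [index_ker, h1, h4, mul_one, ← Nat.card_perm]
    exact card_subgroup_dvd_card _

theorem dvd_finrank (ρ : Representation ℂ G V) {z : G} (hz : z ∈ commutator G) (hc : z ∈ center G)
    {p : ℕ} [Fact p.Prime] (hp : z ^ p = 1) {μ : ℂ} (h1 : μ ≠ 1) :
    p ∣ finrank ℂ (End.eigenspace (ρ z) μ) := by
  rcases eq_or_ne (End.eigenspace (ρ z) μ) ⊥ with h | h
  · rw [h, finrank_bot]
    exact dvd_zero p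
  obtain ⟨v, hv, h0⟩ := (Submodule.ne_bot_iff _).1 h
  have h2 : μ ^ p = 1 := smul_left_injective ℂ h0 (by
    have := End.HasEigenvector.pow_apply ⟨hv, h0⟩ p
    rw [← map_pow, hp, map_one] at this
    exact this.symm.trans (one_smul ℂ v).symm)
  let σ := ρ.subrepresentation (End.eigenspace (ρ z) μ) fun g w hw => End.mem_eigenspace_iff.2 (by
    rw [← End.mul_apply, ← map_mul, ← mem_center_iff.1 hc, map_mul, End.mul_apply,
      End.mem_eigenspace_iff.1 hw, map_smul])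
  have h3 := Abelianization.commutator_subset_ker (LinearMap.det.comp σ).toHomUnits hz
  have h4 : σ z = μ • 1 := LinearMap.ext fun w => Subtype.ext (End.mem_eigenspace_iff.1 w.2)
  have h5 : LinearMap.det (σ z) = 1 := congrArg Units.val h3
  rw [h4, LinearMap.det_smul, map_one, mul_one] at h5
  exact orderOf_eq_prime h2 h1 ▸ orderOf_dvd_of_pow_eq_one h5

end

theorem norm_lt_one {p : ℕ} (h7 : 7 ≤ p) : ‖Complex.exp (2 * Real.pi * Complex.I / p) - 1‖ < 1 := by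
  have e : (2 * Real.pi * Complex.I / p : ℂ) = Complex.I * (2 * Real.pi / p : ℝ) := by
    push_cast; ring
  have h3 : (7 : ℝ) ≤ p := by exact_mod_cast h7
  rw [e]
  refine Real.norm_exp_I_mul_ofReal_sub_one_le.trans_lt ?_
  rw [Real.norm_eq_abs, abs_of_pos (by positivity), div_lt_one (by positivity)]
  linarith [Real.pi_lt_d2]

theorem comm_aux {G E : Type*} [Group G] [Finite G] [NormedAddCommGroup E] [InnerProductSpace ℂ E]
    [FiniteDimensional ℂ E] (R : G →* (E →L[ℂ] E)) (hR : ∀ g v, ‖R g v‖ = ‖v‖)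
    (hi : Function.Injective R) {a b : G} {ω : ℂ} (hω1 : ‖ω - 1‖ < 1)
    (ha : ∀ (μ : ℂ) w, w ≠ 0 → R a w = μ • w → μ = 1 ∨ μ = ω)
    (hb : ∀ (μ : ℂ) w, w ≠ 0 → R b w = μ • w → μ = 1 ∨ μ = ω) : Commute a b := by
  have h1 := S4470.norm_lt R hR b (a := 1) one_pos fun μ w h0 hw => by
    rcases hb μ w h0 hw with rfl | rfl
    · simp
    · exact hω1
  rw [one_smul] at h1
  refine S4470.comm_of_small R hR hi (α := (1 + ω) / 2)
    (S4470.norm_lt R hR _ (by norm_num) fun μ w h0 hw => ?_) h1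
  rcases ha μ w h0 hw with rfl | rfl
  · rw [show 1 - (1 + ω) / 2 = -(ω - 1) / 2 by ring, norm_div, norm_neg, Complex.norm_two]
    linarith
  · rw [show μ - (1 + μ) / 2 = (μ - 1) / 2 by ring, norm_div, Complex.norm_two]
    linarith

theorem comm_conj {G : Type*} [Group G] [Finite G] {n : ℕ} (ρ : Representation ℂ G (Fin n → ℂ))
    (hi : Function.Injective ρ) {a : G} {ω : ℂ} (hω1 : ‖ω - 1‖ < 1)
    (hev : ∀ (μ : ℂ) w, w ≠ 0 → ρ a w = μ • w → μ = 1 ∨ μ = ω) (g h : G) :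
    Commute (g * a * g⁻¹) (h * a * h⁻¹) := by
  have := Fintype.ofFinite G
  have hev' : ∀ (g : G) (μ : ℂ) w, w ≠ 0 → ρ (g * a * g⁻¹) w = μ • w → μ = 1 ∨ μ = ω := by
    intro g μ w h0 hw
    refine hev μ (ρ g⁻¹ w) (fun h => h0 ?_) ?_
    · exact apply_injective ρ g⁻¹ (h.trans (map_zero _).symm)
    · rw [← map_smul, ← hw, ← End.mul_apply, ← End.mul_apply, ← map_mul, ← map_mul]
      congr 2
      group
  obtain ⟨E, R, e, hR, hR'⟩ := S4470.exists_unitary ρ
  have hiR : Function.Injective R := fun x y h => hi (LinearMap.ext fun w => e.injective (by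
    rw [← hR, ← hR, h]))
  have key : ∀ (x : G) (μ : ℂ) (w : E), w ≠ 0 → R x w = μ • w → ∃ w, w ≠ 0 ∧ ρ x w = μ • w := by
    intro x μ w h0 hw
    obtain ⟨w, rfl⟩ := e.surjective w
    exact ⟨w, e.map_ne_zero_iff.1 h0, e.injective (by rw [← hR, hw, map_smul])⟩
  exact comm_aux (E := E) R (by exact hR') (by exact hiR) hω1
    (fun μ w h0 hw => (key _ μ w h0 hw).elim fun w hw => hev' g μ w hw.1 hw.2)
    (fun μ w h0 hw => (key _ μ w h0 hw).elim fun w hw => hev' h μ w hw.1 hw.2)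

theorem main {G : Type*} [Group G] [Finite G] {n : ℕ} (ρ : Representation ℂ G (Fin n → ℂ))
    (hρ : ρ.IsIrreducible) (hi : Function.Injective ρ) {p : ℕ} [hp : Fact p.Prime] (h7 : 7 ≤ p)
    (hn2 : n < 2 * p) (hnp : n ≠ p) {P : Subgroup G} (hP : IsPGroup p P)
    (h : commutator P ≠ ⊥) : ¬ p ^ 2 ∣ (pCore p G).index := by
  obtain ⟨z, hz, hc, ho⟩ := Lib.PGroup.exists_mem_center_orderOf_eq hP _ h
  have hzp : z ^ p = 1 := ho ▸ pow_orderOf_eq_one z
  obtain ⟨χ, h1, v, hv, h0⟩ := exists_wt_ne_one (f := fun _ : Unit => ρ z) (fun _ _ => rfl) (i := ())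
    (fun e => hp.out.one_lt.ne' (by
      rw [← ho, orderOf_eq_one_iff]; exact Subtype.ext (hi (e.trans (map_one ρ).symm))))
    (n := p) (by exact_mod_cast hp.out.ne_zero) (by
      rw [← map_pow, ← coe_pow, hzp]; exact map_one ρ)
  have hv' : End.HasEigenvector (ρ z) (χ ()) v := ⟨End.mem_eigenspace_iff.2 (hv ()), h0⟩
  have h2 : χ () ^ p = 1 := smul_left_injective ℂ h0 (by
    have := hv'.pow_apply p
    rw [← map_pow, ← coe_pow, hzp] at this
    simpa using this.symm)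
  have hω := Complex.isPrimitiveRoot_exp p hp.out.ne_zero
  have hω1 := norm_lt_one h7
  generalize Complex.exp (2 * Real.pi * Complex.I / p) = ω at hω hω1
  have : NeZero p := ⟨hp.out.ne_zero⟩
  obtain ⟨k, -, hk⟩ := (orderOf_eq_prime h2 h1 ▸ IsPrimitiveRoot.orderOf (χ ()) :
    IsPrimitiveRoot (χ ()) p).eq_pow_of_pow_eq_one hω.pow_eq_one
  set a : G := ((z ^ k : P) : G) with ha
  have hd : ∀ μ : ℂ, μ ≠ 1 → End.eigenspace (ρ a) μ ≠ ⊥ →
      finrank ℂ (End.eigenspace (ρ a) μ) = p := fun μ h1 h0 => by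
    obtain ⟨c, hc⟩ : p ∣ finrank ℂ (End.eigenspace (ρ a) μ) := dvd_finrank (ρ.comp P.subtype)
      (pow_mem hz k) (pow_mem hc k) (by rw [← pow_mul, mul_comm, pow_mul, hzp, one_pow]) h1
    have h3 := (End.eigenspace (ρ a) μ).finrank_le
    have h4 := mt Submodule.finrank_eq_zero.1 h0
    rw [finrank_fin_fun] at h3
    obtain _ | _ | c := c
    · omega
    · omega
    · nlinarith
  have hW := hd ω (hω.ne_one hp.out.one_lt) ((Submodule.ne_bot_iff _).2 ⟨v,
    End.mem_eigenspace_iff.2 (by rw [← hk, ← hv'.pow_apply, ← map_pow]; rfl), h0⟩)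
  have hev : ∀ (μ : ℂ) w, w ≠ 0 → ρ a w = μ • w → μ = 1 ∨ μ = ω := fun μ w h0 hw => by
    by_contra! h3
    have h4 := hd μ h3.1 ((Submodule.ne_bot_iff _).2 ⟨w, End.mem_eigenspace_iff.2 hw, h0⟩)
    have h5 := Submodule.finrank_add_finrank_le_of_disjoint
      ((End.eigenspaces_iSupIndep (ρ a)).pairwiseDisjoint h3.2)
    rw [finrank_fin_fun] at h5
    omega
  obtain ⟨K, hK, hK', hind⟩ := monomial ρ hρ hi (comm_conj ρ hi hω1 hev) hp.out hW (by
    have := (End.eigenspace (ρ a) ω).finrank_le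
    rw [finrank_fin_fun] at this ⊢
    rintro ⟨_ | _ | c, hc⟩
    · have := hp.out.pos
      omega
    · omega
    · nlinarith)
  intro h3
  have h4 := h3.trans (index_dvd_of_le (Lib.Core.pCoreOf_le_pCore (p := p) K))
  rw [← relIndex_mul_index (Lib.Core.pCoreOf_le p K)] at h4
  have h5 := (Nat.Coprime.dvd_of_dvd_mul_left (Nat.Coprime.pow_left 2 (hp.out.coprime_iff_not_dvd.2
    (Lib.Core.not_dvd_relIndex_pCoreOf (Lib.Core.isNilpotent_of_isMulCommutative K) p))) h4).trans hind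
  rw [finrank_fin_fun, hp.out.pow_dvd_factorial_iff (b := 2) (Nat.log_lt_of_lt_pow' two_ne_zero
    (by nlinarith))] at h5
  have : n / p < 2 := Nat.div_lt_of_lt_mul (by omega)
  simp at h5
  omega


/-- Let p ≥ 7 be a prime and let the finite group G have a faithful irreducible character of degree n with n < 2p and n ≠ p. If the Sylow p-subgroups of G are non-abelian then p² does not divide the index of O_p(G) in G; consequently, in every case G/O_p(G) has abelian Sylow p-subgroups. -/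
theorem result {G : Type*} [Group G] [Finite G] (χ : Cfsg.IrrCharacter G) (hfaith : ∀ g : G, (χ : G → ℂ) g = (χ : G → ℂ) 1 → g = 1) (n : ℕ) (hn : Cfsg.charDegree (χ : G → ℂ) = n) (p : ℕ) (hp : p.Prime) (h7 : 7 ≤ p) (hn2 : n < 2 * p) (hnp : n ≠ p) : ((∃ P : Sylow p G, ∃ x ∈ (P : Subgroup G), ∃ y ∈ (P : Subgroup G), x * y ≠ y * x) → ¬ p ^ 2 ∣ (Cfsg.pCore p G).index) ∧ ∀ Q : Sylow p (G ⧸ Cfsg.pCore p G), ∀ x ∈ (Q : Subgroup (G ⧸ Cfsg.pCore p G)), ∀ y ∈ (Q : Subgroup (G ⧸ Cfsg.pCore p G)), x * y = y * x := by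
  obtain ⟨_, m, ρ, hρ, rfl⟩ := χ
  haveI := Fact.mk hp
  obtain rfl : m = n := by
    rw [← hn]
    change m = ⌊(ρ.character 1).re⌋₊
    simp
  have hi : Function.Injective ρ := (injective_iff_map_eq_one _).2 fun g hg => hfaith g
    ((Lib.Char.character_eq_character_one_iff ρ g).2 hg)
  have key : (∃ P : Sylow p G, ∃ x ∈ (P : Subgroup G), ∃ y ∈ (P : Subgroup G), x * y ≠ y * x) →
      ¬ p ^ 2 ∣ (Cfsg.pCore p G).index := fun ⟨P, x, hx, y, hy, h⟩ =>
    main ρ hρ hi h7 hn2 hnp P.isPGroup' fun e => h (congrArg Subtype.val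
      (commutatorElement_eq_one_iff_mul_comm.1 (e.le (commutator_mem_commutator
        (mem_top (⟨x, hx⟩ : P)) (mem_top ⟨y, hy⟩)))))
  refine ⟨key, fun Q x hx y hy => ?_⟩
  by_cases h : p ^ 2 ∣ (Cfsg.pCore p G).index
  · obtain ⟨P, rfl⟩ := Sylow.mapSurjective_surjective (QuotientGroup.mk'_surjective _) p Q
    obtain ⟨x, hx, rfl⟩ := hx
    obtain ⟨y, hy, rfl⟩ := hy
    rw [← map_mul, ← map_mul, not_not.1 fun e => key ⟨P, x, hx, y, hy, e⟩ h]
  · obtain ⟨k, hk⟩ := IsPGroup.iff_card.1 Q.isPGroup'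
    have h0 := card_subgroup_dvd_card (Q : Subgroup (G ⧸ Cfsg.pCore p G))
    have h1 : ¬ 2 ≤ k := fun e => h ((pow_dvd_pow p e).trans (hk.symm.dvd.trans h0))
    have : IsCyclic (Q : Subgroup (G ⧸ Cfsg.pCore p G)) := isCyclic_of_card_dvd_prime (p := p)
      (hk.dvd.trans ((pow_dvd_pow p (by omega : k ≤ 1)).trans (pow_one p).dvd))
    exact congrArg Subtype.val (this.isMulCommutative.1.1 ⟨x, hx⟩ ⟨y, hy⟩)

end Cfsg.Agent.S4471
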