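import Cfsg.Statements.S4488
import Cfsg.Agent.Lib.Block.DefectOrder
import Cfsg.Agent.Lib.Char.Galois
import Cfsg.Agent.S4730

set_option autoImplicit false
open Cfsg

namespace Cfsg.Agent.S4488

open Cfsg.Lib.Char Cfsg.Lib.Block Cfsg.Lib.Modular Subgroup

/-- Values of a rational-valued character of a `p`-group. -/
theorem val_mem {P : Type*} [Group P] [Finite P] {p : ℕ} [hp : Fact p.Prime] (hP : IsPGroup p P)
    {χ : P → ℂ} (hχ : IsCharacter P χ)
    (hrat : ∀ (g : P) (k : ℕ), k.Coprime (orderOf g) → χ (g ^ k) = χ g) {g : P}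
    (hg : χ g ≠ χ 1) : ∃ y : ℕ, y ∈ Finset.Icc 1 (charDegree χ / (p - 1)) ∧
      χ g = charDegree χ - (p * y : ℕ) := by
  classical
  obtain ⟨c, hc⟩ := hχ.isGeneralizedCharacter.exists_int_of_forall_pow (hrat g)
  obtain ⟨M, hM⟩ := exists_isPModular hp.out
  haveI : Modular p M := ⟨hM⟩
  have hpe : ∃ k, orderOf g = p ^ k := IsPGroup.iff_orderOf.1 hP g
  have h1 := red_char_regPart (p := p) (M := M) hχ g
  rw [regPart_of_pElt hp.out hpe, hc, hχ.apply_one_eq] at h1
  have h2 : (p : ℤ) ∣ (charDegree χ : ℤ) - c := by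
    rw [← red_intCast_eq_zero_iff (M := M), Int.cast_sub, red_sub (intCast_mem _ _) (intCast_mem _ _),
      Int.cast_natCast, h1, sub_self]
  obtain ⟨y, hy⟩ := h2
  have hle : c ≤ charDegree χ := by
    have := hχ.norm_le g
    rw [hc, hχ.norm_apply_one, Complex.norm_intCast] at this
    have h3 : (c : ℝ) ≤ charDegree χ := (le_abs_self _).trans this
    exact_mod_cast h3
  have hne : c ≠ charDegree χ := by
    rintro rfl; exact hg (by rw [hc, hχ.apply_one_eq]; simp)
  have hp0 : (0 : ℤ) < p := by exact_mod_cast hp.out.pos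
  have hy0 : 0 < y := by
    by_contra h
    have : (p : ℤ) * y ≤ 0 := mul_nonpos_of_nonneg_of_nonpos hp0.le (by omega)
    omega
  -- lower bound
  have hlow : -(charDegree χ : ℤ) ≤ (p - 1) * c := by
    obtain ⟨j, hj⟩ := hpe
    have hg1 : g ≠ 1 := by rintro rfl; exact hg rfl
    rcases j with _ | j
    · exact absurd (orderOf_eq_one_iff.1 hj) hg1
    haveI := Fintype.ofFinite P
    obtain ⟨A, hA⟩ := S4730.sum_eq_card_mul hχ (zpowers g)
    obtain ⟨B, hB⟩ := S4730.sum_eq_card_mul hχ (zpowers (g ^ p))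
    have ho : orderOf (g ^ p) = p ^ j := by
      rw [orderOf_pow_of_dvd hp.out.ne_zero (hj ▸ dvd_pow_self p (Nat.succ_ne_zero j)), hj,
        pow_succ, Nat.mul_div_cancel _ hp.out.pos]
    rw [Nat.card_zpowers, hj, ← Finset.sum_subtype (Finset.univ.filter (· ∈ zpowers g))
      (by simp)] at hA
    have hBle : B ≤ charDegree χ := by
      have h3 : ‖∑ z : zpowers (g ^ p), χ z‖ ≤ ∑ z : zpowers (g ^ p), (charDegree χ : ℝ) :=
        (norm_sum_le _ _).trans (Finset.sum_le_sum fun z _ => hχ.norm_apply_one ▸ hχ.norm_le z)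
      rw [hB, Finset.sum_const, Finset.card_univ, ← Nat.card_eq_fintype_card, nsmul_eq_mul,
        Complex.norm_natCast] at h3
      have h4 : Nat.card (zpowers (g ^ p)) * B ≤ Nat.card (zpowers (g ^ p)) * charDegree χ := by
        exact_mod_cast h3
      exact Nat.le_of_mul_le_mul_left h4 Nat.card_pos
    rw [Nat.card_zpowers, ho, ← Finset.sum_subtype (Finset.univ.filter (· ∈ zpowers (g ^ p)))
      (by simp)] at hB
    have hsub : Finset.univ.filter (· ∈ zpowers (g ^ p)) ⊆ Finset.univ.filter (· ∈ zpowers g) := by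
      intro x hx
      simp only [Finset.mem_filter, Finset.mem_univ, true_and] at hx ⊢
      exact (zpowers_le.2 (pow_mem (mem_zpowers g) p)) hx
    have hsd := Finset.sum_sdiff (f := χ) hsub
    rw [hA, hB, Finset.sum_congr rfl (g := fun _ => (c : ℂ)) ?_, Finset.sum_const,
      Finset.card_sdiff_of_subset hsub, ← Fintype.card_subtype, ← Fintype.card_subtype,
      ← Nat.card_eq_fintype_card, ← Nat.card_eq_fintype_card, Nat.card_zpowers, Nat.card_zpowers,
      ho, hj, nsmul_eq_mul, Nat.cast_sub (Nat.pow_le_pow_right hp.out.pos (Nat.le_succ j))] at hsd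
    · have h5 : (((p : ℤ) ^ (j + 1) - p ^ j) * c + p ^ j * B : ℤ) = p ^ (j + 1) * A := by
        have : ((((p : ℤ) ^ (j + 1) - p ^ j) * c + p ^ j * B : ℤ) : ℂ) =
            ((p ^ (j + 1) * A : ℤ) : ℂ) := by push_cast at hsd ⊢; exact hsd
        exact_mod_cast this
      have h6 : ((p : ℤ) - 1) * c + B = p * A :=
        mul_left_cancel₀ (pow_ne_zero j hp0.ne') (by linear_combination h5)
      have : (0 : ℤ) ≤ p * A := by positivity
      have : (B : ℤ) ≤ charDegree χ := by exact_mod_cast hBle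
      omega
    · intro x hx
      simp only [Finset.mem_sdiff, Finset.mem_filter, Finset.mem_univ, true_and] at hx
      obtain ⟨k, rfl⟩ := mem_powers_iff_mem_zpowers.2 hx.1
      rw [← hc]
      refine hrat g k ?_
      rw [hj]
      refine ((Nat.Prime.coprime_iff_not_dvd hp.out).2 ?_).symm.pow_right _
      rintro ⟨l, rfl⟩
      exact hx.2 (by change g ^ (p * l) ∈ _; rw [pow_mul]; exact pow_mem (mem_zpowers _) l)
  lift y to ℕ using hy0.le
  refine ⟨y, Finset.mem_Icc.2 ⟨by exact_mod_cast hy0, ?_⟩, ?_⟩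
  · rw [Nat.le_div_iff_mul_le (by have := hp.out.two_le; omega)]
    have h7 : (p : ℤ) * (y * (p - 1)) ≤ p * charDegree χ := by nlinarith
    have h8 := le_of_mul_le_mul_left h7 hp0
    have h9 : ((y * (p - 1) : ℕ) : ℤ) ≤ charDegree χ := by
      rw [Nat.cast_mul, Nat.cast_sub hp.out.one_le]; exact_mod_cast h8
    exact_mod_cast h9
  · rw [hc, show c = charDegree χ - p * y by omega]; push_cast; ring

theorem card_dvd {P : Type*} [Group P] [Finite P] {p : ℕ} [hp : Fact p.Prime] (hP : IsPGroup p P)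
    {χ : P → ℂ} (hχ : IsCharacter P χ) (hf : ∀ g, χ g = χ 1 → g = 1)
    (hrat : ∀ (g : P) (k : ℕ), k.Coprime (orderOf g) → χ (g ^ k) = χ g) :
    Nat.card P ∣ p ^ (charDegree χ / (p - 1)) * (charDegree χ / (p - 1)).factorial := by
  classical
  haveI := Fintype.ofFinite P
  set a := charDegree χ / (p - 1) with ha
  let θ : P → ℂ := ∏ y ∈ Finset.Icc 1 a,
    (χ - (((charDegree χ : ℤ) - (p * y : ℕ) : ℤ) : ℂ) • fun _ => (1 : ℂ))
  have hθ : IsGeneralizedCharacter P θ :=
    mem_genCharSubring.1 (prod_mem fun y _ => mem_genCharSubring.2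
      (hχ.isGeneralizedCharacter.sub (isGeneralizedCharacter_one.intCast_smul _)))
  obtain ⟨m, hm⟩ := hθ.exists_inner_eq_int isGeneralizedCharacter_one
  rw [classInner_one_right, Finset.sum_eq_single 1 (fun g _ hg => ?_) (by simp)] at hm
  · have h1 : θ 1 = ((p ^ a * a.factorial : ℕ) : ℂ) := by
      simp only [θ, Finset.prod_apply, Pi.sub_apply, Pi.smul_apply, smul_eq_mul, mul_one]
      rw [Finset.prod_congr rfl (g := fun y : ℕ => (p : ℂ) * y) (fun y _ => by
        rw [hχ.apply_one_eq]; push_cast; ring), Finset.prod_mul_distrib, Finset.prod_const,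
        Nat.card_Icc, ← Nat.cast_prod, ← Finset.prod_Ico_id_eq_factorial]
      simp [Finset.Ico_add_one_right_eq_Icc]
    rw [h1, inv_mul_eq_iff_eq_mul₀ (card_ne_zero_complex P)] at hm
    have h2 : ((p ^ a * a.factorial : ℕ) : ℤ) = Nat.card P * m := by exact_mod_cast hm
    exact Int.natCast_dvd_natCast.1 ⟨m, h2⟩
  · obtain ⟨y, hy, e⟩ := val_mem hP hχ hrat (fun h => hg (hf g h))
    simp only [θ, Finset.prod_apply]
    refine Finset.prod_eq_zero hy ?_
    simp [e]

/-- Let the finite group G have a faithful p-rational character χ of degree n (all values of χ lie in the field generated over ℚ by a root of unity of order prime to p), and let p^a be the order of a Sylow p-subgroup of G. Then a ≤ Σ_{i ≥ 0} ⌊n / ((p − 1)·p^i)⌋ (a finite sum; the terms vanish once (p − 1)p^i > n). -/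
theorem result {G : Type*} [Group G] [Finite G] (p : ℕ) (hp : p.Prime) (χ : G → ℂ) (hχ : Cfsg.IsCharacter G χ) (hfaith : ∀ g : G, χ g = χ 1 → g = 1) (hrat : (∃ r : ℕ, 0 < r ∧ ¬ p ∣ r ∧ ∀ g : G, χ g ∈ IntermediateField.adjoin ℚ ({Complex.exp (2 * Real.pi * Complex.I / r)} : Set ℂ))) (n : ℕ) (hn : Cfsg.charDegree χ = n) : (Nat.card G).factorization p ≤ ∑ i ∈ Finset.range (n + 1), n / ((p - 1) * p ^ i) := by
  haveI : Fact p.Prime := ⟨hp⟩
  obtain ⟨P⟩ : Nonempty (Sylow p G) := inferInstance
  obtain ⟨r, hr0, hpr, hr⟩ := hrat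
  have h1 := card_dvd P.isPGroup' (hχ.restrict P) (fun g hg => Subtype.ext (hfaith g hg))
    (fun g k hk => by
      obtain ⟨j, hj⟩ := IsPGroup.iff_orderOf.1 P.isPGroup' g
      obtain ⟨σ, h1, h2⟩ := exists_ringEquiv_pow_fix (a := orderOf g) (b := r) (orderOf_pos g).ne'
        hr0.ne' (hj ▸ ((Nat.Prime.coprime_iff_not_dvd hp).2 hpr).pow_left j) hk
      rw [← (hχ.restrict P).map_apply_eq_pow σ.toRingHom h1]
      have hfix : ∀ z ∈ IntermediateField.adjoin ℚ
          ({Complex.exp (2 * Real.pi * Complex.I / r)} : Set ℂ), σ z = z := by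
        intro z hz
        induction hz using IntermediateField.adjoin_induction with
        | mem x hx =>
          rw [Set.mem_singleton_iff.1 hx]
          exact h2 _ (Complex.isPrimitiveRoot_exp r hr0.ne').pow_eq_one
        | algebraMap x => simp
        | add x y _ _ hx hy => rw [map_add, hx, hy]
        | inv x _ hx => rw [map_inv₀, hx]
        | mul x y _ _ hx hy => rw [map_mul, hx, hy]
      exact hfix _ (hr g))
  have hd : charDegree (fun x : (P : Subgroup G) => χ x) = n := hn
  rw [hd, P.card_eq_multiplicity] at h1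
  set a := n / (p - 1) with ha
  have h2 := (hp.pow_dvd_iff_le_factorization
    (mul_ne_zero (pow_ne_zero a hp.ne_zero) (Nat.factorial_ne_zero a))).1 h1
  rw [Nat.factorization_mul (pow_ne_zero a hp.ne_zero) (Nat.factorial_ne_zero a),
    Finsupp.add_apply, hp.factorization_pow, Nat.factorization_def a.factorial hp,
    padicValNat_factorial (b := n + 1) (Nat.lt_succ_of_le ((Nat.log_le_self p a).trans
      (Nat.div_le_self _ _)))] at h2
  refine h2.trans (le_of_eq ?_)
  rw [Finset.range_eq_Ico, Finset.sum_eq_sum_Ico_succ_bot (Nat.succ_pos n)]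
  simp [ha, Nat.div_div_eq_div_mul]

end Cfsg.Agent.S4488
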