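import Cfsg.Statements.S0447
import Cfsg.Agent.Lib.Alt.Mult

set_option autoImplicit false
open Cfsg
open scoped commutatorElement

namespace Cfsg.Agent.S0447

open Subgroup Equiv Equiv.Perm Lib.Alt Lib.Pres in
theorem mem_center {n : ℕ} {H : Type} [Group H] [Finite H] (hn : n ≤ 7)
    (h : IsNonsplitDoubleCover H (alternatingGroup (Fin n))) {x : H} (hx : orderOf x = 2) : x ∈ center H := by
  obtain ⟨h1, ⟨e⟩, h2⟩ := h
  let σ := e.toMonoidHom.comp (QuotientGroup.mk' _)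
  have k : σ.ker = center H := by rw [MonoidHom.ker_comp_of_injective _ _ e.injective, QuotientGroup.ker_mk']
  by_contra hc
  have x2 : x ^ 2 = 1 := hx ▸ pow_orderOf_eq_one x
  have o : orderOf (tau σ x) = 2 := orderOf_eq_prime (by rw [← map_pow, x2, map_one]) fun e => hc (k ▸ Subtype.ext e)
  obtain ⟨m, hm⟩ := cycleType_prime_order (o ▸ Nat.prime_two)
  have s : sign (tau σ x) = 1 := (σ x).2
  have c := sum_cycleType (tau σ x) ▸ Finset.card_le_univ _
  rw [sign_of_cycleType, hm, o] at s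
  rw [hm, o, Multiset.sum_replicate, Fintype.card_fin, smul_eq_mul] at c
  obtain ⟨φ, hφ⟩ := exists_section (σ := σ) (e.surjective.comp (QuotientGroup.mk'_surjective _)) k.le
    (fun z hz => congrArg Subtype.val (h1 ▸ pow_card_eq_one' (x := (⟨z, k ▸ hz⟩ : center H)))) x2 (by
      rw [hm, o]
      rcases (by omega : m = 0 ∨ m = 1 ∨ m = 2) with rfl | rfl | rfl
      exacts [absurd s (by decide), rfl, absurd s (by decide)])
  refine h2 φ.range (isComplement'_of_disjoint_and_mul_eq_univ (disjoint_def.2 ?_) (Set.eq_univ_of_forall fun g => ?_))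
  · rintro _ a ⟨g, rfl⟩
    rw [← hφ g, show σ (φ g) = 1 from k.ge a, map_one]
  · exact ⟨g * (φ (σ g))⁻¹, k.le (by rw [MonoidHom.mem_ker, map_mul, map_inv, hφ, mul_inv_cancel]), _, ⟨_, rfl⟩,
      inv_mul_cancel_right _ _⟩

/-- Involutions in double covers of alternating groups: for n ≤ 7, a finite non-split double cover of the alternating group of degree n has exactly one element of order 2 (the central one); for degree 8 there is a non-split double cover with two distinct involutions. -/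
theorem result : (∀ (n : ℕ) (H : Type) (_ : Group H) (_ : Finite H), n ≤ 7 → Cfsg.IsNonsplitDoubleCover H (alternatingGroup (Fin n)) → ∀ x y : H, orderOf x = 2 → orderOf y = 2 → x = y) ∧ ∃ (H : Type) (_ : Group H) (_ : Finite H), Cfsg.IsNonsplitDoubleCover H (alternatingGroup (Fin 8)) ∧ ∃ x y : H, x ≠ y ∧ orderOf x = 2 ∧ orderOf y = 2 := by
  open Subgroup Equiv Equiv.Perm Lib.Alt Lib.Pres in
  refine ⟨fun n H _ _ hn h x y hx hy => ?_, ?_⟩
  · obtain ⟨a, -, ha⟩ := (Nat.card_eq_two_iff' 1).1 h.1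
    have k : ∀ x (hx : orderOf x = 2), ⟨x, mem_center hn h hx⟩ = a := fun x hx =>
      ha _ fun e => by rw [show x = 1 from congrArg Subtype.val e, orderOf_one] at hx; omega
    exact congrArg Subtype.val ((k x hx).trans (k y hy).symm)
  obtain ⟨Γ, _, _, σ, z, hσ, h1, h2⟩ := Lib.Alt.exists_double (n := 8) (by omega)
  have k : Subgroup.center Γ = σ.ker := le_antisymm (fun x hx => Subgroup.mem_bot.1
    (alternatingGroup.center_eq_bot (α := Fin 8) (by simp) ▸ Subgroup.mem_center_iff.2 fun g => by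
      obtain ⟨g, rfl⟩ := hσ.1 g
      rw [← map_mul, Subgroup.mem_center_iff.1 hx, map_mul])) hσ.2.1
  have z2 : ∀ x ∈ σ.ker, x ^ 2 = 1 := fun x hx => by
    obtain ⟨m, rfl⟩ := h2.le hx
    rw [← zpow_natCast, ← zpow_mul, mul_comm, zpow_mul, zpow_natCast, ← h1, pow_orderOf_eq_one, one_zpow]
  refine ⟨Γ, inferInstance, inferInstance, ⟨by rw [k, h2, Nat.card_zpowers, h1], ⟨(QuotientGroup.quotientMulEquivOfEq k).trans
    (QuotientGroup.quotientKerEquivOfSurjective σ hσ.1)⟩, fun L hL => ?_⟩, ?_⟩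
  · have : commutator Γ ≤ L := Subgroup.commutator_le.2 fun a _ b _ => by
      obtain ⟨⟨⟨u, hu⟩, a⟩, rfl⟩ := hL.2 a
      obtain ⟨⟨⟨v, hv⟩, b⟩, rfl⟩ := hL.2 b
      have e : ⁅u * a.1, v * b.1⁆ = ⁅a.1, b.1⁆ := by
        have c : ∀ {u : Γ}, u ∈ center Γ → ∀ x y : Γ, u * x * y * (u * x)⁻¹ = x * y * x⁻¹ := fun h x y => by
          rw [mul_inv_rev, mul_assoc, mul_assoc, ← mul_assoc y, ← mul_assoc x, ← mem_center_iff.1 h, mul_assoc, inv_mul_cancel,
            mul_one, mul_assoc]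
        rw [commutatorElement_def, c hu, mul_assoc, mul_assoc, ← mul_assoc (v * b.1), c hv]; group
      exact e ▸ mul_mem (mul_mem (mul_mem a.2 b.2) (inv_mem a.2)) (inv_mem b.2)
    have hz : z ∈ σ.ker := h2 ▸ Subgroup.mem_zpowers z
    rw [Subgroup.disjoint_def.1 hL.disjoint (k.ge hz) (this (hσ.2.2 hz)), orderOf_one] at h1
    omega
  obtain ⟨a, ha⟩ := Lib.Alt.lift_of_sign hσ.1 (g := Equiv.swap 0 1 * Equiv.swap 2 3) (by decide)
  obtain ⟨g, hg⟩ := Lib.Alt.lift_of_sign hσ.1 (g := Equiv.swap 0 4 * Equiv.swap 1 5 * Equiv.swap 2 6 * Equiv.swap 3 7)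
    (by decide)
  have c : Commute a (g * a * g⁻¹) := Lib.Alt.commute_lift hσ.1 hσ.2.1 (S := {x | x < 4}) (T := {x | 4 ≤ x})
    (fun x (h : x < 4) (k : 4 ≤ x) => not_le.2 h k) (by
      rw [ha, show Equiv.swap (0 : Fin 8) 1 * Equiv.swap 2 3 = ⁅Lib.Pres.c3 (0 : Fin 8) 1 2, Equiv.swap 0 2 * Equiv.swap 1 3⁆ by decide]
      exact Subgroup.commutator_mem_commutator (mem_altOn.2 ⟨by decide, by decide⟩) (mem_altOn.2 ⟨by decide, by decide⟩))
    (by rw [map_mul, map_mul, map_inv, ha, hg]; exact ⟨by decide, by decide⟩)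
  have a2 : a ^ 2 ∈ σ.ker := Subtype.ext (show Lib.Alt.tau σ _ = 1 by rw [map_pow, ha]; decide)
  have n : a * (g * a * g⁻¹) ∉ σ.ker := fun e => absurd (show Lib.Alt.tau σ _ = 1 from congrArg Subtype.val e) (by
    rw [map_mul, map_mul, map_mul, map_inv, ha, hg]; decide)
  refine ⟨z, a * (g * a * g⁻¹), fun e => n (e ▸ h2 ▸ Subgroup.mem_zpowers z), h1, orderOf_eq_prime ?_ fun e => n (e ▸ one_mem _)⟩
  rw [c.mul_pow, conj_pow, Subgroup.mem_center_iff.1 (hσ.2.1 a2), mul_inv_cancel_right, ← pow_two, z2 _ a2]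

end Cfsg.Agent.S0447
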