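import Cfsg.Statements.S2085
import Cfsg.Agent.Lib.M3.W2
import Cfsg.Agent.Lib.M3.OutM1
import Cfsg.Agent.Lib.Grp.OutNet

set_option autoImplicit false
open Cfsg

namespace Cfsg.Agent.S2085

/-- The outer automorphism group of the Monster (realised inside the presented Bimonster) is trivial: every automorphism is inner. -/
theorem result : Nat.card (Cfsg.Out Cfsg.Spor.Monster) = 1 := by
  exact (Lib.Grp.card_out_congr Lib.M3.eM).symm.trans Lib.M3.card_out_M1

end Cfsg.Agent.S2085
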