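import Cfsg.Statements.S3701
import Cfsg.Agent.Lib.OddChar.SymThree
import Cfsg.Agent.Lib.OddChar.Three
import Cfsg.Agent.Lib.Coprime.Generation

set_option autoImplicit false
open Cfsg

namespace Cfsg.Agent.S3701

open Cfsg.Lib.OddChar Equiv Subgroup

theorem d1 : ∀ σ : Perm (Fin 3), σ ^ 6 = 1 := by decide +kernel
theorem d2 : ∀ σ τ : Perm (Fin 3), σ ^ 3 = 1 → τ ^ 3 = 1 → σ * τ = τ * σ := by decide +kernel
theorem d3 : ∀ σ : Perm (Fin 3), σ ^ 3 = 1 → σ ≠ 1 → (σ ^ 2) ^ 3 = 1 ∧ σ ^ 2 ≠ 1 := by decide +kernel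
theorem d4 : ∀ σ τ : Perm (Fin 3), (σ * τ * σ⁻¹) ^ 3 = 1 ∧ σ * τ * σ⁻¹ ≠ 1 → τ ^ 3 = 1 ∧ τ ≠ 1 := by decide +kernel
theorem d5 : ∀ σ : Perm (Fin 3), ∃ (a : Fin 3) (b : Fin 2),
    σ = (swap 0 1 * swap 1 2) ^ (a : ℕ) * swap 0 1 ^ (b : ℕ) := by decide +kernel
theorem d6 : ((swap 0 1 : Perm (Fin 3)) * (swap 0 1 * swap 1 2) * (swap 0 1)⁻¹ * (swap 0 1 * swap 1 2)⁻¹) ^ 3 = 1 ∧
    (swap 0 1 : Perm (Fin 3)) * (swap 0 1 * swap 1 2) * (swap 0 1)⁻¹ * (swap 0 1 * swap 1 2)⁻¹ ≠ 1 := by decide +kernel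
theorem d7 : ∀ σ : Perm (Fin 3), ¬(σ ^ 3 = 1 ∧ σ ≠ 1) →
    ¬((σ * (swap 0 1 * swap 1 2) * σ⁻¹ * (swap 0 1 * swap 1 2)⁻¹) ^ 3 = 1 ∧
      σ * (swap 0 1 * swap 1 2) * σ⁻¹ * (swap 0 1 * swap 1 2)⁻¹ ≠ 1) → σ = 1 := by decide +kernel
theorem d8 : Fintype.card (Fin 3 → {σ : Perm (Fin 3) // σ ^ 3 = 1}) ≤ 27 := by
  rw [Fintype.card_fun]; decide +kernel
theorem d9 : ((swap 0 1 : Perm (Fin 3)) * swap 1 2) ^ 3 = 1 ∧ (swap 0 1 : Perm (Fin 3)) * swap 1 2 ≠ 1 := by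
  decide +kernel

theorem aux {G : Type*} [Group G] [Finite G] (H : Subgroup G) (ι : H →* (Fin 3 → Perm (Fin 3)))
    (hι : Function.Injective ι) (e : Fin 3 → H) (he : ∀ i, ι (e i) = Pi.mulSingle i (swap 0 1 * swap 1 2))
    (u : Fin 3 → H) (hu : ∀ i, u i * u i = 1 ∧ ι (u i) i = swap 0 1)
    (T : Subgroup G) (hTH : T ≤ H) (hT : Nat.card T = 27) (hN : normalizer (T : Set G) = H)
    (hC : ∀ t ∈ T, t ≠ 1 → centralizer ({t} : Set G) ≤ H) : H = ⊤ := by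
  classical
  have six : ∀ h : H, h ^ 6 = 1 := fun h => hι (by
    rw [map_pow, map_one]; funext i; exact d1 _)
  -- `T` is the set of elements of `H` of order dividing 3
  have memT : ∀ h : H, (h : G) ∈ T ↔ h ^ 3 = 1 := by
    have h1 : ∀ h : H, (h : G) ∈ T → h ^ 3 = 1 := fun h hh => by
      have a1 : orderOf h ∣ 27 := by rw [← orderOf_coe, ← hT]; exact T.orderOf_dvd_natCard hh
      exact orderOf_dvd_iff_pow_eq_one.1 (by simpa using Nat.dvd_gcd a1 (orderOf_dvd_of_pow_eq_one (six h)))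
    let f : T → (Fin 3 → {σ : Perm (Fin 3) // σ ^ 3 = 1}) := fun t i =>
      ⟨ι ⟨t, hTH t.2⟩ i, by rw [← Pi.pow_apply, ← map_pow, h1 _ t.2, map_one]; rfl⟩
    have hf : Function.Injective f := fun a b hab =>
      Subtype.ext (congrArg (fun h : H => (h : G)) (hι (funext fun i => congrArg Subtype.val (congrFun hab i)) :
        (⟨a, hTH a.2⟩ : H) = ⟨b, hTH b.2⟩))
    have hs := (hf.bijective_of_nat_card_le (by rw [hT, Nat.card_eq_fintype_card]; exact d8)).2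
    refine fun h => ⟨h1 h, fun hh => ?_⟩
    obtain ⟨t, ht⟩ := hs fun i => ⟨ι h i, by rw [← Pi.pow_apply, ← map_pow, hh, map_one]; rfl⟩
    have : (⟨t, hTH t.2⟩ : H) = h := hι (funext fun i => congrArg Subtype.val (congrFun ht i))
    rw [← this]; exact t.2
  have memT' : ∀ g ∈ H, g ^ 3 = 1 → g ∈ T := fun g hg h => (memT ⟨g, hg⟩).2 (Subtype.ext h)
  have cube : ∀ t ∈ T, t ^ 3 = 1 := fun t ht => congrArg Subtype.val ((memT ⟨t, hTH ht⟩).1 ht)
  have comm : ∀ a ∈ T, ∀ b ∈ T, a * b = b * a := fun a ha b hb => by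
    refine congrArg Subtype.val (hι (?_ : ι (⟨a, hTH ha⟩ * ⟨b, hTH hb⟩) = ι (⟨b, hTH hb⟩ * ⟨a, hTH ha⟩)))
    funext i
    rw [map_mul, map_mul]
    refine d2 _ _ ?_ ?_
    · rw [← Pi.pow_apply, ← map_pow, (memT _).1 ha, map_one]; rfl
    · rw [← Pi.pow_apply, ← map_pow, (memT _).1 hb, map_one]; rfl
  have TI : ∀ (g : G), ∀ t ∈ T, t ≠ 1 → g * t * g⁻¹ ∈ T → g ∈ H := by
    intro g t ht h1 h2
    rw [← hN]
    refine mem_normalizer_fintype fun s hs => memT' _ (hC _ h2 (by simpa using h1) ?_) (conj_cube (cube s hs) g)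
    rw [mem_centralizer_singleton_iff]
    calc g * s * g⁻¹ * (g * t * g⁻¹) = g * (s * t) * g⁻¹ := by group
      _ = _ := by rw [comm s hs t ht]; group
  have eT : ∀ i, (e i : G) ∈ T := fun i => (memT _).2 (hι (by
    rw [map_pow, he, map_one, ← Pi.mulSingle_pow]
    exact (Pi.mulSingle_eq_one_iff).2 d9.1))
  have e1 : ∀ i, (e i : G) ≠ 1 := fun i h => by
    have := he i
    rw [show e i = 1 from Subtype.ext h, map_one, eq_comm, Pi.mulSingle_eq_one_iff] at this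
    exact d9.2 this
  let D : Fin 3 → Set G := fun i => {g | ∃ hg : g ∈ H, ι ⟨g, hg⟩ i ^ 3 = 1 ∧ ι ⟨g, hg⟩ i ≠ 1}
  have hD : ∀ i (h : H), (h : G) ∈ D i ↔ ι h i ^ 3 = 1 ∧ ι h i ≠ 1 := fun i h => ⟨fun ⟨_, h⟩ => h, fun H => ⟨h.2, H⟩⟩
  have sq : ∀ i, ∀ d ∈ D i, d ^ 2 ∈ T ∧ d ^ 2 ≠ 1 ∧ d ^ 2 ∈ D i := by
    rintro i d ⟨hd, h1, h2⟩
    have h3 : ι (⟨d, hd⟩ ^ 2) i ^ 3 = 1 ∧ ι (⟨d, hd⟩ ^ 2) i ≠ 1 := by rw [map_pow]; exact d3 _ h1 h2
    refine ⟨(memT (⟨d, hd⟩ ^ 2)).2 (by rw [← pow_mul]; exact six _), fun h => h3.2 ?_, (hD i (⟨d, hd⟩ ^ 2)).2 h3⟩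
    rw [show (⟨d, hd⟩ : H) ^ 2 = 1 from Subtype.ext h, map_one]; rfl
  have DTI : ∀ i (g : G), ∀ d ∈ D i, g * d * g⁻¹ ∈ D i → g ∈ H := fun i g d hd h =>
    TI g _ (sq i d hd).1 (sq i d hd).2.1 (by rw [← conj_pow]; exact (sq i _ h).1)
  have Dconj : ∀ i, ∀ g ∈ H, ∀ d, g * d * g⁻¹ ∈ D i → d ∈ D i := by
    rintro i g hg d ⟨hd, h1⟩
    have hd' : d ∈ H := by simpa [mul_assoc] using mul_mem (mul_mem (inv_mem hg) hd) hg
    have : (⟨g * d * g⁻¹, hd⟩ : H) = ⟨g, hg⟩ * ⟨d, hd'⟩ * ⟨g, hg⟩⁻¹ := rfl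
    rw [this, map_mul, map_mul, map_inv] at h1
    exact ⟨hd', d4 _ _ h1⟩
  have eD : ∀ i j, j ≠ i → ∀ x : G, x * e j * x⁻¹ ∉ D i := by
    intro i j hij x hx
    have h1 := (sq i _ hx).1
    rw [conj_pow] at h1
    have h2 := TI x _ (pow_mem (eT j) 2) (by
      rw [pow_two, ← inv_eq_mul_self_of_cube (cube _ (eT j))]; simpa using e1 j) h1
    have h3 := ((hD i (e j)).1 (Dconj i x h2 _ hx)).2
    rw [he, Pi.mulSingle_eq_of_ne hij.symm] at h3
    exact h3 rfl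
  have key : ∀ i, ∃ K : Subgroup G, K.Normal ∧ (∀ k ∈ K, k ∉ D i) ∧ ∀ j, j ≠ i → (e j : G) ∈ K := by
    intro i
    obtain ⟨K, hK, h1, h2⟩ := exists_normal_of_symThree H ((Pi.evalMonoidHom _ i).comp ι) (fun σ => by
      have a1 : ι (e i) i = swap 0 1 * swap 1 2 := by rw [he, Pi.mulSingle_eq_same]
      obtain ⟨a, b, rfl⟩ := d5 σ
      exact ⟨e i ^ (a : ℕ) * u i ^ (b : ℕ), by simp [a1, (hu i).2]⟩) (D i) (hD i) (fun d hd => hd.1) (DTI i)
    have inv : ∀ w : G, w * w = 1 → w ∉ D i := fun w hw h => (sq i w h).2.1 (by rw [pow_two, hw])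
    have uu : ∀ x : G, x * u i * x⁻¹ * (x * u i * x⁻¹) = 1 := fun x => by
      have : (u i : G) * u i = 1 := congrArg Subtype.val (hu i).1
      rw [conj_mul, this]; simp
    refine ⟨K, hK, h1, fun j hj => (h2 (u i) (e j) (fun x => inv _ (uu x)) (eD i j hj) fun x y hy => ?_).resolve_left
      fun h => h1 (u i * e i * (u i : G)⁻¹ * (e i : G)⁻¹) ?_ ?_⟩
    · have hv := uu x
      generalize x * u i * x⁻¹ = v at hv hy
      obtain ⟨b1, b2, b3⟩ := sq i _ hy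
      rw [conj_pow] at b1 b2 b3
      have b4 : (v * e j) ^ 6 = 1 := by
        have := conj_cube (cube _ b1) y⁻¹
        rw [show 6 = 2 * 3 from rfl, pow_mul]
        simpa [mul_assoc] using this
      rcases triangle_236 hv (cube _ (eT j)) b4 with h | ⟨z, hz, h3, h4⟩
      · obtain ⟨c, hc⟩ := isConj_iff.1 h
        refine eD i j hj (y * c) ?_
        have b5 := (sq i _ b3).2.2
        rw [pow_two, ← inv_eq_mul_self_of_cube (cube _ b1)] at b5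
        convert b5 using 1
        rw [show y * c * e j * (y * c)⁻¹ = y * (c * e j * c⁻¹) * y⁻¹ by group, hc]; group
      · have z1 : z ∈ T := memT' z (hC _ (eT j) (e1 j) (mem_centralizer_singleton_iff.2 h3)) (cube_of_orderOf hz)
        have z2 : (v * e j) ^ 2 ∈ T := memT' _ (hC z z1 (ne_one_of_orderOf_three hz)
          (mem_centralizer_singleton_iff.2 h4.symm)) (by rw [← pow_mul]; exact b4)
        have z3 := Dconj i y (TI y _ z2 (by simpa using b2) b1) _ hy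
        have hvH : v ∈ H := by simpa using mul_mem z3.1 (inv_mem (e j).2)
        refine inv v hv ((hD i ⟨v, hvH⟩).2 ?_)
        have := (hD i (⟨v, hvH⟩ * e j)).1 z3
        rwa [map_mul, Pi.mul_apply, he, Pi.mulSingle_eq_of_ne hj.symm, mul_one] at this
    · simpa [mul_assoc] using mul_mem h (hK.conj_mem _ (inv_mem h) (e i))
    · refine (hD i (u i * e i * (u i)⁻¹ * (e i)⁻¹)).2 ?_
      simp only [map_mul, map_inv, Pi.mul_apply, Pi.inv_apply, he, Pi.mulSingle_eq_same, (hu i).2]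
      exact d6
  choose K hK hKD hKe using key
  let R := K 0 ⊓ K 1 ⊓ K 2
  have hRK : ∀ i, R ≤ K i := fun i => by
    fin_cases i
    exacts [inf_le_left.trans inf_le_left, inf_le_left.trans inf_le_right, inf_le_right]
  haveI := hK 0; haveI := hK 1; haveI := hK 2
  have hRH : ∀ r ∈ R, r ∈ H → r = 1 := by
    intro r hr hrH
    refine congrArg Subtype.val (hι (?_ : ι ⟨r, hrH⟩ = ι 1))
    funext i
    have a1 := mt (hD i ⟨r, hrH⟩).2 (hKD i r (hRK i hr))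
    have a2 := mt (hD i (⟨r, hrH⟩ * e i * ⟨r, hrH⟩⁻¹ * (e i)⁻¹)).2 (hKD i _ (by
      simpa [mul_assoc] using mul_mem (hRK i hr) ((hK i).conj_mem _ (inv_mem (hRK i hr)) (e i))))
    simp only [map_mul, map_inv, Pi.mul_apply, Pi.inv_apply, he, Pi.mulSingle_eq_same] at a2
    rw [map_one]
    exact d7 _ a1 a2
  have hR : R = ⊥ := by
    by_contra hR
    have hf : ∀ t ∈ T, t ≠ 1 → R ⊓ centralizer {t} = ⊥ := fun t ht h1 =>
      eq_bot_iff.2 fun r hr => hRH r hr.1 (hC t ht h1 hr.2)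
    have hn : T ≤ normalizer (R : Set G) := by rw [normalizer_eq_top]; exact le_top
    obtain ⟨t, ht, h1, h2⟩ := Cfsg.Lib.Coprime.exists_inf_centralizer_ne_bot
      ⟨⟨fun a b => Subtype.ext (comm a a.2 b b.2)⟩⟩ (fun hc => by
        obtain ⟨g, hg⟩ := hc.exists_ofOrder_eq_natCard
        have := orderOf_dvd_of_pow_eq_one (show g ^ 3 = 1 from Subtype.ext (cube g g.2))
        rw [hg, hT] at this
        norm_num at this) hn (Cfsg.Lib.Frobenius.coprime_card_of_fpf hn hf) hR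
    exact h2 (hf t ht h1)
  refine top_le_iff.1 fun g _ => TI g _ (eT 0) (e1 0) (memT' _ (hC _ (eT 1) (e1 1) ?_) (conj_cube (cube _ (eT 0)) g))
  have a1 : g * e 0 * g⁻¹ ∈ K 1 := (hK 1).conj_mem _ (hKe 1 0 (by decide)) g
  have a2 : g * e 0 * g⁻¹ ∈ K 2 := (hK 2).conj_mem _ (hKe 2 0 (by decide)) g
  generalize g * e 0 * g⁻¹ = w at a1 a2
  have : w * e 1 * w⁻¹ * (e 1 : G)⁻¹ ∈ R :=
    mem_inf.2 ⟨mem_inf.2 ⟨mul_mem ((hK 0).conj_mem _ (hKe 0 1 (by decide)) w) (inv_mem (hKe 0 1 (by decide))), by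
      simpa [mul_assoc] using mul_mem a1 ((hK 1).conj_mem _ (inv_mem a1) (e 1))⟩, by
      simpa [mul_assoc] using mul_mem a2 ((hK 2).conj_mem _ (inv_mem a2) (e 1))⟩
  rw [hR, mem_bot, mul_inv_eq_one, mul_inv_eq_iff_eq_mul] at this
  exact mem_centralizer_singleton_iff.2 this

/-- Block-diagonal embedding. -/
def emb : (Fin 3 → Perm (Fin 3)) →* Perm (Fin 9) :=
  (((Equiv.sigmaEquivProd (Fin 3) (Fin 3)).trans finProdFinEquiv).permCongrHom.toMonoidHom).comp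
    (Perm.sigmaCongrRightHom fun _ : Fin 3 => Fin 3)

theorem emb_injective : Function.Injective emb := fun _ _ h =>
  Perm.sigmaCongrRightHom_injective (β := fun _ : Fin 3 => Fin 3)
    (((Equiv.sigmaEquivProd (Fin 3) (Fin 3)).trans finProdFinEquiv).permCongrHom.injective h)

theorem g1 : emb (Pi.mulSingle 0 (swap 0 1 * swap 1 2)) = swap 0 1 * swap 1 2 := by decide +kernel
theorem g2 : emb (Pi.mulSingle 1 (swap 0 1 * swap 1 2)) = swap 3 4 * swap 4 5 := by decide +kernel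
theorem g3 : emb (Pi.mulSingle 2 (swap 0 1 * swap 1 2)) = swap 6 7 * swap 7 8 := by decide +kernel
theorem g4 : emb ![swap 0 1, swap 0 1, 1] = swap 0 1 * swap 3 4 := by decide +kernel
theorem g5 : emb ![swap 0 1, 1, swap 0 1] = swap 0 1 * swap 6 7 := by decide +kernel
theorem g6 : (![swap 0 1, swap 0 1, 1] : Fin 3 → Perm (Fin 3)) * ![swap 0 1, swap 0 1, 1] = 1 := by decide +kernel
theorem g7 : (![swap 0 1, 1, swap 0 1] : Fin 3 → Perm (Fin 3)) * ![swap 0 1, 1, swap 0 1] = 1 := by decide +kernel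

/-- Let H₀ ≤ Sym(9) be generated by the 3-cycles (1 2 3), (4 5 6), (7 8 9) and the involutions (1 2)(4 5), (1 2)(7 8) (a group of order 108, elementary abelian of order 27 extended by a four-group). Let G be a finite group with a subgroup H ≅ H₀, and T ≤ H of order 27 (a Sylow 3-subgroup of H) with N_G(T) = H and C_G(t) ≤ H for every t ≠ 1 in T. Then G = H. -/
theorem result {G : Type*} [Group G] [Finite G] (H : Subgroup G)
    (hH : Nonempty (↥H ≃* ↥(Subgroup.closure ({Equiv.swap (0 : Fin 9) 1 * Equiv.swap 1 2, Equiv.swap (3 : Fin 9) 4 * Equiv.swap 4 5, Equiv.swap (6 : Fin 9) 7 * Equiv.swap 7 8,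
        Equiv.swap (0 : Fin 9) 1 * Equiv.swap 3 4, Equiv.swap (0 : Fin 9) 1 * Equiv.swap 6 7} : Set (Equiv.Perm (Fin 9))))))
    (T : Subgroup G) (hTH : T ≤ H) (hT : Nat.card T = 27) (hN : Subgroup.normalizer (T : Set G) = H)
    (hC : ∀ t ∈ T, t ≠ 1 → Subgroup.centralizer ({t} : Set G) ≤ H) : H = ⊤ := by
  obtain ⟨φ⟩ := hH
  obtain ⟨S, φ, hle, m1, m2, m3, m4, m5⟩ : ∃ (S : Subgroup (Perm (Fin 9))) (_ : H ≃* S), S ≤ emb.range ∧
      emb (Pi.mulSingle 0 (swap 0 1 * swap 1 2)) ∈ S ∧ emb (Pi.mulSingle 1 (swap 0 1 * swap 1 2)) ∈ S ∧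
      emb (Pi.mulSingle 2 (swap 0 1 * swap 1 2)) ∈ S ∧ emb ![swap 0 1, swap 0 1, 1] ∈ S ∧
      emb ![swap 0 1, 1, swap 0 1] ∈ S := by
    refine ⟨_, φ, (closure_le _).2 ?_, ?_⟩
    · rintro _ (rfl | rfl | rfl | rfl | rfl)
      exacts [⟨_, g1⟩, ⟨_, g2⟩, ⟨_, g3⟩, ⟨_, g4⟩, ⟨_, g5⟩]
    · rw [g1, g2, g3, g4, g5]
      refine ⟨?_, ?_, ?_, ?_, ?_⟩ <;> apply Subgroup.subset_closure <;>
        simp only [Set.mem_insert_iff, Set.mem_singleton_iff, true_or, or_true]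
  let ι : H →* (Fin 3 → Perm (Fin 3)) :=
    (MonoidHom.ofInjective emb_injective).symm.toMonoidHom.comp ((inclusion hle).comp φ.toMonoidHom)
  have hι : Function.Injective ι := fun _ _ h => φ.injective (inclusion_injective hle
    ((MonoidHom.ofInjective emb_injective).symm.injective h))
  have ex : ∀ x, emb x ∈ S → ∃ h, ι h = x := fun x hx =>
    ⟨φ.symm ⟨_, hx⟩, by
      simp only [ι, MulEquiv.toMonoidHom_eq_coe, MonoidHom.comp_apply, MonoidHom.coe_coe, MulEquiv.apply_symm_apply]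
      exact (MulEquiv.symm_apply_eq _).2 rfl⟩
  have e : ∀ i : Fin 3, ∃ h, ι h = Pi.mulSingle i (swap 0 1 * swap 1 2) := fun i => ex _ (by
    fin_cases i
    exacts [m1, m2, m3])
  have u : ∀ i : Fin 3, ∃ h, h * h = 1 ∧ ι h i = swap 0 1 := fun i => by
    obtain ⟨a, ha⟩ := ex _ m4
    obtain ⟨b, hb⟩ := ex _ m5
    have a1 : a * a = 1 := hι (by rw [map_mul, ha, map_one, g6])
    have b1 : b * b = 1 := hι (by rw [map_mul, hb, map_one, g7])
    fin_cases i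
    exacts [⟨a, a1, by rw [ha]; rfl⟩, ⟨a, a1, by rw [ha]; rfl⟩, ⟨b, b1, by rw [hb]; rfl⟩]
  choose e he using e
  choose u hu using u
  exact aux H ι hι e he u hu T hTH hT hN hC

end Cfsg.Agent.S3701
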