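import Cfsg.Statements.S4735
import Cfsg.Agent.Lib.Modular.Vanish
import Cfsg.Agent.Lib.Block.Transport

set_option autoImplicit false
open Cfsg

namespace Cfsg.Agent.S4735

open Cfsg.Lib.Block Cfsg.Lib.Char Cfsg.Lib.Modular
open scoped ComplexConjugate

/-- Let p be a prime, M a maximal ideal of the algebraic integers containing p, G a finite group, H = O_p'(G) and Ḡ = G/H. For x ∈ G write λ(G, x) for the sum of |χ(x)|^2 over the irreducible characters χ in the principal p-block of G. Then λ(G, x) is a positive integer, λ(G, x) = λ(Ḡ, x̄) where x̄ is the image of x, and λ(G, x) ≤ #C_Ḡ(x̄). Moreover λ(G, 1) = [G : H] if and only if the principal block is the only p-block of Ḡ. -/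
theorem result {G : Type*} [Group G] [Finite G] (p : ℕ) [Fact p.Prime] (M : Ideal Cfsg.AlgInt) (hM : Cfsg.IsPModular p M) (x : G) : (∃ n : ℕ, 0 < n ∧ ∑ᶠ χ ∈ Cfsg.principalBlock M G, Complex.normSq ((χ : G → ℂ) x) = n) ∧ ∑ᶠ χ ∈ Cfsg.principalBlock M G, Complex.normSq ((χ : G → ℂ) x) = ∑ᶠ ψ ∈ Cfsg.principalBlock M (G ⧸ Cfsg.pPrimeCore p G), Complex.normSq ((ψ : G ⧸ Cfsg.pPrimeCore p G → ℂ) (QuotientGroup.mk x)) ∧ ∑ᶠ χ ∈ Cfsg.principalBlock M G, Complex.normSq ((χ : G → ℂ) x) ≤ (Nat.card ↥(Subgroup.centralizer ({(QuotientGroup.mk x : G ⧸ Cfsg.pPrimeCore p G)} : Set (G ⧸ Cfsg.pPrimeCore p G))) : ℝ) ∧ ((∑ᶠ χ ∈ Cfsg.principalBlock M G, Cfsg.charDegree (χ : G → ℂ) ^ 2) = (Cfsg.pPrimeCore p G).index ↔ ∀ B : Set (Cfsg.IrrCharacter (G ⧸ Cfsg.pPrimeCore p G)), Cfsg.IsPBlock M B → B = Cfsg.principalBlock M (G ⧸ Cfsg.pPrimeCore p G)) := by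
  classical
  have : Modular p M := ⟨hM⟩
  have := Fintype.ofFinite G
  have hφ := QuotientGroup.mk'_surjective (pPrimeCore p G)
  have himg : infl _ hφ '' principalBlock M (G ⧸ pPrimeCore p G) = principalBlock M G :=
    image_infl_blockOf_of_not_dvd hφ (p := p) (by
      rw [QuotientGroup.ker_mk']; exact Lib.Core.not_dvd_card_pPrimeCore p G) (irrOne _)
  have hsum : ∀ {R : Type} [AddCommMonoid R] (f : IrrCharacter G → R),
      ∑ᶠ χ ∈ principalBlock M G, f χ =
        ∑ᶠ ψ ∈ principalBlock M (G ⧸ pPrimeCore p G), f (infl _ hφ ψ) := fun f => by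
    rw [← himg, finsum_mem_image (infl_injective hφ).injOn]
  have hmem : ∀ χ : IrrCharacter G, χ ∈ principalBlock M G ↔
      ∑ g with g ∈ regSet p G, (χ : G → ℂ) g ≠ 0 := fun χ => by
    rw [← ev_ssum]
    constructor
    · intro h e
      have h1 := red_omega_ssum_of_mem h (ssum_regSet_mem_fix p)
      rw [omega_apply, e, zero_div, red_zero, eq_comm, CharP.cast_eq_zero_iff (Res M) p] at h1
      exact not_dvd_card_regSet M h1
    · intro h
      by_contra h1
      have h2 := omega_ssum_regSet_of_notMem h1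
      rw [omega_apply, div_eq_zero_iff] at h2
      exact h2.elim h χ.2.apply_one_ne_zero
  have e2 : ∑ᶠ χ ∈ principalBlock M G, Complex.normSq ((χ : G → ℂ) x) =
      ∑ᶠ ψ ∈ principalBlock M (G ⧸ pPrimeCore p G),
        Complex.normSq ((ψ : G ⧸ pPrimeCore p G → ℂ) (QuotientGroup.mk x)) := hsum _
  refine ⟨?_, e2, ?_, ?_⟩
  · rw [finsum_mem_irr_eq_sum_filter]
    have e : ((∑ χ with χ ∈ principalBlock M G, Complex.normSq ((χ : G → ℂ) x) : ℝ) : ℂ) =
        ∑ χ with χ ∈ principalBlock M G, (χ : G → ℂ) x * (χ : G → ℂ) x⁻¹ := by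
      push_cast
      exact Finset.sum_congr rfl fun χ _ => by rw [χ.2.apply_inv, Complex.mul_conj]
    obtain ⟨n, hn⟩ : ∃ n : ℤ,
        ∑ χ with χ ∈ principalBlock M G, (χ : G → ℂ) x * (χ : G → ℂ) x⁻¹ = n := by
      refine exists_int_of_forall_ringEquiv (IsIntegral.sum _ fun χ _ =>
        (χ.2.isIntegral _).mul (χ.2.isIntegral _)) fun σ => ?_
      rw [map_sum]
      refine Finset.sum_nbij' (fun χ => ⟨_, χ.2.map_ringEquiv σ⟩)
        (fun χ => ⟨_, χ.2.map_ringEquiv σ.symm⟩) ?_ ?_ ?_ ?_ ?_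
      · intro χ hχ
        simp only [Finset.mem_filter, Finset.mem_univ, true_and, hmem] at hχ ⊢
        rwa [← map_sum, map_ne_zero_iff _ σ.injective]
      · intro χ hχ
        simp only [Finset.mem_filter, Finset.mem_univ, true_and, hmem] at hχ ⊢
        rwa [← map_sum, map_ne_zero_iff _ σ.symm.injective]
      · intro χ _; ext g; simp
      · intro χ _; ext g; simp
      · intro χ _; simp
    rw [hn] at e
    have e' : ∑ χ with χ ∈ principalBlock M G, Complex.normSq ((χ : G → ℂ) x) = n := by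
      exact_mod_cast e
    have h1 : (1 : ℝ) ≤ n := by
      rw [← e']
      have := Finset.single_le_sum (f := fun χ : IrrCharacter G => Complex.normSq ((χ : G → ℂ) x))
        (s := Finset.univ.filter (· ∈ principalBlock M G)) (fun _ _ => Complex.normSq_nonneg _)
        (a := irrOne G) (by simp [Lib.Block.irrOne_mem_principalBlock])
      simpa using this
    have h2 : (1 : ℤ) ≤ n := by exact_mod_cast h1
    refine ⟨n.toNat, by omega, ?_⟩
    rw [e', ← Int.cast_natCast, Int.toNat_of_nonneg (by omega)]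
  · rw [e2, finsum_mem_irr_eq_sum_filter, ← sum_irr_norm_sq]
    simp_rw [Complex.normSq_eq_norm_sq]
    exact Finset.sum_le_sum_of_subset_of_nonneg (Finset.subset_univ _) fun _ _ _ => by positivity
  · rw [hsum, finsum_mem_irr_eq_sum_filter, Subgroup.index_eq_card, ← sum_charDegree_sq]
    simp_rw [charDegree_infl]
    constructor
    · intro h B hB
      obtain ⟨ψ, hψ⟩ := hB.nonempty
      refine hB.eq_of_mem Lib.Block.isPBlock_principalBlock hψ (by_contra fun h1 => ?_)
      refine (Finset.sum_lt_sum_of_subset (Finset.subset_univ _) (Finset.mem_univ ψ)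
        (by simpa using h1) (pow_pos ψ.2.charDegree_pos 2) fun _ _ _ => Nat.zero_le _).ne h
    · intro h
      rw [Finset.filter_true_of_mem]
      intro ψ _
      rw [← h _ (isPBlock_blockOf ψ)]
      exact mem_blockOf_self ψ

end Cfsg.Agent.S4735
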