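import Cfsg.Statements.S5198
import Cfsg.Agent.Lib.Fusion.Solv
-- import your own Cfsg.Agent.* helpers here

set_option autoImplicit false
open Cfsg

namespace Cfsg.Agent.S5198

/-- Let F be a saturated fusion system over a finite p-group S and T a subgroup of S strongly closed in F (so T is normal in S). Then every element x of the hyperfocal subgroup of F acts on T by conjugation as an element of O^p(Aut_F(T))·Inn(T): there is an automorphism of T in the subgroup generated by the elements of Aut_F(T) of order prime to p together with the inner automorphisms of T that agrees with conjugation by x. -/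
theorem result {Ω : Type*} [Group Ω] {S : Subgroup Ω} [Finite S] (p : ℕ) [Fact p.Prime] (hS : IsPGroup p S) (F : Cfsg.FusionSystem S) (hF : F.IsSaturated p) (T : Subgroup Ω) (hT : F.StronglyClosed T) : ∀ x ∈ F.hyperfocalSubgroup p, ∃ α ∈ ((Cfsg.pResidual p ↥(F.autGroup T)).map (F.autGroup T).subtype ⊔ Cfsg.Inn ↥T : Subgroup (MulAut ↥T)), ∀ t : ↥T, ((α t : ↥T) : Ω) = x * (t : Ω) * x⁻¹ := by
  open Subgroup Cfsg.Lib.Transfer Cfsg.Lib.Fusion in
  open Cfsg.FusionSystem hiding inv_mem in
  obtain ⟨N, hN⟩ := exists_nz_of_stronglyClosed hT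
  have hn := le_normalizer_of_stronglyClosed hT
  have := finite_of_le hT.1
  have h1 : F.hyperfocalSubgroup p ≤ normK S T (opR p (F.autGroup T) ⊔ Inn T) := by
    refine (hN.hyp_le ⟨hS, hF⟩ hT).trans (sup_le (hyp_le_iff.2 fun P hP α hα hc x hx => ?_)
      fun x hx => ⟨le_normalizerIn hT.1 hx, mem_sup_right (by
        rw [inn_eq]; exact cjA_mem_autInducedBy hx)⟩)
    obtain ⟨g, h1, h2, h3⟩ := (mor_ext hP hα).ext_normal hN.normal
    have := finite_of_le h1.le
    obtain ⟨γ, hγ, e, β, hβ, h4, h5⟩ := h1.exists_coprime_aut (by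
      rw [h1.homOn.im_sup, h3, im_congr h2, im_ext]) le_sup_left hc h2
    have h6 := (mor_ext h1.le (zpowers_le.2 hγ hβ)).of_sub hN.sub
    have h7 : β ∈ stab _ T := autGroup_le_stab h1.le hT h6.mem_autGroup
    have h8 := mem_opR (res_mem_autGroup h1.le le_sup_right ⟨β, h7⟩ h6.mem_autGroup)
      ((homOn_hom ⊤ (res le_sup_right)).coprime (mem_top (⟨β, h7⟩ : stab _ T)) (by rwa [← orderOf_coe]))
    have hx' := hn (hP hx)
    refine ⟨mkN (mul_mem (inv_mem (hP hx)) (hP (ext_mem α hx)))
      (mul_mem (inv_mem hx') (hn (hP (ext_mem α hx)))), mem_sup_left ?_⟩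
    rw [cjA_mul (inv_mem hx') (hn (hP (ext_mem α hx))), ← h5 x hx, ← conj_cjA h6.homOn le_sup_right
      (fun y hy => ext_res le_sup_right ⟨β, h7⟩ hy) (mem_sup_left hx) hx', cjA_inv hx', ← mul_assoc,
      ← mul_assoc]
    exact mul_mem (conj_mem_of_mem_normalizer' (le_normalizer_opR p _
      (cjA_mem_autGroup F hT.1 (hP hx))) h8) (inv_mem h8)
  exact fun x hx => ⟨_, (h1 hx).2, fun t => by rw [← ext_coe, ext_cjA (h1 hx).1.2 t.2]⟩

end Cfsg.Agent.S5198
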