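import Cfsg.Statements.S3559
import Cfsg.Agent.Lib.Perm.SRing2

set_option autoImplicit false
open Cfsg

namespace Cfsg.Agent.S3559

/-- Let G act faithfully and transitively on a finite set whose number of points n ≥ 2 is not a prime power, and suppose G has a cyclic subgroup acting regularly (transitively with trivial point stabilizers). Then G is imprimitive or doubly transitive. -/
theorem result {G Ω : Type*} [Group G] [Finite G] [MulAction G Ω] [FaithfulSMul G Ω] [Finite Ω]
    (htrans : MulAction.IsPretransitive G Ω) (hn : 2 ≤ Nat.card Ω) (hnp : ¬ IsPrimePow (Nat.card Ω))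
    (C : Subgroup G) (hcyc : IsCyclic ↥C) (hC : MulAction.IsPretransitive ↥C Ω ∧ ∀ a : Ω, MulAction.stabilizer ↥C a = ⊥) :
    ¬ MulAction.IsPreprimitive G Ω ∨ MulAction.IsMultiplyPretransitive G Ω 2 := by
  classical
  by_cases hprim : MulAction.IsPreprimitive G Ω
  swap
  · exact .inl hprim
  right
  letI : CommGroup C := IsCyclic.commGroup
  letI := Fintype.ofFinite C
  have htr : ∀ a b : Ω, ∃ d : C, C.subtype d • a = b := fun a b => hC.1.exists_smul_eq a b
  have hfree : ∀ (a : Ω) (d : C), C.subtype d • a = a → d = 1 := fun a d h =>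
    Subgroup.mem_bot.1 (hC.2 a ▸ (show d ∈ MulAction.stabilizer C a from h))
  obtain ⟨ω⟩ : Nonempty Ω := (Nat.card_pos_iff.1 (by omega)).1
  have hcard : Fintype.card C = Nat.card Ω := by
    rw [← Nat.card_eq_fintype_card]
    refine Nat.card_eq_of_bijective (fun d : C => C.subtype d • ω) ⟨fun a b h => ?_, htr ω⟩
    have := hfree ω (b⁻¹ * a) (by
      simp only at h
      rw [map_mul, mul_smul, h, map_inv, inv_smul_smul])
    exact (inv_mul_eq_one.1 this).symm
  have hp : (Nat.card Ω).minFac.Prime := Nat.minFac_prime (by omega)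
  refine Cfsg.Lib.Perm.SR.two_trans_of_sring hprim C.subtype htr hfree fun S =>
    S.cyclic hp (hcard ▸ Nat.minFac_dvd _) fun h => hnp ?_
  rw [← hcard, h]
  exact hp.isPrimePow

end Cfsg.Agent.S3559
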