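import Cfsg.Statements.S0743
import Cfsg.Agent.Lib.Perm.Multi

set_option autoImplicit false
open Cfsg

namespace Cfsg.Agent.S0743

open MulAction

/-- If every point outside `s` of a `G`-invariant situation is the only fixed point outside `s` of
a `p`-subgroup fixing `s`, the group is transitive outside `s`. -/
theorem gleason_one {K α : Type*} [Group K] [Finite K] [MulAction K α] [Finite α] {p : ℕ}
    (hp : p.Prime)
    (h : ∀ a : α, ∃ P : Subgroup K, IsPGroup p P ∧ fixedPoints P α = {a}) :
    IsPretransitive K α := by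
  classical
  have := Fact.mk hp
  refine ⟨fun a b => ?_⟩
  by_contra hab
  have hmod : ∀ c : α, Nat.card (orbit K a) ≡ (if c ∈ orbit K a then 1 else 0) [MOD p] := by
    intro c
    obtain ⟨P, hP, hPc⟩ := h c
    have h1 := hP.card_modEq_card_fixedPoints (orbit K a)
    refine h1.trans ?_
    have hmem : ∀ x : orbit K a, x ∈ fixedPoints P (orbit K a) ↔ (x : α) = c := by
      intro x
      rw [← Set.mem_singleton_iff, ← hPc]
      exact ⟨fun hx g => congrArg Subtype.val (hx g), fun hx g => Subtype.ext (hx g)⟩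
    split_ifs with hc
    · have : fixedPoints P (orbit K a) = {⟨c, hc⟩} := by
        ext x; rw [hmem, Set.mem_singleton_iff, Subtype.ext_iff]
      rw [this]; simp [Nat.ModEq]
    · have : fixedPoints P (orbit K a) = ∅ := by
        ext x; rw [hmem]; exact ⟨fun e => hc (e ▸ x.2), fun e => e.elim⟩
      rw [this]; simp [Nat.ModEq]
  have h1 := hmod a
  have h2 := hmod b
  rw [if_pos (mem_orbit_self a)] at h1
  rw [if_neg (show b ∉ orbit K a from hab)] at h2
  have := (h1.symm.trans h2)
  rw [Nat.modEq_zero_iff_dvd] at this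
  exact hp.one_lt.ne' (Nat.dvd_one.1 this)

/-- Gleason's Lemma: let `p` be a prime and `1 ≤ k < n`; if every `k`-subset of the `n` points is exactly the fixed-point set of some `p`-subgroup of `G`, then `G` is `k`-transitive. -/
theorem result {α : Type*} [Fintype α] [DecidableEq α] (G : Subgroup (Equiv.Perm α)) {p k : ℕ} (hp : p.Prime) (hk : 1 ≤ k) (hkn : k < Fintype.card α) (h : ∀ s : Finset α, s.card = k → ∃ P : Subgroup G, IsPGroup p P ∧ MulAction.fixedPoints P α = (s : Set α)) : MulAction.IsMultiplyPretransitive G α k := by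
  obtain ⟨j, rfl⟩ := Nat.exists_eq_add_of_le' hk
  refine Lib.Perm.mt_succ_of_fix_transitive (by rw [Nat.card_eq_fintype_card]; omega) ?_
  intro s hs a b ha hb
  have := gleason_one (K := fixingSubgroup G (s : Set α))
    (α := SubMulAction.ofFixingSubgroup G (s : Set α)) hp (by
      intro c
      have hc : (c : α) ∉ s := c.2
      obtain ⟨P, hP, hPc⟩ := h (insert (c : α) s) (by rw [Finset.card_insert_of_notMem hc, hs])
      have hle : P ≤ fixingSubgroup G (s : Set α) := by
        intro g hg
        rw [mem_fixingSubgroup_iff]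
        intro x hx
        have : x ∈ fixedPoints P α := by rw [hPc]; simp [Finset.mem_coe.1 hx]
        exact this ⟨g, hg⟩
      refine ⟨P.subgroupOf _, hP.comap_subtype, ?_⟩
      ext x
      have hx : (x : α) ∉ s := x.2
      have : (x : α) ∈ fixedPoints P α ↔ x = c := by
        rw [hPc, Subtype.ext_iff]; simp [hx]
      rw [Set.mem_singleton_iff, ← this]
      exact ⟨fun h1 g => congrArg Subtype.val (h1 ⟨⟨g, hle g.2⟩, g.2⟩),
        fun h1 g => Subtype.ext (h1 ⟨g.1.1, g.2⟩)⟩)
  obtain ⟨g, hg⟩ := this.exists_smul_eq ⟨a, ha⟩ ⟨b, hb⟩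
  exact ⟨g, fun x hx => (mem_fixingSubgroup_iff G).1 g.2 x hx, congrArg Subtype.val hg⟩

end Cfsg.Agent.S0743
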