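import Cfsg.Statements.S3360
import Cfsg.Agent.Lib.Perm.Huppert3
import Cfsg.Agent.Lib.PGroup.Holomorph

set_option autoImplicit false
open Cfsg

namespace Cfsg.Agent.S3360

open Subgroup Lib.Perm Lib.PGroup

/-- Let q be a prime and V a non-trivial finite vector space over the field with q elements, and let G be a finite solvable group acting faithfully and linearly on V and transitively on the non-zero vectors. Then either V can be identified with the additive group of a finite field F in such a way that every element of G acts as x ↦ a·σ(x) for some a ∈ F and some field automorphism σ, or the number of elements of V is one of 3^2, 5^2, 7^2, 11^2, 23^2, 3^4. -/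
theorem result
    (q : ℕ) [Fact q.Prime] {V : Type*} [AddCommGroup V] [Module (ZMod q) V] [Finite V] [Nontrivial V]
    {G : Type*} [Group G] [Finite G] (hsol : Group.IsSolvable G)
    (ρ : G →* (V ≃ₗ[ZMod q] V)) (hρ : Function.Injective ρ)
    (htrans : ∀ v w : V, v ≠ 0 → w ≠ 0 → ∃ g : G, ρ g v = w) :
    (∃ (F : Type) (_ : Field F) (_ : Fintype F) (e : V ≃+ F),
        ∀ g : G, ∃ (a : F) (σ : F ≃+* F), ∀ v : V, e (ρ g v) = a * σ (e v)) ∨
    Nat.card V ∈ ({9, 25, 49, 121, 529, 81} : Set ℕ) := by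
  let τ : G →* MulAut (Multiplicative V) :=
    { toFun := fun g => AddEquiv.toMultiplicative (ρ g).toAddEquiv
      map_one' := by ext v; simp
      map_mul' := fun g h => by ext v; simp }
  have hτ : ∀ g v, τ g (Multiplicative.ofAdd v) = Multiplicative.ofAdd (ρ g v) := fun _ _ => rfl
  let ι : V → Hol (Multiplicative V) := fun v => holL _ (Multiplicative.ofAdd v)
  let κ := (holR (Multiplicative V)).comp τ
  have hι : Function.Injective ι := holL_injective.comp Multiplicative.ofAdd.injective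
  have ι0 : ι 0 = 1 := map_one (holL _)
  have ιa : ∀ v w, ι (v + w) = ι v * ι w := fun v w => map_mul (holL _) _ _
  have hc : ∀ g v, κ g * ι v * (κ g)⁻¹ = ι (ρ g v) := fun g v => hol_conj _ _
  let N := (holL (Multiplicative V)).range
  have hN : ∀ x, x ∈ N ↔ ∃ v, ι v = x := fun x => Iff.rfl
  have hp : q.Prime := Fact.out
  have hNc : IsMulCommutative N := inferInstance
  have hNe : IsElementaryAbelian q N := ⟨hNc, by
    rintro _ ⟨v, rfl⟩
    rw [← map_pow, ← ofAdd_toAdd v, ← ofAdd_nsmul, ← Nat.cast_smul_eq_nsmul (ZMod q),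
      ZMod.natCast_self, zero_smul, ofAdd_zero, map_one]⟩
  have hcard : Nat.card N = Nat.card V := (Nat.card_congr (MonoidHom.ofInjective
    holL_injective).toEquiv).symm
  obtain ⟨f, hf⟩ := elemAb_card hNe
  obtain ⟨v₀, hv₀⟩ := exists_ne (0 : V)
  have hne : ∀ {v}, ι v ≠ 1 ↔ v ≠ 0 := by
    intro v; rw [← ι0, hι.ne_iff]
  have htr : ∀ v ∈ N, ∀ w ∈ N, v ≠ 1 → w ≠ 1 → ∃ h ∈ κ.range, h * v * h⁻¹ = w := by
    intro v hv w hw h1 h2
    obtain ⟨v, rfl⟩ := (hN v).1 hv
    obtain ⟨w, rfl⟩ := (hN w).1 hw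
    obtain ⟨g, rfl⟩ := htrans v w (hne.1 h1) (hne.1 h2)
    exact ⟨_, ⟨g, rfl⟩, hc g v⟩
  have hnorm : κ.range ≤ normalizer (N : Set (Hol (Multiplicative V))) := by
    rintro _ ⟨g, rfl⟩
    refine mem_normalizer_fintype fun x hx => ?_
    obtain ⟨v, rfl⟩ := (hN x).1 hx
    exact (hN _).2 ⟨_, (hc g v).symm⟩
  have L : LinSet q f N κ.range := by
    refine ⟨hNe, hf, Nat.pos_of_ne_zero ?_, hnorm, eq_bot_iff.2 ?_,
      solvable_of_surjective κ.rangeRestrict_surjective, fun W hW hn => ?_⟩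
    · rintro rfl
      rw [hcard] at hf
      exact Finite.one_lt_card.ne' hf
    · rintro _ ⟨⟨g, rfl⟩, hg⟩
      have : ρ g = ρ 1 := LinearEquiv.ext fun v => hι (by
        rw [← hc, ← hg _ ((hN _).2 ⟨v, rfl⟩), mul_inv_cancel_right, map_one]; rfl)
      rw [hρ this, map_one]; exact one_mem _
    · refine or_iff_not_imp_left.2 fun h0 => hW.antisymm fun x hx => ?_
      obtain ⟨⟨w, hw⟩, hw1⟩ := ne_bot_iff_exists_ne_one.1 h0
      by_cases hx1 : x = 1
      · exact hx1 ▸ one_mem _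
      obtain ⟨h, hh, rfl⟩ := htr w (hW hw) x hx (fun e => hw1 (Subtype.ext e)) hx1
      exact (mem_normalizer_iff.1 (hn hh) w).1 hw
  refine (L.huppert htr).imp (fun ⟨A, hAH, hHA, hAc, hirr⟩ => ?_) fun h => by rwa [← hcard, hf]
  obtain ⟨F, _, _, φ, ψ, hφ, -⟩ := exists_fieldCoord (V := N) (A := A) hNc (hAH.trans hnorm)
    (by rw [commutator_eq_bot_iff_le_centralizer.2 (le_centralizer_iff_isMulCommutative.2 hAc)]
        exact bot_le) hirr ((hN _).2 ⟨v₀, rfl⟩) (hne.2 hv₀)
  have hm : ∀ v, ι v ∈ N := fun v => (hN _).2 ⟨v, rfl⟩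
  let e : V →+ F := AddMonoidHom.mk' (fun v => φ (ι v)) fun v w => by
    rw [ιa, hφ.add _ (hm v) _ (hm w)]
  have he : Function.Bijective e := ⟨fun v w h => hι (hφ.inj (hm v) (hm w) h), fun r => by
    obtain ⟨x, hx, rfl⟩ := hφ.surj r
    obtain ⟨v, rfl⟩ := (hN x).1 hx
    exact ⟨v, rfl⟩⟩
  refine ⟨F, inferInstance, inferInstance, AddEquiv.ofBijective e he, fun g => ?_⟩
  obtain ⟨a, σ, -, h, -⟩ := hφ.exists_semilinear (hnorm ⟨g, rfl⟩) (hHA ⟨g, rfl⟩)
  refine ⟨a, RingEquiv.ofBijective σ (Finite.injective_iff_bijective.1 σ.injective), fun v => ?_⟩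
  exact (congrArg φ (hc g v)).symm.trans (h _ (hm v))

end Cfsg.Agent.S3360
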