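import Cfsg.Statements.S3776
import Cfsg.Agent.Lib.Perm.ShawB
import Cfsg.Agent.Lib.PGroup.Frattini
import Cfsg.Agent.S3360

set_option autoImplicit false
open Cfsg

namespace Cfsg.Agent.S3776

open Subgroup Cfsg.Lib.Perm Cfsg.Lib.Perm.Shaw Cfsg.Lib.BG
open scoped Cfsg.Lib.Transfer commutatorElement

open scoped IsMulCommutative in
theorem exists_semi {X : Type*} [Group X] [Finite X] {P T : Subgroup X} (h : Tr P T)
    (hT : Group.IsSolvable T) : ∃ (F : Type) (_ : Field F) (_ : Fintype F) (e : om P ≃ F),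
      (∀ x y, e (x * y) = e x + e y) ∧ ∀ t (ht : t ∈ T), ∃ (a : F) (σ : F ≃+* F), ∀ x : om P,
        e ⟨t * x * t⁻¹, conj_mem_of_norm (norm_om h.norm ht) x.2⟩ = a * σ (e x) := by
  have := om_ab P
  letI : Module (ZMod 2) (Additive (om P)) := AddCommGroup.zmodModule fun x =>
    Additive.toMul.injective (Subtype.ext (om_sq (Additive.toMul x).2))
  let ρ₀ : T →* MulAut (om P) := (om P).normalizerMonoidHom.comp (inclusion (norm_om h.norm))
  let ρ : T →* (Additive (om P) ≃ₗ[ZMod 2] Additive (om P)) := MonoidHom.mk'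
    (fun t => { MulEquiv.toAdditive (ρ₀ t) with
      map_smul' := ZMod.map_smul (MulEquiv.toAdditive (ρ₀ t)) })
    fun s t => LinearEquiv.ext fun x => by
      change Additive.ofMul (ρ₀ (s * t) _) = _
      rw [map_mul]; rfl
  obtain ⟨w, hw, hw1⟩ := exists_ne_one h.ne_bot
  obtain ⟨z, hz, h1, h2⟩ := exists_sq_mem (A := ⊥) h.pg hw hw1
  have hz' := h.mem_om (zpowers_le.2 hw hz) h2
  have : Nontrivial (Additive (om P)) :=
    ⟨Additive.ofMul ⟨z, hz'⟩, 0, fun e =>
      h1 (congrArg (fun x : Additive (om P) => ((Additive.toMul x : om P) : X)) e)⟩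
  have : Finite ρ.range := Finite.of_surjective _ ρ.rangeRestrict_surjective
  rcases S3360.result 2 (Group.isSolvable_of_surjective ρ.rangeRestrict_surjective)
    ρ.range.subtype ρ.range.subtype_injective (fun v w hv hw => by
      obtain ⟨k, hk, e⟩ := h.trans _ (Additive.toMul v).2.1 (fun e => hv (Additive.toMul.injective
        (Subtype.ext e))) (Additive.toMul v).2.2.1 _ (Additive.toMul w).2.1
        (fun e => hw (Additive.toMul.injective (Subtype.ext e))) (Additive.toMul w).2.2.1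
      exact ⟨⟨_, ⟨k, hk⟩, rfl⟩, Additive.toMul.injective (Subtype.ext e)⟩) with
    ⟨F, _, _, e, he⟩ | h3
  · refine ⟨F, inferInstance, inferInstance, Additive.ofMul.trans e.toEquiv,
      fun x y => e.map_add _ _, fun t ht => ?_⟩
    obtain ⟨a, σ, h3⟩ := he ⟨_, ⟨t, ht⟩, rfl⟩
    exact ⟨a, σ, fun x => h3 (Additive.ofMul x)⟩
  · have h4 : 2 ∣ Nat.card (om P) := by
      rw [← orderOf_eq_prime (x := (⟨z, hz'⟩ : om P)) (Subtype.ext h2)
        fun e => h1 (congrArg Subtype.val e)]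
      exact orderOf_dvd_natCard _
    change Nat.card (om P) ∈ _ at h3
    simp only [Set.mem_insert_iff, Set.mem_singleton_iff] at h3
    omega

theorem exists_sc {X : Type*} [Group X] [Finite X] {P T : Subgroup X} (h : Tr P T)
    (hT : Group.IsSolvable T) {x y : X} (hx : x ∈ om P) (hy : y ∈ om P) (hx1 : x ≠ 1) (hy1 : y ≠ 1)
    (hxy : x ≠ y) : ∃ (F : Type) (_ : Field F) (_ : Finite F) (_ : CharP F 2) (K : Subgroup X)
      (k₀ : X) (f ψ : X → F), Sc P T K k₀ f ψ := by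
  classical
  obtain ⟨F, _, _, e, he, hsemi⟩ := exists_semi h hT
  have he1 : e 1 = 0 := by simpa using he 1 1
  have hc : CharP F 2 := CharTwo.of_one_ne_zero_of_two_eq_zero one_ne_zero (by
    obtain ⟨z, hz⟩ := e.surjective 1
    rw [← one_add_one_eq_two, ← hz, ← he, ← sq, show z ^ 2 = 1 from Subtype.ext (om_sq z.2), he1])
  let ρ₀ : T →* MulAut (om P) := (om P).normalizerMonoidHom.comp (inclusion (norm_om h.norm))
  let act : T →* Equiv.Perm F :=
    e.permCongrHom.toMonoidHom.comp ((MulAut.toPerm (om P)).comp ρ₀)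
  have hact : ∀ t z, act t (e z) = e (ρ₀ t z) := fun t z => by simp [act]; rfl
  have hne : ∀ z : om P, e z ≠ 0 → (z : X) ≠ 1 := fun z hz e' => hz (by
    rw [show z = 1 from Subtype.ext e', he1])
  obtain ⟨g, ω, hω, hg⟩ := exists_big act (fun t => by
    obtain ⟨a, σ, h1⟩ := hsemi t t.2
    refine ⟨a, σ, fun r => ?_⟩
    obtain ⟨z, rfl⟩ := e.surjective r
    exact (hact t z).trans (h1 z)) fun r hr => by
      obtain ⟨z, rfl⟩ := e.surjective r
      obtain ⟨w, hw⟩ := e.surjective 1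
      obtain ⟨k, hk, h1⟩ := h.trans w w.2.1 (hne w (by simp [hw])) w.2.2.1 z z.2.1 (hne z hr) z.2.2.1
      exact ⟨⟨k, hk⟩, by rw [← hw, hact]; exact congrArg e (Subtype.ext h1)⟩
  obtain ⟨j, m, hm, hjm⟩ := Nat.exists_eq_two_pow_mul_odd (orderOf_pos g).ne'
  have hpow : ∀ (i : ℕ) r, act (g ^ i) r = ω ^ i * r := fun i => by
    induction i with
    | zero => simp
    | succ i ih => intro r; rw [pow_succ, map_mul, Equiv.Perm.mul_apply, hg, ih, pow_succ, mul_assoc]
  have hω' : Big (ω ^ 2 ^ j) := hω.of_orderOf (orderOf_eq_orderOf_iff.2 fun n => by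
    rw [← pow_mul, mul_comm, pow_mul, ← iterateFrobenius_def,
      map_eq_one_iff _ (iterateFrobenius F 2 j).injective])
  obtain ⟨v₀, hv₀⟩ := e.surjective 1
  let f : X → F := fun z => if hz : z ∈ om P then e ⟨z, hz⟩ else 0
  have hf : ∀ z : om P, f z = e z := fun z => dif_pos z.2
  have hK : zpowers ((g ^ 2 ^ j : T) : X) ≤ T := zpowers_le.2 (g ^ 2 ^ j).2
  have hconj : ∀ t : T, ∀ z : om P, f (t * z * (t : X)⁻¹) = act t (e z) := fun t z =>
    (hf (ρ₀ t z)).trans (hact t z).symm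
  have hψ : f ((g ^ 2 ^ j : T) * v₀ * ((g ^ 2 ^ j : T) : X)⁻¹) = ω ^ 2 ^ j := by
    rw [hconj, hpow, hv₀, mul_one]
  refine ⟨F, inferInstance, inferInstance, hc, zpowers ((g ^ 2 ^ j : T) : X), (g ^ 2 ^ j : T), f,
    fun k => f (k * v₀ * k⁻¹), h, hK, ?_, ⟨⟨Set.mapsTo_univ _ _, fun a ha b hb e' => ?_,
      fun r _ => ?_⟩, fun a ha b hb => ?_, fun u hu z hz => ?_, hK.trans (norm_om h.norm), ?_⟩,
    mem_zpowers _, hψ ▸ hω', hψ ▸ hω'.ne_one (x := e ⟨x, hx⟩) (y := e ⟨y, hy⟩)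
      (fun e' => hx1 (congrArg Subtype.val (e.injective (e'.trans he1.symm))))
      (fun e' => hy1 (congrArg Subtype.val (e.injective (e'.trans he1.symm))))
      fun e' => hxy (congrArg Subtype.val (e.injective e'))⟩
  · rw [Nat.card_zpowers, orderOf_coe, orderOf_pow, hjm, Nat.gcd_mul_right_left,
      Nat.mul_div_cancel_left _ (by positivity)]
    exact hm
  · exact congrArg Subtype.val (e.injective ((hf ⟨a, ha⟩).symm.trans (e'.trans (hf ⟨b, hb⟩))))
  · obtain ⟨z, rfl⟩ := e.surjective r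
    exact ⟨z, z.2, hf z⟩
  · exact (hf (⟨a, ha⟩ * ⟨b, hb⟩)).trans (by rw [he, ← hf, ← hf])
  · obtain ⟨i, rfl⟩ := (mem_powers_iff_mem_zpowers.2 hu :)
    have h1 := hconj ((g ^ 2 ^ j) ^ i) ⟨z, hz⟩
    have h2 := hconj ((g ^ 2 ^ j) ^ i) v₀
    rw [← pow_mul, hpow, pow_mul] at h1 h2
    rw [hv₀, mul_one] at h2
    exact h1.trans (by rw [← h2, ← hf]; rfl)
  · exact hω'.eq_top (Subring.subset_closure ⟨_, mem_zpowers _, hψ⟩)

/-- Let G be a finite non-abelian 2-group with more than one involution admitting a solvable group of automorphisms that permutes its involutions transitively. Then the derived subgroup, the Frattini subgroup and the centre of G coincide and consist exactly of the elements x with x² = 1. -/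
theorem result {G : Type*} [Group G] [Finite G] (hG : IsPGroup 2 G) (hna : ¬ IsMulCommutative G) (htwo : ∃ x y : G, x ≠ y ∧ x ≠ 1 ∧ x ^ 2 = 1 ∧ y ≠ 1 ∧ y ^ 2 = 1) (hY : ∃ Y : Subgroup (MulAut G), Group.IsSolvable Y ∧ ∀ x y : G, x ≠ 1 → x ^ 2 = 1 → y ≠ 1 → y ^ 2 = 1 → ∃ a ∈ Y, a x = y) : commutator G = frattini G ∧ frattini G = Subgroup.center G ∧ ∀ x : G, x ∈ Subgroup.center G ↔ x ^ 2 = 1 := by
  obtain ⟨x, y, hxy, hx, hx2, hy, hy2⟩ := htwo
  obtain ⟨K, hK, htr⟩ := hY
  have hfin : Finite (G ⋊[K.subtype] K) := Finite.of_equiv _ SemidirectProduct.equivProd.symm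
  let e := MonoidHom.ofInjective (SemidirectProduct.inl_injective (φ := K.subtype))
  have hi := SemidirectProduct.inl_injective (φ := K.subtype)
  have hna' : ¬ IsMulCommutative (SemidirectProduct.inl (φ := K.subtype)).range := fun h =>
    hna ⟨⟨fun a b => e.injective (by rw [map_mul, map_mul, h.1.1])⟩⟩
  have hs : Tr (SemidirectProduct.inl (φ := K.subtype)).range SemidirectProduct.inr.range := by
    refine ⟨hG.of_equiv e, le_norm_iff.2 ?_, ?_, fun h => hna' (h ▸ inferInstance)⟩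
    · rintro _ ⟨k, rfl⟩ _ ⟨u, rfl⟩
      exact ⟨_, (SemidirectProduct.inl_aut k u).trans (by rw [map_inv])⟩
    · rintro _ ⟨u, rfl⟩ h1 h2 _ ⟨v, rfl⟩ h3 h4
      obtain ⟨k, hk, rfl⟩ := htr u v (fun e => h1 (by simp [e])) (hi (by simpa using h2))
        (fun e => h3 (by simp [e])) (hi (by simpa using h4))
      exact ⟨_, ⟨⟨k, hk⟩, rfl⟩, by
        rw [← map_inv]; exact (SemidirectProduct.inl_aut (⟨k, hk⟩ : K) u).symm⟩
  have hom : ∀ z : G, SemidirectProduct.inl z ∈ om (SemidirectProduct.inl (φ := K.subtype)).range ↔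
      z ^ 2 = 1 := fun z => ⟨fun h => hi (by simpa using h.2.1),
    fun h => hs.mem_om ⟨z, rfl⟩ (by rw [← map_pow, h, map_one])⟩
  obtain ⟨F, _, _, _, L, k₀, f, ψ, hc⟩ := exists_sc hs
    (Group.isSolvable_of_surjective (MonoidHom.rangeRestrict_surjective _)) ((hom x).2 hx2)
    ((hom y).2 hy2) (fun e => hx (hi (by simpa using e))) (fun e => hy (hi (by simpa using e)))
    (hi.ne hxy)
  have hZ : ∀ z : G, z ∈ center G ↔ z ^ 2 = 1 := fun z => by
    rw [← hom, ← hc.center_eq hna', mem_center_iff]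
    refine ⟨fun h => ⟨⟨z, rfl⟩, mem_cent.2 ?_⟩, fun h u => hi ?_⟩
    · rintro _ ⟨u, rfl⟩
      exact (map_mul _ u z).symm.trans ((congrArg _ (h u)).trans (map_mul _ z u))
    · rw [map_mul, map_mul]
      exact mem_cent.1 h.2 _ ⟨u, rfl⟩
  have h1 : frattini G ≤ center G := (Lib.PGroup.frattini_le_iff_sq_mem hG).2 fun z =>
    (hZ _).2 ((hom _).1 (by rw [map_pow]; exact hc.sq_mem_om hna' ⟨z, rfl⟩))
  have h2 := Lib.PGroup.commutator_le_frattini hG
  have h3 : center G ≤ commutator G := fun z hz => by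
    obtain ⟨w, hw, hw1⟩ := exists_ne_one (show commutator G ≠ ⊥ from fun h =>
      hna ((commutator_eq_bot_iff G).1 h))
    by_cases hz1 : z = 1
    · exact hz1 ▸ one_mem _
    obtain ⟨a, -, rfl⟩ := htr w z hw1 ((hZ w).1 (h1 (h2 hw))) hz1 ((hZ z).1 hz)
    exact characteristic_iff_le_comap.1 inferInstance a hw
  exact ⟨le_antisymm h2 (h1.trans h3), le_antisymm h1 (h3.trans h2), hZ⟩

end Cfsg.Agent.S3776
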