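import Cfsg.Statements.S5738
import Cfsg.Agent.Lib.GLC.Singer

set_option autoImplicit false
open Cfsg

namespace Cfsg.Agent.S5738

/-- Let F ⊆ K be finite fields with |F| = q and [K : F] = n ≥ 2, so |K| = q^n. Regard K as an n-dimensional F-vector space; the multiplications by non-zero elements of K form a cyclic subgroup of GL_F(K) of order q^n − 1 acting regularly on the non-zero vectors (a Singer group). Its normaliser in GL_F(K) has order n·(q^n − 1). -/
theorem result {F K : Type*} [Field F] [Fintype F] [Field K] [Fintype K] [Algebra F K] (n : ℕ) (hn : 2 ≤ n) (hdim : Module.finrank F K = n) :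
    Nat.card (Subgroup.normalizer (((Units.map ((Algebra.lmul F K : K →ₐ[F] Module.End F K) : K →* Module.End F K)).range : Subgroup (Module.End F K)ˣ) : Set (Module.End F K)ˣ)) = n * (Fintype.card K - 1) := by
  open Lib.GLC Subgroup in
  let τ : Gal(K/F) →* (Module.End F K)ˣ := (DistribMulAction.toModuleEnd F K).toHomUnits
  have h1 : ∀ σ a, τ σ * sing F K a * (τ σ)⁻¹ = sing F K (Units.map σ.toMonoidHom a) := fun σ a =>
    mul_inv_eq_of_eq_mul (Units.ext (LinearMap.ext fun v => map_mul σ a.1 v))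
  have h2 : ∀ σ, τ σ ∈ normalizer ((sing F K).range : Set _) := fun σ => mem_normalizer_fintype (by
    rintro _ ⟨a, rfl⟩; exact ⟨_, (h1 σ a).symm⟩)
  rw [← hdim, ← IsGalois.card_aut_eq_finrank, ← Nat.card_eq_fintype_card, ← Nat.card_units, ← Nat.card_prod]
  refine (Nat.card_eq_of_bijective (fun x => ⟨sing F K x.2 * τ x.1, mul_mem (le_normalizer ⟨_, rfl⟩) (h2 _)⟩)
    ⟨fun ⟨σ, a⟩ ⟨σ', a'⟩ h => ?_, fun ⟨g, hg⟩ => ?_⟩).symm
  · have h3 : ∀ v, a * σ v = a' * σ' v := fun v => LinearMap.congr_fun (congrArg (·.1.1) h) v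
    obtain rfl : a = a' := Units.ext (by simpa using h3 1)
    rw [AlgEquiv.ext fun v => mul_left_cancel₀ a.ne_zero (h3 v)]
  have hb := (Module.End.isUnit_iff _).1 g.isUnit
  have h0 : g.1 1 ≠ 0 := fun e => one_ne_zero (hb.1 (e.trans (map_zero _).symm))
  have h3 : ∀ x y, g.1 1 * g.1 (x * y) = g.1 x * g.1 y := fun x y => by
    rcases eq_or_ne x 0 with rfl | hx
    · simp
    obtain ⟨b, hb⟩ := (mem_normalizer_iff.1 hg _).1 ⟨.mk0 x hx, rfl⟩
    have : ∀ v, b * g.1 v = g.1 (x * v) := LinearMap.congr_fun (congrArg Units.val (eq_mul_inv_iff_mul_eq.1 hb))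
    rw [← this, ← mul_one x, ← this]; ring
  let σ : K →ₐ[F] K := .ofLinearMap (Algebra.lmul F K (g.1 1)⁻¹ * g.1) (by simp [h0]) fun x y => by
    simp only [Module.End.mul_apply, Algebra.coe_lmul_eq_mul, LinearMap.mul_apply']
    field_simp
    exact h3 x y
  exact ⟨(.ofBijective σ σ.bijective, .mk0 _ h0), Subtype.ext (Units.ext (LinearMap.ext fun v =>
    mul_inv_cancel_left₀ h0 (g.1 v)))⟩

end Cfsg.Agent.S5738
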