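import Cfsg.Statements.S3784
import Mathlib

set_option autoImplicit false
open Cfsg

namespace Cfsg.Agent.S3784

section
open Finset

theorem geom_odd {x : ℤ} (hx : Odd x) {n : ℕ} (hn : Odd n) {k : ℕ}
    (h : (x ^ n - 1).natAbs = 2 ^ k) : (x - 1).natAbs = 2 ^ k := by
  have h1 := geom_sum_mul x n
  have h2 : Odd (∑ i ∈ range n, x ^ i) := by
    have h3 : (x : ZMod 2) = 1 := (ZMod.intCast_eq_one_iff_odd).mpr hx
    rw [← ZMod.intCast_eq_one_iff_odd]
    push_cast
    simp only [h3, one_pow, sum_const, card_range, nsmul_eq_mul, mul_one]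
    exact ZMod.natCast_eq_one_iff_odd.mpr hn
  rw [← h1, Int.natAbs_mul] at h
  have h3 : (∑ i ∈ range n, x ^ i).natAbs = 1 :=
    Nat.Coprime.eq_one_of_dvd (Nat.Coprime.pow_right k
      ((Int.natAbs_odd.mpr h2).coprime_two_right)) (Dvd.intro _ h)
  rwa [h3, one_mul] at h

end

/-- Let p, q be primes and a, b positive integers with p^a = q^b + 1. Then either p = 2, b = 1, a is prime and q = 2^a − 1; or q = 2, a = 1, b is a power of 2 and p = 2^b + 1; or p^a = 9 and q^b = 8. -/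
theorem result (p q a b : ℕ) (hp : p.Prime) (hq : q.Prime) (ha : 1 ≤ a) (hb : 1 ≤ b) (h : p ^ a = q ^ b + 1) : (p = 2 ∧ b = 1 ∧ a.Prime ∧ q + 1 = 2 ^ a) ∨ (q = 2 ∧ a = 1 ∧ (∃ m : ℕ, b = 2 ^ m) ∧ p = 2 ^ b + 1) ∨ (p ^ a = 9 ∧ q ^ b = 8) := by
  open Finset in
  rcases hp.eq_two_or_odd' with rfl | hpo
  · rcases hq.eq_two_or_odd' with rfl | hqo
    · exfalso
      have h1 : 2 ∣ 2 ^ a := dvd_pow_self 2 (by omega)
      have h2 : 2 ∣ 2 ^ b := dvd_pow_self 2 (by omega)
      omega
    have hq1 : 1 < q ^ b := Nat.one_lt_pow (by omega) hq.one_lt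
    have ha1 : a ≠ 1 := by rintro rfl; omega
    have hbo : Odd b := by
      by_contra hbo
      obtain ⟨c, rfl⟩ := Nat.not_odd_iff_even.mp hbo
      obtain ⟨d, hd⟩ : Odd (q ^ c) := hqo.pow
      have h4 : 2 ^ 2 ∣ 2 ^ a := pow_dvd_pow 2 (by omega)
      rw [h, pow_add, hd] at h4
      have : (2 * d + 1) * (2 * d + 1) + 1 = 4 * (d * d + d) + 2 := by ring
      omega
    have h1 := geom_odd (x := -q) (k := a) (by exact_mod_cast hqo : Odd (q : ℤ)).neg hbo (by
      rw [hbo.neg_pow, h, ← Nat.cast_pow]; omega)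
    have h2 : q + 1 = 2 ^ a := by omega
    have h3 : q ^ b = q ^ 1 := by rw [pow_one]; omega
    refine Or.inl ⟨rfl, Nat.pow_right_injective hq.two_le h3, ?_, h2⟩
    exact (Nat.prime_of_pow_sub_one_prime ha1 (by rwa [← h2])).2
  · have hq2 : q = 2 := by
      rcases hq.eq_two_or_odd' with rfl | hqo
      · rfl
      · exact absurd (h ▸ hpo.pow) (Nat.not_odd_iff_even.mpr hqo.pow.add_one)
    subst hq2
    rcases Nat.even_or_odd a with ⟨c, rfl⟩ | hao
    · right; right
      obtain ⟨d, hd⟩ : Odd (p ^ c) := hpo.pow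
      rw [pow_add, hd] at h ⊢
      have h1 : (2 * d) * (2 * d + 2) = 2 ^ b := by
        have : (2 * d + 1) * (2 * d + 1) = (2 * d) * (2 * d + 2) + 1 := by ring
        omega
      obtain ⟨i, -, hi⟩ := (Nat.dvd_prime_pow Nat.prime_two).mp
        (show d ∣ 2 ^ b from Dvd.dvd.trans (Dvd.intro_left 2 rfl) (Dvd.intro _ h1))
      obtain ⟨j, -, hj⟩ := (Nat.dvd_prime_pow Nat.prime_two).mp
        (show d + 1 ∣ 2 ^ b from Dvd.dvd.trans (Dvd.intro_left 2 (by ring)) (Dvd.intro_left _ h1))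
      have hd1 : d = 1 := by
        rcases i with _ | i
        · simpa using hi
        · rcases j with _ | j
          · have := Nat.two_pow_pos (i + 1); omega
          · rw [pow_succ] at hi hj; omega
      subst hd1
      omega
    · right; left
      have h1 := geom_odd (x := p) (k := b) (by exact_mod_cast hpo) hao (by
        have : (p : ℤ) ^ a = 2 ^ b + 1 := by exact_mod_cast h
        rw [this]; simp)
      have h0 := hp.pos
      have h2 : p = 2 ^ b + 1 := by omega
      have h3 : p ^ a = p ^ 1 := by rw [pow_one]; omega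
      exact ⟨rfl, Nat.pow_right_injective hp.two_le h3,
        Nat.pow_of_pow_add_prime one_lt_two (by omega) (h2 ▸ hp), h2⟩

end Cfsg.Agent.S3784
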