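import Cfsg.Statements.S5947
import Cfsg.Agent.Lib.GLC.Singer
import Cfsg.Agent.S3784

set_option autoImplicit false
open Cfsg

namespace Cfsg.Agent.S5947

/-- Let F ⊆ K be finite fields with |F| = q and [K : F] = n ≥ 2, regard K as an n-dimensional F-vector space, and let M ≤ GL_F(K) be the Singer group of multiplications by non-zero elements of K (cyclic of order q^n − 1). Assume (n, q) ≠ (6, 2), and that it is not the case that n = 2 with q a prime such that q + 1 is a power of 2. Then every abelian subgroup of GL_F(K) of order q^n − 1 is conjugate to M. -/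
theorem result {F K : Type*} [Field F] [Fintype F] [Field K] [Fintype K] [Algebra F K] (n : ℕ) (hn : 2 ≤ n) (hdim : Module.finrank F K = n)
    (hex1 : ¬ (n = 6 ∧ Fintype.card F = 2))
    (hex2 : ¬ (n = 2 ∧ (Fintype.card F).Prime ∧ ∃ a : ℕ, Fintype.card F + 1 = 2 ^ a))
    (U : Subgroup (Module.End F K)ˣ) (hU : IsMulCommutative U) (hcard : Nat.card U = Fintype.card K - 1) :
    ∃ g : (Module.End F K)ˣ, U.map (MulAut.conj g).toMonoidHom = (Units.map ((Algebra.lmul F K : K →ₐ[F] Module.End F K) : K →* Module.End F K)).range := by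
  open Lib.GLC Subgroup Polynomial in
  obtain ⟨p, hp⟩ := CharP.exists F
  obtain ⟨f, hpp, hf⟩ := FiniteField.card F p
  haveI := Fact.mk hpp
  obtain ⟨r, hr, h1⟩ := zsigmondy (a := Fintype.card F) Fintype.one_lt_card hn (fun h => hex1 h.symm) (by
    rintro ⟨rfl, m, hm⟩
    refine hex2 ⟨rfl, ?_, m, hm⟩
    rcases S3784.result 2 p m f Nat.prime_two hpp (Nat.pos_of_ne_zero (by rintro rfl; simp at hm)) f.2 (hf ▸ hm.symm)
      with h | h | h
    · rwa [hf, h.2.1, pow_one]
    · have := Nat.one_lt_two_pow f.ne_zero; omega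
    · rcases m with _ | m <;> omega)
  haveI := Fact.mk hr
  have hK : Fintype.card K = Fintype.card F ^ n := hdim ▸ Module.card_eq_pow_finrank
  obtain ⟨⟨x, hxU⟩, hx⟩ := exists_prime_orderOf_dvd_card' (G := U) r (by
    rw [hcard, hK, ← Nat.modEq_iff_dvd' (Nat.one_le_pow _ _ Fintype.card_pos), ← ZMod.natCast_eq_natCast_iff,
      Nat.cast_pow, ← h1, pow_orderOf_eq_one, Nat.cast_one])
  rw [← orderOf_coe, ← orderOf_units] at hx
  obtain ⟨P, h2, h3, h4⟩ := exists_blocks_singleton (f := x.1) hr hx (by rw [Nat.card_eq_fintype_card, h1, hdim])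
  obtain ⟨a, rfl⟩ := exists_minpoly_eq (K := K) (h3.monic _ (Multiset.mem_singleton_self _)) h2 h4.dvd
  obtain ⟨g, hg⟩ := sim_iff_isConj.1 (h3.sim (blocks_lmul h4))
  refine ⟨g, eq_of_le_of_card_ge ?_ (by rw [card_map_of_injective (MulEquiv.injective _), hcard, card_sing]; simp)⟩
  rintro _ ⟨y, hy, rfl⟩
  refine mem_sing_of_commute (adjoin_eq_top_of_natDegree h4) fun _ ha => ?_
  have h5 : Commute y.1 x.1 := congrArg (fun z : U => z.1.1) (hU.is_comm.comm ⟨y, hy⟩ ⟨x, hxU⟩)
  rw [ha, ← (Units.mul_inv_eq_iff_eq_mul g).2 hg.eq]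
  show g.1 * y * ↑g⁻¹ * _ = _ * (g.1 * y * ↑g⁻¹)
  simp only [mul_assoc, Units.inv_mul_cancel_left]
  rw [← mul_assoc y.1, h5.eq, mul_assoc]

end Cfsg.Agent.S5947
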