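import Cfsg.Statements.S4179
import Cfsg.Agent.Lib.CK2.J
import Cfsg.Agent.S5947
import Cfsg.Agent.S5738

set_option autoImplicit false
open Cfsg

namespace Cfsg.Agent.S4179

open Cfsg.Lib.CK2 Module MulAction

variable {V : Type*} [AddCommGroup V] [Module F2 V] [Finite V]

theorem trans_of_card {C : Subgroup (V ≃ₗ[F2] V)} (hp : (2 ^ finrank F2 V - 1).Prime)
    (hc : Nat.card C = 2 ^ finrank F2 V - 1) {v w : V} (hv : v ≠ 0) (hw : w ≠ 0) : ∃ h ∈ C, h v = w := by
  have : Finite C := Nat.finite_of_card_ne_zero (hc ▸ hp.ne_zero)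
  have : Nontrivial C := Finite.one_lt_card_iff_nontrivial.1 (hc ▸ hp.one_lt)
  obtain ⟨g, hg⟩ := exists_ne (1 : C)
  obtain ⟨u, hu⟩ : ∃ u : V, g • u ≠ u := by
    by_contra! k
    exact hg (Subtype.ext (LinearEquiv.ext k))
  let u' : {a : V // a ≠ 0} := ⟨u, fun e => hu (by rw [e, smul_zero])⟩
  have e : orbit C u' = Set.univ := by
    refine Set.eq_of_subset_of_ncard_le (Set.subset_univ _) ?_
    rw [Set.ncard_univ, card_ne_zero, ← index_stabilizer]
    refine ((Nat.dvd_prime hp).1 (hc ▸ (stabilizer C u').index_dvd_card)).elim (fun k => ?_) Eq.ge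
    rw [Subgroup.index_eq_one] at k
    exact absurd (congrArg Subtype.val (show g ∈ stabilizer C u' from k ▸ trivial)) hu
  obtain ⟨a, ha⟩ : (⟨v, hv⟩ : {a : V // a ≠ 0}) ∈ orbit C u' := e ▸ trivial
  obtain ⟨b, hb⟩ : (⟨w, hw⟩ : {a : V // a ≠ 0}) ∈ orbit C u' := e ▸ trivial
  refine ⟨(b * a⁻¹ : C), (b * a⁻¹).2, ?_⟩
  have h1 : a • u = v := congrArg Subtype.val ha
  have h2 : b • u = w := congrArg Subtype.val hb
  change (b * a⁻¹) • v = w
  rw [mul_smul, ← h1, inv_smul_smul, h2]

theorem gl_trans {v w : V} (hv : v ≠ 0) (hw : w ≠ 0) : ∃ h : V ≃ₗ[F2] V, h v = w := by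
  by_cases e : v = w
  · exact ⟨1, e⟩
  have P := Pr.dual (V ≃ₗ[F2] V) V
  obtain ⟨f, f1, f2⟩ := P.flip.sep2 (f := v + w) hv (by simpa using hw)
  rw [P.flip_b] at f1 f2
  refine ⟨LinearEquiv.ofInvolutive (LinearMap.id + (P.b.flip f).smulRight (v + w)) fun a => ?_, ?_⟩
  · rw [map_add, LinearMap.add_apply] at f1
    simp [f1, add_add_cancel, -smul_add, map_smul]
  · change v + P.b v f • (v + w) = w
    rw [f2, one_smul, add_add_cancel']

theorem card_dvd {C H : Subgroup (V ≃ₗ[F2] V)} (hp : (2 ^ finrank F2 V - 1).Prime)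
    (hc : Nat.card C = 2 ^ finrank F2 V - 1) (hH : H ≤ Subgroup.normalizer (C : Set (V ≃ₗ[F2] V))) :
    Nat.card H ∣ finrank F2 V * (2 ^ finrank F2 V - 1) := by
  set n := finrank F2 V with hn
  have n1 : n ≠ 1 := fun e => by rw [e] at hp; exact Nat.not_prime_one hp
  have n0 : n ≠ 0 := fun e => by rw [e] at hp; exact Nat.not_prime_zero hp
  let K := GaloisField 2 n
  letI : Fintype K := Fintype.ofFinite K
  have r : finrank F2 K = n := GaloisField.finrank 2 n0
  have cK : Fintype.card K = 2 ^ n := by rw [← Nat.card_eq_fintype_card]; exact GaloisField.card 2 n n0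
  let Φ : (V ≃ₗ[F2] V) ≃* (Module.End F2 K)ˣ := (LinearMap.GeneralLinearGroup.generalLinearEquiv F2 V).symm.trans
    (LinearMap.GeneralLinearGroup.congrLinearEquiv (LinearEquiv.ofFinrankEq V K r.symm))
  have cU : Nat.card (C.map Φ.toMonoidHom) = 2 ^ n - 1 := by
    rw [Subgroup.card_map_of_injective Φ.injective, hc]
  haveI := Fact.mk hp
  haveI := isCyclic_of_prime_card cU
  obtain ⟨g, hg⟩ := S5947.result (F := F2) (K := K) n (by omega) r
    (by rintro ⟨e, -⟩; rw [e] at hp; norm_num at hp)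
    (by
      rintro ⟨-, -, a, e⟩
      rw [ZMod.card] at e
      rcases a with _ | _ | a <;> omega) (C.map Φ.toMonoidHom) inferInstance (by rw [cU, cK])
  rw [← cK, ← S5738.result (F := F2) (K := K) n (by omega) r, ← hg, Subgroup.map_map,
    ← Subgroup.card_map_of_injective (K := H) (f := (MulAut.conj g).toMonoidHom.comp Φ.toMonoidHom)
      ((MulAut.conj g).injective.comp Φ.injective)]
  exact Subgroup.card_dvd_of_le ((Subgroup.map_mono hH).trans (Subgroup.le_normalizer_map _))


/-- Let V be a vector space of dimension n over the field with two elements with 2^n − 1 prime, and H a group of invertible linear maps of V. Then H is transitive on the non-zero vectors of V if and only if H is cyclic of order 2^n − 1, or H has order n·(2^n − 1) and contains a normal cyclic subgroup of order 2^n − 1, or H is the whole general linear group of V. -/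
theorem result {V : Type*} [AddCommGroup V] [Module (ZMod 2) V] [Finite V] (n : ℕ) (hn : Module.finrank (ZMod 2) V = n)
    (hprime : (2 ^ n - 1).Prime) (H : Subgroup (V ≃ₗ[ZMod 2] V)) :
    (∀ v w : V, v ≠ 0 → w ≠ 0 → ∃ h ∈ H, h v = w) ↔
      ((IsCyclic ↥H ∧ Nat.card ↥H = 2 ^ n - 1) ∨
       (Nat.card ↥H = n * (2 ^ n - 1) ∧ ∃ C : Subgroup (V ≃ₗ[ZMod 2] V), C ≤ H ∧ (C.subgroupOf H).Normal ∧
          IsCyclic ↥C ∧ Nat.card ↥C = 2 ^ n - 1) ∨
       H = ⊤) := by
  subst hn
  refine ⟨fun h => ?_, ?_⟩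
  · haveI : IsPretransitive H {a : V // a ≠ 0} := ⟨fun a b => by
      obtain ⟨g, g1, g2⟩ := h a b a.2 b.2
      exact ⟨⟨g, g1⟩, Subtype.ext g2⟩⟩
    haveI : FaithfulSMul H {a : V // a ≠ 0} := ⟨fun {g k} e => Subtype.ext (LinearEquiv.ext fun a => by
      by_cases a0 : a = 0
      · rw [a0, map_zero, map_zero]
      · exact congrArg Subtype.val (e ⟨a, a0⟩))⟩
    have : Finite (V ≃ₗ[F2] V) := .of_injective _ DFunLike.coe_injective
    haveI := Fact.mk hprime
    have cα := card_ne_zero V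
    rcases prime_dich (G := H) (α := {a : V // a ≠ 0}) (cα ▸ hprime) with t | ⟨M, hM, c, -⟩
    · refine Or.inr (Or.inr ((Subgroup.eq_top_iff' _).2 fun e => ?_))
      obtain ⟨g, hg⟩ := T2.all (Γ := H) (V := V) (fun x y x' y' k k' => by
        obtain ⟨g, g1, g2⟩ := t ⟨x, k.x0⟩ ⟨y, k.y0⟩ ⟨x', k'.x0⟩ ⟨y', k'.y0⟩
          (fun e => k.ne (congrArg Subtype.val e).symm) fun e => k'.ne (congrArg Subtype.val e).symm
        exact ⟨g, congrArg Subtype.val g1, congrArg Subtype.val g2⟩)
        (fun e => by rw [e] at hprime; norm_num at hprime) e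
      rw [← show (g : V ≃ₗ[F2] V) = e from LinearEquiv.ext hg]
      exact g.2
    · have cC : Nat.card (M.map H.subtype) = 2 ^ finrank F2 V - 1 := by
        rw [Subgroup.card_map_of_injective H.subtype_injective, c, cα]
      have le := Subgroup.map_subtype_le M
      have nm : ((M.map H.subtype).subgroupOf H).Normal := by
        rwa [Subgroup.subgroupOf, Subgroup.comap_map_eq_self_of_injective H.subtype_injective]
      have d := card_dvd hprime cC ((Subgroup.normal_subgroupOf_iff_le_normalizer le).1 nm)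
      obtain ⟨m, hm⟩ := Subgroup.card_dvd_of_le le
      rw [cC, mul_comm] at hm
      rw [hm, Nat.mul_dvd_mul_iff_right hprime.pos, Nat.dvd_prime (Nat.prime_of_pow_sub_one_prime
        (fun e => by rw [e] at hprime; exact Nat.not_prime_one hprime) hprime).2] at d
      rcases d with rfl | rfl
      · rw [one_mul] at hm
        exact Or.inl ⟨isCyclic_of_prime_card hm, hm⟩
      · exact Or.inr (Or.inl ⟨hm, _, le, nm, isCyclic_of_prime_card cC, cC⟩)
  · rintro (⟨-, c⟩ | ⟨-, C, le, -, -, c⟩ | rfl) v w hv hw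
    · exact trans_of_card hprime c hv hw
    · exact (trans_of_card hprime c hv hw).imp fun g k => ⟨le k.1, k.2⟩
    · exact (gl_trans hv hw).imp fun g k => ⟨trivial, k⟩

end Cfsg.Agent.S4179
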