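import Cfsg.Statements.S2921
import Cfsg.Agent.Lib.Sy2.Ree
import Cfsg.Agent.Lib.Comp.GenFitting
import Cfsg.Agent.Lib.Small.SieveFT

set_option autoImplicit false
open Cfsg

namespace Cfsg.Agent.S2921

open Subgroup Cfsg.Lib Cfsg.Lib.BG Cfsg.Lib.Transfer Cfsg.Lib.Sy2 Cfsg.Lib.JR
open scoped Cfsg.Lib.Transfer

/-- Let G be a finite group whose generalized Fitting subgroup F*(G) is a non-abelian simple group and whose Sylow 2-subgroups are abelian of order at least 4. Then G ⧸ F*(G) has odd order and F*(G) is isomorphic to SL₂(2ᵉ) with e ≥ 2, to a Ree group ²G₂(3^(2e+1)) with e ≥ 1, to the smallest Janko group J₁, or to PSL₂(rᵇ) for a prime r with rᵇ ≡ 3 or 5 (mod 8) and rᵇ > 3. Moreover, if G is simple with Sylow 2-subgroups of order 2ᵃ, then the normalizer of a Sylow 2-subgroup contains a cyclic subgroup of order 2ᵃ − 1. -/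
theorem result {G : Type*} [Group G] [Finite G] (hF : IsSimpleGroup ↥(Cfsg.generalizedFittingSubgroup G)) (hFna : ¬ IsMulCommutative ↥(Cfsg.generalizedFittingSubgroup G)) (S : Sylow 2 G) (hab : IsMulCommutative ↥(S : Subgroup G)) (h4 : 4 ≤ Nat.card ↥(S : Subgroup G)) [hn : (Cfsg.generalizedFittingSubgroup G).Normal] : Odd (Nat.card (G ⧸ Cfsg.generalizedFittingSubgroup G)) ∧ ((∃ (F : Type) (_ : Field F) (_ : Fintype F) (e : ℕ), 2 ≤ e ∧ Fintype.card F = 2 ^ e ∧ Nonempty (↥(Cfsg.generalizedFittingSubgroup G) ≃* Matrix.SpecialLinearGroup (Fin 2) F)) ∨ Cfsg.Lie.IsoRee ↥(Cfsg.generalizedFittingSubgroup G) ∨ Cfsg.Spor.IsoJ1 ↥(Cfsg.generalizedFittingSubgroup G) ∨ (∃ (F : Type) (_ : Field F) (_ : Fintype F) (r b : ℕ), r.Prime ∧ Fintype.card F = r ^ b ∧ 3 < r ^ b ∧ (r ^ b % 8 = 3 ∨ r ^ b % 8 = 5) ∧ Nonempty (↥(Cfsg.generalizedFittingSubgroup G) ≃* Matrix.ProjectiveSpecialLinearGroup (Fin 2) F))) ∧ (IsSimpleGroup G → ∃ C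 : Subgroup G, C ≤ Subgroup.normalizer ((S : Subgroup G) : Set G) ∧ IsCyclic ↥C ∧ Nat.card ↥C = Nat.card ↥(S : Subgroup G) - 1) := by
  have hA := ab2_of_sylow S hab
  obtain ⟨T⟩ : Nonempty (Sylow 2 (generalizedFittingSubgroup G)) := inferInstance
  have hT := (hA.sub _).comm T.isPGroup'
  have hw := (walter_iso hFna T hT).2
  have h2 := Small.two_dvd_card_of_simple hFna
  refine ⟨Nat.not_even_iff_odd.1 fun c => (Syl.of_sylow_top S).not_dvd' ?_, ?_, fun h => ?_⟩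
  · rw [relIndex_top_right]
    refine c.two_dvd.trans (index_dvd_of_le fun x hx => ?_)
    obtain ⟨k, hk⟩ := S.isPGroup' ⟨x, hx⟩
    obtain ⟨n, h1, h3⟩ := hA.exists_inner (center_of_simple hFna) (core_of_simple h2)
      (normalizer_eq_top_iff.2 hn ▸ mem_top x) (congrArg Subtype.val hk)
    exact (mul_mem_cancel_left (inv_mem h1)).1 (Comp.centralizer_genFitting_le h3)
  · rcases hw with ⟨F, _, _, e, h1, h3, -, ⟨f⟩⟩ | ⟨F, _, _, h1, h3, -, f⟩ | h | h
    · have : CharP F 2 := charP_of_card_eq_prime_pow h3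
      exact .inl ⟨F, _, _, e, h1, h3, ⟨f.trans (MulEquiv.ofBijective _ ⟨PSL2.toL_injective CharTwo.two_eq_zero,
        PSL2.toL_surjective⟩).symm⟩⟩
    · obtain ⟨p, _, n, hp, hn⟩ := FiniteField.card' F
      exact .inr (.inr (.inr ⟨F, _, _, p, n, hp, hn, hn ▸ h1, hn ▸ h3, f⟩))
    exacts [.inr (.inl h), .inr (.inr (.inl h))]
  · obtain ⟨g, h1, h3⟩ := (walter_iso (fun c => hFna inferInstance) S hab).1
    exact ⟨zpowers g, zpowers_le.2 h1, inferInstance, (Nat.card_zpowers g).trans h3⟩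

end Cfsg.Agent.S2921
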