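import Cfsg.Statements.S0223
import Cfsg.Agent.Lib.Inv.StronglyEmbedded

set_option autoImplicit false
open Cfsg

namespace Cfsg.Agent.S0223
open Cfsg.Lib.Inv


/-- Let H be a proper subgroup of even order of the finite group G. Then H is strongly embedded if and only if (i) C_G(t) ≤ H for every involution t of H and (ii) H controls fusion of its involutions: involutions of H conjugate in G are conjugate in H. -/
theorem result {G : Type*} [Group G] [Finite G] (H : Subgroup G) (hH : H ≠ ⊤) (heven : Even (Nat.card H)) : Cfsg.IsStronglyEmbedded H ↔ ((∀ t ∈ H, orderOf t = 2 → Subgroup.centralizer ({t} : Set G) ≤ H) ∧ (∀ t ∈ H, ∀ s ∈ H, orderOf t = 2 → orderOf s = 2 → IsConj t s → ∃ h ∈ H, h * t * h⁻¹ = s)) := by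
  refine ⟨fun h => ⟨fun t htH ht => se_centralizer_le h ht htH,
    fun t htH s hsH ht hs _ => se_exists_conj_mem h ht hs htH hsH⟩, fun h => ?_⟩
  refine se_iff.2 ⟨hH, heven, fun t g ht htH hg => ?_⟩
  obtain ⟨k, hk, h1⟩ := h.2 t htH _ hg ht (by rw [orderOf_conj', ht]) (isConj_iff.2 ⟨g, rfl⟩)
  have h2 : k⁻¹ * g ∈ H := h.1 t htH ht (mem_centralizer_singleton_iff_conj.2 (by
    calc k⁻¹ * g * t * (k⁻¹ * g)⁻¹ = k⁻¹ * (g * t * g⁻¹) * k := by group
      _ = t := by rw [← h1]; group))
  simpa using H.mul_mem hk h2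

end Cfsg.Agent.S0223
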