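import Cfsg.Statements.S3861
import Cfsg.Agent.Lib.Inv.SylowTwo
import Cfsg.Agent.Lib.BG.Hall
import Cfsg.Agent.Lib.Transfer.NormalComplement
import Cfsg.Agent.Lib.Coprime.Action
import Cfsg.Agent.Lib.Core.PCore

set_option autoImplicit false
open Cfsg

namespace Cfsg.Agent.S3861

open Subgroup Cfsg.Lib Cfsg.Lib.BG

theorem odd_pow_conj {G : Type*} [Group G] {g x : G} (h : g * x * g⁻¹ = x⁻¹) {m : ℕ}
    (hm : Odd m) : g ^ m * x * (g ^ m)⁻¹ = x⁻¹ := by
  obtain ⟨k, rfl⟩ := hm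
  induction k with
  | zero => simpa using h
  | succ k ih =>
    have h' : g * x⁻¹ * g⁻¹ = x := by rw [← conj_inv, h, inv_inv]
    calc _ = g * (g * (g ^ (2 * k + 1) * x * (g ^ (2 * k + 1))⁻¹) * g⁻¹) * g⁻¹ := by group
      _ = x⁻¹ := by rw [ih, h', h]

theorem eq_one_of_odd {G : Type*} [Group G] {x : G} (ho : Odd (orderOf x)) {k : ℕ}
    (h : x ^ 2 ^ k = 1) : x = 1 :=
  Transfer.eq_one_of_pow_pow_eq_one_of_coprime h (Nat.coprime_two_right.2 ho)

theorem lift_real {G H : Type*} [Group G] [Finite G] [Group H] (f : G →* H)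
    (hf : Function.Surjective f) (hk : IsPGroup 2 f.ker) {y : H} (h1 : y ≠ 1) (ho : Odd (orderOf y))
    (hc : IsConj y y⁻¹) : ∃ x : G, x ≠ 1 ∧ Odd (orderOf x) ∧ IsConj x x⁻¹ := by
  obtain ⟨x₀, rfl⟩ := hf y
  obtain ⟨a, ha, x, -, ⟨k, hk'⟩, hx, rfl⟩ := Transfer.exists_p_part_mul_p'_part (p := 2) x₀
  have hfa : f a = 1 := eq_one_of_odd (k := k)
    (ho.of_dvd_nat (orderOf_dvd_of_mem_zpowers (MonoidHom.map_zpowers f _ ▸ mem_map_of_mem f ha)))
    (by rw [← map_pow, hk', map_one])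
  rw [map_mul, hfa, one_mul] at h1 hc
  have hcop : (Nat.card (zpowers x)).Coprime (Nat.card f.ker) := by
    obtain ⟨j, hj⟩ := IsPGroup.iff_card.1 hk
    rw [Nat.card_zpowers, hj]
    exact hx.pow_right j
  obtain ⟨c, hc⟩ := isConj_iff.1 hc
  have h2 : c ∈ normalizer (((zpowers x).map f : Subgroup H) : Set H) := by
    have := Finite.of_surjective f hf
    refine Transfer.mem_normalizer_of_conj_le ?_
    rw [MonoidHom.map_zpowers, Transfer.conj_zpowers, hc, zpowers_inv]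
  rw [Coprime.normalizer_map_of_surjective f hf hcop (Or.inl inferInstance)] at h2
  obtain ⟨g, hg, rfl⟩ := h2
  refine ⟨x, fun e => h1 (by rw [e, map_one]), Nat.coprime_two_right.1 hx, isConj_iff.2 ⟨g, ?_⟩⟩
  have h3 : g * x * g⁻¹ * x ∈ zpowers x ⊓ f.ker := by
    refine mem_inf.2 ⟨mul_mem ((hg x).1 (mem_zpowers x)) (mem_zpowers x), ?_⟩
    rw [MonoidHom.mem_ker, map_mul, map_mul, map_mul, map_inv, hc, inv_mul_cancel]
  rw [(disjoint_of_coprime_natCard hcop).eq_bot, mem_bot] at h3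
  exact eq_inv_of_mul_eq_one_left h3

/-- A finite group G has no non-identity element of odd order that is conjugate to its inverse if and only if the Sylow 2-subgroups of G are normal. -/
theorem result {G : Type*} [Group G] [Finite G] (P : Sylow 2 G) : (∀ x : G, x ≠ 1 → Odd (orderOf x) → ¬ IsConj x x⁻¹) ↔ (P : Subgroup G).Normal := by
  refine ⟨fun h => (Core.sylow_normal_iff_le_pCore P).2 ?_, fun h x h1 ho hc => ?_⟩
  · by_contra hn
    have h1 : (P : Subgroup G).map (QuotientGroup.mk' (pCore 2 G)) ≠ ⊥ := by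
      rwa [Ne, Subgroup.map_eq_bot_iff, QuotientGroup.ker_mk']
    obtain ⟨t, ht⟩ := exists_prime_orderOf_dvd_card' 2
      ((pgroup_dvd_card (P.isPGroup'.map _) h1).trans (card_subgroup_dvd_card _))
    obtain ⟨y, h2, h3, h4⟩ := Inv.exists_odd_inverted_of_not_mem_pCore (t := t)
      (by rw [← sq]; exact orderOf_dvd_iff_pow_eq_one.1 ht.dvd) (by
        rw [Core.pCore_quotient_pCore, mem_bot]
        rintro rfl
        simp at ht)
    obtain ⟨x, h5, h6, h7⟩ := lift_real _ (QuotientGroup.mk'_surjective (pCore 2 G))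
      (by rw [QuotientGroup.ker_mk']; exact Core.pCore_isPGroup 2 G) h2 h3 (isConj_iff.2 ⟨t, h4⟩)
    exact h x h5 h6 h7
  · obtain ⟨g, hg⟩ := isConj_iff.1 hc
    have h2 := odd_pow_conj hg (Nat.odd_iff.2 (Nat.two_dvd_ne_zero.1 P.not_dvd_index))
    have h3 := (P : Subgroup G).pow_index_mem g
    have h4 : x ^ 2 ∈ (P : Subgroup G) := by
      have := mul_mem (h.conj_mem _ h3 x) (inv_mem h3)
      rw [mul_assoc x, mul_assoc x, ← conj_inv, h2, inv_inv] at this
      rwa [sq]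
    obtain ⟨k, hk⟩ := P.isPGroup' ⟨_, h4⟩
    exact h1 (eq_one_of_odd ho (k := k + 1) (by
      rw [pow_succ', pow_mul]; exact congrArg Subtype.val hk))

end Cfsg.Agent.S3861
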