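import Cfsg.Statements.S3285
import Cfsg.Agent.Lib.W2.Main
import Cfsg.Agent.S2602

set_option autoImplicit false
open Cfsg

namespace Cfsg.Agent.S3285

section Alt
open Equiv Equiv.Perm
variable {α : Type*} [Fintype α] [DecidableEq α] {x : Perm α} {N : Subgroup (Perm α)}

omit [Fintype α] in
theorem comm_swap {f : Perm α} {u v : α} (h : f u = u ∧ f v = v ∨ f u = v ∧ f v = u) :
    Commute f (swap u v) := by
  have := swap_apply_apply f u v
  rcases h with ⟨h1, h2⟩ | ⟨h1, h2⟩ <;> rw [h1, h2] at this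
  · exact mul_inv_eq_iff_eq_mul.1 this.symm
  · exact mul_inv_eq_iff_eq_mul.1 (this.symm.trans (swap_comm _ _))

theorem pair_mem (h6 : 6 ≤ Fintype.card α) (xx : ∀ a, x (x a) = a)
    (hN : ∀ y, sign y = 1 → Commute x y → y * y ∈ N) {a c : α} (ha : x a ≠ a) (hc : x c ≠ c)
    (h1 : c ≠ a) (h2 : c ≠ x a) : swap c (x c) * swap a (x a) ∈ N := by
  have h3 : x c ≠ x a := fun e => h1 (x.injective e)
  have h4 : x c ≠ a := fun e => h2 (by rw [← e, xx])
  obtain ⟨u, v, huv, hu, hv, h⟩ : ∃ u v, u ≠ v ∧ u ∉ ({a, x a, c, x c} : Finset α) ∧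
      v ∉ ({a, x a, c, x c} : Finset α) ∧ (x u = u ∧ x v = v ∨ x u = v ∧ x v = u) := by
    have hD : ∀ e, e ∉ ({a, x a, c, x c} : Finset α) → x e ∉ ({a, x a, c, x c} : Finset α) := by
      intro e he h
      apply he
      rw [← xx e]
      simp only [Finset.mem_insert, Finset.mem_singleton] at h ⊢
      rcases h with h | h | h | h <;> simp [h, xx]
    obtain ⟨e, he, f, hf, hef⟩ := Finset.one_lt_card.1 (show 1 < (({a, x a, c, x c} : Finset α)ᶜ).card by
      have := Finset.card_le_four (a := a) (b := x a) (c := c) (d := x c)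
      rw [Finset.card_compl]; omega)
    rw [Finset.mem_compl] at he hf
    by_cases e1 : x e = e
    · by_cases f1 : x f = f
      · exact ⟨e, f, hef, he, hf, .inl ⟨e1, f1⟩⟩
      · exact ⟨f, x f, Ne.symm f1, hf, hD f hf, .inr ⟨rfl, xx f⟩⟩
    · exact ⟨e, x e, Ne.symm e1, he, hD e he, .inr ⟨rfl, xx e⟩⟩
  simp only [Finset.mem_insert, Finset.mem_singleton, not_or] at hu hv
  set σ := swap a c * swap (x a) (x c) with hσ
  have c0 : Commute (swap a c) (swap (x a) (x c)) := comm_swap (.inl ⟨swap_apply_of_ne_of_ne ha h2.symm,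
    swap_apply_of_ne_of_ne h4 hc⟩)
  have c1 : Commute x σ := by
    have e1 := swap_apply_apply x a c
    have e2 := swap_apply_apply x (x a) (x c)
    rw [xx, xx] at e2
    rw [commute_iff_eq, ← mul_inv_eq_iff_eq_mul, show x * σ * x⁻¹ =
      x * swap a c * x⁻¹ * (x * swap (x a) (x c) * x⁻¹) by rw [hσ]; group, ← e1, ← e2, ← c0.eq]
  have σσ : σ * σ = 1 := by
    rw [hσ, mul_assoc, ← mul_assoc (swap (x a) _), ← c0.eq, mul_assoc, swap_mul_self, mul_one,
      swap_mul_self]
  have c2 : Commute σ (swap u v) := comm_swap (.inl (by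
    simp [hσ, swap_apply_of_ne_of_ne, hu, hv]))
  have c3 : Commute (swap a (x a)) (swap u v) := comm_swap (.inl (by
    simp [swap_apply_of_ne_of_ne, hu, hv]))
  have e3 : σ * swap a (x a) * σ = swap c (x c) := by
    have := swap_apply_apply σ a (x a)
    rw [inv_eq_of_mul_eq_one_right σσ] at this
    rw [← this]
    simp [hσ, swap_apply_of_ne_of_ne, ha.symm, h4.symm, h4, hc]
  have := hN (σ * swap a (x a) * swap u v) (by simp [hσ, h1.symm, h3.symm, ha.symm, huv])
    ((c1.mul_right (comm_swap (.inr ⟨rfl, xx a⟩))).mul_right (comm_swap h))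
  rwa [((c2.mul_left c3).symm.mul_mul_mul_comm _ _).symm.symm, swap_mul_self, mul_one, ← mul_assoc, e3] at this

theorem subinv_mem (h6 : 6 ≤ Fintype.card α) (xx : ∀ a, x (x a) = a)
    (hN : ∀ y, sign y = 1 → Commute x y → y * y ∈ N) (n : ℕ) : ∀ y : Perm α, y.support.card ≤ n →
    (∀ a, y (y a) = a) → (∀ a, y a = a ∨ y a = x a) → sign y = 1 → y ∈ N := by
  have step : ∀ (y : Perm α) (a : α), (∀ a, y (y a) = a) → (∀ b, b = a ∨ b = y a →
      (swap a (y a) * y) b = b) ∧ (∀ b, b ≠ a → b ≠ y a → (swap a (y a) * y) b = y b) := fun y a yy =>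
    ⟨by rintro b (rfl | rfl) <;> simp [yy], fun b h1 h2 => swap_apply_of_ne_of_ne
      (fun e => h2 (by rw [← e, yy])) fun e => h1 (y.injective e)⟩
  have step2 : ∀ (y : Perm α) (a : α), (∀ a, y (y a) = a) → (∀ a, y a = a ∨ y a = x a) →
      (∀ b, (swap a (y a) * y) ((swap a (y a) * y) b) = b) ∧
        ∀ b, (swap a (y a) * y) b = b ∨ (swap a (y a) * y) b = x b := fun y a yy h => by
    obtain ⟨h1, h2⟩ := step y a yy
    refine ⟨fun b => ?_, fun b => ?_⟩ <;> by_cases c : b = a ∨ b = y a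
    · rw [h1 b c, h1 b c]
    · push Not at c
      rw [h2 b c.1 c.2, h2 (y b) (fun e => c.2 (by rw [← e, yy])) (fun e => c.1 (y.injective e)), yy]
    · exact .inl (h1 b c)
    · push Not at c
      rw [h2 b c.1 c.2]
      exact h b
  induction n with
  | zero => exact fun y h _ _ _ => card_support_eq_zero.1 (Nat.le_zero.1 h) ▸ one_mem N
  | succ n ih =>
    intro y hy yy h hs
    rcases eq_or_ne y 1 with rfl | y1
    · exact one_mem N
    obtain ⟨a, ha⟩ : ∃ a, y a ≠ a := not_forall.1 fun c => y1 (Equiv.ext c)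
    obtain ⟨h1, h2⟩ := step2 y a yy h
    set z := swap a (y a) * y with hz
    have sz : sign z = -1 := by simp [hz, hs, ha.symm]
    obtain ⟨c, hc⟩ : ∃ c, z c ≠ c := not_forall.1 fun c => by
      rw [show z = 1 from Equiv.ext c] at sz
      simp at sz
    obtain ⟨h3, h4⟩ := step2 z c h1 h2
    have h5 := ih _ (by
      have := card_support_swap_mul hc
      have := card_support_swap_mul ha
      rw [← hz] at this
      omega) h3 h4 (by simp [sz, hc.symm])
    have e1 := (h a).resolve_left ha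
    have e2 := (h2 c).resolve_left hc
    have h6 := pair_mem h6 xx hN (e1 ▸ ha) (e2 ▸ hc) (fun e => hc ((step y a yy).1 c (.inl e)))
      fun e => hc ((step y a yy).1 c (.inr (e.trans e1.symm)))
    rw [e2, hz, e1, ← mul_assoc] at h5
    exact (mul_mem_cancel_left h6).1 h5

end Alt

open Subgroup Cfsg.Lib Cfsg.Lib.BG Cfsg.Lib.GW Cfsg.Lib.JR Cfsg.Lib.Ab Cfsg.Lib.Transfer Cfsg.Lib.Small
  Cfsg.Lib.W2
open scoped Cfsg.Lib.Transfer MatrixGroups

set_option maxRecDepth 10000 in
theorem a4 : ∀ y : alternatingGroup (Fin 4), y * y = 1 ∨ y * y * (y * y) * (y * y) = 1 := by decide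

theorem four {G : Type*} [Group G] [Finite G] (hns : ¬ Group.IsSolvable G) (hG : pResidual 2 G = ⊤)
    {J : G} {T : Subgroup G} (j : JRS (ZMod 3) J T T) :
    ∃ (F : Type) (_ : Field F) (_ : Fintype F), Fintype.card F = 8 ∧ Nonempty (G ≃* MulAut PSL(2, F)) := by
  have := Fact.mk Nat.prime_two
  obtain ⟨S, hJ⟩ := j.exists_syl
  have hS := Syl.of_sylow_top S
  have h8 := j.syl_card hS hJ
  have hE := j.syl_elem hS hJ
  obtain ⟨y, hy⟩ := sing_of_eight hG hS hE h8
  have dp : DP (zpowers J) T 𝐂[J] := ⟨le_cent_iff.2 j.dp.2.2.1, j.dp.2.2.2.1, j.dp.2.2.2.2⟩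
  have h24 : Nat.card 𝐂[J] = 24 := by
    rw [← dp.card, Nat.card_zpowers, j.ord, Nat.card_congr j.iso.some.toEquiv,
      PSL2.card_psl_of_eq (q := 3) (n := 12) (by simp) (by decide)]
  have odd : ∀ X : Subgroup G, X.Normal → Odd (Nat.card X) → X = ⊥ := fun X hn ho => by
    have h1 : X ⊓ 𝐂[J] = ⊥ := by
      have h2 : X ⊓ 𝐂[J] ≤ T := PiGrp.le_of_relIndex (π := {2}ᶜ)
        (pi_odd_iff.2 (odd_of_le ho inf_le_left)) inf_le_right dp.nml_right.norm (by
          rw [dp.symm.sd.relIndex_left, Nat.card_zpowers, j.ord, compl_compl]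
          exact PiNat.of_prime Nat.prime_two rfl)
      have := le_Od ⟨h2, norm_inf le_normalizer_of_normal (le_norm_of_le dp.right_le)⟩
        (odd_of_le ho inf_le_left)
      rwa [Od, pcore_p'_eq, j.core_N, Subgroup.map_bot, le_bot_iff] at this
    refine le_bot_iff.1 (coprime_abelian_gen_cent1 hE.1 (not_cyclic_of_sq (fun v hv => by
      rw [← pow_two]; exact hE.2 v hv) (by omega)) le_normalizer_of_normal
      (h8 ▸ (Nat.coprime_two_left.2 ho).pow_left 3) fun a ha a1 => ?_)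
    obtain ⟨g, -, rfl⟩ := hy.trans J hJ j.t1 a ha a1
    have : X ⊓ 𝐂[g * J * g⁻¹] = g ⋆ (X ⊓ 𝐂[J]) := by
      rw [conj_inf, conj_eq_self_of_normal g X, conj_cent1]
    rw [this, h1]
    exact (Subgroup.map_bot _).le
  obtain ⟨M, hMn, JM, Mle, Mle'⟩ : ∃ M : Subgroup G, M.Normal ∧ J ∈ M ∧
      (∀ N : Subgroup G, N.Normal → J ∈ N → M ≤ N) ∧ ∀ N, (∀ x, orderOf x = 2 → x ∈ N) → M ≤ N :=
    ⟨normalClosure {J}, inferInstance, subset_normalClosure (Set.mem_singleton J),
      fun N _ h => normalClosure_le_normal (Set.singleton_subset_iff.2 h),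
      fun N h => (closure_le _).2 fun z hz => by
        obtain ⟨_, rfl, hc⟩ := Group.mem_conjugatesOfSet_iff.1 hz
        obtain ⟨g, rfl⟩ := isConj_iff.1 hc
        exact h _ ((ord_cj g _).trans j.ord)⟩
  have inv : ∀ x, orderOf x = 2 → x ∈ M := fun x hx => by
    obtain ⟨g, rfl⟩ := hy.exists_conj hS j.ord hx
    exact hMn.conj_mem _ JM g
  have hSM : (S : Subgroup G) ≤ M := fun x hx => by
    rcases eq_or_ne x 1 with rfl | x1
    · exact one_mem M
    · exact inv x (orderOf_eq_prime (hE.2 x hx) x1)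
  have ev : ∀ N : Subgroup G, ¬ Odd (Nat.card N) → ∃ x ∈ N, orderOf x = 2 := fun N h => by
    obtain ⟨x, hx⟩ := exists_prime_orderOf_dvd_card' (G := N) 2 (Nat.not_odd_iff_even.1 h).two_dvd
    exact ⟨x, x.2, (orderOf_coe x).trans hx⟩
  have key : ∀ N : Subgroup G, N.Normal → N ≠ ⊥ → M ≤ N := fun N hn h1 => by
    obtain ⟨x, hx, ox⟩ := ev N fun c => h1 (odd N hn c)
    obtain ⟨g, e⟩ := hy.exists_conj hS ox j.ord
    exact Mle N hn (e ▸ hn.conj_mem x hx g)
  have hM : pResidual 2 M = ⊤ := by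
    by_cases c : (pResidual 2 M).map M.subtype = ⊥
    · exfalso
      have h1 := pResidual_eq_bot_iff.1 ((map_eq_bot_iff_of_injective _ M.subtype_injective).1 c)
      have h2 : Group.IsSolvable M := pgroup_sol h1
      have h3 : Group.IsSolvable (G ⧸ M) := PF.isSolvable_of_odd _ (Nat.not_even_iff_odd.1 fun c =>
        not_dvd_index_of_sylow_le S hSM c.two_dvd)
      exact hns (Group.isSolvable_of_ker_le_range M.subtype (QuotientGroup.mk' M) (by simp))
    · exact top_le_iff.1 fun x _ => (mem_map_iff_mem M.subtype_injective).1 (key _ inferInstance c x.2)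
  have hS' : Syl 2 ((S : Subgroup G).subgroupOf M) ⊤ := by
    rw [← subgroupOf_self M]
    exact (Hall.subgroupOf_iff le_rfl hSM).2 (hS.of_le hSM le_top)
  have h8' : Nat.card ((S : Subgroup G).subgroupOf M) = 8 := by
    rw [Nat.card_congr (subgroupOfEquivOfLe hSM).toEquiv, h8]
  obtain ⟨y', hy'⟩ := sing_of_eight hM hS' ⟨⟨⟨fun a b => Subtype.ext (Subtype.ext
    (j.ab _ S.isPGroup' _ a.2 _ b.2))⟩⟩, fun x hx => Subtype.ext (hE.2 _ hx)⟩ h8'
  have oJ : orderOf (⟨J, hSM hJ⟩ : M) = 2 := (orderOf_mk _ _).trans j.ord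
  have : Nontrivial M := (nontrivial_iff_ne_bot M).2 (ne_bot_of_mem (hSM hJ) j.t1)
  have : IsSimpleGroup M := ⟨fun N hn => (em _).imp_right fun h1 => by
    obtain ⟨x, ox⟩ := exists_prime_orderOf_dvd_card' (G := N) 2 (by
      by_contra c
      have h2 := le_Od (Nml.of_normal M N) (by
        rw [card_map_of_injective M.subtype_injective]
        exact Nat.odd_iff.2 (Nat.two_dvd_ne_zero.1 c))
      rw [odd (Od M) (Nml.top_iff.1 ⟨le_top, norm_pcore le_normalizer_of_normal _⟩) (odd_Od M)] at h2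
      exact h1 ((map_eq_bot_iff_of_injective _ M.subtype_injective).1 (le_bot_iff.1 h2)))
    have : M ≤ N.map M.subtype := Mle' _ fun z o => by
      obtain ⟨c, e⟩ := hy'.exists_conj (t := (x : M)) (s := ⟨_, inv _ o⟩) hS' ((orderOf_coe x).trans ox) ((orderOf_mk _ (inv _ o)).trans o)
      exact ⟨_, e ▸ hn.conj_mem _ x.2 c, rfl⟩
    exact top_le_iff.1 fun z _ => (mem_map_iff_mem M.subtype_injective).1 (this z.2)⟩
  have hnc : ¬ IsMulCommutative M := fun c => by
    letI : CommGroup M := { (inferInstance : Group M) with mul_comm := c.is_comm.comm }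
    have h1 := IsSimpleGroup.prime_card (α := M)
    rw [← (h1.eq_one_or_self_of_dvd 8 (h8 ▸ BG.card_dvd hSM)).resolve_left (by decide)] at h1
    exact absurd h1 (by decide)
  have hc : (𝐂[(⟨J, hSM hJ⟩ : M)]).map M.subtype = M ⊓ 𝐂[J] := by
    have := map_inf_cent1 M.subtype_injective ⊤ ⟨J, hSM hJ⟩
    rwa [top_inf_eq, ← MonoidHom.range_eq_map, range_subtype] at this
  have hc' := card_map_of_injective (K := 𝐂[(⟨J, hSM hJ⟩ : M)]) M.subtype_injective
  rw [hc] at hc'
  rcases walter hnc (j.ab.sub M) with ⟨K, _, _, -, ⟨i⟩⟩ | ⟨K, _, _, s, E, N, h5, j', -⟩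
  swap
  · exfalso
    rw [← Nat.card_eq_fintype_card] at h5
    obtain ⟨p, m, k, -, h, -⟩ := rt_of_jrs j' hM h5
    have h1 := Nat.le_of_dvd Nat.card_pos (BG.card_dvd (inf_le_right : M ⊓ 𝐂[J] ≤ _))
    have L := h.l2 oJ
    rw [h24, hc', (h.ri _ oJ).card, L.card] at h1
    have := Nat.mul_le_mul (Nat.mul_le_mul_left 2 h.eo.pos) (Nat.mul_le_mul (Nat.mul_le_mul
      (Nat.mul_le_mul_left 4 L.m_pos) L.k3) L.q5)
    omega
  have ho : ¬ Odd (Nat.card K) := fun ho => by
    have := (psl_syl_four ho ((j.ab.sub M).of_equiv i) (P := _) (by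
      have := hS'.map i.toMonoidHom
      rwa [map_top_of_surjective _ i.surjective] at this)).card_four
    rw [card_map_of_injective i.injective, h8'] at this
    omega
  have o : orderOf (i ⟨J, hSM hJ⟩) = 2 := (i.orderOf_eq _).trans oJ
  have h1 : Nat.card 𝐂[i ⟨J, hSM hJ⟩] = Nat.card ↥(M ⊓ 𝐂[J]) := by
    have := map_inf_cent1 (f := i.toMonoidHom) i.injective ⊤ ⟨J, hSM hJ⟩
    rw [top_inf_eq, map_top_of_surjective _ i.surjective, top_inf_eq] at this
    rw [hc', ← card_map_of_injective (f := i.toMonoidHom) i.injective, this]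
    rfl
  have h2 : Nat.card ↥(M ⊓ 𝐂[J]) = 8 := by
    obtain ⟨n, hn⟩ := (psl_two_cent ho o).exists_card_eq
    rw [← hS.eq_of_le_pgroup (le_inf hSM (j.syl_le S.isPGroup' hJ)) le_top
      (IsPGroup.of_card (h1 ▸ hn)), h8]
  have hK : Nat.card K = 8 := by
    have : CharP K 2 := by
      obtain ⟨n, hp, hn⟩ := FiniteField.card K (ringChar K)
      rw [Nat.card_eq_fintype_card, hn, Nat.not_odd_iff_even, even_iff_two_dvd] at ho
      rw [(Nat.prime_dvd_prime_iff_eq Nat.prime_two hp).1 (Nat.prime_two.dvd_of_dvd_pow ho)]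
      infer_instance
    obtain ⟨x, hx⟩ := PSL2.exists_mem_unipL_of_dvd_orderOf 2 o.symm.dvd
    rw [← PSL2.card_unipL x, ← PSL2.centralizer_of_mem_unipL hx (ne_one_of_ord o), h1, h2]
  have h504 : Nat.card PSL(2, K) = 504 := PSL2.card_psl_of_eq hK (by decide)
  have h3 : M ⊔ 𝐂[J] = ⊤ := top_le_iff.1 fun g _ => by
    have o' : orderOf (g * J * g⁻¹) = 2 := (ord_cj g J).trans j.ord
    obtain ⟨c, e⟩ := hy'.exists_conj (t := ⟨_, inv _ o'⟩) hS' ((orderOf_mk _ (inv _ o')).trans o') oJ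
    have e' : (c : G) * (g * J * g⁻¹) * (c : G)⁻¹ = J := congrArg Subtype.val e
    have h4 : (c : G) * g ∈ 𝐂[J] := mem_cent1.2 (by
      conv_rhs => rw [← e']
      group)
    have := mul_mem (mem_sup_left (inv_mem c.2) : _ ∈ M ⊔ 𝐂[J]) (mem_sup_right h4)
    rwa [inv_mul_cancel_left] at this
  have h4 := Coprime.card_sup_mul_card_inf (N := M) (A := 𝐂[J]) le_normalizer_of_normal
  rw [h3, card_top, h2, h24, Nat.card_congr i.toEquiv, h504] at h4
  rw [Nat.card_eq_fintype_card] at hK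
  obtain ⟨φ, h5, -, h6⟩ := S2602.result (F := K) (p := 2) (f := 3) (by decide) hK (by decide)
  have : IsSimpleGroup PSL(2, K) := i.symm.isSimpleGroup
  have h7 : Nat.card (MulAut PSL(2, K)) = 1512 := by
    have h8 : Function.Injective (MulAut.conj : PSL(2, K) →* _) := by
      rw [← MonoidHom.ker_eq_bot_iff, ← le_bot_iff,
        ← center_eq_bot_of_equiv i.symm (center_of_simple hnc)]
      exact fun x hx => mem_center_iff.2 fun g =>
        (mul_inv_eq_iff_eq_mul.1 (DFunLike.congr_fun (MonoidHom.mem_ker.1 hx) g)).symm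
    rw [card_eq_card_quotient_mul_card_subgroup (Inn _), ← Nat.card_congr (MonoidHom.ofInjective h8).toEquiv,
      h504, ← card_mul_index φ.ker, h6, index_ker, MonoidHom.range_eq_top.2 h5]
    simp
  have h9 : Function.Injective (MulAut.conjNormal : G →* MulAut M) := by
    rw [← MonoidHom.ker_eq_bot_iff]
    by_contra c
    refine hnc ⟨⟨fun a b => Subtype.ext ?_⟩⟩
    simpa [mul_inv_eq_iff_eq_mul] using
      congrArg Subtype.val (DFunLike.congr_fun (MonoidHom.mem_ker.1 (key _ inferInstance c a.2)) b)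
  have : Finite (MulAut PSL(2, K)) := Nat.finite_of_card_ne_zero (by omega)
  exact ⟨K, inferInstance, inferInstance, hK, ⟨MulEquiv.ofBijective
    ((MulAut.congr i).toMonoidHom.comp MulAut.conjNormal)
    (((MulAut.congr i).injective.comp h9).bijective_of_nat_card_le (by omega))⟩⟩


/-- Let G be a finite non-solvable group with no normal subgroup of index 2, and J an involution lying in the centre of a Sylow 2-subgroup of G whose centralizer is the internal direct product of ⟨J⟩ with a subgroup isomorphic to the alternating group of degree m. Then either m = 4 and G is isomorphic to the automorphism group PΓL(2, 8) of PSL(2, 8), or m = 5 and G is isomorphic to the first Janko group. -/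
theorem result {G : Type*} [Group G] [Finite G] (hns : ¬ Group.IsSolvable G) (h2 : ∀ N : Subgroup G, N.Normal → N.index ≠ 2)
    (J : G) (hJ : Cfsg.IsTwoCentralInvolution J) (m : ℕ) (T : Subgroup G)
    (hT : Nonempty (↥T ≃* ↥(alternatingGroup (Fin m))))
    (hd : Cfsg.IsInternalDirectProduct (Subgroup.zpowers J) T (Subgroup.centralizer ({J} : Set G))) :
    (m = 4 ∧ ∃ (F : Type) (_ : Field F) (_ : Fintype F), Fintype.card F = 8 ∧
        Nonempty (G ≃* MulAut (Matrix.ProjectiveSpecialLinearGroup (Fin 2) F))) ∨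
      (m = 5 ∧ Cfsg.Spor.IsoJ1 G) := by
  have hG : pResidual 2 G = ⊤ := pResidual_eq_top_iff.2 h2
  obtain ⟨ht, S, hS, hc⟩ := id hJ
  obtain ⟨e⟩ := hT
  have dp : DP (zpowers J) T 𝐂[J] := ⟨le_cent_iff.2 hd.2.2.1, hd.2.2.2.1, hd.2.2.2.2⟩
  have hSC : (S : Subgroup G) ≤ 𝐂[J] := fun x hx => mem_cent1.2 (hc x hx)
  have JT : J ∉ T := fun c => ne_one_of_ord ht (mem_bot.1 (dp.inf.le ⟨mem_zpowers J, c⟩))
  have hi : T.relIndex 𝐂[J] = 2 := by rw [dp.symm.sd.relIndex_left, Nat.card_zpowers, ht]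
  have sq : ∀ c ∈ 𝐂[J], c * c ∈ T := fun c h =>
    mem_subgroupOf.1 (mul_self_mem_of_index_two hi (⟨c, h⟩ : 𝐂[J]))
  obtain ⟨g, hg⟩ := exists_conj_mem_of_thompson_transfer hG S (Q := T) (((Nat.dvd_prime Nat.prime_two).1
    ((relIndex_dvd_of_norm hSC dp.nml_right.norm).trans hi.dvd)).resolve_left fun c => JT (relIndex_eq_one.1 c hS))
    (u := J) (ht ▸ pow_orderOf_eq_one J)
  have o : orderOf (e ⟨_, hg⟩) = 2 := by rw [e.orderOf_eq, orderOf_mk, ord_cj, ht]
  have m4 : 4 ≤ m := by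
    by_contra c
    have : ∀ y : alternatingGroup (Fin m), y * y = 1 → y = 1 := by
      have : m ≤ 3 := by omega
      interval_cases m <;> decide
    exact ne_one_of_ord o (this _ (sq_of_ord o))
  have m5 : m ≤ 5 := by
    by_contra c
    have xx : ∀ a, (e ⟨_, hg⟩).1 ((e ⟨_, hg⟩).1 a) = a := fun a =>
      DFunLike.congr_fun (congrArg Subtype.val (sq_of_ord o)) a
    obtain ⟨_, ⟨z, hz, rfl⟩, h⟩ := subinv_mem
      (N := (((g ⋆ T).subgroupOf T).map e.toMonoidHom).map (alternatingGroup (Fin m)).subtype)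
      (by rw [Fintype.card_fin]; omega) xx (fun y hy h => by
        obtain ⟨z, hz⟩ := e.surjective ⟨y, hy⟩
        obtain rfl : y = (e z).1 := by rw [hz]
        refine ⟨_, ⟨z * z, mem_subgroupOf.2 (mem_conj.2 ?_), rfl⟩, by simp⟩
        have h1 : (⟨_, hg⟩ : T) * z = z * ⟨_, hg⟩ := e.injective (by
          rw [map_mul, map_mul]; exact Subtype.ext h)
        have h2 : g * J * g⁻¹ * z = z * (g * J * g⁻¹) := congrArg Subtype.val h1
        have := sq (g⁻¹ * z * g) (mem_cent1.2 (by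
          calc _ = g⁻¹ * (z * (g * J * g⁻¹)) * g := by group
            _ = _ := by rw [← h2]; group))
        simpa [mul_assoc] using this) _ _ le_rfl xx (fun _ => .inr rfl) (e ⟨_, hg⟩).2
    obtain rfl : z = ⟨_, hg⟩ := e.injective (Subtype.ext h)
    exact JT (conj_mem_conj.1 (mem_subgroupOf.1 hz))
  obtain rfl | rfl : m = 4 ∨ m = 5 := by omega
  · obtain ⟨i⟩ := PSL2.equiv_psl_alt_four (F := ZMod 3) (by simp)
    refine .inl ⟨rfl, four hns hG ⟨ab2_of_sylow S ?_, ht, hd, le_rfl, le_norm T, ?_, by simp; decide,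
      ⟨e.trans i.symm⟩⟩⟩
    · have h1 : ∀ x : S, x * x = 1 := fun x => by
        obtain ⟨a, ha, b, hb, h⟩ := dp.mem (hSC x.2)
        have ab : Commute a b := le_cent_iff.1 dp.cent a ha b hb
        have aa : a * a = 1 := by
          rcases (Inv.mem_zpowers_iff_of_mul_self (sq_of_ord ht)).1 ha with rfl | rfl
          · exact one_mul 1
          · exact sq_of_ord ht
        have h4 : (x : G) * x = b * b := by rw [← h, ab.symm.mul_mul_mul_comm, aa, one_mul]
        rcases a4 (e ⟨b, hb⟩) with c | c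
        · rw [← map_mul, map_eq_one_iff _ e.injective] at c
          exact Subtype.ext (h4.trans (congrArg Subtype.val c))
        · simp only [← map_mul, map_eq_one_iff _ e.injective] at c
          have c' : (x * x) ^ 3 = 1 := Subtype.ext (by
            rw [pow_three', coe_mul, coe_mul, coe_mul, h4]; exact congrArg Subtype.val c)
          obtain ⟨k, hk⟩ := S.isPGroup' (x * x)
          exact eq_one_of_pow_pow_eq_one_of_coprime hk
            ((by decide : Nat.Coprime 3 2).coprime_dvd_left (orderOf_dvd_of_pow_eq_one c'))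
      exact ⟨⟨fun a b => by
        rw [← inv_eq_of_mul_eq_one_right (h1 (a * b)), mul_inv_rev, inv_eq_of_mul_eq_one_right (h1 a),
          inv_eq_of_mul_eq_one_right (h1 b)]⟩⟩
    · have h1 := center_eq_bot_of_equiv (e.trans i.symm) (psl_center (by simp; decide))
      refine (eq_bot_iff_forall _).2 fun x hx => congrArg Subtype.val (mem_bot.1 (h1.le
        (mem_center_iff.2 fun y => Subtype.ext (mem_cent.1 hx.2 y y.2) : (⟨x, hx.1⟩ : T) ∈ center T)))
  · have e' : zpowers J ≃* Multiplicative (ZMod 2) :=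
      mulEquivOfPrimeCardEq (p := 2) ((Nat.card_zpowers J).trans ht) (by simp)
    exact .inr ⟨rfl, isoJ1_of_cent hG hJ ((MulEquiv.subgroupCongr dp.sup.symm).trans
      ((PF.prodEquivSup dp.inf hd.2.2.1).symm.trans (e'.prodCongr e)))⟩

end Cfsg.Agent.S3285
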