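import Cfsg.Statements.S2357
import Cfsg.Agent.Lib.Ree.Inst
import Cfsg.Agent.Lib.Ree.Orders

set_option autoImplicit false
open Cfsg

namespace Cfsg.Agent.S2357

/-- Let R be the small Ree group over the field with q = 3^(2m+1) ≥ 27 elements and write φ for Euler's totient function. Then R has exactly q²(q²−q+1) involutions, (q²−1)(q³+1) elements of order 3, and q²(q−1)(q³+1) elements of order 6 and as many of order 9; for i > 2 dividing q−1 it has φ(i)q³(q³+1)/2 elements of order i; for i > 1 dividing (q+1)/4 it has φ(i)q³(q−1)(q²−q+1)/6 elements of order i and φ(i)q³(q−1)(q²−q+1)/2 elements of order 2i; and for i > 1 dividing q − 3^(m+1) + 1 (respectively q + 3^(m+1) + 1) it has φ(i)q³(q²−1)(q + 3^(m+1) + 1)/6 (respectively φ(i)q³(q²−1)(q − 3^(m+1) + 1)/6) elements of order i. -/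
theorem result {K : Type*} [Field K] [Fintype K] {m : ℕ} (hm : 1 ≤ m)
    (hK : Fintype.card K = 3 ^ (2 * m + 1)) :
    Nat.card {g : ↥(Cfsg.Lie.twistedG2 K (3 ^ m)) // orderOf g = 2} = (3 ^ (2 * m + 1)) ^ 2 * ((3 ^ (2 * m + 1)) ^ 2 - 3 ^ (2 * m + 1) + 1) ∧
    Nat.card {g : ↥(Cfsg.Lie.twistedG2 K (3 ^ m)) // orderOf g = 3} = ((3 ^ (2 * m + 1)) ^ 2 - 1) * ((3 ^ (2 * m + 1)) ^ 3 + 1) ∧
    Nat.card {g : ↥(Cfsg.Lie.twistedG2 K (3 ^ m)) // orderOf g = 6} = (3 ^ (2 * m + 1)) ^ 2 * (3 ^ (2 * m + 1) - 1) * ((3 ^ (2 * m + 1)) ^ 3 + 1) ∧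
    Nat.card {g : ↥(Cfsg.Lie.twistedG2 K (3 ^ m)) // orderOf g = 9} = (3 ^ (2 * m + 1)) ^ 2 * (3 ^ (2 * m + 1) - 1) * ((3 ^ (2 * m + 1)) ^ 3 + 1) ∧
    (∀ i : ℕ, 2 < i → i ∣ 3 ^ (2 * m + 1) - 1 →
      2 * Nat.card {g : ↥(Cfsg.Lie.twistedG2 K (3 ^ m)) // orderOf g = i} = Nat.totient i * (3 ^ (2 * m + 1)) ^ 3 * ((3 ^ (2 * m + 1)) ^ 3 + 1)) ∧
    (∀ i : ℕ, 1 < i → i ∣ (3 ^ (2 * m + 1) + 1) / 4 →
      6 * Nat.card {g : ↥(Cfsg.Lie.twistedG2 K (3 ^ m)) // orderOf g = i} =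
          Nat.totient i * (3 ^ (2 * m + 1)) ^ 3 * (3 ^ (2 * m + 1) - 1) * ((3 ^ (2 * m + 1)) ^ 2 - 3 ^ (2 * m + 1) + 1) ∧
        2 * Nat.card {g : ↥(Cfsg.Lie.twistedG2 K (3 ^ m)) // orderOf g = 2 * i} =
          Nat.totient i * (3 ^ (2 * m + 1)) ^ 3 * (3 ^ (2 * m + 1) - 1) * ((3 ^ (2 * m + 1)) ^ 2 - 3 ^ (2 * m + 1) + 1)) ∧
    (∀ i : ℕ, 1 < i → i ∣ 3 ^ (2 * m + 1) - 3 ^ (m + 1) + 1 →
      6 * Nat.card {g : ↥(Cfsg.Lie.twistedG2 K (3 ^ m)) // orderOf g = i} =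
        Nat.totient i * (3 ^ (2 * m + 1)) ^ 3 * ((3 ^ (2 * m + 1)) ^ 2 - 1) * (3 ^ (2 * m + 1) + 3 ^ (m + 1) + 1)) ∧
    (∀ i : ℕ, 1 < i → i ∣ 3 ^ (2 * m + 1) + 3 ^ (m + 1) + 1 →
      6 * Nat.card {g : ↥(Cfsg.Lie.twistedG2 K (3 ^ m)) // orderOf g = i} =
        Nat.totient i * (3 ^ (2 * m + 1)) ^ 3 * ((3 ^ (2 * m + 1)) ^ 2 - 1) * (3 ^ (2 * m + 1) - 3 ^ (m + 1) + 1)) := by
  obtain ⟨M, -⟩ := Lib.Ree.exists_model hK
  have hq := Lib.Ree.three_lt_card hm hK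
  have hr := Lib.Ree.sq_eq_three_mul hK
  rw [← hK, ← Nat.card_eq_fintype_card]
  revert M
  generalize Lie.twistedG2 K (3 ^ m) = G
  generalize 3 ^ (m + 1) = r at hr
  intro M
  have := M.finite
  have e : ∀ n, Nat.card {g : G // orderOf g = n} = {g : G | orderOf g = n}.ncard :=
    fun n => Nat.card_coe_set_eq _
  have e2 := Lib.PSL2.sq_sub_one_eq (Nat.card K)
  have e3 := Lib.Ree.ell_eq hr (by nlinarith)
  obtain ⟨t, h0, -, h1⟩ := M.exists_torH hq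
  obtain ⟨T, v, hv, -, h2, h3, -, h4⟩ := M.exists_torQ hq
  obtain ⟨s, s', h5, h6, h7, h8, h9, h10⟩ := M.exists_torE_pair hq hr
  simp only [e]
  refine ⟨M.ncard_order_two hq, ?_, ?_, ?_, fun i hi h => ?_, fun i hi h => ?_, fun i hi h => ?_,
    fun i hi h => ?_⟩
  · rw [M.ncard_of_three_dvd dvd_rfl, M.ncard_order_three, mul_comm]
  · rw [M.ncard_of_three_dvd (by decide), M.ncard_order_six, mul_comm]
  · rw [M.ncard_of_three_dvd (by decide), M.ncard_order_nine, mul_comm]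
  · have h11 : ¬ i ∣ 2 := fun e => by have := Nat.le_of_dvd two_pos e; omega
    have h12 : Nat.card t.T = Nat.card K - 1 := h0 ▸ M.card_H
    have h13 : 2 * t.N.index = Nat.card K ^ 3 * (Nat.card K ^ 3 + 1) :=
      Nat.eq_of_mul_eq_mul_right (show 0 < Nat.card K - 1 by omega) (by
        have := t.N.card_mul_index
        rw [show Nat.card t.N = _ from h1 ▸ M.card_N, M.card_G] at this
        linarith)
    rw [t.ncard_orderOf (· = i) (by rintro _ rfl; exact h11) fun g hg =>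
      M.mem_cl_of_orderOf_dvd t (by rwa [hg, h12]) (by rwa [hg]),
      Lib.Ree.ncard_orderOf_of_isCyclic (h0 ▸ M.isCyclic_H) (h12 ▸ h), ← mul_assoc, h13]
    ring
  · have h11 := T.index_mul (n := Nat.card K ^ 3 * (Nat.card K - 1) *
      (Nat.card K ^ 2 - Nat.card K + 1)) (by omega) h3 (by rw [M.card_G']; ring)
    have h12 : {x | x ∈ T.T ∧ orderOf x = 2}.ncard = 3 := by
      rw [← Lib.Inv.k4_card_ne_one (M.isKleinFour_ext hv), ← Nat.card_coe_set_eq]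
      exact Nat.card_congr (Equiv.subtypeEquivRight fun x => by
        rw [Set.mem_ofPred, h4, Lib.Inv.orderOf_eq_two_iff]; tauto)
    rw [T.ncard_orderOf_odd hi (h2 ▸ h), T.ncard_orderOf_two_mul hi (h2 ▸ h), h12]
    constructor <;> linear_combination i.totient * h11
  · have h11 := s.index_mul (n := Nat.card K ^ 3 * (Nat.card K ^ 2 - 1) * (Nat.card K + r + 1))
      Nat.card_pos h9 (by rw [M.card_G', e2, e3, h7]; ring)
    rw [s.ncard_orderOf_odd hi (h5 ▸ h7 ▸ h)]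
    linear_combination i.totient * h11
  · have h11 := s'.index_mul (n := Nat.card K ^ 3 * (Nat.card K ^ 2 - 1) * (Nat.card K - r + 1))
      Nat.card_pos h10 (by rw [M.card_G', e2, e3, h8]; ring)
    rw [s'.ncard_orderOf_odd hi (h6 ▸ h8 ▸ h)]
    linear_combination i.totient * h11

end Cfsg.Agent.S2357
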