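import Cfsg.Statements.S1233
import Cfsg.Agent.Lib.SR.Eight4
import Cfsg.Agent.Lib.Inv.QEight

set_option autoImplicit false
open Cfsg

namespace Cfsg.Agent.S1233

open Subgroup Cfsg.Lib Cfsg.Lib.BG Cfsg.Lib.SR
open scoped commutatorElement Cfsg.Lib.Transfer

theorem self_cent {G : Type*} [Group G] [Finite G] (hG : IsPGroup 2 G) {Q A Z : Subgroup G} {x y c : G}
    (hZ : Nat.card Z = 2) (hQ : Nat.card Q = 32) (hd : ∀ p ∈ Q, ∀ q ∈ Q, ⁅p, q⁆ ∈ Z) (hC : 𝐂(Q) ≤ Z)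
    (hZC : Z ≤ 𝐂(Q)) (h2 : ∀ a ∈ A, a * a = 1) (h8 : Nat.card A = 8) (hZA : Z ≤ A) (hA : A ≤ Q) (hx : x ∈ Q)
    (hy : y ∈ Q) (hxy : (𝐂(A) ⊓ 𝐂[x]) ⊓ 𝐂[y] ≤ 𝐂(Q)) (hc : c ∈ Q) (hcA : c ∉ A)
    (hcN : ∀ n ∈ 𝐍(Q), ⁅c, n⁆ ∈ Z) : 𝐂(A) ≤ A := by
  have AC : A ≤ 𝐂(A) := le_cent_iff.2 fun _ hx _ hy => sq_comm h2 hx hy
  have fx : ∀ {g v}, g ∈ 𝐂(Z) → v ∈ Z → g * v * g⁻¹ = v := fun hg hv => by
    rw [← mem_cent.1 hg _ hv, mul_inv_cancel_right]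
  have hQZ := cent_symm hZC
  let K : Subgroup G := ⟨⟨⟨{g | g ∈ 𝐂(A) ∧ ∀ q ∈ Q, ⁅q, g⁆ ∈ Z}, fun {g h} hg hh => ⟨mul_mem hg.1 hh.1,
    fun q hq => by rw [cm_right, fx (cent_anti hZA hg.1) (hh.2 q hq)]; exact mul_mem (hg.2 q hq) (hh.2 q hq)⟩⟩,
      one_mem _, by simp⟩, fun {g} hg => ⟨inv_mem hg.1, fun q hq => by
        rw [show ⁅q, g⁻¹⁆ = g⁻¹ * ⁅q, g⁆⁻¹ * g⁻¹⁻¹ by simp only [cdef]; group,
          fx (inv_mem (cent_anti hZA hg.1)) (inv_mem (hg.2 q hq))]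
        exact inv_mem (hg.2 q hq)⟩⟩
  have hK : A = K := eq_of_le_of_card_le (fun a ha => ⟨AC ha, fun q hq => hd q hq a (hA ha)⟩) (by
    have k : ∀ {q}, q ∈ Q → ∀ g ∈ K, ⁅g, q⁆ ∈ Z := fun hq g hg => by
      rw [← commutatorElement_inv]; exact inv_mem (hg.2 _ hq)
    have h1 := card_le_cm (k hx)
    have h3 := card_le_cm (X := K ⊓ 𝐂[x]) fun g hg => k hy g hg.1
    have h4 := card_le_of_le ((inf_le_inf_right _ (inf_le_inf_right _ (show K ≤ 𝐂(A) from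
      fun g hg => hg.1))).trans (hxy.trans hC))
    rw [hZ] at h1 h3 h4
    omega)
  have hQA : Q ≤ 𝐍(A) := norm_of_comm_le (commutator_le.2 fun a ha q hq => hZA (hd a (hA ha) q hq))
  have hsq : ∀ q ∈ Q, q * q ∈ Z := fun q hq => hC (mem_cent.2 fun p hp => cm_one.1 (by
    rw [cm_right, fx (hQZ hq) (hd p hp q hq), h2 _ (hZA (hd p hp q hq))]))
  by_contra h
  have := nil_of_le (hG.to_subgroup ⊤).isNilpotent (le_top (a := 𝐂(A) ⊔ Q))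
  obtain ⟨g, hg, hgA, hj⟩ := PGroup.exists_mem_not_mem_commutator_mem (le_sup_left (b := Q))
    (sup_le_norm_left (norm_cent hQA)) h
  have hgN := PGroup.mem_normalizer_of_commutator_mem fun q hq => hA (hj q (mem_sup_right hq))
  have hP : ∀ p ∈ A ⊔ zpowers c, ⁅p, g⁆ ∈ Z := fun p hp => by
    rcases (mem_sup_zp (hQA hc) (hZA (hsq c hc))).1 hp with e | e
    · exact cm_one.2 (mem_cent.1 hg p e) ▸ one_mem _
    · rw [show ⁅p, g⁆ = p * c⁻¹ * ⁅c, g⁆ * (p * c⁻¹)⁻¹ * ⁅p * c⁻¹, g⁆ by simp only [cdef]; group,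
        cm_one.2 (mem_cent.1 hg _ e), mul_one, fx (hQZ (hA e)) (hcN g hgN)]
      exact hcN g hgN
  have hPQ : A ⊔ zpowers c ≤ Q := sup_le hA (zpowers_le.2 hc)
  have cP := card_sup_zp (hQA hc) hcA (hZA (hsq c hc))
  refine hgA (hK.ge ⟨hg, fun q hq => by_contra fun h1 => h1 (hC ?_)⟩)
  have hw : ⁅q, g⁆ ∈ A := by rw [← commutatorElement_inv]; exact inv_mem (hj q (mem_sup_right hq))
  have e : g * q⁻¹ * g⁻¹ = q⁻¹ * ⁅q, g⁆ := by rw [cdef]; group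
  have h3 : q ∈ 𝐂[⁅q, g⁆] := by
    have h3 := fx (cent_anti hZA hg) (hsq _ (inv_mem hq))
    rw [← conj_mul, e] at h3
    refine mem_cent1.2 ?_
    calc _ = q * (q * (q⁻¹ * ⁅q, g⁆ * (q⁻¹ * ⁅q, g⁆))) * ⁅q, g⁆⁻¹ * q := by generalize ⁅q, g⁆ = w; group
      _ = _ := by rw [h3, inv_self (h2 _ hw)]; generalize ⁅q, g⁆ = w; group
  have h4 : A ⊔ zpowers c ≤ 𝐂[⁅q, g⁆] := fun p hp => by
    have h4 := fx (cent_anti hZA hg) (hd _ (inv_mem hq) _ (inv_mem (hPQ hp)))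
    rw [cm_conj, e, show g * p⁻¹ * g⁻¹ = p⁻¹ * ⁅p, g⁆ by rw [cdef]; group, cm_right,
      cm_one.2 (mem_cent.1 (hZC (hP p hp)) _ (mul_mem (inv_mem hq) (hA hw)))] at h4
    refine inv_mem_iff.1 (mem_cent1_symm (cent1_of_cm ?_))
    generalize ⁅q, g⁆ = w at h4 ⊢
    calc _ = q * (⁅q⁻¹ * w, p⁻¹⁆ * (p⁻¹ * 1 * p⁻¹⁻¹)) * ⁅q⁻¹, p⁻¹⁆⁻¹ * q⁻¹ := by simp only [cdef]; group
      _ = 1 := by rw [h4]; group
  refine le_cent1_iff.1 fun p hp => by_contra fun h5 => h5 ((mul_mem_cancel_right h3).1 (h4 ?_))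
  exact not_mul hPQ (by omega) hp hq (fun e => h5 (h4 e)) fun e => h1 (hP q e)

/-- Let S be a finite 2-group and Q a subgroup of order 32 generated by two elementwise-commuting subgroups Q₁, Q₂ each isomorphic to the quaternion group of order 8 (so Q = Q₁ ∗ Q₂). If C_S(Q) ≤ Q, then every section of S has 2-rank at most 4. -/
theorem result {S : Type*} [Group S] [Finite S] (hS : IsPGroup 2 S) (Q Q₁ Q₂ : Subgroup S) (e₁ : Q₁ ≃* QuaternionGroup 2) (e₂ : Q₂ ≃* QuaternionGroup 2) (hcomm : ∀ a ∈ Q₁, ∀ b ∈ Q₂, a * b = b * a) (hQ : Q₁ ⊔ Q₂ = Q) (hQ32 : Nat.card Q = 32) (hC : Subgroup.centralizer (Q : Set S) ≤ Q) : Cfsg.SectionalPRankLE 2 4 S := by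
  obtain ⟨f, hf, hf'⟩ := Inv.exists_hom_of_mulEquiv e₁
  obtain ⟨g, hg, hg'⟩ := Inv.exists_hom_of_mulEquiv e₂
  have hfg : ∀ a b, Commute (f a) (g b) := fun a b => hcomm _ ((hf' _).2 ⟨a, rfl⟩) _ ((hg' _).2 ⟨b, rfl⟩)
  let F := f.noncommCoprod g hfg
  have hF : ∀ a b, F (a, b) = f a * g b := fun _ _ => rfl
  have hn : Q₂ ≤ 𝐍(Q₁) := norm_of_cent (cent_symm (le_cent_iff.2 hcomm))
  have hQ' : ∀ q, q ∈ Q ↔ ∃ p, F p = q := fun q => by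
    simp only [← hQ, mem_sup_left_norm hn, hf', hg']
    exact ⟨fun ⟨_, ⟨a, rfl⟩, _, ⟨b, rfl⟩, e⟩ => ⟨(a, b), e⟩, fun ⟨p, e⟩ => ⟨_, ⟨p.1, rfl⟩, _, ⟨p.2, rfl⟩, e⟩⟩
  have mQ : ∀ p, F p ∈ Q := fun p => (hQ' _).2 ⟨p, rfl⟩
  have hz : g (.a 2) = f (.a 2) := by
    have h1 := PGroup.card_sup_mul_card_inf hn
    rw [hQ, hQ32, Inv.q8_card ⟨e₁⟩, Inv.q8_card ⟨e₂⟩] at h1
    obtain ⟨w, hw, w1⟩ := exists_ne_one (A := Q₁ ⊓ Q₂) fun e => by simp [e] at h1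
    have h2 : w * w = 1 := by
      rw [← pow_two, ← (show Nat.card ↥(Q₁ ⊓ Q₂) = 2 by omega)]
      exact congrArg Subtype.val (pow_card_eq_one' (x := (⟨w, hw⟩ : ↥(Q₁ ⊓ Q₂))))
    have k : ∀ {f : QuaternionGroup 2 →* S}, Function.Injective f → f (.a 2) ≠ 1 ∧ f (.a 2) * f (.a 2) = 1 :=
      fun hf => ⟨by rw [Ne, map_eq_one_iff _ hf]; decide, by rw [← map_mul, map_eq_one_iff _ hf]; decide⟩
    exact (Inv.q8_inv_unique ⟨e₂⟩ ((hg' _).2 ⟨_, rfl⟩) hw.2 (k hg).1 w1 (k hg).2 h2).trans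
      (Inv.q8_inv_unique ⟨e₁⟩ ((hf' _).2 ⟨_, rfl⟩) hw.1 (k hf).1 w1 (k hf).2 h2).symm
  have zo : orderOf (f (.a 2)) = 2 := by
    rw [orderOf_injective f hf]; exact orderOf_eq_prime (by decide) (by decide)
  have z2 := (Inv.ord_two_iff.1 zo).2
  have hZ : ∀ p : QuaternionGroup 2 × QuaternionGroup 2, p.1 * p.1 = 1 → p.2 * p.2 = 1 →
      F p ∈ zpowers (f (.a 2)) := fun p h1 h2 => by
    have k : ∀ a : QuaternionGroup 2, a * a = 1 → a = 1 ∨ a = .a 2 := by decide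
    refine mul_mem ?_ ?_
    · rcases k _ h1 with e | e <;> simp [e]
    · rcases k _ h2 with e | e <;> simp [e, hz]
  have one : ∀ p : QuaternionGroup 2 × QuaternionGroup 2, p = 1 ∨ p = (.a 2, .a 2) → F p = 1 := by
    rintro _ (rfl | rfl)
    exacts [map_one F, by rw [hF, hz, z2]]
  have ne : ∀ p : QuaternionGroup 2 × QuaternionGroup 2, p = (.a 2, 1) ∨ p = (1, .a 2) → F p ≠ 1 := by
    rintro _ (rfl | rfl) <;> simpa [hF, hz] using (Inv.ord_two_iff.1 zo).1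
  have cm : ∀ {p q}, F p ∈ 𝐂[F q] ↔ F ⁅p, q⁆ = 1 := fun {p q} => by
    rw [map_commutatorElement, cm_one, mem_cent1]
  have hZC : zpowers (f (.a 2)) ≤ 𝐂(Q) := zpowers_le.2 (mem_cent.2 fun q hq => by
    obtain ⟨p, rfl⟩ := (hQ' q).1 hq
    simpa [hF] using mem_cent1.1 (cm.2 (one ⁅p, (.a 2, 1)⁆ (by clear hq; revert p; decide))))
  have hCZ : 𝐂(Q) ≤ zpowers (f (.a 2)) := fun q hq => by
    obtain ⟨p, rfl⟩ := (hQ' q).1 (hC hq)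
    by_contra h
    obtain ⟨r, hr⟩ := (by decide : ∀ p : QuaternionGroup 2 × QuaternionGroup 2, ¬ (p.1 * p.1 = 1 ∧
      p.2 * p.2 = 1) → ∃ r : QuaternionGroup 2 × QuaternionGroup 2, ⁅p, r⁆ = (.a 2, 1) ∨
        ⁅p, r⁆ = (1, .a 2)) p fun e => h (hZ p e.1 e.2)
    exact ne _ hr (cm.1 (cent_le_cent1 (mQ r) hq))
  have hd : ∀ p ∈ Q, ∀ q ∈ Q, ⁅p, q⁆ ∈ zpowers (f (.a 2)) := fun p hp q hq => by
    obtain ⟨p, rfl⟩ := (hQ' p).1 hp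
    obtain ⟨q, rfl⟩ := (hQ' q).1 hq
    have k : ∀ a b : QuaternionGroup 2, ⁅a, b⁆ * ⁅a, b⁆ = 1 := by decide
    exact map_commutatorElement F p q ▸ hZ _ (k _ _) (k _ _)
  have hZQ : zpowers (f (.a 2)) ≤ Q := hZC.trans hC
  have cZ : Nat.card (zpowers (f (.a 2))) = 2 := by rw [Nat.card_zpowers, zo]
  obtain ⟨c, hc, hcZ, -, hcN⟩ := PGroup.exists_mem_not_mem_pow_mem (hS.to_subgroup 𝐍(Q))
    (hZQ.trans (le_norm Q)) (le_norm Q) le_rfl fun e => by have := card_le_of_le e; omega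
  have key : ∀ x y x' y' : QuaternionGroup 2 × QuaternionGroup 2, x * x = (.a 2, .a 2) → y * y = (.a 2, .a 2) →
      ⁅x, y⁆ = (.a 2, .a 2) → (∃ r : QuaternionGroup 2 × QuaternionGroup 2, ⁅x, r⁆ = (.a 2, 1)) →
      (∃ r : QuaternionGroup 2 × QuaternionGroup 2, ⁅x, r⁆ = 1 ∧ ⁅y, r⁆ = (.a 2, 1)) →
      ((𝐂[F x] ⊓ 𝐂[F y]) ⊓ 𝐂[F x']) ⊓ 𝐂[F y'] ≤ 𝐂(Q) →
      SectionalPRankLE 2 4 S ∨ c ∈ 𝐂[F x] ⊓ 𝐂[F y] := fun x y x' y' hx hy hxy ⟨r, hr⟩ ⟨s, hs, hs'⟩ h => by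
    have x2 : F x * F x = 1 := map_mul F x x ▸ one _ (Or.inr hx)
    have y2 : F y * F y = 1 := map_mul F y y ▸ one _ (Or.inr hy)
    have h1 : F x ∈ 𝐂(zpowers (f (.a 2))) := cent_symm hZC (mQ x)
    have h2 : F y ∈ 𝐂(zpowers (f (.a 2)) ⊔ zpowers (F x)) := by
      rw [cent_sup, cent_zpowers (F x)]
      exact ⟨cent_symm hZC (mQ y), mem_cent1_symm (cm.2 (one _ (Or.inr hxy)))⟩
    have h3 := sq_sup_zp (sq_sup_zp (E := zpowers (f (.a 2))) (fun e he => by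
      simpa using sq_sup_zp (E := ⊥) (by simp) (by simp) z2 e (by simpa)) h1 x2) h2 y2
    have h4 : 𝐂(zpowers (f (.a 2)) ⊔ zpowers (F x) ⊔ zpowers (F y)) ≤ 𝐂[F x] ⊓ 𝐂[F y] :=
      le_inf (cent_le_cent1 (mem_sup_left (mem_sup_right (mem_zpowers _))))
        (cent_le_cent1 (mem_sup_right (mem_zpowers _)))
    have h5 : Nat.card ↥(zpowers (f (.a 2)) ⊔ zpowers (F x) ⊔ zpowers (F y)) = 8 := by
      rw [card_sup_zp (cent_le_norm _ h2) (fun e => ne _ (Or.inl hs') (cm.1 ((sup_le (hZC.trans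
        (cent_le_cent1 (mQ s))) (zpowers_le.2 (cm.2 (one _ (Or.inl hs))))) e))) (y2 ▸ one_mem _),
        card_sup_zp (cent_le_norm _ h1) (fun e => ne _ (Or.inl hr) (cm.1 (cent_le_cent1 (mQ r) (hZC e))))
          (x2 ▸ one_mem _), cZ]
    refine or_iff_not_imp_right.2 fun h6 => sectional_of_sr' hS (sr_of_self8 hS h3 h5
      (self_cent hS cZ hQ32 hd hCZ hZC h3 h5 (le_sup_left.trans le_sup_left) (sup_le (sup_le hZQ
        (zpowers_le.2 (mQ x))) (zpowers_le.2 (mQ y))) (mQ x') (mQ y') ((inf_le_inf_right _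
          (inf_le_inf_right _ h4)).trans h) hc (fun e => h6 (h4 ?_)) hcN))
    exact mem_cent.2 fun a ha => sq_comm h3 ha e
  have gen : ((𝐂[F (.a 1, .a 1)] ⊓ 𝐂[F (.xa 0, .xa 0)]) ⊓ 𝐂[F (.a 1, .xa 0)]) ⊓ 𝐂[F (.xa 0, .xa 1)] ≤ 𝐂(Q) :=
    fun v hv => by
      have k : ∀ p, p ∈ 𝐂[v].comap F := fun p => by
        obtain ⟨i, j, k, l, rfl⟩ := (by decide +kernel : ∀ p : QuaternionGroup 2 × QuaternionGroup 2,
          ∃ i j k l : Fin 4, p = (.a 1, .a 1) ^ i.1 * (.xa 0, .xa 0) ^ j.1 *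
            ((.a 1, .a 1)⁻¹ * (.a 1, .xa 0)) ^ k.1 * ((.xa 0, .xa 0)⁻¹ * (.xa 0, .xa 1)) ^ l.1) p
        have k1 := mem_comap.2 (mem_cent1_symm hv.1.1.1)
        have k2 := mem_comap.2 (mem_cent1_symm hv.1.1.2)
        exact mul_mem (mul_mem (mul_mem (pow_mem k1 _) (pow_mem k2 _)) (pow_mem (mul_mem (inv_mem k1)
          (mem_cent1_symm hv.1.2)) _)) (pow_mem (mul_mem (inv_mem k2) (mem_cent1_symm hv.2)) _)
      exact mem_cent.2 fun q hq => by obtain ⟨p, rfl⟩ := (hQ' q).1 hq; exact mem_cent1.1 (k p)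
  refine (key _ _ _ _ (by decide) (by decide) (by decide) (by decide) (by decide) gen).elim id fun h1 =>
    (key (.a 1, .xa 0) (.xa 0, .xa 1) _ _ (by decide) (by decide) (by decide) (by decide) (by decide)
      fun v hv => gen ⟨⟨⟨hv.1.2, hv.2⟩, hv.1.1.1⟩, hv.1.1.2⟩).elim id fun h2 =>
        absurd (hCZ (gen ⟨⟨h1, h2.1⟩, h2.2⟩)) hcZ

end Cfsg.Agent.S1233
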