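import Cfsg.Statements.S0214
import Cfsg.Agent.Lib.Inv.GenCore
import Cfsg.Agent.Lib.Inv.StronglyEmbedded

set_option autoImplicit false
open Cfsg

namespace Cfsg.Agent.S0214
open Cfsg.Lib.Inv

open Cfsg.Lib.Transfer

/-- Let H be a proper subgroup of the finite group G and P a nontrivial Sylow 2-subgroup of H. Then H is strongly embedded in G if and only if N_G(X) ≤ H for every nontrivial subgroup X of P. -/
theorem result {G : Type*} [Group G] [Finite G] (H : Subgroup G) (hH : H ≠ ⊤) (P : Sylow 2 ↥H) (hP : (P : Subgroup ↥H) ≠ ⊥) : Cfsg.IsStronglyEmbedded H ↔ (∀ X : Subgroup ↥H, X ≤ (P : Subgroup ↥H) → X ≠ ⊥ → Subgroup.normalizer ((X.map H.subtype : Subgroup G) : Set G) ≤ H) := by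
  have hT : IsPGroup 2 ((P : Subgroup H).map H.subtype) := P.isPGroup'.map _
  constructor
  · intro h X hX hX1
    have hXp : IsPGroup 2 (X.map H.subtype) := (P.isPGroup'.to_le hX).map _
    have hne : X.map H.subtype ≠ ⊥ := by
      rwa [Ne, Subgroup.map_eq_bot_iff_of_injective _ H.subtype_injective]
    obtain ⟨t, ht, ho⟩ := exists_involution_mem_of_isPGroup hXp hne
    exact se_normalizer_le_of_mem h (Subgroup.map_subtype_le X) ho ht
  · intro h
    have hne : (P : Subgroup H).map H.subtype ≠ ⊥ := by
      rwa [Ne, Subgroup.map_eq_bot_iff_of_injective _ H.subtype_injective]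
    obtain ⟨t, ht, ho⟩ := exists_involution_mem_of_isPGroup hT hne
    refine se_of_normalizers_le hH
      (even_card_of_involution_mem ho (Subgroup.map_subtype_le _ ht))
      (not_dvd_relIndex_map_sylow P) fun X hX _ hX1 => ?_
    have hXH : X ≤ H := hX.trans (Subgroup.map_subtype_le _)
    have e : (X.subgroupOf H).map H.subtype = X := Subgroup.map_subgroupOf_eq_of_le hXH
    have := h (X.subgroupOf H) ?_ ?_
    · rwa [e] at this
    · intro x hx
      obtain ⟨y, hy, hyx⟩ := hX (Subgroup.mem_subgroupOf.1 hx)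
      rwa [← Subtype.ext hyx]
    · intro h0
      apply hX1
      rw [← e, h0, Subgroup.map_bot]

end Cfsg.Agent.S0214
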