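import Cfsg.Statements.S2378
import Cfsg.Agent.Lib.Chev.HomoData
import Cfsg.Agent.Lib.Chev.AlgInst
import Cfsg.Agent.Lib.Chev.Types

set_option autoImplicit false
open Cfsg

namespace Cfsg.Agent.S2378

open Cfsg.Lib.Chev Cfsg.Lie

theorem aux {d n k m : ℕ} (h : d ^ k ∣ m) : Nat.gcd d n ^ k ∣ m :=
  (pow_dvd_pow_of_dvd (Nat.gcd_dvd_left _ _) _).trans h

/-- Sylow subgroups for primes away from the characteristic and the Weyl group. Let `G` be the Chevalley group of type G₂, B₂, D₄, F₄, E₆, E₇ or E₈ over a field with `q` elements, with the degrees of its Weyl group listed beside the type (their product is the order of the Weyl group), and let `r` be a prime dividing the order of `G`, not dividing `q` and not dividing the order of the Weyl group. Let `d` be the multiplicative order of `q` modulo `r`, `a` the number of degrees divisible by `d`, and `m` the `r`-part of the value at `q` of the `d`-th cyclotomic polynomial. Then every Sylow `r`-subgroup of `G` is homocyclic: a direct product of `a` cyclic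 groups of order `m` (in particular abelian). -/
theorem result {F : Type*} [Field F] [Fintype F] {q : ℕ} (hq : Fintype.card F = q)
    (c : Cfsg.Lie.ChevalleyDatum × List ℕ)
    (hc : c ∈ [(Cfsg.Lie.chevG2, [2, 6]), (Cfsg.Lie.chevB2, [2, 4]), (Cfsg.Lie.chevD4, [2, 4, 4, 6]), (Cfsg.Lie.chevF4, [2, 6, 8, 12]),
      (Cfsg.Lie.chevE6, [2, 5, 6, 8, 9, 12]), (Cfsg.Lie.chevE7, [2, 6, 8, 10, 12, 14, 18]), (Cfsg.Lie.chevE8, [2, 8, 12, 14, 18, 20, 24, 30])])
    (r : ℕ) [Fact r.Prime] (hrq : ¬ r ∣ q) (hrW : ¬ r ∣ c.2.prod) (hrG : r ∣ Nat.card ↥(c.1.group F)) (P : Sylow r ↥(c.1.group F)) :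
    Nonempty (↥(P : Subgroup ↥(c.1.group F)) ≃*
      (Fin (c.2.filter (fun e => orderOf (q : ZMod r) ∣ e)).length →
        Multiplicative (ZMod (r ^ padicValNat r ((Polynomial.cyclotomic (orderOf (q : ZMod r)) ℤ).eval (q : ℤ)).natAbs)))) := by
  have h0 : 0 < q := hq ▸ Fintype.card_pos
  simp only [List.mem_cons, List.not_mem_nil, or_false] at hc
  rcases hc with rfl | rfl | rfl | rfl | rfl | rfl | rfl
  · exact checkedG2.sylow_hc (by simp) (algG2 _) (isCartanG2 _) hcG2_ok hq
      ((poinG2 _ h0).trans (by simp [mul_assoc]))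
      (((kerDataG2 _).card_kerChr_finite (F := F)).dvd.trans (aux (by decide))) hrq hrW hrG P
  · exact checkedB2.sylow_hc (by simp) (algB2 _) (isCartanB2 _) hcB2_ok hq
      ((poinB2 _ h0).trans (by simp [mul_assoc]))
      (((kerDataB2 _).card_kerChr_finite (F := F)).dvd.trans (aux (by decide))) hrq hrW hrG P
  · exact checkedD4.sylow_hc (by simp) (algD4 _) (isCartanD4 _) hcD4_ok hq
      ((poinD4 _ h0).trans (by simp [mul_assoc]))
      (((kerDataD4 _).card_kerChr_finite (F := F)).dvd.trans (aux (by decide))) hrq hrW hrG P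
  · exact checkedF4.sylow_hc (by simp) (algF4 _) (isCartanF4 _) hcF4_ok hq
      ((poinF4 _ h0).trans (by simp [mul_assoc]))
      (((kerDataF4 _).card_kerChr_finite (F := F)).dvd.trans (aux (by decide))) hrq hrW hrG P
  · exact checkedE6.sylow_hc (by simp) (algE6 _) (isCartanE6 _) hcE6_ok hq
      ((poinE6 _ h0).trans (by simp [mul_assoc]))
      (((kerDataE6 _).card_kerChr_finite (F := F)).dvd.trans (aux (by decide))) hrq hrW hrG P
  · exact checkedE7.sylow_hc (by simp) (algE7 _) (isCartanE7 _) hcE7_ok hq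
      ((poinE7 _ h0).trans (by simp [mul_assoc]))
      (((kerDataE7 _).card_kerChr_finite (F := F)).dvd.trans (aux (by decide))) hrq hrW hrG P
  · exact checkedE8.sylow_hc (by simp) (algE8 _) (isCartanE8 _) hcE8_ok hq
      ((poinE8 _ h0).trans (by simp [mul_assoc]))
      (((kerDataE8 _).card_kerChr_finite (F := F)).dvd.trans (aux (by decide))) hrq hrW hrG P

end Cfsg.Agent.S2378
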