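import Cfsg.Statements.S0119
import Cfsg.Agent.Lib.PGroup.Critical

set_option autoImplicit false
open Cfsg

namespace Cfsg.Agent.S0119

/-- If a p'-group A of automorphisms of a p-group G satisfies G = [G, A] and acts trivially on every characteristic abelian subgroup, then G is special with centre equal to the fixed points of A. -/
theorem result {G : Type*} [Group G] [Finite G] {p : ℕ} [Fact p.Prime] (hG : IsPGroup p G) (A : Subgroup (MulAut G)) (hA : Nat.Coprime (Nat.card A) p) (hGA : Subgroup.closure {x : G | ∃ g : G, ∃ a ∈ A, x = g⁻¹ * a g} = ⊤) (hchar : ∀ H : Subgroup G, H.Characteristic → IsMulCommutative H → ∀ a ∈ A, ∀ h ∈ H, a h = h) : Cfsg.IsSpecial p G ∧ (∀ g : G, (g ∈ Subgroup.center G ↔ ∀ a ∈ A, a g = g)) := by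
  open Cfsg.Lib Cfsg.Lib.PGroup Subgroup in
  have h0 : ∀ H : Subgroup G, H.Characteristic → IsMulCommutative H → H ≤ center G := by
    intro H hH hc x hx
    have : (⊤ : Subgroup G) ≤ centralizer (H : Set G) := by
      rw [← hGA, closure_le]
      rintro _ ⟨g, a, ha, rfl⟩ y hy
      have h1 := hchar H hH hc a ha _ ((inferInstance : H.Normal).conj_mem y hy g)
      rw [map_mul, map_mul, map_inv, hchar H hH hc a ha y hy] at h1
      calc y * (g⁻¹ * a g) = g⁻¹ * (g * y * g⁻¹) * a g := by group
        _ = g⁻¹ * (a g * y * (a g)⁻¹) * a g := by rw [h1]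
        _ = g⁻¹ * a g * y := by group
    exact mem_center_iff.mpr fun g => (this (mem_top g) x hx).symm
  have h1 := frattini_le_center_of_char_abelian_le_center hG h0
  have h5 := commutator_le_frattini hG
  have h3 : ∀ g : G, (∀ a ∈ A, a g = g) → g ∈ _root_.commutator G := by
    intro g hg
    have hP := isPGroup_map_holL hG ⊤
    have h6 := Coprime.centralizer_inf_commutator_le (map_holR_le_normalizer_top A)
      (Coprime.coprime_card_of_isPGroup hP (by rwa [card_map_holR]))
    have h7 : ⁅(⊤ : Subgroup G).map (holL G), A.map (holR G)⁆ = (⊤ : Subgroup G).map (holL G) := by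
      rw [commutator_map_holL_map_holR]
      simp only [mem_top, true_and]
      rw [hGA]
    rw [h7, ← map_commutator] at h6
    exact (mem_map_iff_mem holL_injective).mp
      (h6 ⟨holL_mem_centralizer_iff.mpr hg, mem_map_of_mem _ (mem_top g)⟩)
  have h2 : ∀ g ∈ center G, ∀ a ∈ A, a g = g := fun g hg a ha =>
    hchar _ inferInstance inferInstance a ha g hg
  have h4 : center G ≤ _root_.commutator G := fun g hg => h3 g (h2 g hg)
  exact ⟨⟨hG, le_antisymm h1 (h4.trans h5), le_antisymm (h5.trans h1) h4⟩,
    fun g => ⟨h2 g, fun h => h1 (h5 (h3 g h))⟩⟩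

end Cfsg.Agent.S0119
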