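import Cfsg.Statements.S0349
import Cfsg.Agent.S1175
import Cfsg.Agent.Lib.BS.Cor
import Cfsg.Agent.Lib.BN.RankOne
import Cfsg.Agent.Lib.CIT.Orders
import Cfsg.Agent.Lib.PGroup.Basic

set_option autoImplicit false
open Cfsg

namespace Cfsg.Agent.S0349

open Subgroup Cfsg.Lib Cfsg.Lib.BN

/-- Let a finite simple group have a (B,N)-pair of rank one which is strongly split (`B = U (B ⊓ N)` with `U` nilpotent,
normal in `B` and meeting `N` trivially), with `[G : B]` and `|B ⊓ N|` odd. Then the group is isomorphic to `PSL₂(F)` with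
`|F|` a power of `2`, or is simple of Suzuki order, or is isomorphic to `PSU₃` realised over a field with `q²` elements,
`q = 2^n`, `n ≥ 2`. -/
theorem result {G : Type*} [Group G] [Finite G] [IsSimpleGroup G]
    (P : Cfsg.BNPair G) (hrank : P.rank = 1) (U : Subgroup G) (hUB : U ≤ P.B)
    (hUn : (U.subgroupOf P.B).Normal) (hUnil : Group.IsNilpotent U) (hsplit : U ⊔ (P.B ⊓ P.N) = P.B)
    (hdisj : U ⊓ P.N = ⊥) (hind : Odd P.B.index) (hH : Odd (Nat.card ↥(P.B ⊓ P.N))) :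
    (∃ (F : Type) (_ : Field F) (_ : Fintype F), (∃ n : ℕ, Fintype.card F = 2 ^ n) ∧ Nonempty (G ≃* Matrix.ProjectiveSpecialLinearGroup (Fin 2) F)) ∨
      Cfsg.IsSuzuki G ∨
      (∃ (F : Type) (_ : Field F) (_ : Fintype F) (n : ℕ), 2 ≤ n ∧ Fintype.card F = (2 ^ n) ^ 2 ∧
        Nonempty (G ≃* Cfsg.PSU 3 F (2 ^ n))) := by
  obtain ⟨s, hs⟩ := exists_simple_of_rank_one P hrank
  have sN : (s : G) ∈ P.N := P.subset s.2
  have sB := not_mem_B P s.2
  have hB : P.B ≠ ⊤ := fun h => sB (h ▸ mem_top _)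
  have hBU : P.B ≤ normalizer (U : Set G) := le_normalizer_of_normal_subgroupOf hUB
  have dec : ∀ b ∈ P.B, ∃ u ∈ U, ∃ h ∈ P.B ⊓ P.N, u * h = b := fun b hb => by
    rw [← hsplit, ← SetLike.mem_coe, coe_mul_of_right_le_normalizer_left _ _
      (inf_le_left.trans hBU)] at hb
    exact hb
  have key : ∀ z ∈ U, z ≠ 1 → (∀ u ∈ U, u * z = z * u) → ∀ g, g * z * g⁻¹ ∈ P.B → g ∈ P.B := by
    intro z hz z1 hc
    have h1 : ∀ g, g ∉ P.B → (g * z * g⁻¹ ∈ P.B ↔ (s : G)⁻¹ * z * s ∈ P.B) := fun g hg => by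
      obtain ⟨b, hb, b', hb', e⟩ :=
        (cell_sW s).eq_of ((hs g⁻¹).resolve_left fun h => hg (by simpa using h))
      obtain ⟨u, hu, h, hh, rfl⟩ := dec b hb
      have h2 : (s : G)⁻¹ * h * s * b' ∈ P.B :=
        mul_mem (by simpa using P.conj_mem _ (inv_mem sN) h hh) hb'
      have h3 : g * z * g⁻¹ = ((s : G)⁻¹ * h * s * b')⁻¹ * ((s : G)⁻¹ * z * s) *
          ((s : G)⁻¹ * h * s * b') := by
        rw [← inv_inv g, e]
        calc _ = (h * s * b')⁻¹ * (u⁻¹ * (z * u)) * (h * s * b') := by group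
          _ = _ := by rw [← hc u hu]; group
      rw [h3, mul_mem_cancel_right h2, mul_mem_cancel_left (inv_mem h2)]
    intro g hg
    by_contra hg'
    have h2 : z ∈ P.B.normalCore := fun b => by
      by_cases hb : b ∈ P.B
      · exact mul_mem (mul_mem hb (hUB hz)) (inv_mem hb)
      · exact (h1 b hb).2 ((h1 g hg').1 hg)
    rcases P.B.normalCore_normal.eq_bot_or_eq_top with h | h
    · exact z1 (by rwa [h] at h2)
    · exact hB (top_le_iff.1 (h ▸ P.B.normalCore_le))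
  have hi : Odd U.index := by
    rw [← relIndex_mul_index hUB]
    refine Odd.mul (hH.of_dvd_nat ?_) hind
    have : ((U.subgroupOf P.B) ⊔ (P.B ⊓ P.N).subgroupOf P.B) = ⊤ := by
      rw [← subgroupOf_sup hUB inf_le_left, hsplit, subgroupOf_self]
    rw [relIndex, ← relIndex_top_right, ← this, relIndex_sup_left,
      ← Nat.card_congr (subgroupOfEquivOfLe (inf_le_left : P.B ⊓ P.N ≤ P.B)).toEquiv]
    exact relIndex_dvd_card _ _
  have hU : 2 ∣ Nat.card U := by
    by_contra h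
    have h1 : Odd (Nat.card G) := by
      rw [← U.index_mul_card]; exact hi.mul (Nat.odd_iff.2 (by omega))
    obtain ⟨k, hk⟩ := Inv.exists_sq_pow_eq_of_odd (h1.of_dvd_nat (orderOf_dvd_natCard (s : G)))
    exact sB (hk ▸ pow_mem (P.sq_mem s s.2) k)
  obtain ⟨Q⟩ : Nonempty (Sylow 2 U) := inferInstance
  have hQ : (Q : Subgroup U).Normal := inferInstance
  have h1 := PGroup.normal_inf_center_ne_bot (Q : Subgroup U) (Q.ne_bot_of_dvd_card hU)
  obtain ⟨⟨z, hz⟩, h2⟩ := exists_prime_orderOf_dvd_card' (G := ↥((Q : Subgroup U) ⊓ center U)) 2 (by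
    obtain ⟨n, n0, h⟩ := (Q.isPGroup'.to_inf_left (K := center U)).nontrivial_iff_card.1
      ((nontrivial_iff_ne_bot _).2 h1)
    exact h ▸ dvd_pow_self 2 n0.ne')
  replace h2 : orderOf (z : G) = 2 := by simpa using h2
  obtain ⟨z2, z1⟩ := orderOf_eq_prime_iff.1 h2
  have hc : ∀ u ∈ U, u * z = z * u := fun u hu => congrArg Subtype.val (mem_center_iff.1 hz.2 ⟨u, hu⟩)
  obtain ⟨H, hH⟩ := S1175.result P.B hB z h2 (hUB z.2) ⟨(Q.isPGroup'.map U.subtype).toSylow (by
    rw [index_map_subtype]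
    exact fun h => ((Nat.Prime.dvd_mul Nat.prime_two).1 h).elim Q.not_dvd_index
      fun h => Nat.not_even_iff_odd.2 hi (even_iff_two_dvd.2 h)), ⟨z, hz.1, rfl⟩, by
    rintro _ ⟨u, -, rfl⟩
    exact hc u u.2⟩ (key z z.2 z1 hc) fun g h3 h4 x hx => by
      have h5 := key z z.2 z1 hc g (key z z.2 z1 hc _ (by
        rw [← h3.eq, mul_inv_cancel_right]; exact hUB z.2))
      have h6 := mem_normalizer_iff.1 (hBU h5)
      have h7 := mul_mem z.2 ((h6 z).1 z.2)
      refine key _ h7 (fun h => h4 ?_) (fun u hu => ?_) x ?_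
      · rw [eq_inv_of_mul_eq_one_right h, inv_eq_of_mul_eq_one_left (sq (z : G) ▸ z2)]
      · have h8 := hc (g⁻¹ * u * g) ((h6 _).2 (by simpa [mul_assoc] using hu))
        calc _ = u * z * (g * z * g⁻¹) := by group
          _ = z * g * (g⁻¹ * u * g * z) * g⁻¹ := by rw [hc u hu]; group
          _ = _ := by rw [h8]; group
      · rw [mem_centralizer_singleton_iff.1 hx, mul_inv_cancel_right]
        exact hUB h7
  rcases BS.isBender_of_se hH with ⟨F, _, _, n, -, hF, e⟩ | ⟨F, _, _, m, hm, hF, ⟨e⟩⟩ | h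
  · exact Or.inl ⟨F, _, _, ⟨n, hF⟩, e⟩
  · exact Or.inr (Or.inl ⟨inferInstance, m, hm, by rw [Nat.card_congr e.toEquiv, CIT.card_sz hF]; ring⟩)
  · exact Or.inr (Or.inr h)

end Cfsg.Agent.S0349
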