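import Cfsg.Statements.S0470
import Cfsg.Agent.Lib.M4.Th
import Cfsg.Agent.Lib.M4.He

set_option autoImplicit false
open Cfsg

namespace Cfsg.Agent.S0470

/-- In some simple group of the Monster's order there are elements of orders 3, 5 and 7 whose centralisers contain simple subgroups of the Thompson, Harada–Norton and Held orders respectively; the centraliser of the element of order 3 has order 3 · 90745943887872000. -/
theorem result : ∃ (G : Type) (_ : Group G) (_ : Finite G), Cfsg.IsM G ∧ (∃ x : G, orderOf x = 3 ∧ Nat.card (Subgroup.centralizer ({x} : Set G)) = 272237831663616000 ∧ ∃ K : Subgroup G, K ≤ Subgroup.centralizer ({x} : Set G) ∧ Cfsg.IsTh K) ∧ (∃ x : G, orderOf x = 5 ∧ ∃ K : Subgroup G, K ≤ Subgroup.centralizer ({x} : Set G) ∧ Cfsg.IsHN K) ∧ (∃ x : G, orderOf x = 7 ∧ ∃ K : Subgroup G, K ≤ Subgroup.centralizer ({x} : Set G) ∧ Cfsg.IsHe K) := by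
  obtain ⟨b, s, hs, o, h1, h2, -⟩ := Lib.M4.exists_Th
  obtain ⟨x, o5, K2, h3, ⟨e2⟩⟩ := Lib.M4.exists_five
  obtain ⟨y, o7, K3, h4, ⟨e3⟩⟩ := Lib.M4.exists_seven
  have e1 := (MonoidHom.ofInjective hs).symm
  have := S1700.result.1
  have := S1701.result.1
  have := S1695.result.1
  exact ⟨Lib.Griess.M1, inferInstance, inferInstance, ⟨inferInstance, Lib.Griess.card_M1⟩,
    ⟨b, o, h2, _, h1, e1.isSimpleGroup, (Nat.card_congr e1.toEquiv).trans S1700.result.2⟩,
    ⟨x, o5, K2, h3, e2.isSimpleGroup, (Nat.card_congr e2.toEquiv).trans S1701.result.2⟩,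
    y, o7, K3, h4, e3.isSimpleGroup, (Nat.card_congr e3.toEquiv).trans S1695.result.2⟩

end Cfsg.Agent.S0470
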