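import Cfsg.Statements.S0474
import Cfsg.Agent.Lib.M4.Th

set_option autoImplicit false
open Cfsg

namespace Cfsg.Agent.S0474

/-- Some simple group of order 4154781481226426191177580544000000 contains simple subgroups of the orders of the Thompson group, the Harada–Norton group and the Fischer group of order 4089470473293004800. -/
theorem result : ∃ (G : Type) (_ : Group G) (_ : Finite G), Cfsg.IsB G ∧ (∃ K : Subgroup G, Cfsg.IsTh K) ∧ (∃ K : Subgroup G, Cfsg.IsHN K) ∧ (∃ K : Subgroup G, Cfsg.IsFi23 K) := by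
  have h := Lib.Griess.short_eW 0 none
  obtain ⟨-, s, hs, -, -, -, d, o, hd⟩ := Lib.M4.exists_Th
  have := S1700.result.1
  obtain ⟨K1, ⟨e1⟩⟩ := Lib.M4.exists_BB' (by rw [S1700.result.2]; norm_num) hs h o hd (p := 31)
    (by rw [S1700.result.2]; norm_num) (by norm_num)
  obtain ⟨K2, ⟨e2⟩⟩ := Lib.M4.hn_BB h
  obtain ⟨K3, ⟨e3⟩⟩ := Lib.M4.fi23_BB h
  have := S1701.result.1
  have := Lib.Calc.Fi23.simple
  exact ⟨_, inferInstance, inferInstance, Lib.M3.isB_of_short h,
    ⟨K1, e1.isSimpleGroup, (Nat.card_congr e1.toEquiv).trans S1700.result.2⟩,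
    ⟨K2, e2.isSimpleGroup, (Nat.card_congr e2.toEquiv).trans S1701.result.2⟩,
    K3, e3.isSimpleGroup, (Nat.card_congr e3.toEquiv).trans Lib.Calc.Fi23.card⟩

end Cfsg.Agent.S0474
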