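import Cfsg.Statements.S0500
import Cfsg.Agent.Lib.H4.Main

set_option autoImplicit false
open Cfsg

namespace Cfsg.Agent.S0500

/-- A non-abelian finite simple group of sectional 2-rank at most 4 either has 2-rank at most 2, or is one of: a
group with the order of G₂(q) or ³D₄(q); PSp(4, q), q odd; a group with the order of a Ree group; PSL(4, q) with q odd
and q ≢ 1 mod 8; PSU(4, q) with q odd and q ≢ 7 mod 8; PSL(5, q) with q ≡ 3 mod 4; PSU(5, q) with q ≡ 1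
mod 4; PSL(2, 8), PSL(2, 16), PSL(3, 4), PSU(3, 4), PSL(4, 2), a simple group of order 29120; an alternating group of
degree 8, 9, 10 or 11; or a simple group with the order of one of eight sporadic groups. -/
theorem result {G : Type*} [Group G] [Finite G] [IsSimpleGroup G]
    (hG : ¬ IsMulCommutative G) (h4 : Cfsg.SectionalPRankLE 2 4 G) :
    Cfsg.PRankLE 2 2 G ∨ Cfsg.IsG2 G ∨ Cfsg.Is3D4 G ∨
      (∃ (F : Type) (_ : Field F) (_ : Fintype F), Odd (Fintype.card F) ∧ Nonempty (G ≃* Cfsg.PSp 2 F)) ∨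
      Cfsg.IsRee G ∨
      (∃ (F : Type) (_ : Field F) (_ : Fintype F), Odd (Fintype.card F) ∧ Fintype.card F % 8 ≠ 1 ∧ Nonempty (G ≃* Matrix.ProjectiveSpecialLinearGroup (Fin 4) F)) ∨
      (∃ (F : Type) (_ : Field F) (_ : Fintype F) (q : ℕ), Fintype.card F = q ^ 2 ∧ Odd q ∧ q % 8 ≠ 7 ∧ Nonempty (G ≃* Cfsg.PSU 4 F q)) ∨
      (∃ (F : Type) (_ : Field F) (_ : Fintype F), Fintype.card F % 4 = 3 ∧ Nonempty (G ≃* Matrix.ProjectiveSpecialLinearGroup (Fin 5) F)) ∨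
      (∃ (F : Type) (_ : Field F) (_ : Fintype F) (q : ℕ), Fintype.card F = q ^ 2 ∧ q % 4 = 1 ∧ Nonempty (G ≃* Cfsg.PSU 5 F q)) ∨
      (∃ (F : Type) (_ : Field F) (_ : Fintype F), (Fintype.card F = 8 ∨ Fintype.card F = 16) ∧ Nonempty (G ≃* Matrix.ProjectiveSpecialLinearGroup (Fin 2) F)) ∨
      (∃ (F : Type) (_ : Field F) (_ : Fintype F), Fintype.card F = 4 ∧ Nonempty (G ≃* Matrix.ProjectiveSpecialLinearGroup (Fin 3) F)) ∨
      (∃ (F : Type) (_ : Field F) (_ : Fintype F), Fintype.card F = 16 ∧ Nonempty (G ≃* Cfsg.PSU 3 F 4)) ∨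
      (∃ (F : Type) (_ : Field F) (_ : Fintype F), Fintype.card F = 2 ∧ Nonempty (G ≃* Matrix.ProjectiveSpecialLinearGroup (Fin 4) F)) ∨
      (Cfsg.IsSuzuki G ∧ Nat.card G = 29120) ∨
      (∃ n : ℕ, 8 ≤ n ∧ n ≤ 11 ∧ Nonempty (G ≃* alternatingGroup (Fin n))) ∨
      Cfsg.IsM12 G ∨ Cfsg.IsM22 G ∨ Cfsg.IsM23 G ∨ Cfsg.IsJ1 G ∨ Cfsg.IsJ2 G ∨ Cfsg.IsJ3 G ∨ Cfsg.IsMcL G ∨
      Cfsg.IsLy G := by
  open Lib.H4 in
  refine (concl' hG h4).imp_right (Or.imp (fun ⟨_, _, _, o, ⟨i⟩⟩ => isG2_of o i) (Or.imp (fun ⟨_, _, _, _, _, c, ⟨i⟩⟩ => is3D4_of c i)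
    (Or.imp_right (Or.imp isRee_of ?_))))
  iterate 8 refine Or.imp_right ?_
  open Lib.H4 in
  exact Or.imp (fun ⟨_, _, _, c, ⟨i⟩⟩ => isSz8_of c i) (Or.imp_right (Or.imp isM12_of (Or.imp isM22_of (Or.imp isM23_of
    (Or.imp isJ1_of (Or.imp isJ2_of (Or.imp isJ3_of (Or.imp isMcL_of isLy_of))))))))

end Cfsg.Agent.S0500
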