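import Cfsg.Statements.S0556
import Cfsg.Agent.Lib.Solv.CoreFree
import Cfsg.Agent.Lib.Frobenius.Theorem
import Cfsg.Agent.Lib.PLocal.FPF

set_option autoImplicit false
open Cfsg

namespace Cfsg.Agent.S0556

open Cfsg.Lib Cfsg.Lib.Core Subgroup

theorem commutator_le_of_sup {G : Type*} [Group G] {K A : Subgroup G} [K.Normal] [IsMulCommutative A]
    (h : K ⊔ A = ⊤) : commutator G ≤ K := by
  rw [commutator_def, commutator_le_iff_map_mk', ← h, sup_comm, map_mk'_sup,
    commutator_eq_bot_iff_le_centralizer, le_centralizer_iff_isMulCommutative]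
  infer_instance

theorem two_eq_bot {G : Type*} [Group G] {K : Subgroup G} [IsMulCommutative K]
    (h : commutator G ≤ K) : derivedSeries G 2 = ⊥ := by
  rw [derivedSeries_succ, derivedSeries_one, eq_bot_iff]
  exact (commutator_mono h h).trans (commutator_eq_bot_iff_le_centralizer.2
    (le_centralizer_iff_isMulCommutative.2 inferInstance)).le

/-- If a finite group has a maximal subgroup that is abelian, then the third term of its derived series is trivial (so the group is solvable of derived length at most three). -/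
theorem result {G : Type*} [Group G] [Finite G] (A : Subgroup G) (hA : IsCoatom A) [IsMulCommutative A] : derivedSeries G 3 = ⊥ := by
  by_cases hn : A.Normal
  · obtain ⟨x, hx⟩ := SetLike.exists_of_lt hA.lt_top
    have h1 : A ⊔ zpowers x = ⊤ := hA.2 _ (left_lt_sup.2 fun h => hx.2 (h (mem_zpowers x)))
    rw [derivedSeries_succ, two_eq_bot (commutator_le_of_sup h1), commutator_bot_left]
  have h1 : normalizer (A : Set G) = A := by_contra fun h =>
    hn (normalizer_eq_top_iff.1 (hA.2 _ (le_normalizer.lt_of_ne' h)))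
  have hZ : center G ≤ A := h1 ▸ center_le_normalizer _
  let f := QuotientGroup.mk' (center G)
  have hm : ∀ g, f g ∈ A.map f ↔ g ∈ A := fun g => by
    rw [← mem_comap, comap_map_mk', sup_eq_left.2 hZ]
  have hc := isCoatom_map_mk' hZ hA
  have hF : IsFrobeniusComplement (A.map f) := by
    refine (Frobenius.isFrobeniusComplement_iff _).2 ⟨fun e => hn ?_, hc.1, fun g hg h hh h2 => ?_⟩
    · rw [le_antisymm ((map_mk'_eq_bot_iff _ _).1 e) hZ]; infer_instance
    obtain ⟨g, rfl⟩ := QuotientGroup.mk'_surjective _ g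
    obtain ⟨h, hh, rfl⟩ := hh
    rw [← map_inv, ← map_mul, ← map_mul, hm] at h2
    refine (QuotientGroup.eq_one_iff _).2 (mem_center_iff.2 fun y => mem_centralizer_singleton_iff.1 ?_)
    have h3 : A ≤ centralizer {h} := fun a ha => mem_centralizer_singleton_iff.2 (setLike_mul_comm ha hh)
    rw [hA.2 _ (h3.lt_of_ne fun e => hg ((hm g).2 ?_))]
    · trivial
    rw [← inv_mem_iff, ← h1]
    refine mem_normalizer_of_map_conj_le (Transfer.conj_le_iff.2 fun a ha => ?_)
    rw [e, mem_centralizer_singleton_iff]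
    calc g⁻¹ * a * g⁻¹⁻¹ * h = g⁻¹ * (a * (g * h * g⁻¹)) * g := by group
      _ = h * (g⁻¹ * a * g⁻¹⁻¹) := by rw [setLike_mul_comm ha h2]; group
  obtain ⟨K, hK, -, h2, h3, h4⟩ := Frobenius.exists_kernel hF
  have h5 := Solv.centralizer_eq_of_coreFree hc (eq_bot_iff.2 fun x hx => by
    obtain ⟨g, hg⟩ := SetLike.exists_of_lt hc.lt_top
    exact ((Frobenius.isFrobeniusComplement_iff _).1 hF).2.2 g hg.2 x (normalCore_le _ hx) (hx g)) hK h2
    (PLocal.isNilpotent_of_fpf le_normalizer_of_normal hF.1 h4)
  have := le_centralizer_iff_isMulCommutative.1 h5.1.ge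
  have h6 := two_eq_bot (commutator_le_of_sup h3)
  rw [← map_derivedSeries_eq (QuotientGroup.mk'_surjective _), map_mk'_eq_bot_iff] at h6
  rw [derivedSeries_succ, commutator_eq_bot_iff_le_centralizer]
  exact h6.trans (center_le_centralizer _)

end Cfsg.Agent.S0556
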