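import Cfsg.Statements.S0648
import Cfsg.Agent.Lib.PLocal.Replacement

set_option autoImplicit false
open Cfsg

namespace Cfsg.Agent.S0648

open Cfsg.Lib.PLocal Subgroup in
open scoped commutatorElement in
theorem closure_eq {G : Type*} [Group G] (A : Subgroup G) (b : G) :
    Subgroup.closure {g : G | ∃ a ∈ A, g = b⁻¹ * a * b * a⁻¹} = commElt A b⁻¹ := by
  refine le_antisymm ((closure_le _).mpr ?_) (commElt_le_iff.mpr fun a ha => ?_)
  · rintro _ ⟨a, ha, rfl⟩
    have : b⁻¹ * a * b * a⁻¹ = ⁅a, b⁻¹⁆⁻¹ := by simp only [commutatorElement_def]; group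
    rw [this]
    exact inv_mem (commutator_mem_commElt ha _)
  · have : ⁅a, b⁻¹⁆ = (b⁻¹ * a * b * a⁻¹)⁻¹ := by simp only [commutatorElement_def]; group
    rw [this]
    exact inv_mem (subset_closure ⟨a, ha, rfl⟩)

/-- If A acts on B centralizing [B, B], then [B, A] has derived subgroup central in B, and for abelian A and b ∈ B with [[b, A], A, A] = 1 the derived subgroup of the subgroup [b, A] generated by the commutators of b with A has exponent dividing 2. -/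
theorem result {G : Type*} [Group G] [Finite G] (A B : Subgroup G) (hAB : A ≤ Subgroup.normalizer (B : Set G)) (hc : ⁅⁅B, B⁆, A⁆ = ⊥) : ⁅⁅B, A⁆, ⁅B, A⁆⁆ ≤ B ⊓ Subgroup.centralizer (B : Set G) ∧ (IsMulCommutative A → ∀ b ∈ B, ⁅⁅(Subgroup.closure {g : G | ∃ a ∈ A, g = b⁻¹ * a * b * a⁻¹}), A⁆, A⁆ = ⊥ → ∀ w ∈ ⁅(Subgroup.closure {g : G | ∃ a ∈ A, g = b⁻¹ * a * b * a⁻¹}), (Subgroup.closure {g : G | ∃ a ∈ A, g = b⁻¹ * a * b * a⁻¹})⁆, w ^ 2 = 1) := by
  refine ⟨(Cfsg.Lib.PLocal.commutator_commutator_le_center hAB hc).2, fun hA b hb h3 w hw => ?_⟩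
  rw [closure_eq] at h3 hw
  exact Cfsg.Lib.PLocal.sq_eq_one_of_mem_commutator_commElt hAB hc hA (inv_mem hb) h3 hw

end Cfsg.Agent.S0648
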