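import Cfsg.Statements.S0650
import Cfsg.Agent.Lib.PLocal.Replacement

set_option autoImplicit false
open Cfsg
open Cfsg.Lib

namespace Cfsg.Agent.S0650

/-- The Glauberman replacement Theorem: from an abelian A ⊇ [B, B] not normalized by the normal subgroup B and a suitable b ∈ B one gets the abelian subgroup A* = (A ∩ b⁻¹Ab)[A, b] of the same order, containing [B, B], meeting B strictly more than A does but not containing B, mutually normalizing with A, with strictly larger normalizer containing b, and (p odd) of no larger exponent. -/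
theorem result {S : Type*} [Group S] [Finite S] {p : ℕ} [Fact p.Prime] (hS : IsPGroup p S) (B : Subgroup S) [B.Normal] (hB2 : p = 2 → IsMulCommutative B) (A : Subgroup S) (hA : IsMulCommutative A) (hBA : ⁅B, B⁆ ≤ A) (hnot : ¬ B ≤ Subgroup.normalizer (A : Set S)) (b : S) (hb : b ∈ B) (hbN : b ∈ Subgroup.normalizer ((Subgroup.normalizer (A : Set S)) : Set S)) (hbA : b ∉ Subgroup.normalizer (A : Set S)) : Nat.card ↥((A ⊓ A.map (MulAut.conj (b⁻¹)).toMonoidHom) ⊔ Subgroup.closure {g : S | ∃ a ∈ A, g = a * b⁻¹ * a⁻¹ * b}) = Nat.card A ∧ IsMulCommutative ↥((A ⊓ A.map (MulAut.conj (b⁻¹)).toMonoidHom) ⊔ Subgroup.closure {g : S | ∃ a ∈ A, g = a * b⁻¹ * a⁻¹ * b}) ∧ ⁅B, B⁆ ≤ ((A ⊓ A.map (MulAut.conj (b⁻¹)).toMonoidHom) ⊔ Subgroup.closure {g : S | ∃ a ∈ A, g = a * b⁻¹ * a⁻¹ * b}) ∧ A ⊓ B < ((A ⊓ A.map (MulAut.conj (b⁻¹)).toMonoidHom) ⊔ Subgroup.closure {g : S | ∃ a ∈ A, g = a * b⁻¹ * a⁻¹ * b}) ⊓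 B ∧ ((A ⊓ A.map (MulAut.conj (b⁻¹)).toMonoidHom) ⊔ Subgroup.closure {g : S | ∃ a ∈ A, g = a * b⁻¹ * a⁻¹ * b}) ⊓ B < B ∧ A ≤ Subgroup.normalizer (((A ⊓ A.map (MulAut.conj (b⁻¹)).toMonoidHom) ⊔ Subgroup.closure {g : S | ∃ a ∈ A, g = a * b⁻¹ * a⁻¹ * b} : Subgroup S) : Set S) ∧ ((A ⊓ A.map (MulAut.conj (b⁻¹)).toMonoidHom) ⊔ Subgroup.closure {g : S | ∃ a ∈ A, g = a * b⁻¹ * a⁻¹ * b}) ≤ Subgroup.normalizer (A : Set S) ∧ b ∈ Subgroup.normalizer (((A ⊓ A.map (MulAut.conj (b⁻¹)).toMonoidHom) ⊔ Subgroup.closure {g : S | ∃ a ∈ A, g = a * b⁻¹ * a⁻¹ * b} : Subgroup S) : Set S) ∧ Subgroup.normalizer (A : Set S) < Subgroup.normalizer (((A ⊓ A.map (MulAut.conj (b⁻¹)).toMonoidHom) ⊔ Subgroup.closure {g : S | ∃ a ∈ A, g = a * b⁻¹ * a⁻¹ * b} : Subgroup S) : Set S) ∧ (p ≠ 2 → Monoid.exponent ↥((A ⊓ A.map (MulAut.conj (b⁻¹)).toMonoidHom) ⊔ Subgroup.closure {g : S | ∃ a ∈ A, g = a * b⁻¹ * a⁻¹ * b}) ∣ Monoid.exponent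 A) := by
  have hS' := Core.isPGroup_top_iff.mpr hS
  have h : PLocal.ReplSetup A B b⁻¹ := by
    refine PLocal.replSetup_of_mem_normalizer hA Subgroup.le_normalizer le_rfl
      (le_top.trans (Subgroup.normalizer_eq_top B).ge) hBA (inv_mem hb) (inv_mem hbN)
      (fun h => hbA (inv_mem_iff.mp h)) fun w hw h2 => ?_
    by_cases hp : p = 2
    · rwa [Subgroup.commutator_self_eq_bot_iff.mpr (hB2 hp), Subgroup.mem_bot] at hw
    · exact PLocal.eq_one_of_sq_eq_one_of_isPGroup hp hS' trivial h2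
  have he : (A ⊓ A.map (MulAut.conj (b⁻¹)).toMonoidHom) ⊔ Subgroup.closure {g : S | ∃ a ∈ A, g = a * b⁻¹ * a⁻¹ * b} = PLocal.repl A b⁻¹ := by
    simp only [PLocal.repl, PLocal.commElt, commutatorElement_def, inv_inv]
  rw [he]
  refine ⟨h.card_repl, h.comm_repl, h.derived_le_repl, h.inf_lt, h.repl_inf_lt, h.le_normalizer_repl,
    h.repl_le_normalizer, inv_mem_iff.mp h.mem_normalizer_repl, ?_, fun hp => h.exponent_repl_dvd ?_⟩
  · exact lt_of_le_of_ne (h.le_normalizer_repl_of le_rfl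
      (le_top.trans (Subgroup.normalizer_eq_top B).ge) (inv_mem hbN))
      fun he => h.not_mem (he.ge h.mem_normalizer_repl)
  · obtain ⟨k, hk⟩ := (hS.to_subgroup A).exists_card_eq
    exact Odd.of_dvd_nat (hk ▸ ((Fact.out : p.Prime).odd_of_ne_two hp).pow) Group.exponent_dvd_nat_card

end Cfsg.Agent.S0650
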