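import Cfsg.Statements.S0655
import Cfsg.Agent.Lib.PLocal.Thompson

set_option autoImplicit false
open Cfsg

namespace Cfsg.Agent.S0655

/-- In a p-group the intersection of all elementary abelian subgroups of largest order is the subgroup generated by the elements of order dividing p in the centre (equivalently the centralizer) of the elementary-version Thompson subgroup. -/
theorem result {S : Type*} [Group S] [Finite S] {p : ℕ} [Fact p.Prime] (hS : IsPGroup p S) : sInf (Cfsg.maxElementaryAbelianSubgroups p S) = Cfsg.omegaCenterThompson p S ∧ Cfsg.omegaCenterThompson p S = Cfsg.omegaOne p (Subgroup.centralizer (Cfsg.thompsonSubgroup p S : Set S)) := by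
  obtain ⟨A, hA⟩ := Cfsg.Lib.PLocal.exists_mem_maxIn p (⊤ : Subgroup S)
  rw [Cfsg.Lib.PLocal.omegaCenterThompson_eq, ← Cfsg.Lib.PLocal.maxIn_top,
    ← Cfsg.Lib.PLocal.thompsonSubgroupOf_top]
  refine ⟨le_antisymm (fun x hx => ?_)
    (le_sInf fun B hB => Cfsg.Lib.PLocal.omegaOne_centerThompsonOf_le hB),
    le_antisymm (Cfsg.Lib.PGroup.omegaOne_mono inf_le_right)
      (Cfsg.Lib.PGroup.omegaOne_le_iff.mpr fun x hx hxe => Cfsg.Lib.PGroup.mem_omegaOne
        (Cfsg.Lib.PLocal.mem_centerThompsonOf (Subgroup.mem_top x) hx hxe) hxe)⟩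
  rw [Subgroup.mem_sInf] at hx
  have hxe := hA.2.1.2 x (hx A hA)
  refine Cfsg.Lib.PGroup.mem_omegaOne (Cfsg.Lib.PLocal.mem_centerThompsonOf (Subgroup.mem_top x)
    ?_ hxe) hxe
  have : Cfsg.thompsonSubgroupOf p (⊤ : Subgroup S) ≤ Subgroup.centralizer {x} :=
    Cfsg.Lib.PLocal.thompsonSubgroupOf_le_iff.mpr fun B hB y hy =>
      Subgroup.mem_centralizer_singleton_iff.mpr (Cfsg.Lib.PGroup.elemAb_comm hB.2.1 hy (hx B hB))
  exact fun y hy => Subgroup.mem_centralizer_singleton_iff.mp (this hy)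

end Cfsg.Agent.S0655
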