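import Cfsg.Statements.S0732
import Cfsg.Agent.Lib.Perm.Zass7
import Cfsg.Agent.Lib.Perm.Affine

set_option autoImplicit false
open Cfsg

namespace Cfsg.Agent.S0732

open MulAction Subgroup Cfsg.Lib.Perm Cfsg.Lib

theorem zt {G α : Type*} [Group G] [Finite G] [MulAction G α] [FaithfulSMul G α] [Finite α]
    {p d : ℕ} (hp : p.Prime) (hα : Nat.card α = p + 1) [IsPretransitive G α]
    (hG : Nat.card G = (p + 1) * p * d) (hd : d < p) : ZT G α := by
  classical
  have := Fact.mk hp
  have hst : ∀ a : α, Nat.card (stabilizer G a) = p * d := fun a => by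
    have := card_eq_card_mul_stabilizer (G := G) a
    rw [hG, hα, mul_assoc] at this
    exact (Nat.eq_of_mul_eq_mul_left p.succ_pos this).symm
  have hd0 : 0 < d := Nat.pos_of_ne_zero (by rintro rfl; exact Nat.card_pos.ne' hG)
  have key : ∀ a : α, ∃ (g : stabilizer G a) (e : ZMod p ≃ SubMulAction.ofStabilizer G a),
      orderOf g = p ∧ ∀ j, g • e j = e (j + 1) := fun a => by
    obtain ⟨g, hg⟩ := exists_prime_orderOf_dvd_card' (G := stabilizer G a) p (hst a ▸ ⟨d, rfl⟩)
    obtain ⟨c, hc⟩ := exists_smul_ne (α := α) (g := (g : G)) fun e => hp.one_lt.ne' (by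
      rw [← hg, show g = 1 from Subtype.ext e, orderOf_one])
    have hca : c ≠ a := by rintro rfl; exact hc g.2
    obtain ⟨e, -, he⟩ := exists_zmod_equiv (α := SubMulAction.ofStabilizer G a) (p := p)
      (Nat.succ_injective ((SubMulAction.nat_card_ofStabilizer_add_one_eq G a).trans hα))
      (g := g) (by rw [← hg, pow_orderOf_eq_one]) (a := ⟨c, hca⟩) fun e => hc (congrArg Subtype.val e)
    exact ⟨g, e, hg, he⟩
  have tr : ∀ a b c : α, b ≠ a → c ≠ a → ∃ g : G, g • a = a ∧ g • b = c := fun a b c hb hc => by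
    obtain ⟨g, e, -, he⟩ := key a
    obtain ⟨i, hi⟩ := e.surjective ⟨b, hb⟩
    obtain ⟨j, hj⟩ := e.surjective ⟨c, hc⟩
    have := pow_smul_zmod he (j - i).val i
    rw [ZMod.natCast_zmod_val, add_sub_cancel, hi, hj] at this
    exact ⟨(g ^ (j - i).val : stabilizer G a), (g ^ (j - i).val).2, congrArg Subtype.val this⟩
  refine ⟨fun a b c d' hab hcd => ?_, fun k a b c hab hbc hac ha hb hc => ?_, by
    have := hp.two_le; omega⟩
  · obtain ⟨g, rfl⟩ := exists_smul_eq G a c
    obtain ⟨k, h1, h2⟩ := tr (g • a) (g • b) d' (by simpa using hab.symm) hcd.symm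
    exact ⟨k * g, by rw [mul_smul, h1], by rw [mul_smul, h2]⟩
  · obtain ⟨g, e, hg, he⟩ := key a
    have hc' : Nat.card (zpowers g) = p := by rw [Nat.card_zpowers, hg]
    have hi : (zpowers g).index = d := by
      have := (zpowers g).card_mul_index
      rw [hc', hst] at this
      exact Nat.eq_of_mul_eq_mul_left hp.pos this
    obtain ⟨P, hP⟩ : ∃ P : Sylow p (stabilizer G a), (P : Subgroup _) = zpowers g :=
      ⟨(IsPGroup.of_card (n := 1) (hc'.trans (pow_one p).symm)).toSylow
        (by rw [hi]; exact Nat.not_dvd_of_pos_of_lt hd0 hd), rfl⟩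
    have h1 : Nat.card (Sylow p (stabilizer G a)) = 1 := by
      have h2 := card_sylow_modEq_one p (stabilizer G a)
      have h3 := Nat.le_of_dvd hd0 (hi ▸ hP ▸ P.card_dvd_index)
      exact Nat.ModEq.eq_of_lt_of_lt h2 (by omega) hp.one_lt
    have := (Nat.card_eq_one_iff_unique.1 h1).1
    have hn : (zpowers g).Normal := hP ▸ P.normal_of_subsingleton
    obtain ⟨n, hn⟩ := mem_powers_iff_mem_zpowers.2 (hn.conj_mem g (mem_zpowers g) ⟨k, ha⟩)
    have aff := affine_of_conj_eq_pow he hn.symm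
    obtain ⟨i, hi⟩ := e.surjective ⟨b, hab.symm⟩
    obtain ⟨j, hj⟩ := e.surjective ⟨c, hac.symm⟩
    have hij : i ≠ j := by rintro rfl; exact hbc (congrArg Subtype.val (hi.symm.trans hj))
    have e1 := aff i
    have e2 := aff j
    rw [show (⟨k, ha⟩ : stabilizer G a) • e i = e i by rw [hi]; exact Subtype.ext hb,
      e.apply_eq_iff_eq] at e1
    rw [show (⟨k, ha⟩ : stabilizer G a) • e j = e j by rw [hj]; exact Subtype.ext hc,
      e.apply_eq_iff_eq] at e2
    have e3 : (n : ZMod p) = 1 := mul_right_cancel₀ (sub_ne_zero.2 hij) (by linear_combination e2 - e1)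
    refine eq_one_of_forall_smul fun x => if hx : x = a then hx ▸ ha else ?_
    obtain ⟨l, hl⟩ := e.surjective ⟨x, hx⟩
    have := aff l
    rw [show (n : ZMod p) * l + e.symm ((⟨k, ha⟩ : stabilizer G a) • e 0) = l by
      rw [e3] at e1 ⊢; linear_combination -e1, hl] at this
    exact congrArg Subtype.val this

/-- A transitive permutation group on `p + 1` points (`p` prime) of order `(p+1) p d` with `d < p` is isomorphic to `PGL(2,p)` with `d = p - 1`, or to `PSL(2,p)` with `2d = p - 1`, or else `p + 1 = 2^q` for a prime `q`, `d = 1` or `d = q`, and the group is permutation-isomorphic to a group of semi-affine maps `x ↦ a φ(x) + b` of the field with `2^q` elements. -/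
theorem result {α : Type*} [Fintype α] [DecidableEq α] {p d : ℕ} (hp : p.Prime) (hα : Fintype.card α = p + 1) (G : Subgroup (Equiv.Perm α)) [MulAction.IsPretransitive G α] (hG : Nat.card G = (p + 1) * p * d) (hd : d < p) : (d = p - 1 ∧ Nonempty (G ≃* Matrix.ProjGenLinGroup (Fin 2) (ZMod p))) ∨ (2 * d = p - 1 ∧ Nonempty (G ≃* Matrix.ProjectiveSpecialLinearGroup (Fin 2) (ZMod p))) ∨ (∃ q : ℕ, q.Prime ∧ p + 1 = 2 ^ q ∧ (d = 1 ∨ d = q) ∧ ∃ e : α ≃ GaloisField 2 q, ∀ g : G, (e.symm.trans (((g : Equiv.Perm α)).trans e)) ∈ Cfsg.semiaffineGroup (GaloisField 2 q)) := by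
  have := Fact.mk hp
  rw [← Nat.card_eq_fintype_card] at hα
  have h : ZT G α := zt hp hα hG hd
  have := h.nonempty
  obtain ⟨a⟩ := id this
  obtain ⟨b, hb⟩ := h.exists_ne a
  have : Nontrivial α := ⟨b, a, hb⟩
  have hab := hb.symm
  have hz : Nat.card (zker G a) = p := Nat.succ_injective ((h.card_zker a).trans hα)
  have hs : Nat.card (stab2 G a b) = d := by
    have := h.card_eq hab
    rw [hG, hz, mul_assoc] at this
    exact (Nat.eq_of_mul_eq_mul_left hp.pos (Nat.eq_of_mul_eq_mul_left p.succ_pos this)).symm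
  have hK : Nat.card (ZMod p) = Nat.card (zker G a) := by rw [hz, Nat.card_zmod]
  have hcyc : IsCyclic (zker G a) := isCyclic_of_prime_card hz
  have hzc : IsMulCommutative (zker G a) := hcyc.isMulCommutative
  by_cases hp2 : p = 2
  · subst hp2
    have hd1 : d = 1 := by have : 0 < d := hs ▸ Nat.card_pos; omega
    have hbot : stab2 G a b = ⊥ := card_eq_one.1 (hs.trans hd1)
    obtain ⟨s, h1, h2⟩ := h.two a b b a hab hb
    refine Or.inl ⟨hd1, h.nonempty_equiv_PGL hab h1 h2 (mem_bot.1 (hbot ▸ swap_mul_swap h1 h2 h1 h2))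
      (fun k hk => ?_) (by omega) (ZMod 2) hK⟩
    rw [hbot, mem_bot] at hk
    simp [hk]
  by_cases hN : ∃ N : Subgroup G, N.Normal ∧ IsPretransitive N α ∧ ∀ a : α, stabilizer N a = ⊥
  · obtain ⟨N, hn, hNt, hNr⟩ := hN
    obtain ⟨hNc, r, hr, hNp⟩ := S0054.result h.mt2 N hNt hNr
    have := Fact.mk hr
    have hcard := (card_eq_of_regular hNt hNr).trans hα
    obtain ⟨q, hq⟩ := IsPGroup.iff_card.1
      (show IsPGroup r N from fun x => ⟨1, Subtype.ext (by simpa using hNp x x.2)⟩)
    have hr2 : r = 2 := by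
      have : 2 ∣ r ^ q := by
        rw [← hq, hcard]; exact (hp.odd_of_ne_two hp2).add_one.two_dvd
      exact ((Nat.prime_dvd_prime_iff_eq Nat.prime_two hr).1 (Nat.prime_two.dvd_of_dvd_pow this)).symm
    subst hr2
    rw [hcard] at hq
    have hqp : q.Prime := Nat.Prime.of_mersenne (by rw [mersenne, ← hq]; exact hp)
    obtain ⟨n, hn, hnb⟩ := exists_regular_smul hNt a b
    have hn1 : n ≠ 1 := by rintro rfl; exact hab (by simpa using hnb)
    obtain ⟨F, _, _, f, ψ, hc, hf⟩ := exists_fieldCoord (V := N) (A := zker G a) hNc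
      (by rw [normalizer_eq_top]; exact le_top)
      (by rw [commutator_eq_bot_iff_le_centralizer.2 (le_centralizer_iff_isMulCommutative.2 hzc)]
          exact bot_le)
      (fun W hW hA => (W.bot_or_exists_ne_one).imp_right fun ⟨w, hw, hw1⟩ =>
        hW.antisymm fun m hm => if hm1 : m = 1 then hm1 ▸ W.one_mem else by
          obtain ⟨u, hu, e⟩ := h.exists_zker_smul (a := a) (b := w • a) (c := m • a)
            (fun e => hw1 (eq_one_of_regular hNr (hW hw) e)) fun e => hm1 (eq_one_of_regular hNr hm e)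
          exact conj_eq_of_regular hNr (zker_fix hu) (hW hw) hm e ▸ (mem_normalizer_iff.1 (hA hu) w).1 hw)
      hn hn1
    have := Fintype.ofFinite (GaloisField 2 q)
    have hF : Nat.card F = 2 ^ q := hc.card_eq.trans (hcard.trans hq)
    have hc' := hc.map_equiv' (FiniteField.ringEquivOfCardEq (K := F) (K' := GaloisField 2 q) (by
      rw [← Nat.card_eq_fintype_card, ← Nat.card_eq_fintype_card, hF, GaloisField.card _ _ hqp.ne_zero]))
    obtain ⟨e, he⟩ := hc'.exists_equiv hNt hNr a
    refine Or.inr (Or.inr ⟨q, hqp, hq, ?_, e, hc'.mem_semiaffine hNt he (h.stabilizer_le_normalizer a)⟩)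
    have hb1 : e.symm 1 = b := by rw [e.symm_apply_eq, ← hnb, he n hn, hf, map_one]
    obtain ⟨φ, hφ, -⟩ := hc'.card_dvd_card_aut hNt he (H := stab2 G a b)
      (fun k hk => ⟨hk.1, hb1 ▸ hk.2⟩) (h.stab2_le_normalizer a b)
    have := card_dvd_of_injective φ hφ
    rw [hs, card_ringAut (GaloisField.card 2 q hqp.ne_zero)] at this
    exact (Nat.dvd_prime hqp).1 this
  have hZ : IsZassenhausGroup G α := by
    refine ⟨inferInstance, h.mt2, h.three, ?_, fun N hn ht => ?_⟩
    · by_contra hc
      push Not at hc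
      obtain ⟨N, hn, -, ht, hr⟩ := exists_regular_normal_of_sharply_two (G := G)
        (h.mt2) fun g x y hxy hx hy => by_contra fun hg => hc g hg x y hxy hx hy
      exact hN ⟨N, hn, ht, hr⟩
    · by_contra hc
      push Not at hc
      exact hN ⟨N, hn, ht, hc⟩
  have e := (feit_zassenhaus hZ hab).resolve_right fun e => e.2.1
    (commutator_eq_bot_iff_le_centralizer.2 (le_centralizer_iff_isMulCommutative.2 hzc))
  rcases h.card_of_large hab e with e1 | e1
  · refine Or.inl ⟨by omega, h.PGL_of_sharp hab e1 ?_ (ZMod p) hK fun σ _ x => ?_⟩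
    · have := hp.odd_of_ne_two hp2
      rw [← hz, ← e1] at this
      exact Nat.not_odd_iff_even.1 (Nat.odd_add_one.1 this)
    · rw [Subsingleton.elim σ (RingHom.id _), RingHom.id_apply]
  · have := simple_of_card hZ hab e1
    exact Or.inr (Or.inl ⟨by omega, h.PSL_of_simple hab e (ZMod p) hK⟩)

end Cfsg.Agent.S0732
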