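import Cfsg.Statements.S0799
import Cfsg.Agent.Lib.PSL2.Structure

set_option autoImplicit false
open Cfsg

namespace Cfsg.Agent.S0799

/-- Dickson's classification of the subgroups of PSL_2(q), q a power of the prime p, d = gcd(2, q − 1): every subgroup H is (a) cyclic or dihedral with k dividing (q+1)/d or (q−1)/d (cyclic of order k, or dihedral of order 2k), (b) isomorphic to a subgroup of the normaliser of a Sylow p-subgroup, (c) isomorphic to A_4, S_4 or A_5, or (d) isomorphic to PSL_2(K) or PGL_2(K) for a finite field K with |K|^m = q. -/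
theorem result {F : Type*} [Field F] [Fintype F] {q : ℕ} (hF : Fintype.card F = q) (p : ℕ) [Fact p.Prime] [CharP F p] (H : Subgroup (Matrix.ProjectiveSpecialLinearGroup (Fin 2) F)) : (∃ k : ℕ, (k ∣ (q + 1) / Nat.gcd 2 (q - 1) ∨ k ∣ (q - 1) / Nat.gcd 2 (q - 1)) ∧ ((IsCyclic H ∧ Nat.card H = k) ∨ Nonempty (H ≃* DihedralGroup k))) ∨ (∃ (P : Sylow p (Matrix.ProjectiveSpecialLinearGroup (Fin 2) F)) (K : Subgroup (Matrix.ProjectiveSpecialLinearGroup (Fin 2) F)), K ≤ Subgroup.normalizer ((P : Subgroup (Matrix.ProjectiveSpecialLinearGroup (Fin 2) F)) : Set (Matrix.ProjectiveSpecialLinearGroup (Fin 2) F)) ∧ Nonempty (H ≃* K)) ∨ Nonempty (H ≃* alternatingGroup (Fin 4)) ∨ Nonempty (H ≃* Equiv.Perm (Fin 4)) ∨ Nonempty (H ≃* alternatingGroup (Fin 5)) ∨ (∃ (K : Type) (_ : Field K) (_ : Fintype K) (m : ℕ), Fintype.card K ^ m = q ∧ (Nonempty (H ≃* Matrix.ProjectiveSpecialLinearGroup (Fin 2) K) ∨ Nonempty (H ≃* Matrix.ProjGenLinGroup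 (Fin 2) K))) := by
  open Cfsg.Lib.PSL2 in
  subst hF
  rw [← Nat.card_eq_fintype_card]
  have e := H.equivMapOfInjective _ toP_injective
  rcases dickson_psl (AlgebraicClosure F) p H with ⟨x, h⟩ | ⟨a, b, m, h1, h⟩ | ⟨-, h⟩ | ⟨-, h⟩ |
    ⟨x, -, h⟩
  · exact Or.inr (Or.inl ⟨sylowL p x, H, by rwa [coe_sylowL, normalizer_unipL], ⟨MulEquiv.refl _⟩⟩)
  · left
    have h2 : Nat.card ↥(H ⊓ torusL F a b) ∣ m / Nat.gcd 2 (Nat.card F - 1) :=
      h1.card_torusL ▸ Subgroup.card_dvd_of_le inf_le_right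
    refine ⟨Nat.card ↥(H ⊓ torusL F a b), ?_, ?_⟩
    · rcases h1.eq_or_eq with rfl | rfl
      exacts [Or.inr h2, Or.inl h2]
    · by_cases h3 : H ≤ torusL F a b
      · exact Or.inl ⟨isCyclic_of_le_torusL h1.1 h3, by rw [inf_eq_left.2 h3]⟩
      · exact Or.inr (dihedral_of_le_dihL h1.1 h h3)
  · exact Or.inr (Or.inr (h.imp_right (Or.imp_right Or.inl)))
  · exact Or.inr (Or.inr (Or.inr (Or.inr (Or.inl h))))
  · obtain ⟨k, hk, -, h⟩ := h.exists_equiv
    refine Or.inr (Or.inr (Or.inr (Or.inr (Or.inr ⟨Shrink.{0} k, inferInstance,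
      Fintype.ofFinite _, Module.finrank k F, ?_, ?_⟩))))
    · rw [Fintype.card_eq_nat_card, Nat.card_congr (equivShrink.{0} k).symm,
        Module.natCard_eq_pow_finrank (K := k) (V := F)]
    · exact h.imp (fun ⟨h⟩ => ⟨(e.trans h).trans
        (Cfsg.Lib.Linear.congrPSL (Equiv.refl _) (Shrink.ringEquiv.{0} k).symm)⟩)
        fun ⟨h⟩ => ⟨(e.trans h).trans
          (Cfsg.Lib.Linear.congrPGL (Equiv.refl _) (Shrink.ringEquiv.{0} k).symm)⟩

end Cfsg.Agent.S0799
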