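import Cfsg.Statements.S0876
import Cfsg.Agent.Lib.Char.DefectZero
import Cfsg.Agent.Lib.Char.Column
import Cfsg.Agent.Lib.Block.Local

set_option autoImplicit false
open Cfsg

namespace Cfsg.Agent.S0876

open Cfsg.Lib.Char Cfsg.Lib.Block

theorem red_pow_eq {G : Type*} [Group G] [Finite G] {p : ℕ} {M : Ideal Cfsg.AlgInt}
    [Modular p M] {χ : G → ℂ} (hχ : IsCharacter G χ) {k n b : ℕ} (hb1 : b ≡ 1 [MOD n]) {x : G}
    (hx : orderOf x ∣ p ^ k * n) : red M (χ (x ^ b)) = red M (χ x) := by
  obtain ⟨d, ε, -, hε, h⟩ := hχ.exists_eigenvalues x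
  have h0 : orderOf x ≠ 0 := (orderOf_pos x).ne'
  have hmem : ∀ i, ε i ∈ locRing M := fun i => mem_locRing_of_pow_eq_one h0 (hε i)
  have h1 := h 1
  rw [pow_one] at h1
  rw [h b, h1, red_sum _ _ fun i _ => pow_mem (hmem i) _, red_sum _ _ fun i _ => pow_mem (hmem i) _]
  refine Finset.sum_congr rfl fun i _ => ?_
  have hne : ε i ≠ 0 := fun h => by
    have := hε i
    rw [h, zero_pow h0] at this
    exact zero_ne_one this
  have hz : (ε i ^ b * (ε i)⁻¹) ^ p ^ k = 1 := by
    have h2 : ε i ^ (p ^ k * b) = ε i ^ (p ^ k * 1) :=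
      pow_eq_pow_of_modEq ((hb1.mul_left' (p ^ k)).of_dvd hx) (hε i)
    rw [mul_pow, ← pow_mul, mul_comm b, h2, mul_one, ← mul_pow, mul_inv_cancel₀ hne, one_pow]
  have h3 : ε i ^ b = (ε i ^ b * (ε i)⁻¹) * ε i := by rw [inv_mul_cancel_right₀ hne]
  rw [h3, red_mul (mem_locRing_of_pow_eq_one (pow_ne_zero k (Modular.prime M).ne_zero) hz)
    (hmem i), red_eq_one_of_pow_eq_one hz, one_mul, pow_one]

/-- Let G be a finite group, p a prime and M a maximal ideal of the ring of algebraic integers containing p. Let x, y be elements with p-parts a and b (so a⁻¹ * x and b⁻¹ * y are their p-regular parts). Then a⁻¹ * x and b⁻¹ * y are conjugate in G if and only if, for every irreducible character χ, the difference χ x - χ y lies in the local ideal at M. -/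
theorem result {G : Type*} [Group G] [Finite G] (p : ℕ) (M : Ideal Cfsg.AlgInt) (hM : Cfsg.IsPModular p M) (x y a b : G) (ha : Cfsg.IsPPart p x a) (hb : Cfsg.IsPPart p y b) : IsConj (a⁻¹ * x) (b⁻¹ * y) ↔ ∀ χ : Cfsg.IrrCharacter G, Cfsg.MemLocalIdeal M ((χ : G → ℂ) x - (χ : G → ℂ) y) := by
  classical
  haveI := Fintype.ofFinite G
  haveI : Modular p M := ⟨hM⟩
  have hp := hM.1
  have h0 : Nat.card G ≠ 0 := Nat.card_pos.ne'
  set k := (Nat.card G).factorization p
  set n := Nat.card G / p ^ k with hn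
  have hG : Nat.card G = p ^ k * n := (Nat.ordProj_mul_ordCompl_eq_self _ p).symm
  have hpn : Nat.Coprime p n := Nat.coprime_ordCompl hp h0
  have hcop : Nat.Coprime (p ^ k) n := hpn.pow_left k
  obtain ⟨c, hc1, hc0⟩ := exists_modEq_one_and_dvd hcop.symm
  have hord : ∀ x : G, orderOf x ∣ p ^ k * n := fun x => hG ▸ orderOf_dvd_natCard x
  have key : ∀ x a : G, IsPPart p x a → a⁻¹ * x = x ^ c := by
    rintro x a ⟨y, rfl, hay, ⟨j, hj⟩, hy⟩
    rw [inv_mul_cancel_left, hay.eq, pow_eq_of_commute hc1 hc0 hay.symm]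
    · exact (((Nat.Prime.coprime_iff_not_dvd hp).2 hy).symm.pow_right k).dvd_of_dvd_mul_left
        (hord y)
    · exact Nat.Coprime.dvd_of_dvd_mul_right (hj ▸ hpn.pow_left j) (hord a)
  rw [key x a ha, key y b hb]
  have hint : ∀ (χ : IrrCharacter G) g, (χ : G → ℂ) g ∈ locRing M := fun χ g =>
    mem_locRing_of_isIntegral (χ.2.isIntegral g)
  constructor
  · intro h χ
    rw [memLocalIdeal_sub_iff (hint χ x) (hint χ y), ← red_pow_eq χ.2.isCharacter hc1 (hord x),
      ← red_pow_eq χ.2.isCharacter hc1 (hord y), χ.2.isClassFunction.eq_of_isConj h]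
  · intro h
    by_contra hne
    have hcl : IsClassFunction G (fun g => (n : ℂ) * classIndicator (x ^ c) (g ^ c)) :=
      ((isClassFunction_classIndicator _).comp_pow c).map (fun z => n * z)
    have hco : ∀ χ : IrrCharacter G,
        classInner (fun g => (n : ℂ) * classIndicator (x ^ c) (g ^ c)) χ ∈ locRing M := fun χ => by
      refine mem_locRing_of_isIntegral (isIntegral_classInner_of_section hcop (hG ▸ dvd_rfl) hc1 hc0
        (isClassFunction_classIndicator _) (fun y => ?_) χ.2.isGeneralizedCharacter)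
      by_cases h : IsConj (x ^ c) y
      · rw [classIndicator_of_isConj h]; exact isIntegral_one
      · rw [classIndicator_of_not_isConj h]; exact isIntegral_zero
    have h1 := congrArg (red M) (hcl.apply_eq_sum_irr x)
    have h2 := congrArg (red M) (hcl.apply_eq_sum_irr y)
    rw [red_sum _ _ fun χ _ => mul_mem (hco χ) (hint χ _)] at h1 h2
    have h3 : red M ((n : ℂ) * classIndicator (x ^ c) (x ^ c)) =
        red M ((n : ℂ) * classIndicator (x ^ c) (y ^ c)) := by
      rw [h1, h2]
      refine Finset.sum_congr rfl fun χ _ => ?_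
      rw [red_mul (hco χ) (hint χ _), red_mul (hco χ) (hint χ _),
        (memLocalIdeal_sub_iff (hint χ x) (hint χ y)).1 (h χ)]
    rw [classIndicator_of_isConj (IsConj.refl _), classIndicator_of_not_isConj hne, mul_one,
      mul_zero, red_zero, red_natCast_eq_zero_iff] at h3
    exact (Nat.Prime.coprime_iff_not_dvd hp).1 hpn h3

end Cfsg.Agent.S0876
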