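import Cfsg.Statements.S4501
import Cfsg.Agent.Lib.Cyc.Brauer2
import Cfsg.Agent.Lib.GW.Main
import Cfsg.Agent.Lib.Clifford.PElt
import Cfsg.Agent.S0205
import Cfsg.Agent.S0992

set_option autoImplicit false
open Cfsg

namespace Cfsg.Agent.S4501

open Cfsg.Lib.Cyc Cfsg.Lib.Char Cfsg.Lib.Small Subgroup Finset

variable {G : Type*} [Group G] [Finite G] [IsSimpleGroup G] (hG : ¬ IsMulCommutative G)
include hG

omit [Finite G] in
theorem not_solv : ¬ Group.IsSolvable G := fun h =>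
  hG ⟨⟨IsSimpleGroup.comm_iff_isSolvable.2 h⟩⟩

theorem four {p q a b : ℕ} (hp : p.Prime) (hq : q.Prime) (h : Nat.card G = 4 * p ^ a * q ^ b) :
    Nonempty (G ≃* alternatingGroup (Fin 5)) := by
  have h1 : ∀ r : ℕ, r.Prime → r ∣ Nat.card G → r = 2 ∨ r = p ∨ r = q := fun r hr h1 => by
    rw [h, show 4 = 2 ^ 2 from rfl, hr.dvd_mul, hr.dvd_mul, or_assoc] at h1
    exact h1.imp (Nat.prime_eq_prime_of_dvd_pow hr Nat.prime_two)
      (.imp (Nat.prime_eq_prime_of_dvd_pow hr hp) (Nat.prime_eq_prime_of_dvd_pow hr hq))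
  have h2 : p ≠ 2 := fun e => not_solv hG (isSolvable_of_forall_prime_dvd G p q fun r hr h2 => by
    have := h1 r hr h2; omega)
  have h3 : q ≠ 2 := fun e => not_solv hG (isSolvable_of_forall_prime_dvd G p q fun r hr h2 => by
    have := h1 r hr h2; omega)
  obtain ⟨k, hk⟩ := ((hp.odd_of_ne_two h2).pow (n := a)).mul ((hq.odd_of_ne_two h3).pow (n := b))
  rw [mul_assoc, hk] at h
  obtain ⟨T⟩ : Nonempty (Sylow 2 G) := inferInstance
  obtain ⟨x, y, h4⟩ := Lib.Inv.exists_mc_of_k4 (Agent.S0992.result hG ⟨4 * k + 2, by omega⟩ (by omega) T).1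
  rcases Lib.GW.gorenstein_walter h4 with ⟨F, _, _, ⟨r, h5⟩, h6, ⟨φ⟩⟩ | ⟨⟨φ⟩⟩
  swap
  · have := Nat.card_congr φ.toEquiv
    rw [nat_card_alternatingGroup, Nat.card_fin, h] at this
    simp [Nat.factorial] at this
    omega
  have h7 := Lib.PSL2.card_PSL2_mul (K := F)
  rw [Nat.card_eq_fintype_card (α := F), h5, Nat.gcd_eq_left (by omega),
    ← Nat.card_congr φ.toEquiv, show (2 * r + 1) ^ 2 - 1 = 4 * (r * (r + 1)) from
      Nat.sub_eq_of_eq_add (by ring)] at h7
  refine equiv_alt_five_of_simple ?_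
  have h8 : ∀ n, n ∣ (2 * r + 1) * (r * (r + 1)) → n ∣ 2 ∨ ∃ l, l ∣ n ∧ l ≠ 1 ∧ (l = p ∨ l = q) :=
    fun n hn => by
      have h8 : n ∣ 2 * (2 * k + 1) := hn.trans (Dvd.intro 1 (by linarith))
      by_cases h9 : n.Coprime (2 * k + 1)
      · exact .inl (h9.dvd_of_dvd_mul_right h8)
      obtain ⟨l, hl, h10, h11⟩ := Nat.Prime.not_coprime_iff_dvd.1 h9
      exact .inr ⟨l, h10, hl.ne_one, (h1 l hl (h ▸ h11.mul_left 4)).resolve_left
        (by rintro rfl; omega)⟩
  obtain ⟨l₁, h9, h10, h11⟩ := (h8 _ (dvd_mul_right ..)).resolve_left fun e => by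
    have := Nat.le_of_dvd two_pos e; omega
  obtain ⟨l₂, h12, h13, h14⟩ := (h8 _ ((dvd_mul_left ..).mul_left _)).resolve_left fun e => by
    have := Nat.le_of_dvd two_pos e; omega
  rcases h8 r ((dvd_mul_right ..).mul_left _) with e | ⟨l₃, h15, h16, h17⟩
  · have := Nat.le_of_dvd two_pos e
    obtain rfl : r = 2 := by omega
    omega
  have h18 : l₁ ≠ l₂ := fun e => h10 (Nat.dvd_one.1 ((Nat.dvd_add_right h9).1
    (show l₁ ∣ 2 * r + 1 + 1 from e ▸ h12.mul_left 2)))
  have h19 : l₁ ≠ l₃ := fun e => h10 (Nat.dvd_one.1 ((Nat.dvd_add_right (e ▸ h15.mul_left 2)).1 h9))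
  have h20 : l₂ ≠ l₃ := fun e => h13 (Nat.dvd_one.1 ((Nat.dvd_add_right (e ▸ h15)).1 h12))
  omega

omit [IsSimpleGroup G] hG in
theorem exists_odd {p e t : ℕ} {S Y : Finset (IrrCharacter G)} {a : IrrCharacter G → ℤ} {δ : ℤ}
    (h : PB p e t S Y a δ) : ∃ χ, (χ ∈ S ∨ χ ∈ Y) ∧ χ ≠ irrOne G ∧ Odd (charDegree (χ : G → ℂ)) := by
  classical
  by_contra! h1
  simp only [Nat.not_odd_iff_even, even_iff_two_dvd, ← Int.natCast_dvd_natCast] at h1
  obtain ⟨θ, hθ⟩ := h.nonempty
  have h2 := h.sum_deg' hθ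
  have h3 := dvd_sum fun χ (hχ : χ ∈ S.erase (irrOne G)) =>
    (h1 χ (.inl (mem_of_mem_erase hχ)) (ne_of_mem_erase hχ)).mul_left (a χ)
  have h4 := (h1 θ (.inr hθ) (h.ne_one hθ)).mul_left δ
  omega

theorem eq_one {χ : IrrCharacter G} (h : χ ≠ irrOne G) {g : G}
    (hg : ‖(χ : G → ℂ) g‖ = ‖(χ : G → ℂ) 1‖) : g = 1 := by
  have h1 := χ.2.isCharacter.charCenter_le_center (χ.2.charKer_eq_bot_of_isSimpleGroup
    fun e => h (Subtype.ext e)) (χ.2.isCharacter.mem_charCenter_iff.2 hg)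
  rwa [(center G).normal_of_characteristic.eq_bot_or_eq_top.resolve_right fun e =>
    hG ⟨⟨fun x y => mem_center_iff.1 (e ▸ mem_top y) x⟩⟩] at h1

theorem not_sq {p b : ℕ} (hp : p.Prime) (h5 : 5 ≤ p) (h : Nat.card G = 3 * p ^ 2 * 2 ^ b) :
    False := by
  classical
  have := Fact.mk hp
  have hc := commutator_eq_top_of_simple hG
  have h1 : ¬ 3 ∣ p ^ 2 * 2 ^ b := fun e => by
    rcases (Nat.prime_three.dvd_mul).1 e with e | e
    · have := Nat.prime_eq_prime_of_dvd_pow Nat.prime_three hp e; omega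
    · have := Nat.prime_eq_prime_of_dvd_pow Nat.prime_three Nat.prime_two e; omega
  obtain ⟨P⟩ : Nonempty (Sylow 3 G) := inferInstance
  have hP : Nat.card P = 3 := (card_sylow_eq 3 P (k := 1) (h.trans (mul_assoc ..)) h1).1
  obtain ⟨t, S, Y, a, δ, h2⟩ := exists_pb P hP
  have h3 := two_le_relIndex hc P hP
  have h4 := h2.mul
  have h6 := h2.t_pos
  generalize relIndex (G := G) _ _ = e at h2 h3 h4
  obtain rfl : e = 2 := by nlinarith
  obtain ⟨ξ, h7⟩ := card_eq_one.1 (show #(S.erase (irrOne G)) = 1 by have := h2.card_erase; omega)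
  obtain ⟨h8, h9⟩ := mem_erase.1 (h7.ge (mem_singleton_self ξ))
  obtain ⟨θ, hθ⟩ := h2.nonempty
  have h10 := h2.sum_deg' hθ
  rw [h7, sum_singleton] at h10
  have h11 : ∀ χ : IrrCharacter G, χ ∈ S ∨ χ ∈ Y → charDegree (χ : G → ℂ) ∣ p ^ 2 * 2 ^ b :=
    fun χ hχ => ((Nat.prime_three.coprime_iff_not_dvd.2 (h2.not_dvd hχ)).symm.dvd_of_dvd_mul_left
      (mul_assoc 3 _ _ ▸ h ▸ χ.2.charDegree_dvd_card))
  have key : ∀ χ ψ : IrrCharacter G, χ ∈ S ∨ χ ∈ Y → ψ ∈ S ∨ ψ ∈ Y → χ ≠ irrOne G →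
      Odd (charDegree (χ : G → ℂ)) → charDegree (χ : G → ℂ) ≠ charDegree (ψ : G → ℂ) + 1 ∧
      charDegree (χ : G → ℂ) + 1 ≠ charDegree (ψ : G → ℂ) := fun χ ψ hχ hψ h12 h13 => by
    have h14 := (Nat.dvd_prime_pow hp).1
      ((h13.coprime_two_right.pow_right b).dvd_of_dvd_mul_right (h11 χ hχ))
    have h15 := one_lt_charDegree hc h12
    obtain ⟨i, hi, h14⟩ := h14
    interval_cases i
    · simp [h14] at h15
    · obtain ⟨Q⟩ : Nonempty (Sylow p G) := inferInstance
      have hQ : Nat.card Q = p ^ 2 := (card_sylow_eq p Q (m := 3 * 2 ^ b)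
        (by rw [h]; ring) fun e => by
          rcases hp.dvd_mul.1 e with e | e
          · have := Nat.le_of_dvd (by omega) e; omega
          · have := Nat.prime_eq_prime_of_dvd_pow hp Nat.prime_two e; omega).1
      have := IsPGroup.isMulCommutative_of_card_eq_prime_sq hQ
      have h16 := card_mul_fixDim_of_const (A := Q) χ.2.isCharacter (c := 0) fun x hx h16 => by
        refine (χ.2.eq_zero_or_norm_eq_of_coprime ?_).elim (by simp) fun e =>
          (h16 (eq_one hG h12 e)).elim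
        rw [h14, pow_one, hp.coprime_iff_not_dvd]
        exact fun e => Q.not_dvd_index (e.trans (index_dvd_of_le fun y hy =>
          mem_centralizer_singleton_iff.2 (setLike_mul_comm hy hx)))
      rw [hQ, h14, mul_zero, add_zero, pow_one] at h16
      have := Nat.le_of_dvd hp.pos (show p ^ 2 ∣ p from ⟨_, by exact_mod_cast h16.symm⟩)
      nlinarith
    have h16 := h2.not_dvd hψ
    have h17 : p ^ 2 % 3 = 1 := by
      have := h2.not_dvd hχ
      rw [h14, Nat.prime_three.prime.dvd_pow_iff_dvd two_ne_zero] at this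
      rcases (by omega : p % 3 = 1 ∨ p % 3 = 2) with e | e <;> simp [Nat.pow_mod, e]
    refine ⟨by omega, fun e => ?_⟩
    have h18 : p ^ 2 % 4 = 1 := by
      have := hp.eq_two_or_odd
      rcases (by omega : p % 4 = 1 ∨ p % 4 = 3) with e | e <;> simp [Nat.pow_mod, e]
    obtain ⟨j, -, hj⟩ := (Nat.dvd_prime_pow Nat.prime_two).1 ((show Nat.Coprime _ (p ^ 2) by
      rw [← e, h14, Nat.coprime_self_add_left]; exact Nat.coprime_one_left _).dvd_of_dvd_mul_left (h11 ψ hψ))
    have : 25 ≤ p ^ 2 := by nlinarith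
    rcases j with _ | _ | j <;> omega
  rcases Nat.even_or_odd (charDegree (ξ : G → ℂ)) with e | e
  · have := key θ ξ (.inr hθ) (.inl h9) (h2.ne_one hθ) (by
      rw [Nat.odd_iff]; rw [Nat.even_iff] at e
      rcases h2.sign with rfl | rfl <;> rcases h2.signS ξ h9 with e' | e' <;> rw [e'] at h10 <;> omega)
    have := one_lt_charDegree hc h8
    rcases h2.sign with rfl | rfl <;> rcases h2.signS ξ h9 with e' | e' <;> rw [e'] at h10 <;> omega
  · have := key ξ θ (.inl h9) (.inr hθ) h8 e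
    have := one_lt_charDegree hc h8
    rcases h2.sign with rfl | rfl <;> rcases h2.signS ξ h9 with e' | e' <;> rw [e'] at h10 <;> omega

theorem three {p b : ℕ} (hp : p.Prime) (h5 : 5 ≤ p) (h : Nat.card G = 3 * p * 2 ^ b) :
    Nonempty (G ≃* alternatingGroup (Fin 5)) ∨
      Nonempty (G ≃* Matrix.ProjectiveSpecialLinearGroup (Fin 2) (ZMod 7)) := by
  classical
  have := Fact.mk hp
  have := Fintype.ofFinite G
  have hc := commutator_eq_top_of_simple hG
  have h1 : ¬ p ∣ 3 * 2 ^ b := fun e => by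
    rcases hp.dvd_mul.1 e with e | e
    · have := Nat.le_of_dvd (by omega) e; omega
    · have := Nat.prime_eq_prime_of_dvd_pow hp Nat.prime_two e; omega
  obtain ⟨P⟩ : Nonempty (Sylow p G) := inferInstance
  have hP : Nat.card P = p := (card_sylow_eq p P (k := 1) (by rw [h]; ring) h1).1.trans (pow_one p)
  obtain ⟨t, S, Y, a, δ, h2⟩ := exists_pb P hP
  obtain ⟨θ, h3, h4, h6⟩ := exists_odd h2
  have h7 : charDegree (θ : G → ℂ) = 3 := ((Nat.dvd_prime Nat.prime_three).1
    ((hp.coprime_iff_not_dvd.2 (h2.not_dvd h3)).symm.dvd_of_dvd_mul_right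
      ((h6.coprime_two_right.pow_right b).dvd_of_dvd_mul_right (h ▸ θ.2.charDegree_dvd_card)))).resolve_left
    (one_lt_charDegree hc h4).ne'
  have h8 : ∀ η : IrrCharacter G, charDegree (η : G → ℂ) = 3 → η ∈ S ∨ η ∈ Y → η ∈ Y :=
    fun η h8 h9 => h9.resolve_left fun h10 => by
      have := Int.le_of_dvd (by rcases h2.signS η h10 with e | e <;> omega) (h2.modS h10)
      rcases h2.signS η h10 with e | e <;> omega
  have hθ := h8 θ h7 h3
  have h9 : (θ : G → ℂ) 1 = (3 : ℤ) := by simp [θ.2.apply_one_eq, h7]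
  obtain ⟨T⟩ : Nonempty (Sylow 2 G) := inferInstance
  have hT : Nat.card T = 2 ^ b := (card_sylow_eq 2 T (h.trans (mul_comm ..)) (by
    have := hp.eq_two_or_odd; omega)).1
  have h10 := card_mul_fixDim_of_const (A := T) (θ.2.isCharacter.mul θ.2.isCharacter.conj) (c := 1)
    fun g hg h10 => by
      have h11 : orderOf g ∣ 2 ^ b := hT ▸ orderOf_dvd_natCard _ hg
      obtain ⟨n, hn⟩ := θ.2.isGeneralizedCharacter.exists_int_of_forall_pow (g := g) fun k hk => by
        obtain ⟨σ, h5⟩ := exists_ringEquiv_map_apply_eq_pow g hk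
        obtain ⟨l, hl, h6⟩ := exists_pow_forall_map_apply G σ.toRingHom
        exact (h5 _ θ.2.isGeneralizedCharacter).symm.trans ((h6 _ θ.2.isGeneralizedCharacter g).trans
          (h2.reg_eq hθ (h8 ⟨_, θ.2.comp_pow hl⟩ ((charDegree_congr (by simp)).trans h7)
            (h2.comp_pow_mem (.inr hθ) hl fun _ => rfl)) fun e => h1 ((e.trans h11).mul_left 3)))
      have h12 := Lib.Clifford.int_dvd_sub_of_pow_eq_one (p := 2) θ.2.isGeneralizedCharacter
        (orderOf_dvd_iff_pow_eq_one.1 h11) hn h9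
      have h13 := (θ.2.isCharacter.norm_le g).lt_of_ne fun e => h10 (eq_one hG h4 e)
      rw [hn, h9, Complex.norm_intCast, Complex.norm_intCast] at h13
      replace h13 : |n| < |(3 : ℤ)| := by exact_mod_cast h13
      rw [abs_lt] at h13
      obtain rfl | rfl : n = 1 ∨ n = -1 := by simp at h13; omega
      all_goals simp [hn]
  have h11 : charDegree (θ.1 * fun g => (starRingEnd ℂ) (θ.1 g)) = 9 :=
    Nat.cast_injective (R := ℂ) (by
      rw [← (θ.2.isCharacter.mul θ.2.isCharacter.conj).apply_one_eq]; simp [h9, map_ofNat]; norm_num)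
  rw [h11, hT] at h10
  generalize fixDim _ T.1 = f at h10
  have h12 : 2 ^ b ≤ 8 := Nat.le_of_dvd (by norm_num) (Int.natCast_dvd_natCast.1
    (Dvd.intro (f - 1) (by rw [mul_sub, h10]; ring)))
  have h13 := (brauer_of_lt_cube hc (by nlinarith [Nat.mul_le_mul h5 h5]) P fun e =>
    (e.eq_bot_or_eq_top).elim (fun e => by simp [e] at hP; omega) fun e => by
      rw [e, card_top, h] at hP; nlinarith [Nat.two_pow_pos b]).of_eq_bot
    ((inferInstance : (pPrimeCore p G).Normal).eq_bot_or_eq_top.resolve_right fun e =>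
      Lib.Core.not_dvd_card_pPrimeCore p G (by rw [e, card_top, h]; exact (dvd_mul_left ..).mul_right _))
  by_cases h14 : p = 7
  · subst h14
    exact .inr (h13.2.resolve_right fun ⟨m, _, e, _⟩ => by rcases m with _ | _ | m <;> omega)
  refine .inl (equiv_alt_five_of_simple ?_)
  have h15 : b ≤ 3 := (Nat.pow_le_pow_iff_right one_lt_two).1 h12
  rcases h13.card with e | e <;> rw [h] at e
  · have h16 : 6 * 2 ^ b = p ^ 2 - 1 := Nat.eq_of_mul_eq_mul_left hp.pos (by linarith)
    have : p < 8 := by nlinarith [Nat.sub_add_cancel (Nat.one_le_pow 2 p hp.pos)]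
    interval_cases p <;> interval_cases b <;> omega
  · have h16 : 3 * 2 ^ b = (p - 1) * (p - 2) := Nat.eq_of_mul_eq_mul_left hp.pos (by linarith)
    obtain ⟨n, rfl⟩ := Nat.exists_eq_add_of_le' h5
    rw [show n + 5 - 1 = n + 4 from rfl, show n + 5 - 2 = n + 3 from rfl] at h16
    have : n < 3 := by nlinarith
    interval_cases n <;> interval_cases b <;> omega

omit hG

/-- Let G be a non-abelian finite simple group and p, q distinct primes. If the order of G is 4·p^a·q^b with a ≤ 2, then G is isomorphic to the alternating group of degree 5. If the order of G is 3·p^a·q^b with a ≤ 2, then G is isomorphic to the alternating group of degree 5 or to PSL(2,7). -/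
theorem result {G : Type*} [Group G] [Finite G] [IsSimpleGroup G] (hna : ∃ x y : G, x * y ≠ y * x) (p q a b : ℕ) (hp : p.Prime) (hq : q.Prime) (hpq : p ≠ q) (ha : a ≤ 2) : (Nat.card G = 4 * p ^ a * q ^ b → Nonempty (G ≃* alternatingGroup (Fin 5))) ∧ (Nat.card G = 3 * p ^ a * q ^ b → Nonempty (G ≃* alternatingGroup (Fin 5)) ∨ Nonempty (G ≃* Matrix.ProjectiveSpecialLinearGroup (Fin 2) (ZMod 7))) := by
  have hG : ¬ IsMulCommutative G := fun h => hna.elim fun x h => h.elim fun y h => h (mul_comm' x y)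
  refine ⟨four hG hp hq, fun h => ?_⟩
  have h1 : ∀ r : ℕ, r.Prime → r ∣ Nat.card G → r = 3 ∨ r ∣ p ^ a ∨ r = q := fun r hr h1 => by
    rw [h, hr.dvd_mul, hr.dvd_mul, or_assoc] at h1
    exact h1.imp ((Nat.prime_dvd_prime_iff_eq hr Nat.prime_three).1)
      (.imp_right (Nat.prime_eq_prime_of_dvd_pow hr hq))
  have h2 : ∀ r : ℕ, r.Prime → r ∣ Nat.card G → r = 3 ∨ r = p ∨ r = q := fun r hr h2 =>
    (h1 r hr h2).imp_right (.imp_left (Nat.prime_eq_prime_of_dvd_pow hr hp))
  have h3 : p ≠ 3 := fun e => not_solv hG (isSolvable_of_forall_prime_dvd G p q fun r hr h3 => by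
    have := h2 r hr h3; omega)
  have h4 : a ≠ 0 := fun e => not_solv hG (isSolvable_of_forall_prime_dvd G 3 q fun r hr h3 =>
    (h1 r hr h3).imp_right fun h => h.resolve_left fun h => hr.ne_one (by simpa [e] using h))
  have h5 : 2 ∣ Nat.card G := by_contra fun e => not_solv hG (Agent.S0205.result (by
    rwa [← Nat.not_even_iff_odd, even_iff_two_dvd]))
  rcases (h2 2 Nat.prime_two h5).resolve_left (by omega) with rfl | rfl
  · obtain rfl : a = 2 := by
      obtain ⟨T⟩ : Nonempty (Sylow 2 G) := inferInstance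
      obtain ⟨k, hk⟩ := (hq.odd_of_ne_two hpq.symm).pow (n := b)
      by_contra e
      obtain rfl : a = 1 := by omega
      have := card_subgroup_dvd_card T.1
      rw [(Agent.S0992.result hG (even_iff_two_dvd.2 h5) (by omega) T).1.card_four] at this
      omega
    exact .inl (four hG (a := 1) (b := b) Nat.prime_three hq (by rw [h]; ring))
  have h6 : 5 ≤ p := hp.five_le_of_ne_two_of_ne_three hpq h3
  interval_cases a
  · omega
  · exact three hG hp h6 (pow_one p ▸ h)
  · exact (not_sq hG hp h6 h).elim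

end Cfsg.Agent.S4501
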