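import Cfsg.Statements.S0988
import Cfsg.Agent.S4501

set_option autoImplicit false
open Cfsg

namespace Cfsg.Agent.S0988

/-- If a finite simple group has order p^2 * q * r with p, q and r prime, then its order is 60. -/
theorem result {G : Type*} [Group G] [Finite G] [IsSimpleGroup G] (p q r : ℕ) (hp : p.Prime) (hq : q.Prime) (hr : r.Prime) (hG : Nat.card G = p ^ 2 * q * r) : Nat.card G = 60 := by
  have h1 : ¬ IsMulCommutative G := Lib.Small.not_isMulCommutative_of_simple (by
    rw [hG, sq, mul_assoc, mul_assoc]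
    exact Nat.not_prime_mul hp.ne_one fun e => hp.ne_one (Nat.eq_one_of_mul_eq_one_right e))
  have h2 := S4501.not_solv h1
  have h3 : ∀ l : ℕ, l.Prime → l ∣ Nat.card G → l = p ∨ l = q ∨ l = r := fun l hl h => by
    rw [hG, hl.dvd_mul, hl.dvd_mul, or_assoc] at h
    exact h.imp (Nat.prime_eq_prime_of_dvd_pow hl hp) (.imp (Nat.prime_dvd_prime_iff_eq hl hq).1
      (Nat.prime_dvd_prime_iff_eq hl hr).1)
  have h4 : ∀ a b, ¬ ∀ l : ℕ, l.Prime → l ∣ Nat.card G → l = a ∨ l = b := fun a b h =>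
    h2 (Lib.Char.isSolvable_of_forall_prime_dvd G a b h)
  have h5 : p ≠ q := fun e => h4 q r fun l hl h => by have := h3 l hl h; omega
  have h6 : p ≠ r := fun e => h4 q r fun l hl h => by have := h3 l hl h; omega
  have h7 : q ≠ r := fun e => h4 p r fun l hl h => by have := h3 l hl h; omega
  have h8 : Even (Nat.card G) := Nat.not_odd_iff_even.1 fun h => h2 (S0205.result h)
  have h9 : ∀ a b : ℕ, a.Prime → b.Prime → a ≠ 2 → b ≠ 2 → Nat.card G ≠ a ^ 2 * b * 2 :=
    fun a b ha hb a2 b2 h => by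
    obtain ⟨k, hk⟩ := ((ha.odd_of_ne_two a2).pow (n := 2)).mul (hb.odd_of_ne_two b2)
    obtain ⟨T⟩ : Nonempty (Sylow 2 G) := inferInstance
    have := (S0992.result h1 h8 (by omega) T).1.card_four ▸ (T : Subgroup G).card_subgroup_dvd_card
    omega
  obtain rfl | rfl | rfl := h3 2 Nat.prime_two h8.two_dvd
  · obtain ⟨e⟩ := S4501.four h1 (a := 1) (b := 1) hq hr (by simpa using hG)
    rw [Nat.card_congr e.toEquiv, nat_card_alternatingGroup, Nat.card_fin]
    rfl
  · exact (h9 p r hp hr h5 h7.symm (by rw [hG]; ring)).elim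
  · exact (h9 p q hp hq h6 h7 hG).elim

end Cfsg.Agent.S0988
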