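import Cfsg.Statements.S1141
import Cfsg.Agent.Lib.Unitary.U3

set_option autoImplicit false
open Cfsg

namespace Cfsg.Agent.S1141

theorem suz_congr {P Q : Type*} [Group P] [Group Q] (e : P ≃* Q) (h : Cfsg.IsSuzukiTwoGroup Q) :
    Cfsg.IsSuzukiTwoGroup P := by
  obtain ⟨h1, h2, ⟨a, b, hab⟩, ⟨x, y, hxy, hx1, hx2, hy1, hy2⟩, K, hK, H⟩ := h
  refine ⟨Finite.of_equiv _ e.symm.toEquiv, h2.of_equiv e.symm,
    ⟨e.symm a, e.symm b, by simpa [← map_mul] using hab⟩,
    ⟨e.symm x, e.symm y, by simpa using hxy, by simpa using hx1, by simp [← map_mul, hx2],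
      by simpa using hy1, by simp [← map_mul, hy2]⟩, K.map (MulAut.congr e.symm).toMonoidHom,
    isCyclic_of_surjective _ (K.equivMapOfInjective _ (MulAut.congr e.symm).injective).surjective,
    fun u v hu1 hu2 hv1 hv2 => ?_⟩
  obtain ⟨k, hk, hk'⟩ := H (e u) (e v) (by simpa using hu1) (by simp [← map_mul, hu2])
    (by simpa using hv1) (by simp [← map_mul, hv2])
  refine ⟨⟨_, k, k.2, rfl⟩, by simp [MulAut.congr, hk], ?_⟩
  rintro ⟨_, l, hl, rfl⟩ hl'
  obtain rfl := hk' ⟨l, hl⟩ (by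
    have := congrArg e hl'
    simpa [MulAut.congr] using this)
  rfl

open Cfsg.Lib.Unitary in
theorem suz_heis {F : Type*} [Field F] [CharP F 2] {q : ℕ} {σ : F →+* F} (h : IsBar q σ)
    (hq : q ≠ 2) : Cfsg.IsSuzukiTwoGroup (Heis h.invol) := by
  have := h.finite
  have hinv : ∀ a : Heis h.invol, a * a = 1 ↔ a.x = 0 := fun a => by
    rw [Heis.eq_one_iff]
    simp [CharTwo.add_self_eq_zero]
  have hfix : ∀ a : Heis h.invol, a.x = 0 → σ a.y = a.y := fun a ha => by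
    have := a.rel
    rw [ha, zero_mul, CharTwo.add_eq_zero] at this
    exact this.symm
  have hsq : ∀ s t : F, s * s = t * t → s = t := fun s t e =>
    (mul_self_eq_mul_self_iff.mp e).elim id fun e => e.trans (CharTwo.neg_eq t)
  refine ⟨h.finite_heis, h.isPGroup_heis, ?_, ?_, ?_⟩
  · obtain ⟨a, ha⟩ := h.exists_heis 1
    by_contra! H
    have := h.mem_center_heis.mp (Subgroup.mem_center_iff.mpr fun b => H b a)
    simp [ha] at this
  · obtain ⟨s, hs, hs0, hs1⟩ := h.exists_fixed_ne hq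
    refine ⟨⟨0, 1, by simp [CharTwo.add_self_eq_zero]⟩, ⟨0, s, by simp [hs, CharTwo.add_self_eq_zero]⟩,
      ?_, ?_, (hinv _).mpr rfl, ?_, (hinv _).mpr rfl⟩
    · simpa [Heis.ext_iff] using hs1.symm
    · simp [Heis.eq_one_iff]
    · simpa [Heis.eq_one_iff] using hs0
  · let L : Subgroup Fˣ := (Units.map (σ : F →* F)).eqLocus (MonoidHom.id _)
    have hL : ∀ s : Fˣ, s ∈ L ↔ σ s = s := fun s => Units.ext_iff
    refine ⟨L.map (Heis.torus h.invol), isCyclic_of_surjective _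
      ((Heis.torus h.invol).subgroupMap_surjective L), fun a b ha1 ha hb1 hb => ?_⟩
    rw [hinv] at ha hb
    have ha0 : a.y ≠ 0 := fun e => ha1 (Heis.eq_one_iff.mpr ⟨ha, e⟩)
    have hb0 : b.y ≠ 0 := fun e => hb1 (Heis.eq_one_iff.mpr ⟨hb, e⟩)
    obtain ⟨s, hs⟩ := (frobeniusEquiv F 2).surjective (b.y / a.y)
    have hs' : s * s = b.y / a.y := by simpa [frobenius_def, pow_two] using hs
    have hs0 : s ≠ 0 := by
      rintro rfl
      exact div_ne_zero hb0 ha0 (by simpa using hs'.symm)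
    have hsσ : σ s = s := hsq _ _ (by rw [← map_mul, hs', map_div₀, hfix a ha, hfix b hb])
    refine ⟨⟨_, Units.mk0 s hs0, (hL _).mpr hsσ, rfl⟩, ?_, ?_⟩
    · ext
      · simp [ha, hb]
      · simp [hsσ, hs', ha0]
    · rintro ⟨_, t, ht, rfl⟩ e
      have h1 := congrArg Heis.y e
      simp only [Heis.torus_y, (hL t).mp ht] at h1
      obtain rfl : t = Units.mk0 s hs0 := Units.ext (hsq _ _ (by
        rw [Units.val_mk0, hs', ← h1, mul_div_cancel_right₀ _ ha0]))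
      rfl

/-- Let `q = 2^n ≥ 4` and `|F| = q²`. A Sylow 2-subgroup `S` of `PSU₃(q)` has order `q³`, its centre has order `q`, and `S` is a Suzuki 2-group. -/
theorem result {F : Type*} [Field F] [Fintype F] {n : ℕ} (hn : 2 ≤ n)
    (hF : Fintype.card F = (2 ^ n) ^ 2) (S : Sylow 2 (Cfsg.PSU 3 F (2 ^ n))) :
    Nat.card S = (2 ^ n) ^ 3 ∧ Nat.card (Subgroup.center ↥(S : Subgroup (Cfsg.PSU 3 F (2 ^ n)))) = 2 ^ n ∧
      Cfsg.IsSuzukiTwoGroup ↥(S : Subgroup (Cfsg.PSU 3 F (2 ^ n))) := by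
  obtain ⟨σ, h⟩ := Lib.Unitary.exists_isBar hF
  have : CharP F 2 := by
    have h1 := h.cast_q
    rw [Nat.cast_pow, pow_eq_zero_iff (by omega)] at h1
    exact (CharP.charP_iff_prime_eq_zero Nat.prime_two).mpr h1
  obtain ⟨e⟩ := h.nonempty_sylow_PSU_equiv 2 S
  refine ⟨by rw [Nat.card_congr e.toEquiv, h.card_heis], ?_, suz_congr e (suz_heis h ?_)⟩
  · rw [Nat.card_congr (Subgroup.centerCongr e).toEquiv, h.card_center_heis]
  · have : 2 ^ 2 ≤ 2 ^ n := Nat.pow_le_pow_right (by norm_num) hn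
    omega

end Cfsg.Agent.S1141
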