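import Cfsg.Statements.S1149
import Cfsg.Agent.Lib.ReeU.Main

set_option autoImplicit false
open Cfsg

namespace Cfsg.Agent.S1149



/-- Let `G` be finite simple with a (B,N)-pair of rank 1, `B = U H`, `U` nilpotent normal in `B`, `H = B ⊓ N`, `U ⊓ H = 1`, with `n` odd, `[G : B] = 3^(3n) + 1`, `|U| = 3^(3n)`, `H` cyclic of order `3^n - 1`, every non-identity element of `H` of odd order centralising no non-identity element of `U`, some involution of `H` having centraliser isomorphic to `Z₂ × PSL₂(3^n)`, and Sylow 2-subgroups elementary abelian of order 8. Then `G` is a small Ree group `²G₂(3^n)`. -/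
theorem result {G : Type*} [Group G] [Finite G] [IsSimpleGroup G]
    (P : Cfsg.BNPair G) (h1 : P.rank = 1) {n : ℕ} (hn : Odd n)
    (U : Subgroup G) (hUB : U ≤ P.B) (hUn : ∀ b ∈ P.B, ∀ u ∈ U, b * u * b⁻¹ ∈ U)
    (hUnil : Group.IsNilpotent U) (hsplit : U ⊔ (P.B ⊓ P.N) = P.B) (hdisj : U ⊓ (P.B ⊓ P.N) = ⊥)
    (hind : P.B.index = 3 ^ (3 * n) + 1) (hU : Nat.card U = 3 ^ (3 * n)) (hHc : IsCyclic ↥(P.B ⊓ P.N)) (hH : Nat.card ↥(P.B ⊓ P.N) = 3 ^ n - 1)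
    (hfpf : ∀ h ∈ P.B ⊓ P.N, h ≠ 1 → Odd (orderOf h) → U ⊓ Subgroup.centralizer {h} = ⊥)
    (K : Type*) [Field K] [Fintype K] (hK : Fintype.card K = 3 ^ n)
    (hinv : ∃ a ∈ P.B ⊓ P.N, a ≠ 1 ∧ a * a = 1 ∧
      Nonempty (↥(Subgroup.centralizer {a}) ≃* Multiplicative (ZMod 2) × Matrix.ProjectiveSpecialLinearGroup (Fin 2) K))
    (hsyl : ∀ S : Sylow 2 G, Nat.card S = 8 ∧ ∀ x ∈ S, x * x = 1) : Cfsg.Lie.IsoRee G := by
  obtain ⟨S⟩ : Nonempty (Sylow 2 G) := inferInstance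
  obtain ⟨a, -, a1, aa, ⟨e⟩⟩ := hinv
  have hA : Lib.JR.Ab2 G := Lib.JR.ab2_of_sylow S ⟨⟨fun x y => Subtype.ext (by
    have h := (hsyl S).2
    have h1 := inv_eq_of_mul_eq_one_right (h _ (x * y).2)
    rw [Subgroup.coe_mul, mul_inv_rev, inv_eq_of_mul_eq_one_right (h _ x.2),
      inv_eq_of_mul_eq_one_right (h _ y.2)] at h1
    exact h1.symm)⟩⟩
  have ha : orderOf a = 2 := orderOf_eq_prime (by rw [sq, aa]) a1
  have hC : Nat.card (Subgroup.centralizer {a}) =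
      2 * Nat.card (Matrix.ProjectiveSpecialLinearGroup (Fin 2) K) := by
    rw [Nat.card_congr e.toEquiv, Nat.card_prod]; simp
  rw [← Nat.card_eq_fintype_card] at hK
  obtain ⟨k, rfl⟩ := hn
  have h3 : 3 ≤ Nat.card K := by
    rw [hK]; exact Nat.le_self_pow (by omega) 3
  rcases Lib.W2.janko_ree hA h3 ha hC with ⟨m, hm, hF, -⟩ | ⟨h | h, -⟩
  · exact Lib.ReeU.isoRee hA hm hF ha hC
  · have : 3 ∣ 4 := h ▸ hK ▸ dvd_pow_self 3 (by omega)
    omega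
  · have : 3 ∣ 5 := h ▸ hK ▸ dvd_pow_self 3 (by omega)
    omega

end Cfsg.Agent.S1149
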