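import Cfsg.Statements.S1154
import Cfsg.Agent.Lib.Ree.Inst
import Cfsg.Agent.Lib.Ree.Borel

set_option autoImplicit false
open Cfsg

namespace Cfsg.Agent.S1154

/-- In the small Ree group ²G₂(q), q = 3^(2m+1) with m ≥ 1, realised as G¹ inside the Chevalley group G₂ over the field with q elements (θ the 3^m-th power map), with `U¹ = G¹ ∩ U` (U the positive unipotent subgroup of the ambient G₂): `U¹` has exactly `q² - 1` elements of order 3. -/
theorem result {K : Type*} [Field K] [Fintype K] {m : ℕ} (hm : 1 ≤ m) (hK : Fintype.card K = 3 ^ (2 * m + 1)) :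
    Nat.card {u : ↥(Cfsg.Lie.chevG2.posUnipotent K ⊓ Cfsg.Lie.twistedG2 K (3 ^ m)) // orderOf u = 3} = (3 ^ (2 * m + 1)) ^ 2 - 1 := by
  obtain ⟨M, h, -, -⟩ := Lib.Ree.exists_model hK
  revert M
  generalize Lie.twistedG2 K (3 ^ m) = T
  intro M h
  rw [← hK, ← Nat.card_eq_fintype_card, ← M.ncard_order_three, ← Nat.card_coe_set_eq]
  refine Nat.card_congr ⟨fun u => ⟨⟨u.1, u.1.2.2⟩, M.U_le_B (h.ge u.1.2), ?_⟩,
    fun g => ⟨⟨g.1, h.le (M.mem_U_of_pow g.2.1 (k := 1) ?_)⟩, ?_⟩, fun _ => rfl, fun _ => rfl⟩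
  · exact (Subgroup.orderOf_coe _).symm.trans ((Subgroup.orderOf_coe u.1).trans u.2)
  · exact (congrArg (g.1 ^ ·) g.2.2.symm).trans (pow_orderOf_eq_one _) ▸ M.U.one_mem
  · exact (Subgroup.orderOf_coe _).symm.trans ((Subgroup.orderOf_coe g.1).trans g.2.2)

end Cfsg.Agent.S1154
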