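import Cfsg.Statements.S1155
import Cfsg.Agent.Lib.Ree.Inst
import Cfsg.Agent.Lib.Ree.Borel

set_option autoImplicit false
open Cfsg

namespace Cfsg.Agent.S1155

/-- In the small Ree group ²G₂(q), q = 3^(2m+1) with m ≥ 1, realised as G¹ inside the Chevalley group G₂ over the field with q elements (θ the 3^m-th power map): distinct Sylow 3-subgroups of `G¹` meet trivially. -/
theorem result {K : Type*} [Field K] [Fintype K] {m : ℕ} (hm : 1 ≤ m) (hK : Fintype.card K = 3 ^ (2 * m + 1))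
    (P Q : Sylow 3 ↥(Cfsg.Lie.twistedG2 K (3 ^ m))) (hPQ : P ≠ Q) : (P : Subgroup ↥(Cfsg.Lie.twistedG2 K (3 ^ m))) ⊓ (Q : Subgroup ↥(Cfsg.Lie.twistedG2 K (3 ^ m))) = ⊥ := by
  obtain ⟨M, -⟩ := Lib.Ree.exists_model hK
  have := M.finite
  obtain ⟨x, rfl⟩ := MulAction.exists_smul_eq (Lie.twistedG2 K (3 ^ m)) M.sylowU P
  obtain ⟨y, rfl⟩ := MulAction.exists_smul_eq (Lie.twistedG2 K (3 ^ m)) M.sylowU Q
  rw [eq_bot_iff]
  rintro _ ⟨⟨g, hg, rfl⟩, g', hg', e⟩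
  by_contra h
  refine hPQ (eq_comm.1 (inv_smul_eq_iff.1 ?_))
  rw [← mul_smul, Sylow.smul_eq_iff_mem_normalizer]
  refine M.normalizer_U.ge (M.mem_B_of_conj hg' (fun e' => h ?_) ?_)
  · rw [← e, e']
    simp
  · have : x⁻¹ * y * g' * (x⁻¹ * y)⁻¹ = g := by
      have e' : y * g' * y⁻¹ = x * g * x⁻¹ := e
      calc _ = x⁻¹ * (y * g' * y⁻¹) * x := by group
        _ = g := by rw [e']; group
    exact this ▸ M.U_le_B hg

end Cfsg.Agent.S1155
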