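import Cfsg.Statements.S1158
import Cfsg.Agent.Lib.Ree.Inst
import Cfsg.Agent.Lib.Ree.Orders

set_option autoImplicit false
open Cfsg

namespace Cfsg.Agent.S1158

/-- In the small Ree group ²G₂(q), q = 3^(2m+1) with m ≥ 1, realised as G¹ inside the Chevalley group G₂ over the field with q elements (θ the 3^m-th power map), with `r = 3^(m+1)` (so `r² = 3q`): for each `k ∈ {(q-1)/2, (q+1)/4, q - r + 1, q + r + 1}` there is a cyclic subgroup `A` of order `k` whose normaliser has order `2(q-1)`, `6(q+1)`, `6(q-r+1)`, `6(q+r+1)` respectively, and `N(A₀) = N(A)` for every non-trivial `A₀ ≤ A`. -/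
theorem result {K : Type*} [Field K] [Fintype K] {m : ℕ} (hm : 1 ≤ m) (hK : Fintype.card K = 3 ^ (2 * m + 1)) :
    ∀ kn ∈ ({((3 ^ (2 * m + 1) - 1) / 2, 2 * (3 ^ (2 * m + 1) - 1)), ((3 ^ (2 * m + 1) + 1) / 4, 6 * (3 ^ (2 * m + 1) + 1)),
        (3 ^ (2 * m + 1) - 3 ^ (m + 1) + 1, 6 * (3 ^ (2 * m + 1) - 3 ^ (m + 1) + 1)),
        (3 ^ (2 * m + 1) + 3 ^ (m + 1) + 1, 6 * (3 ^ (2 * m + 1) + 3 ^ (m + 1) + 1))} : Set (ℕ × ℕ)),
      ∃ A : Subgroup ↥(Cfsg.Lie.twistedG2 K (3 ^ m)), IsCyclic A ∧ Nat.card A = kn.1 ∧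
        Nat.card (Subgroup.normalizer (A : Set ↥(Cfsg.Lie.twistedG2 K (3 ^ m)))) = kn.2 ∧
        ∀ A₀ : Subgroup ↥(Cfsg.Lie.twistedG2 K (3 ^ m)), A₀ ≤ A → A₀ ≠ ⊥ →
          Subgroup.normalizer (A₀ : Set ↥(Cfsg.Lie.twistedG2 K (3 ^ m))) = Subgroup.normalizer (A : Set ↥(Cfsg.Lie.twistedG2 K (3 ^ m))) := by
  obtain ⟨M, -⟩ := Lib.Ree.exists_model hK
  have := M.finite
  have hq := Lib.Ree.three_lt_card hm hK
  obtain ⟨t, -, h, h0⟩ := M.exists_torH hq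
  obtain ⟨T, -, -, -, h', h0', -⟩ := M.exists_torQ hq
  obtain ⟨s, s', h1, h2, h3, h4, h5, h6⟩ := M.exists_torE_pair hq (Lib.Ree.sq_eq_three_mul hK)
  have key : ∀ (t : Lib.Ree.Tor ↥(Cfsg.Lie.twistedG2 K (3 ^ m))) (A₀ : Subgroup _), A₀ ≤ t.A →
      A₀ ≠ ⊥ → Subgroup.normalizer (A₀ : Set ↥(Cfsg.Lie.twistedG2 K (3 ^ m))) =
        Subgroup.normalizer (t.A : Set ↥(Cfsg.Lie.twistedG2 K (3 ^ m))) :=
    fun t A₀ h h1 => (t.normalizer_of_le h h1).trans t.normalizer_A.symm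
  rw [← hK, ← Nat.card_eq_fintype_card]
  rintro _ (rfl | rfl | rfl | rfl)
  · exact ⟨t.A, t.cyc, h, by rw [t.normalizer_A, h0, M.card_N], key t⟩
  · exact ⟨T.A, T.cyc, h', by rw [T.normalizer_A, h0'], key T⟩
  · exact ⟨s.A, s.cyc, h1 ▸ h3, by rw [s.normalizer_A, h5, h3], key s⟩
  · exact ⟨s'.A, s'.cyc, h2 ▸ h4, by rw [s'.normalizer_A, h6, h4], key s'⟩

end Cfsg.Agent.S1158
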