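import Cfsg.Statements.S1245
import Cfsg.Agent.Lib.Ab.Walter

set_option autoImplicit false
open Cfsg

namespace Cfsg.Agent.S1245

open Subgroup Cfsg.Lib.BG Cfsg.Lib.JR Cfsg.Lib.Ab Cfsg.Lib.Transfer
open scoped Cfsg.Lib.Transfer

/-- Let G be a non-abelian finite simple group with commutative Sylow 2-subgroups, and t an involution whose centralizer is the internal direct product of ⟨t⟩ and a subgroup E which has a normal subgroup E₀ ≅ PSL(2,F), |F| odd, with C_E(E₀) = 1 (so PSL(2,q) ≤ E ≤ Aut PSL(2,q)). Then C_G(t) is a maximal subgroup of G. -/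
theorem result {G : Type*} [Group G] [Finite G] [IsSimpleGroup G] (hna : ¬ IsMulCommutative G) (S : Sylow 2 G) (hS : IsMulCommutative (S : Subgroup G)) (t : G) (ht : orderOf t = 2) (E E₀ : Subgroup G) (hprod : Cfsg.IsInternalDirectProduct (Subgroup.zpowers t) E (Subgroup.centralizer ({t} : Set G))) (hE₀E : E₀ ≤ E) (hE₀n : (E₀.subgroupOf E).Normal) (hE₀ : ∃ (F : Type) (_ : Field F) (_ : Fintype F), Odd (Fintype.card F) ∧ Nonempty (E₀ ≃* Matrix.ProjectiveSpecialLinearGroup (Fin 2) F)) (hCE : E ⊓ Subgroup.centralizer (E₀ : Set G) = ⊥) : IsCoatom (Subgroup.centralizer ({t} : Set G)) := by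
  obtain ⟨F, _, _, hF, hi⟩ := hE₀
  have ab := ab2_of_sylow S hS
  have h : JRS F t E E₀ := ⟨ab, ht, hprod, hE₀E, (normal_subgroupOf_iff_le_normalizer hE₀E).1 hE₀n,
    hCE, by rwa [Nat.card_eq_fintype_card], hi⟩
  obtain ⟨T, hT⟩ := h.exists_syl
  have hT' := Syl.of_sylow_top T
  have h8 := h.syl_card hT' hT
  rcases walter hna ab with ⟨K, _, _, -, ⟨e⟩⟩ | ⟨K, _, _, s, E', N, -, h1, h2⟩
  · exfalso
    by_cases hq : Odd (Nat.card K)
    · have h1 := hT'.map e.toMonoidHom
      rw [map_top_of_surjective _ e.surjective] at h1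
      have := ((Lib.Small.isKleinFour_map_iff e.injective).1
        (psl_syl_four hq (ab.of_equiv e) h1)).card_four
      omega
    have h1 : IsPGroup 2 𝐂[t] := by
      refine IsPGroup.of_equiv (pgroup_of_le (psl_two_cent hq (t := e t) (by simpa using ht)) ?_)
        (𝐂[t].equivMapOfInjective e.toMonoidHom e.injective).symm
      rintro _ ⟨x, hx, rfl⟩
      exact mem_cent1.2 (by simpa using congrArg e (mem_cent1.1 hx))
    have h2 := pgroup_of_le h1 (hE₀E.trans hprod.2.1)
    obtain ⟨V, hV⟩ := Syl.exists 2 E₀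
    have h3 := (h.syl_four hV).card_four
    have : Nontrivial E₀ := (nontrivial_iff_ne_bot _).2 fun e => by
      rw [eq_bot_mono e hV.le, card_bot] at h3; omega
    exact (bot_lt_iff_ne_bot.1 h2.bot_lt_center) h.center_N
  · obtain ⟨y, hy⟩ := sing_of_eight (pRes_of_simple hna) hT' (h.syl_elem hT' hT) h8
    obtain ⟨g, rfl⟩ := Sing.exists_conj hT' hy h1.ord ht
    rw [← conj_cent1]
    exact mmax_conj h2 g

end Cfsg.Agent.S1245
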