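import Cfsg.Statements.S1249
import Cfsg.Agent.Lib.Transfer.SylowIn

set_option autoImplicit false
open Cfsg

namespace Cfsg.Agent.S1249

open Cfsg.Lib.Transfer

/-- Let P and Q be Sylow p-subgroups of the finite group G both containing the subgroup A. If A is strongly closed in P, then A is strongly closed in Q. -/
theorem result {G : Type*} [Group G] [Finite G] {p : ℕ} [Fact p.Prime] (P Q : Sylow p G) (A : Subgroup G) (hAQ : A ≤ Q) (hA : Cfsg.IsStronglyClosed A (P : Subgroup G)) : Cfsg.IsStronglyClosed A (Q : Subgroup G) := by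
  refine ⟨hAQ, fun x hx g hg => ?_⟩
  obtain ⟨h, hh⟩ := exists_conj_le_sylow P Q.isPGroup'
  have h1 : h ⋆ A ≤ A := conj_le_iff.2 fun a ha => hA.2 a ha h (conj_le_iff.1 hh a (hAQ ha))
  have h2 : h ⋆ A = A := conj_eq_self_iff.2 (mem_normalizer_of_conj_le h1)
  have h3 := hA.2 x hx (h * g) (by
    have := conj_le_iff.1 hh _ hg
    convert this using 1; group)
  rw [← conj_mem_conj (g := h), h2]
  convert h3 using 1; group

end Cfsg.Agent.S1249
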