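import Cfsg.Statements.S1250
import Cfsg.Agent.Lib.Transfer.SylowIn
import Cfsg.Agent.Lib.Inv.Basic

set_option autoImplicit false
open Cfsg

namespace Cfsg.Agent.S1250
open Cfsg.Lib.Inv

open Cfsg.Lib.Transfer

/-- Let S be a Sylow p-subgroup of the finite group G, A ≤ S strongly closed in S, and N a normal subgroup. Then the image of A in G ⧸ N is strongly closed in the image of S (which is a Sylow p-subgroup of G ⧸ N). -/
theorem result {G : Type*} [Group G] [Finite G] {p : ℕ} [Fact p.Prime] (S : Sylow p G) (A : Subgroup G) (hA : Cfsg.IsStronglyClosed A (S : Subgroup G)) (N : Subgroup G) [N.Normal] : Cfsg.IsStronglyClosed (A.map (QuotientGroup.mk' N)) ((S : Subgroup G).map (QuotientGroup.mk' N)) := by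
  refine ⟨Subgroup.map_mono hA.1, ?_⟩
  rintro _ ⟨x, hx, rfl⟩ g ⟨s, hs, hsx⟩
  induction g using QuotientGroup.induction_on with
  | H g =>
  have hy : g * x * g⁻¹ ∈ N ⊔ (S : Subgroup G) := by
    have h1 : s⁻¹ * (g * x * g⁻¹) ∈ N := by
      rw [← QuotientGroup.eq]
      simpa using hsx
    have : g * x * g⁻¹ = s * (s⁻¹ * (g * x * g⁻¹)) := by group
    rw [this]
    exact Subgroup.mul_mem _ (Subgroup.mem_sup_right hs) (Subgroup.mem_sup_left h1)
  obtain ⟨k, hk⟩ := S.isPGroup' ⟨x, hA.1 hx⟩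
  have hk' : x ^ p ^ k = 1 := congrArg Subtype.val hk
  have hp : IsPGroup p (Subgroup.zpowers (g * x * g⁻¹)) :=
    isPGroup_zpowers (k := k) (by rw [conj_pow, hk']; group)
  obtain ⟨h, hh, hle⟩ := exists_conj_le_of_not_dvd_relIndex'
    (sylow_not_dvd_relIndex S (le_sup_right : (S : Subgroup G) ≤ N ⊔ S)) hp
    ((Subgroup.zpowers_le).2 hy)
  obtain ⟨s', hs', n, hn, rfl⟩ := exists_mul_of_mem_sup' (Subgroup.le_normalizer_of_normal) hh
  have h1 : s' * n * (g * x * g⁻¹) * (s' * n)⁻¹ ∈ (S : Subgroup G) :=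
    conj_le_iff.1 hle _ (Subgroup.mem_zpowers _)
  have h2 : n * g * x * (n * g)⁻¹ ∈ (S : Subgroup G) := by
    have := (S : Subgroup G).mul_mem ((S : Subgroup G).mul_mem ((S : Subgroup G).inv_mem hs') h1) hs'
    convert this using 1; group
  refine ⟨_, hA.2 x hx _ h2, ?_⟩
  have : ((n : G) : G ⧸ N) = 1 := (QuotientGroup.eq_one_iff n).2 hn
  simp [this]

end Cfsg.Agent.S1250
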