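import Cfsg.Statements.S1251
import Cfsg.Agent.Lib.Inv.ZStarElt
import Cfsg.Agent.Lib.Inv.Misc

set_option autoImplicit false
open Cfsg

namespace Cfsg.Agent.S1251
open Cfsg.Lib.Inv

open Subgroup Cfsg.Lib Cfsg.Lib.Inv Cfsg.Lib.Transfer

/-- Let S be a Sylow 2-subgroup of the finite group G and A ≤ S strongly closed in S. If H is a subgroup normalized by A with no nontrivial normal subgroup of odd order and A ∩ H = 1, then A ≤ C_G(H). -/
theorem result {G : Type*} [Group G] [Finite G] (S : Sylow 2 G) (A : Subgroup G) (hA : Cfsg.IsStronglyClosed A (S : Subgroup G)) (H : Subgroup G) (hAH : A ≤ Subgroup.normalizer (H : Set G)) (hO : Cfsg.oddCore ↥H = ⊥) (hdisj : A ⊓ H = ⊥) : A ≤ Subgroup.centralizer (H : Set G) := by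
  have hA2 : IsPGroup 2 A := S.isPGroup'.to_le hA.1
  have key : ∀ y ∈ H, ∀ g : G, g * y * g⁻¹ ∈ A → y = 1 := by
    intro y hy g hg
    obtain ⟨T, hAT, hTX, hT2, hTi⟩ := exists_sylowIn_ge hA2 (le_sup_right : A ≤ H ⊔ A)
    have hy2 : IsPGroup 2 (zpowers y) := by
      obtain ⟨k, hk⟩ := hA2 ⟨_, hg⟩
      have h1 : (g * y * g⁻¹) ^ 2 ^ k = 1 := congrArg Subtype.val hk
      rw [conj_pow, conj_eq_one_iff] at h1
      exact isPGroup_zpowers h1
    obtain ⟨x, hx, hxy⟩ := exists_conj_le_of_not_dvd_relIndex' hTi hy2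
      (zpowers_le.2 (mem_sup_left hy))
    obtain ⟨k, hk⟩ := exists_conj_le_sylow S hT2
    have hkA : k ⋆ A = A := eq_of_le_of_card_ge (conj_le_iff.2 fun a ha =>
      hA.2 a ha k (hk (conj_mem_conj.2 (hAT ha)))) (card_conj k A).ge
    have h1 : x * y * x⁻¹ ∈ T := hxy (conj_mem_conj.2 (mem_zpowers y))
    have h2 : k * (x * y * x⁻¹) * k⁻¹ ∈ A := by
      have := hA.2 _ hg (k * x * g⁻¹)
      rw [show k * x * g⁻¹ * (g * y * g⁻¹) * (k * x * g⁻¹)⁻¹ = k * (x * y * x⁻¹) * k⁻¹ by group] at this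
      exact this (hk (conj_mem_conj.2 h1))
    rw [← hkA, conj_mem_conj] at h2
    have h3 : x * y * x⁻¹ ∈ A ⊓ H :=
      ⟨h2, conj_mem_of_mem_normalizer ((sup_le le_normalizer hAH : H ⊔ A ≤ _) hx) hy⟩
    rw [hdisj, mem_bot, conj_eq_one_iff] at h3
    exact h3
  intro a ha
  set X := H ⊔ zpowers a with hX
  have hXH : X ≤ normalizer (H : Set G) := sup_le le_normalizer (zpowers_le.2 (hAH ha))
  have haX : a ∈ X := mem_sup_right (mem_zpowers a)
  have hcm : ∀ g ∈ X, g * a * g⁻¹ * a⁻¹ ∈ H := fun g hg => by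
    obtain ⟨h, hh, k, rfl⟩ := (PGroup.mem_sup_zpowers_iff (hAH ha)).1 hg
    rw [show h * a ^ k * a * (h * a ^ k)⁻¹ * a⁻¹ = h * (a * h⁻¹ * a⁻¹) by group]
    exact mul_mem hh (conj_mem_of_mem_normalizer (hAH ha) (inv_mem hh))
  have hiso : IsoElt 2 (⟨a, haX⟩ : X) := by
    obtain ⟨k0, hk0⟩ := hA2 ⟨a, ha⟩
    refine ⟨⟨k0, Subtype.ext (congrArg Subtype.val hk0 :)⟩, ?_⟩
    intro P hP haP g hg
    obtain ⟨k, hk⟩ := exists_conj_le_sylow S (hP.map X.subtype)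
    have h1 : k * a * k⁻¹ ∈ A := hA.2 a ha k (hk (conj_mem_conj.2 ⟨_, haP, rfl⟩))
    have h2 : k * (g * a * (g : G)⁻¹) * k⁻¹ ∈ A := by
      have := hA.2 a ha (k * g)
      rw [show k * g * a * (k * g)⁻¹ = k * (g * a * (g : G)⁻¹) * k⁻¹ by group] at this
      exact this (hk (conj_mem_conj.2 ⟨_, hg, rfl⟩))
    have h3 := key _ (hcm g g.2) k (by
      have := mul_mem h2 (inv_mem h1)
      rwa [show k * (g * a * (g : G)⁻¹) * k⁻¹ * (k * a * k⁻¹)⁻¹ =
        k * (g * a * (g : G)⁻¹ * a⁻¹) * k⁻¹ by group]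
        at this)
    exact Subtype.ext (mul_inv_eq_one.1 h3)
  intro h hh
  have h1 := hiso.zstar ⟨h, mem_sup_left hh⟩
  have h2 : ((oddCore X).map X.subtype) ⊓ H ≤ (oddCore H).map H.subtype :=
    Core.le_pPrimeCoreOf inf_le_right (Coprime.le_normalizer_inf
      (le_sup_left.trans (Core.le_normalizer_pPrimeCoreOf 2 X)) le_normalizer)
      (Core.coprime_of_le inf_le_left (Core.pPrimeCoreOf_coprime 2 X))
  have h3 : a * h * a⁻¹ * h⁻¹ ∈ (oddCore H).map H.subtype :=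
    h2 (mem_inf.2 ⟨⟨_, h1, rfl⟩, mul_mem (conj_mem_of_mem_normalizer (hAH ha) hh) (inv_mem hh)⟩)
  rw [hO, Subgroup.map_bot, mem_bot, mul_inv_eq_one, mul_inv_eq_iff_eq_mul] at h3
  exact h3.symm

end Cfsg.Agent.S1251
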