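import Cfsg.Statements.S1294
import Cfsg.Agent.Lib.Sig.Glob
import Cfsg.Agent.Lib.Sig.Main

set_option autoImplicit false
open Cfsg

namespace Cfsg.Agent.S1294

open Subgroup Cfsg.Lib Cfsg.Lib.BG Cfsg.Lib.Sig
open scoped Cfsg.Lib.Transfer

/-- Let G be finite with O_{p'}(G) = 1 and p-rank at least 3, whose reduced rank-2 commuting graph for p is connected. Let θ assign to every element a of order p with m_p(C_G(a)) ≥ 3 a solvable subgroup θ a ≤ C_G(a) of order prime to p, so that θ (g a g⁻¹) = g (θ a) g⁻¹ for all g and θ a ∩ C_G(b) ≤ θ b for commuting such a, b. Then θ a = 1 for every such a. -/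
theorem result {G : Type*} [Group G] [Finite G] (p : ℕ) [Fact p.Prime] (hO : Cfsg.pPrimeCore p G = ⊥) (hrk : ¬ Cfsg.PRankLE p 2 G) (hconn : Cfsg.IsRankGraphConnected p 2 G) (θ : G → Subgroup G) (hC : ∀ a : G, (orderOf a = p ∧ ¬ Cfsg.PRankLE p 2 ↥(Subgroup.centralizer ({a} : Set G))) → θ a ≤ Subgroup.centralizer ({a} : Set G) ∧ ¬ p ∣ Nat.card ↥(θ a) ∧ Group.IsSolvable ↥(θ a)) (heq : ∀ a g : G, (orderOf a = p ∧ ¬ Cfsg.PRankLE p 2 ↥(Subgroup.centralizer ({a} : Set G))) → θ (g * a * g⁻¹) = (θ a).map (MulAut.conj g).toMonoidHom) (hbal : ∀ a b : G, (orderOf a = p ∧ ¬ Cfsg.PRankLE p 2 ↥(Subgroup.centralizer ({a} : Set G))) → (orderOf b = p ∧ ¬ Cfsg.PRankLE p 2 ↥(Subgroup.centralizer ({b} : Set G))) → a * b = b * a → θ a ⊓ Subgroup.centralizer {b} ≤ θ b) (a : G) (ha : (orderOf a = p ∧ ¬ Cfsg.PRankLE p 2 ↥(Subgroup.centralizer ({a} : Set G)))) : θ a = ⊥ := by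
  have hI : ∀ V : Subgroup G, IsElementaryAbelian p V → ¬ PRankLE p 2 𝐂(V) → ∀ b ∈ V, b ≠ 1 →
      orderOf b = p ∧ ¬ PRankLE p 2 𝐂[b] := fun V hV h b hb h1 =>
    ⟨orderOf_eq_prime (hV.2 b hb) h1, lt_rk_iff.1 ((lt_rk_iff.2 h).trans_le
      (rk_mono (cent_le_cent1 hb) p))⟩
  have hv : ∀ V : Subgroup G, IsElementaryAbelian p V → p ^ 3 ≤ Nat.card V →
      IsRankGraphVertex p 2 V := fun V hV h3 => by
    refine ⟨hV, sq_le_of_cube_le h3, lt_rk_iff.1 ?_⟩
    obtain ⟨n, hn⟩ := Elem.of_elab hV (abelian_cent hV.1)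
    rw [hn.card] at h3
    exact ((Nat.pow_le_pow_iff_right (Fact.out : p.Prime).one_lt).1 h3).trans hn.le_rk
  have hG : Glob p θ := fun V hV h3 => by
    have h := hI V hV (hv V hV h3).2.2
    have hc := le_cent_iff.1 (abelian_cent hV.1)
    refine ⟨⟨fun b hb h1 => (hC b (h b hb h1)).1, fun b hb h1 => (hC b (h b hb h1)).2.1,
      fun b hb h1 c hc' x hx => ?_, fun b hb h1 c hc' h2 =>
      hbal b c (h b hb h1) (h c hc' h2) (hc b hb c hc')⟩, fun b hb h1 => (hC b (h b hb h1)).2.2⟩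
    have := heq b c (h b hb h1)
    rw [hc c hc' b hb, mul_inv_cancel_right] at this
    exact this ▸ Transfer.conj_mem_conj.2 hx
  have key : ∀ V V' : Subgroup G, IsRankGraphVertex p 2 V → IsRankGraphVertex p 2 V' →
      signalizerClosure V θ = signalizerClosure V' θ := fun V V' h h' =>
    rtg_eq (fun V => signalizerClosure V θ) (fun X Y ⟨hX, hY, hc⟩ =>
      hG.closure_eq_of_cent hX.1 hX.2.1 hY.1 hY.2.1 (le_cent_iff.2 hc)) (hconn V V' h h')
  obtain ⟨E, hE⟩ := exists_elem_of_le_rk (lt_rk_iff.2 ha.2)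
  have hF := elab_sup hE.elem (Elem.zpowers (mem_top a) ha.1).elem (cent_zpowers a ▸ hE.le)
  have h3 := hE.card.ge.trans (card_le_of_le (le_sup_left : E ≤ E ⊔ zpowers a))
  have h1 : a ≠ 1 := by
    rintro rfl
    exact (Fact.out : p.Prime).one_lt.ne (by simpa using ha.1)
  have haF : a ∈ E ⊔ zpowers a := mem_sup_right (mem_zpowers a)
  generalize E ⊔ zpowers a = F at hF h3 haF
  have hn : (signalizerClosure F θ).Normal := by
    refine normalizer_eq_top_iff.1 (top_le_iff.1 fun g _ => norm_of_conj_eq ?_)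
    rw [closure_conj fun b hb h1 => heq b g (hI F hF (hv F hF h3).2.2 b hb h1)]
    exact key _ _ (hv _ ((elab_conj g).2 hF) (by rwa [Transfer.card_conj])) (hv F hF h3)
  refine eq_bot_mono hO ((Sig.le_closure haF h1).trans ?_)
  exact le_sSup ⟨hn, (mem_p' (closure_mem hF h3 (hG F hF h3))).coprime_p⟩

end Cfsg.Agent.S1294
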