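import Cfsg.Statements.S1322
import Cfsg.Agent.Lib.Comp.PumpTwo

set_option autoImplicit false
open Cfsg

namespace Cfsg.Agent.S1322

open Subgroup Cfsg.Lib Cfsg.Lib.BG Cfsg.Lib.Core Cfsg.Lib.Comp
open scoped Cfsg.Lib.Transfer commutatorElement

/-- Let G be finite with L_{2'}(G) = E(G), t an involution and L ≤ C_G(t) a component of C_G(t). Then there is a component D of G with: L = D; or L < D and D = ⁅D, ⟨t⟩⁆; or tDt⁻¹ ≠ D and L is the layer of C_{D ⊔ tDt⁻¹}(t). -/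
theorem result {G : Type*} [Group G] [Finite G] (hL2 : Cfsg.pLayer 2 G = Cfsg.layer G) (t : G) (ht : orderOf t = 2) (L : Subgroup G) (hLt : L ≤ Subgroup.centralizer ({t} : Set G)) (hL : Cfsg.IsComponent (L.subgroupOf (Subgroup.centralizer ({t} : Set G)))) : ∃ D : Subgroup G, Cfsg.IsComponent D ∧ (L = D ∨ (L < D ∧ D = ⁅D, Subgroup.zpowers t⁆) ∨ (D.map (MulAut.conj t).toMonoidHom ≠ D ∧ L = (Cfsg.layer ↥((D ⊔ D.map (MulAut.conj t).toMonoidHom) ⊓ Subgroup.centralizer ({t} : Set G))).map ((D ⊔ D.map (MulAut.conj t).toMonoidHom) ⊓ Subgroup.centralizer ({t} : Set G)).subtype)) := by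
  have h1 : Cmp L 𝐂[t] := cmp_iff.2 ⟨hLt, hL⟩
  obtain ⟨J, hJ, h⟩ := PCmp.trich_inv (H := ⊤) (by rw [top_inf_eq]; exact h1.pcmp2)
    (by rw [pLayer_top, layer_top, hL2]) ht (mem_top t)
  refine ⟨J, cmp_top.1 hJ, h.imp_right fun h => h.imp (fun h => ⟨h.1, ?_⟩) fun h => ?_⟩
  · exact ((hJ.comm_eq_or (zpowers_le.2 h.2.1)).resolve_right
      fun h2 => h.2.2 (cent_symm h2 (mem_zpowers t))).symm
  · obtain ⟨hn, hc, e⟩ := h
    refine ⟨fun h2 => hn (norm_of_conj_eq h2), le_antisymm ?_ ?_⟩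
    · exact (h1.mono (le_inf (e.le.trans (hc.range_le_ncl.trans hc.ncl_two.le)) hLt)
        inf_le_right).le_layer
    · rw [← hc.ncl_two, e]
      exact (layer_perf _).ge.trans ((der_mono (layer_le_self _)).trans hc.der_le_range)

end Cfsg.Agent.S1322
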