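import Cfsg.Statements.S1323
import Cfsg.Agent.Lib.Comp.Quasisimple
import Cfsg.Agent.Lib.BG.Basic

set_option autoImplicit false
open Cfsg

namespace Cfsg.Agent.S1323

open Subgroup Equiv Equiv.Perm Finset alternatingGroup Cfsg.Lib Cfsg.Lib.BG
open scoped Cfsg.Lib.Transfer Pointwise

variable {α : Type*} [Fintype α] [DecidableEq α]

theorem mem_R {s : Finset α} {k : alternatingGroup α} :
    k ∈ (alternatingGroup.ofSubtype s).range ↔ ∀ x ∉ s, (k : Perm α) x = x := by
  rw [alternatingGroup.mem_range_ofSubtype_iff]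
  exact ⟨fun h x hx => notMem_support.1 fun e => hx (h e), fun h x hx => by_contra fun e =>
    mem_support.1 hx (h x e)⟩

theorem exists_three {s : Finset α} {x y z : α} (hx : x ∈ s) (hy : y ∈ s) (hz : z ∈ s) (h1 : x ≠ y)
    (h2 : x ≠ z) (h3 : y ≠ z) : ∃ k ∈ (alternatingGroup.ofSubtype s).range, (k : Perm α) x = z ∧
      ∀ w, w ≠ x → w ≠ y → w ≠ z → (k : Perm α) w = w :=
  ⟨⟨swap x y * swap x z, (isThreeCycle_swap_mul_swap_same h1 h2 h3).mem_alternatingGroup⟩,
    mem_R.2 fun w hw => by
      simp [swap_apply_of_ne_of_ne (ne_of_mem_of_not_mem hx hw).symm (ne_of_mem_of_not_mem hz hw).symm,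
        swap_apply_of_ne_of_ne (ne_of_mem_of_not_mem hx hw).symm (ne_of_mem_of_not_mem hy hw).symm],
    by simp [swap_apply_of_ne_of_ne h2.symm h3.symm],
    fun w a b c => by simp [swap_apply_of_ne_of_ne a c, swap_apply_of_ne_of_ne a b]⟩

theorem cent_R {s : Finset α} (hs : 4 ≤ #s) :
    𝐂((alternatingGroup.ofSubtype s).range) = (alternatingGroup.ofSubtype sᶜ).range := by
  refine le_antisymm (fun g hg => mem_R.2 fun x hx => by_contra fun e => ?_) fun g hg =>
    mem_cent.2 fun k hk => Subtype.ext (Perm.Disjoint.commute fun x => ?_)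
  · rw [mem_compl, not_not] at hx
    obtain ⟨y, hy, z, hz, h3⟩ := one_lt_card.1 (show 1 < #((s.erase x).erase ((g : Perm α) x)) by
      have := pred_card_le_card_erase (s := s.erase x) (a := (g : Perm α) x)
      have := pred_card_le_card_erase (s := s) (a := x)
      omega)
    simp only [mem_erase] at hy hz
    obtain ⟨k, hk, h1, h2⟩ := exists_three hx hy.2.2 hz.2.2 hy.2.1.symm hz.2.1.symm h3
    have := congrArg (fun p : alternatingGroup α => (p : Perm α) x) (mem_cent.1 hg k hk)
    simp only [Subgroup.coe_mul, Perm.coe_mul, Function.comp_apply, h1, h2 _ e hy.1.symm hz.1.symm] at this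
    exact hz.2.1 ((g : Perm α).injective this).symm
  · by_cases h : x ∈ s
    exacts [Or.inr (mem_R.1 hg x (by simpa)), Or.inl (mem_R.1 hk x h)]

theorem conj_R (s : Finset α) (g : alternatingGroup α) :
    g ⋆ (alternatingGroup.ofSubtype s).range = (alternatingGroup.ofSubtype (g • s)).range :=
  conj_smul_range_ofSubtype s g

theorem std {s : Finset α} (hs : 5 ≤ #s) (h4 : #sᶜ = 4) :
    IsStandardSubgroup (alternatingGroup.ofSubtype s).range := by
  have hc := cent_R (hs.trans' (by norm_num))
  have hc' := cent_R h4.ge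
  rw [compl_compl] at hc'
  have h5 : ∀ g : alternatingGroup α, ¬ g ⋆ (alternatingGroup.ofSubtype s).range ≤
      𝐂((alternatingGroup.ofSubtype s).range) := fun g h => by
    rw [hc, conj_R] at h
    obtain ⟨x, hx, hx'⟩ := exists_mem_notMem_of_card_lt_card (s := sᶜ) (t := g • s) (by
      rw [card_smul_finset]; omega)
    obtain ⟨y, hy, z, hz, h3⟩ := one_lt_card.1 (show 1 < #((g • s).erase x) by
      have := pred_card_le_card_erase (s := g • s) (a := x)
      rw [card_smul_finset] at this
      omega)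
    simp only [mem_erase] at hy hz
    obtain ⟨k, hk, h1, -⟩ := exists_three hx hy.2 hz.2 hy.1.symm hz.1.symm h3
    exact hz.1 (h1.symm.trans (mem_R.1 (h hk) x hx'))
  have := alternatingGroup.isSimpleGroup (α := s) (by simpa)
  have e := MonoidHom.ofInjective (ofSubtype_injective (s := s))
  have := e.symm.isSimpleGroup
  refine ⟨Comp.isQuasisimple_of_isSimpleGroup fun h => h5 1 (by rw [conj_eq_of_mem (one_mem _)]; exact abelian_cent h),
    ⟨?_, fun g hg => ?_⟩, fun g _ h => h5 g (comm_eq_bot_iff'.1 h),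
      le_antisymm (norm_cent le_rfl) ?_⟩
  · rw [hc, ← Nat.card_congr (MonoidHom.ofInjective (ofSubtype_injective (s := sᶜ))).toEquiv]
    have : Nontrivial (sᶜ : Finset α) := Fintype.one_lt_card_iff_nontrivial.1 (by rw [Fintype.card_coe, h4]; decide)
    rw [nat_card_alternatingGroup, Nat.card_eq_fintype_card, Fintype.card_coe, h4]
    decide
  · rw [hc] at hg ⊢
    rw [← Nat.not_even_iff_odd, even_iff_two_dvd]
    intro h
    obtain ⟨⟨k, hk, hk'⟩, ho⟩ := exists_prime_orderOf_dvd_card' 2 h
    rw [← orderOf_coe, ← orderOf_coe] at ho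
    have h1 : (k : Perm α).support ⊆ sᶜ ∩ g • sᶜ := subset_inter ((mem_range_ofSubtype_iff _ _).1 hk)
      ((mem_range_ofSubtype_iff _ _).1 (conj_R _ g ▸ hk'))
    have h2 : #(sᶜ ∩ g • sᶜ) < 4 := h4 ▸ card_lt_card (ssubset_of_ne_of_subset (fun e => hg
      (norm_of_conj_eq (by rw [conj_R, ← eq_of_subset_of_card_le (inter_eq_left.1 e)
        (card_smul_finset _ _).le]))) inter_subset_left)
    have h3 := two_le_card_support_of_ne_one (f := (k : Perm α)) fun e => by simp [e] at ho
    have h6 := card_le_card h1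
    rcases (by omega : #(k : Perm α).support = 2 ∨ #(k : Perm α).support = 3) with e | e
    · have := (card_support_eq_two.1 e).sign_eq
      rw [mem_alternatingGroup.1 k.2] at this
      exact absurd this (by decide)
    · have := (card_support_eq_three_iff.1 e).orderOf
      change orderOf (k : Perm α) = 2 at ho
      omega
  · nth_rw 2 [← hc']
    rw [hc]
    exact norm_cent le_rfl

/-- For n ≥ 9, the subgroup of the alternating group on Fin n fixing each of the points 0, 1, 2, 3 is a standard subgroup. -/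
theorem result (n : ℕ) (h4 : 4 ≤ n) (hn : 9 ≤ n) : Cfsg.IsStandardSubgroup (⨅ i : Fin 4, MulAction.stabilizer ↥(alternatingGroup (Fin n)) (Fin.castLE h4 i : Fin n)) := by
  have h : #(univ.map (Fin.castLEEmb h4)) = 4 := by simp
  convert std (s := (univ.map (Fin.castLEEmb h4))ᶜ) (by rw [card_compl, h]; simp; omega) (by simp)
  ext k
  rw [mem_R]
  simp [ Subgroup.mem_iInf, Subgroup.smul_def]

end Cfsg.Agent.S1323
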