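import Cfsg.Statements.S1339
import Cfsg.Agent.Lib.Comp.GenFitting

set_option autoImplicit false
open Cfsg

namespace Cfsg.Agent.S1339

open Matrix Cfsg.Lib

set_option linter.unusedSectionVars false

section
variable {F : Type*} [Field F] [Fintype F] [DecidableEq F] {n : ℕ}

theorem f2 (hF : Fintype.card F = 2) (a : F) : a = 0 ∨ a = 1 := by
  by_contra h
  rw [not_or] at h
  have : ({0, 1, a} : Finset F).card = 3 := by
    rw [Finset.card_eq_three]
    exact ⟨0, 1, a, zero_ne_one, Ne.symm h.1, Ne.symm h.2, rfl⟩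
  have h2 := Finset.card_le_univ ({0, 1, a} : Finset F)
  omega

theorem two0 (hF : Fintype.card F = 2) : (1 : F) + 1 = 0 := by
  rcases f2 hF (1 + 1) with h | h
  · exact h
  · exact absurd (add_eq_left.1 h) one_ne_zero

theorem sl (i j : Fin n) (X : Matrix (Fin n) (Fin n) F) :
    single i j (1 : F) * X * (single i j 1 * X) = X j i • (single i j (1 : F) * X) := by
  rw [← mul_assoc, single_mul_mul_single, ← smul_mul_assoc, smul_single]
  simp

theorem sr (i j : Fin n) (X : Matrix (Fin n) (Fin n) F) :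
    X * single i j (1 : F) * (X * single i j 1) = X j i • (X * single i j (1 : F)) := by
  rw [mul_assoc, ← mul_assoc (single i j 1), single_mul_mul_single, ← mul_smul_comm, smul_single]
  simp

variable {H : Type*} [Group H] [Finite H] (φ : H →* Matrix (Fin n) (Fin n) F)

theorem sq_one (hF : Fintype.card F = 2) (hφ : Function.Injective φ) (g : H)
    (Y : Matrix (Fin n) (Fin n) F) (a : F) (hg : φ g = 1 + Y) (hY : Y * Y = a • Y) :
    g * g = 1 := by
  have h2 : Y + Y = 0 := by
    rw [← one_smul F Y, ← add_smul, two0 hF, zero_smul]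
  have hYY : Y * Y = 0 := by
    rcases f2 hF a with h | h
    · rw [hY, h, zero_smul]
    · rw [h, one_smul] at hY
      have h3 : φ g * Y = 0 := by rw [hg, add_mul, one_mul, hY, h2]
      have h4 : Y = 0 := by
        have : φ g⁻¹ * (φ g * Y) = Y := by
          rw [← mul_assoc, ← map_mul, inv_mul_cancel, map_one, one_mul]
        rw [← this, h3, mul_zero]
      rw [h4, mul_zero]
  apply hφ
  rw [map_mul, hg, map_one, add_mul, mul_add, mul_add,
    one_mul, one_mul, mul_one, hYY, add_zero, add_assoc, h2, add_zero]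

theorem core (hF : Fintype.card F = 2) (hφ : Function.Injective φ) (i j : Fin n) (hij : i ≠ j)
    (hcN : ∀ c, φ c * single i j (1 : F) = single i j (1 : F) * φ c)
    (hdet : ∀ c, (φ c).det = 1)
    (mk : ∀ a b : Fin n, a ≠ b → a ≠ j → b ≠ i → ∃ s : H, φ s = 1 + single a b (1 : F)) :
    Subgroup.centralizer (pCore 2 H : Set H) ≤ pCore 2 H := by
  set N : Matrix (Fin n) (Fin n) F := single i j 1 with hN
  have hinv : ∀ c : H, φ c * φ c⁻¹ = 1 := fun c => by
    rw [← map_mul, mul_inv_cancel, map_one]
  have hA2 : ∀ g : H, (∃ X, φ g = 1 + N * X) → g * g = 1 := fun g ⟨X, hX⟩ =>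
    sq_one φ hF hφ g _ _ hX (sl i j X)
  have hB2 : ∀ g : H, (∃ X, φ g = 1 + X * N) → g * g = 1 := fun g ⟨X, hX⟩ =>
    sq_one φ hF hφ g _ _ hX (sr i j X)
  let A : Subgroup H :=
    { carrier := {g | ∃ X, φ g = 1 + N * X}
      one_mem' := ⟨0, by simp⟩
      mul_mem' := by
        rintro a b ⟨X, hX⟩ ⟨Y, hY⟩
        refine ⟨X + Y + X * N * Y, ?_⟩
        rw [map_mul, hX, hY]
        noncomm_ring
      inv_mem' := by
        intro a ha
        rw [inv_eq_of_mul_eq_one_right (hA2 a ha)]; exact ha }
  let B : Subgroup H :=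
    { carrier := {g | ∃ X, φ g = 1 + X * N}
      one_mem' := ⟨0, by simp⟩
      mul_mem' := by
        rintro a b ⟨X, hX⟩ ⟨Y, hY⟩
        refine ⟨X + Y + X * N * Y, ?_⟩
        rw [map_mul, hX, hY]
        noncomm_ring
      inv_mem' := by
        intro a ha
        rw [inv_eq_of_mul_eq_one_right (hB2 a ha)]; exact ha }
  have hAn : A.Normal := ⟨by
    rintro a ⟨X, hX⟩ c
    refine ⟨φ c * X * φ c⁻¹, ?_⟩
    rw [map_mul, map_mul, hX, mul_add, add_mul, mul_one, hinv, ← mul_assoc, hcN]
    simp only [mul_assoc]⟩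
  have hBn : B.Normal := ⟨by
    rintro a ⟨X, hX⟩ c
    refine ⟨φ c * X * φ c⁻¹, ?_⟩
    rw [map_mul, map_mul, hX, mul_add, add_mul, mul_one, hinv, mul_assoc (φ c * X), hcN]
    simp only [mul_assoc]⟩
  have hAp : A ≤ pCore 2 H := Core.le_pCore hAn fun g => ⟨1, Subtype.ext (by
    rw [pow_one, pow_two]; exact hA2 g.1 g.2)⟩
  have hBp : B ≤ pCore 2 H := Core.le_pCore hBn fun g => ⟨1, Subtype.ext (by
    rw [pow_one, pow_two]; exact hB2 g.1 g.2)⟩
  intro g hg
  have cm : ∀ (s : H) (a b : Fin n), s ∈ pCore 2 H → φ s = 1 + single a b (1 : F) →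
      φ g * single a b (1 : F) = single a b (1 : F) * φ g := by
    intro s a b hs h
    have h1 := congrArg φ (hg s hs)
    simp only [map_mul, h, mul_add, add_mul, mul_one, one_mul] at h1
    exact (add_left_cancel h1).symm
  have hr : ∀ k, k ≠ i → φ g * single i k (1 : F) = single i k (1 : F) * φ g := by
    intro k hk
    obtain ⟨s, hs⟩ := mk i k hk.symm hij hk
    exact cm s i k (hAp ⟨single j k 1, by rw [hs, hN, single_mul_single_same, one_mul]⟩) hs
  have hc : ∀ k, k ≠ j → φ g * single k j (1 : F) = single k j (1 : F) * φ g := by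
    intro k hk
    obtain ⟨s, hs⟩ := mk k j hk hk hij.symm
    exact cm s k j (hBp ⟨single k i 1, by rw [hs, hN, single_mul_single_same, one_mul]⟩) hs
  have e1 : ∀ k b, k ≠ i → b ≠ k → φ g k b = 0 := by
    intro k b hk hb
    have := congrFun (congrFun (hr k hk) i) b
    rw [mul_single_apply_of_ne _ _ _ _ _ hb, single_mul_apply_same, one_mul] at this
    exact this.symm
  have e2 : ∀ k, k ≠ i → φ g k k = φ g i i := by
    intro k hk
    have := congrFun (congrFun (hr k hk) i) k
    rw [mul_single_apply_same, single_mul_apply_same, one_mul, mul_one] at this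
    exact this.symm
  have e3 : ∀ k a, k ≠ j → a ≠ k → φ g a k = 0 := by
    intro k a hk ha
    have := congrFun (congrFun (hc k hk) a) j
    rw [mul_single_apply_same, single_mul_apply_of_ne _ _ _ _ _ ha, mul_one] at this
    exact this
  have e4 : φ g i i = 1 := by
    rcases f2 hF (φ g i i) with h | h
    · exfalso
      have h0 : (φ g).det = 0 := det_eq_zero_of_column_eq_zero i fun a => by
        by_cases ha : a = i
        · rw [ha, h]
        · exact e3 i a hij ha
      rw [hdet] at h0
      exact one_ne_zero h0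
    · exact h
  refine hAp ⟨single j j (φ g i j), ?_⟩
  rw [hN, single_mul_single_same, one_mul]
  ext a b
  rw [Matrix.add_apply]
  by_cases hab : a = b
  · subst hab
    rw [one_apply_eq, single_apply_of_ne _ _ _ _ _ (fun h => hij (h.1.trans h.2.symm)), add_zero]
    by_cases ha : a = i
    · rw [ha, e4]
    · rw [e2 a ha, e4]
  · rw [one_apply_ne hab, zero_add]
    by_cases ha : a = i
    · by_cases hb : b = j
      · rw [ha, hb, single_apply_same]
      · rw [e3 b a hb hab, single_apply_of_ne _ _ _ _ _ (fun h => hb h.2.symm)]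
    · rw [e1 a b ha (Ne.symm hab), single_apply_of_ne _ _ _ _ _ (fun h => ha h.1.symm)]

end

/-- Let F be a field with 2 elements, n ≥ 3, and t ∈ SL(n, F) a transvection (t = 1 + E_{ij}, i ≠ j). Then the generalized Fitting subgroup of C(t) is O_2(C(t)). -/
theorem result {F : Type*} [Field F] [Fintype F] [DecidableEq F] (hF : Fintype.card F = 2) (n : ℕ) (hn : 3 ≤ n) (i j : Fin n) (hij : i ≠ j) (t : Matrix.SpecialLinearGroup (Fin n) F) (ht : (t : Matrix (Fin n) (Fin n) F) = Matrix.transvection i j 1) : Cfsg.generalizedFittingSubgroup ↥(Subgroup.centralizer ({t} : Set (Matrix.SpecialLinearGroup (Fin n) F))) = Cfsg.pCore 2 ↥(Subgroup.centralizer ({t} : Set (Matrix.SpecialLinearGroup (Fin n) F))) := by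
  rw [Comp.genFitting_eq_pCore_iff_centralizer_le]
  have ht' : SpecialLinearGroup.coeMonoidHom t = 1 + single i j (1 : F) := ht
  refine core (SpecialLinearGroup.coeMonoidHom.comp (Subgroup.subtype _)) hF
    (SpecialLinearGroup.coeMonoidHom_injective.comp Subtype.val_injective) i j hij ?_
    (fun c => c.1.2) ?_
  · intro c
    have h1 := congrArg SpecialLinearGroup.coeMonoidHom
      (Subgroup.mem_centralizer_singleton_iff.1 c.2)
    rw [map_mul, map_mul, ht', mul_add, add_mul, mul_one, one_mul] at h1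
    exact add_left_cancel h1
  · intro a b hab haj hbi
    let s : SpecialLinearGroup (Fin n) F := ⟨transvection a b 1, det_transvection_of_ne a b hab 1⟩
    have hs : SpecialLinearGroup.coeMonoidHom s = 1 + single a b (1 : F) := rfl
    refine ⟨⟨s, ?_⟩, hs⟩
    rw [Subgroup.mem_centralizer_singleton_iff]
    apply SpecialLinearGroup.coeMonoidHom_injective
    rw [map_mul, map_mul, ht', hs]
    simp only [mul_add, add_mul, mul_one, one_mul]
    rw [single_mul_single_of_ne _ _ _ _ hbi, single_mul_single_of_ne _ _ _ _ haj.symm]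
    abel

end Cfsg.Agent.S1339
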