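import Cfsg.Statements.S1340
import Cfsg.Agent.Lib.Comp.Quasisimple
import Cfsg.Agent.Lib.Linear.Simple
import Cfsg.Agent.Lib.Core.PPrimeCore
import Cfsg.Agent.Lib.Inv.SylowTwo

set_option autoImplicit false
open Cfsg

namespace Cfsg.Agent.S1340

open Subgroup Matrix Cfsg.Lib

theorem key {G H : Type*} [Group G] [Finite G] [Group H] (hH : IsQuasisimple H) (ψ : H →* G)
    (hψ : Function.Injective ψ) {x : H} (hx : orderOf x = 2) (C : Subgroup G) (h1 : ψ.range ≤ C)
    (h2 : ∀ g ∈ C, ∀ h, ∃ k, ψ k = g * ψ h * g⁻¹) : HasComponent (C ⧸ oddCore C) := by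
  have hn : (ψ.range.subgroupOf C).Normal := ⟨by
    rintro ⟨_, hc⟩ ⟨h, rfl⟩ g
    exact h2 g g.2 h⟩
  refine ⟨(ψ.range.subgroupOf C).map (QuotientGroup.mk' _),
    (hn.map _ (QuotientGroup.mk'_surjective _)).isSubnormal,
    Comp.isQuasisimple_map ((Comp.isQuasisimple_subgroupOf_iff h1).2
      (Comp.isQuasisimple_of_mulEquiv hH (MonoidHom.ofInjective hψ))) fun e => ?_⟩
  rw [Subgroup.map_eq_bot_iff, QuotientGroup.ker_mk'] at e
  have h3 := orderOf_dvd_natCard _ (e (show (⟨ψ x, h1 ⟨x, rfl⟩⟩ : C) ∈ _ from ⟨x, rfl⟩))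
  rw [← orderOf_coe, orderOf_injective ψ hψ, hx] at h3
  exact (Nat.not_even_iff_odd.2 (Core.odd_card_oddCore C)) (even_iff_two_dvd.2 h3)

variable {F : Type*} [Field F] {κ : Type} [Fintype κ] [DecidableEq κ]

/-- The block embedding. -/
def emb : SpecialLinearGroup κ F →* GL (κ ⊕ Fin 1) F :=
  MonoidHom.toHomUnits ⟨⟨fun M => fromBlocks M.1 0 0 1, by simp⟩, fun M N => by simp [fromBlocks_multiply]⟩

/-- The involution. -/
def tt : GL (κ ⊕ Fin 1) F := ⟨fromBlocks 1 0 0 (-1), fromBlocks 1 0 0 (-1),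
  by simp [fromBlocks_multiply], by simp [fromBlocks_multiply]⟩

theorem blocks (h2 : (2 : F) ≠ 0) {g : GL (κ ⊕ Fin 1) F} (h : g * tt = tt * g) :
    ∃ A D, g.1 = fromBlocks A 0 0 D := by
  have e := congrArg Units.val h
  rw [Units.val_mul, Units.val_mul, ← fromBlocks_toBlocks g.1] at e
  simp only [tt, fromBlocks_multiply, fromBlocks_inj, Matrix.mul_one, Matrix.mul_zero, Matrix.mul_neg,
    Matrix.one_mul, Matrix.zero_mul, Matrix.neg_mul, add_zero, zero_add, true_and, and_true] at e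
  have k : ∀ {a b : Type} {M : Matrix a b F}, -M = M → M = 0 := fun e => by
    ext i j
    have := congrFun (congrFun e i) j
    rw [Matrix.neg_apply, neg_eq_iff_add_eq_zero, ← two_mul] at this
    exact (mul_eq_zero.1 this).resolve_left h2
  exact ⟨_, _, by rw [← fromBlocks_toBlocks g.1, k e.1, k e.2.symm]⟩

/-- Let F be a finite field of odd order and n ≥ 3 with (n, |F|) ≠ (3, 3). Then GL(n, F) has a non-central involution t such that C(t) / O(C(t)) has a component. -/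
theorem result {F : Type*} [Field F] [Fintype F] [DecidableEq F] (hF : Odd (Fintype.card F)) (n : ℕ) (hn : 3 ≤ n) (h33 : ¬ (n = 3 ∧ Fintype.card F = 3)) : ∃ t : Matrix.GeneralLinearGroup (Fin n) F, orderOf t = 2 ∧ t ∉ Subgroup.center (Matrix.GeneralLinearGroup (Fin n) F) ∧ Cfsg.HasComponent (↥(Subgroup.centralizer ({t} : Set (Matrix.GeneralLinearGroup (Fin n) F))) ⧸ Cfsg.oddCore ↥(Subgroup.centralizer ({t} : Set (Matrix.GeneralLinearGroup (Fin n) F)))) := by
  obtain ⟨m, rfl⟩ : ∃ m, n = m + 1 := ⟨n - 1, by omega⟩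
  have h2 : (2 : F) ≠ 0 := fun e => by
    have := FiniteField.even_card_of_char_two (F := F)
      (CharP.ringChar_of_prime_eq_zero Nat.prime_two e)
    obtain ⟨k, hk⟩ := hF
    omega
  have h1 : (-1 : F) ≠ 1 := fun e => h2 (by linear_combination -e)
  let Φ : GL (Fin m ⊕ Fin 1) F ≃* GL (Fin (m + 1)) F :=
    Units.mapEquiv (reindexAlgEquiv F F finSumFinEquiv).toMulEquiv
  have hc : m = 2 → 4 ≤ Fintype.card F := fun e => by
    have := Fintype.one_lt_card (α := F)
    obtain ⟨k, hk⟩ := hF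
    omega
  let i : Fin m := ⟨0, by omega⟩
  let j : Fin m := ⟨1, by omega⟩
  have hij : i ≠ j := by simp [i, j]
  have hinj : Function.Injective (emb (F := F) (κ := Fin m)) := fun M N e =>
    Subtype.ext (fromBlocks_inj.1 (congrArg Units.val e)).1
  refine ⟨Φ tt, ?_, fun h => ?_, key (H := SpecialLinearGroup (Fin m) F) ⟨⟨Linear.commutator_SL_eq_top ?_⟩,
    Linear.isSimpleGroup_PSL_fin (by omega) hc⟩ (Φ.toMonoidHom.comp emb) (Φ.injective.comp hinj)
    (x := SpecialLinearGroup.diag2n hij (-1) (by simp)) ?_ _ ?_ ?_⟩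
  · rw [MulEquiv.orderOf_eq]
    refine Inv.ord_two_iff.2 ⟨fun e => h1 ?_, Units.ext tt.val_inv⟩
    simpa [tt] using congrArg (fun g : GL (Fin m ⊕ Fin 1) F => g.1 (.inr 0) (.inr 0)) e
  · let u : GL (Fin m ⊕ Fin 1) F := ⟨fromBlocks 1 (Matrix.of fun _ _ => 1) 0 1,
      fromBlocks 1 (-Matrix.of fun _ _ => 1) 0 1, by simp [fromBlocks_multiply], by simp [fromBlocks_multiply]⟩
    have h3 := mem_center_iff.1 h (Φ u)
    rw [← map_mul, ← map_mul, Φ.apply_eq_iff_eq] at h3
    obtain ⟨A, D, e⟩ := blocks h2 h3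
    simpa [u] using congrFun (congrFun e (.inl i)) (.inr 0)
  · by_cases e : m = 2
    · exact Or.inr (Linear.exists_ne_zero_sq_ne_one (by simpa using hc e))
    · exact Or.inl (by simp; omega)
  · refine Inv.ord_two_iff.2 ⟨fun e => h1 ?_, Subtype.ext ?_⟩
    · simpa [SpecialLinearGroup.diag2n_coe] using congrArg (fun g : SpecialLinearGroup (Fin m) F => g.1 i i) e
    · change diagonal _ * diagonal _ = 1
      rw [diagonal_mul_diagonal, ← diagonal_one]
      congr 1
      ext k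
      split_ifs <;> simp
  · rintro _ ⟨M, rfl⟩
    refine mem_centralizer_singleton_iff.2 ?_
    change Φ _ * _ = _ * Φ _
    rw [← map_mul, ← map_mul]
    exact congrArg Φ (Units.ext (by simp [emb, tt, fromBlocks_multiply]))
  · intro g hg M
    obtain ⟨g, rfl⟩ := Φ.surjective g
    rw [mem_centralizer_singleton_iff, ← map_mul, ← map_mul, Φ.apply_eq_iff_eq] at hg
    obtain ⟨A, D, e⟩ := blocks h2 hg
    obtain ⟨A', D', e'⟩ := blocks h2 (Commute.inv_left hg)
    have e1 := g.mul_inv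
    rw [e, e', fromBlocks_multiply, ← fromBlocks_one, fromBlocks_inj] at e1
    simp only [Matrix.mul_zero, Matrix.zero_mul, add_zero, zero_add] at e1
    refine ⟨⟨A * M.1 * A', by rw [det_mul, det_mul, M.2, mul_one, ← det_mul, e1.1, det_one]⟩, ?_⟩
    change Φ _ = _ * Φ _ * _
    rw [← map_inv, ← map_mul, ← map_mul]
    refine congrArg Φ (Units.ext ?_)
    change fromBlocks _ _ _ _ = g.1 * fromBlocks _ _ _ _ * g⁻¹.1
    simp [e, e', fromBlocks_multiply, e1.2.2.2]

end Cfsg.Agent.S1340
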