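import Cfsg.Statements.S1598
import Cfsg.Agent.Lib.Mathieu.Quartet

set_option autoImplicit false
open scoped Pointwise
open Cfsg

namespace Cfsg.Agent.S1598

open Cfsg.Lib Cfsg.Lib.Golay Cfsg.Lib.Calc Cfsg.Lib.Grp Cfsg.Lib.Mathieu MulAction

set_option maxRecDepth 100000

def h_C : ℕ := (nat_lit 0x1d6dc79f81969850e5d63cd1c84cb11255130328914640004275a8197dc79b61459738f20a35514149344008724b1903040d979d6da7e07183965055424415cb1083ca0cc1c04c935219065c7e069d6de60e15459504708f4c621729241100b24d0c431b81971e69d7d815638b5cc2845131825514121c33c004824d69c7a065b75f60b3961570070545460d345048a08f30434921b7da75e65c81814b3965c41cc54f24251120d2834c005019271d6df81e65a60b5854d449118e3c931728d2074150c408006075a7dc65e6d814e2d551244658f2405c720d2904c204330475979a7db81c60b1535ce20a2565400d41c205134f3044121996e079a71d7d84cb3d41424405970d038730428155218d2096dc76079f65a60f4d538b30a0d65103451d219111720904201d71b81f79a6583c550e5c844d5951834c74902892cc1010807e079c75b65a6165d538525134f5100cb1d218a21310c08102079f6dc7596985cb54e4d029215430d5910c41c63c824204081e7db71d65a60b59454548a18f38321744430741324d08101f7a06dd71a6582d73954c91c83d430659110328d15240204081f79d71b69960b5d43851914935480d628d24740f30408101f7a06dd71a65858b55414d1c94ce0d05d13042883c64820407a07dc6dd6996162d439310a0cf5463571d241130524808101e7e075b7196985cb3941441cc3d521058a24d4434d21820407e079c75b65a6172d454f3512133921161c640a2453030810207de75c6da6585d65544d24503ce34c2ca2481c61440c2040)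
noncomputable def h_code : ℕ → ℕ := get (nat_lit 198) h_C
def h_R0 : ℕ := (nat_lit 0x10100000901010000060000000006000000000900000000040000000001100200000b000000000bb3030000080b0100000023020000032302000002e30300000700000000070f020000050000000005090100000a000000000a03010000000000000008ef03000001ef0300000400000000020000000003)
def h_D0 : ℕ := (nat_lit 0x58576eff09445a7bd96c118c5058be8bb3ba63398037034000000000000000000016c0800000000000000000002481000000000000000000002002000000000000000000003a04000000000000000000004c0800000000000000000000501000000000000000000000902000000000000000000000204000000000000000000000c0800000000000000000000000000000000000000000000000)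
noncomputable def h_L0 : Lv :=
  ⟨(nat_lit 21), (nat_lit 23), (nat_lit 0), (nat_lit 12), (nat_lit 0), get (nat_lit 13) (nat_lit 0x800d006403301600c405a02e01a80d805e02000),
    fun l x => get (nat_lit 40) h_R0 (Nat.add (Nat.mul x (nat_lit 2)) (Nat.sub l (nat_lit 21))), get (nat_lit 95) h_D0⟩
noncomputable def h_L1 : Lv :=
  ⟨(nat_lit 10), (nat_lit 12), (nat_lit 1), (nat_lit 2), (nat_lit 0), get (nat_lit 12) (nat_lit 11538432),
    fun l x => get (nat_lit 36) (nat_lit 0x401000000e02000000000000001201000001) (Nat.add (Nat.mul x (nat_lit 2)) (Nat.sub l (nat_lit 10))), get (nat_lit 33) (nat_lit 0x10551150e12053887000001c180000000000000000)⟩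
def h_R2 : ℕ := (nat_lit 0x120200000f01000008000000034040000200000000400000007808000028000000000000000101000006000000018000000200000000000000001000000014040000040000000a000000038080000100000001e0200000301000003000000020000000140000000800000006)
def h_D2 : ℕ := (nat_lit 0x14824810900000b8100000080800000a0400000602000003010000000000000000000000000)
noncomputable def h_L2 : Lv :=
  ⟨(nat_lit 7), (nat_lit 10), (nat_lit 3), (nat_lit 9), (nat_lit 0), get (nat_lit 12) (nat_lit 0x401601701901801301201501000),
    fun l x => get (nat_lit 33) h_R2 (Nat.add (Nat.mul x (nat_lit 3)) (Nat.sub l (nat_lit 7))), get (nat_lit 33) h_D2⟩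
noncomputable def h_L3 : Lv :=
  ⟨(nat_lit 1), (nat_lit 2), (nat_lit 4), (nat_lit 2), (nat_lit 0), get (nat_lit 9) (nat_lit 131584),
    fun l x => get (nat_lit 1) (nat_lit 1) (Nat.add (Nat.mul x (nat_lit 1)) (Nat.sub l (nat_lit 1))), get (nat_lit 1) (nat_lit 0)⟩
noncomputable def h_lvs : List Lv := [h_L0, h_L1, h_L2, h_L3]
theorem h_ok : homOK 24 5 9 4 33 6 gQ [22147450416, 22354034976] 432 h_code h_lvs = true := by
  decide +kernel

theorem ext : Ext quart0 (⊤ : Subgroup (GL (Fin 2) (ZMod 3))) 9 3 := by
  have C := coded_zmod 3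
  have : Fact (Nat.Prime 3) := ⟨by norm_num⟩
  obtain ⟨f, -, a0, a, b, c, -⟩ := exists_hom_ker inj_pt faithful_M24 (C.inj_vec (k := 2) (n := 9) rfl) (C.faithful_GL rfl)
    gQ_ok (top_list (C.gl_list (As := [39, 62]) rfl (by decide +kernel))) card_quart0.2.le h_ok
    (by decide +kernel : surOK _ _ _ 48 [14301954576, 18075906576]
    [0, 0, 1861389, 652040]
    [(1, [0, 1], 8), (3, [2, 3], 6)] = true)
    (memQ.list (l := [891256915141300104684601826038906945, 232830186133421440756815622813352962]) (by decide +kernel)) (xs := [881155, 747523]) (by decide +kernel)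
    (by decide +kernel : surOK _ _ _ 9 [487607080158395075740321133224921120]
    [0, 0, 64776]
    [(0, [0, 1], 3), (3, [2], 3)] = true)
  have h2 := Ext.of_ker faithful_M24 b c (p := 3) (by decide +kernel)
  rwa [a, Subgroup.eq_top_of_card_eq f.range (by rw [a0, Matrix.card_GL_field]; decide)] at h2

/-- A quartet stabiliser inside the dodecad stabiliser has order 432, a normal subgroup of order 9 with quotient GL(2, 3), and is transitive on the dodecad. -/
theorem result (d : Finset Cfsg.GolayPt) (hd : d ∈ Cfsg.dodecads) (Q : Finset (Finset Cfsg.GolayPt)) (hQ : Q ∈ Cfsg.quartets d) : Nat.card ↥(MulAction.stabilizer Cfsg.M24 d ⊓ MulAction.stabilizer Cfsg.M24 Q) = 432 ∧ (∃ (N : Subgroup ↥(MulAction.stabilizer Cfsg.M24 d ⊓ MulAction.stabilizer Cfsg.M24 Q)) (_ : N.Normal), Nat.card N = 9 ∧ Nonempty (↥(MulAction.stabilizer Cfsg.M24 d ⊓ MulAction.stabilizer Cfsg.M24 Q) ⧸ N ≃* GL (Fin 2) (ZMod 3))) ∧ ∀ p ∈ d, ∀ q ∈ d, ∃ g ∈ (MulAction.stabilizer Cfsg.M24 d ⊓ MulAction.stabilizer Cfsg.M24 Q), ((g : ↥Cfsg.M24) : Equiv.Perm Cfsg.GolayPt) p = q := by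
  obtain ⟨g, rfl, rfl⟩ := exists_smul_quartet hd hQ
  have h : Cj g quart0 _ := (cjSt rfl).inf (cjSt rfl)
  obtain ⟨N, a, b, -, c⟩ := (ext.congr h.equiv).quot
  refine ⟨h.card.trans card_quart0.2, ⟨N, a, b, c⟩, fun p hp q hq => ?_⟩
  obtain ⟨k, a, b⟩ := exists_map_mask_list (memQ.wChain (L := [(0, [984818244535754528103549039458486304, 860276472555795932647156144992170115, 849902026111058428310074795103879202, 610913350546322563642387350024538320, 588867637333873337732312462892895372, 236832285060458999734162735897813293, 475994838228156362694633603167565096, 222567402846218115079519631594012882, 485707480960449247535967571696289793, 226338562250454360229630696656768388, 464212947052227820497623513173213766, 804141965363179120065986950752056585])]) (by decide +kernel))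
    (fun _ h => h.1) (l := [(g : P24)⁻¹ p]) (l' := [(g : P24)⁻¹ q])
    (by decide +kernel : covOK 5 _ 1 _ = true) (by simp) (by simp) rfl
    (List.forall_mem_singleton.2 (Finset.inv_smul_mem_iff.2 hp)) (List.forall_mem_singleton.2 (Finset.inv_smul_mem_iff.2 hq))
  exact ⟨_, h.mem a, by simpa using congrArg (g : P24) (List.cons.inj b).1⟩

end Cfsg.Agent.S1598
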