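import Cfsg.Statements.S1602
import Cfsg.Agent.Lib.Mathieu.Struct

set_option autoImplicit false
open scoped Pointwise
open Cfsg

namespace Cfsg.Agent.S1602

open Cfsg.Lib Cfsg.Lib.Golay Cfsg.Lib.Calc Cfsg.Lib.Grp Cfsg.Lib.Mathieu MulAction

set_option maxRecDepth 100000
set_option maxHeartbeats 400000

def h_C : ℕ := (nat_lit 0x338e6b655cec71b8cfa31aa8845545e444c01bc6b3cbc6a7b36615bd9275102540a41a4c0c6f9ac95d3aad87829ed1d2c24c4d7910280731bd64afb55d25068b60cf14a270bb4861037cc6b255c6af6d0c77486a9a0560dd848241ade3992bd6789282559a3ab9309a2ec91820d6379e15ea3d88e32e2c94e904d51768c4106f1cd66eb9d5cd38a8f60d5181ac92c8880831cd6f259d951654475c8747190f85c8d4841bceb1c2d62bb36663a872750487a6e464020d6379e15ea3d88e32e2c94e904d51768c4106f98ceaeba55ed8a26e912c7341492b0620831ae676599d4b63936891afaa0d485e431041cdeb38bdab49ca307b9ac5a928398a418820)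
noncomputable def h_code : ℕ → ℕ := get (nat_lit 145) h_C
def h_R0 : ℕ := (nat_lit 0x7c08000008f020000008c080000000000000032004000004000000001000000000da0200000514040000100000000040000000014000000002)
noncomputable def h_L0 : Lv :=
  ⟨(nat_lit 12), (nat_lit 14), (nat_lit 1), (nat_lit 6), (nat_lit 0), get (nat_lit 12) (nat_lit 0xd01901b01c01a01000),
    fun l x => get (nat_lit 38) h_R0 (Nat.add (Nat.mul x (nat_lit 2)) (Nat.sub l (nat_lit 12))), get (nat_lit 22) (nat_lit 0x53405f49c2000d02001c080020200000000000)⟩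
def h_R1 : ℕ := (nat_lit 0x8040000030100000140400000d01000004000000010000000038040000080000000200000000701000000)
noncomputable def h_L1 : Lv :=
  ⟨(nat_lit 7), (nat_lit 9), (nat_lit 2), (nat_lit 5), (nat_lit 0), get (nat_lit 12) (nat_lit 0x401501601801000),
    fun l x => get (nat_lit 34) h_R1 (Nat.add (Nat.mul x (nat_lit 2)) (Nat.sub l (nat_lit 7))), get (nat_lit 18) (nat_lit 0x9c414080201c080102000000000)⟩
noncomputable def h_L2 : Lv :=
  ⟨(nat_lit 3), (nat_lit 4), (nat_lit 4), (nat_lit 4), (nat_lit 0), get (nat_lit 10) (nat_lit 276758529024),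
    fun l x => get (nat_lit 2) (nat_lit 30) (Nat.add (Nat.mul x (nat_lit 1)) (Nat.sub l (nat_lit 3))), get (nat_lit 10) (nat_lit 538970112)⟩
noncomputable def h_lvs : List Lv := [h_L0, h_L1, h_L2]
theorem h_ok : homOK 24 5 5 3 29 5 [978311506716414001723901798772745408, 222769592142339659428648106017826304] [12428, 4371] 120 h_code h_lvs = true := by
  decide +kernel

/-- In the 12-point action of the smallest Mathieu group the setwise stabiliser of a pair is isomorphic to the symmetric group of degree 5. -/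
theorem result (d : Finset Cfsg.GolayPt) (hd : d ∈ Cfsg.dodecads) (p q q' : Cfsg.GolayPt) (hp : p ∈ d) (hq : q ∉ d) (hq' : q' ∉ d) (hqq' : q ≠ q') : Nonempty (↥(MulAction.stabilizer Cfsg.M24 d ⊓ MulAction.stabilizer Cfsg.M24 p ⊓ MulAction.stabilizer Cfsg.M24 ({q, q'} : Finset Cfsg.GolayPt)) ≃* Equiv.Perm (Fin 5)) := by
  obtain ⟨g, rfl, rfl, h⟩ := cj11 hd hp
  have key : ∀ x, x ∉ (g : P24) • G.toF 340831 → (g : P24)⁻¹ x ∈ G.toF 16436384 := fun x hx => by
    rw [← sdiff_toF (a := 16777215) (b := 340831) (by decide +kernel), toF_full]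
    exact Finset.mem_sdiff.2 ⟨Finset.mem_univ _, fun e => hx (Finset.inv_smul_mem_iff.1 e)⟩
  obtain ⟨k, a, b⟩ := exists_map_mask_list ch11c.w (m := 16436384) (fun _ h => smul_toF_compl h.1 (by decide +kernel))
    (l := [G.pt 23, G.pt 5]) (l' := [(g : P24)⁻¹ q, (g : P24)⁻¹ q']) (by decide +kernel) (by decide) (by simp [hqq']) rfl
    (List.forall_mem_cons.2 ⟨pt_mem (by decide), List.forall_mem_singleton.2 (pt_mem (by decide))⟩)
    (List.forall_mem_cons.2 ⟨key _ hq, List.forall_mem_singleton.2 (key _ hq')⟩)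
  simp only [List.map_cons, List.cons.injEq] at b
  refine (h.inf (cjSt (a := (k : P24) • G.toF 8388640) ?_)).iso (((Cj.self a).inf (cjSt rfl)).iso ?_)
  · rw [show G.toF 8388640 = {G.pt 23, G.pt 5} by decide +kernel]
    simp only [Finset.smul_finset_insert, Finset.smul_finset_singleton, Equiv.Perm.smul_def, b.1, b.2.1]
    simp
  exact nonempty_equiv_top' inj_pt faithful_M24 (inj_finPt 5) (faithful_finPt 5)
    ((mem11.inf (Mem.set (by norm_num))).list (by decide +kernel)) (perm_list (by decide +kernel))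
    (card_inf_stabilizer_le (a := 66) (by norm_num) (orbM_le _ g11_ok (by norm_num) (by norm_num)
      (by decide +kernel : Nat.beq (orbM g11 0xd00050000000100000000000300020000000d0000000300010000000400000005000000030001000400030000000000020005000100000004 29 8056021 89 (fun _ => true) 66 _) 66 = true)) card_m11.le)
    (card_perm_fin 5) h_ok (by decide +kernel : surOK _ _ _ 120 [5400, 10328, 13576, 9992, 14472]
    [0, 0, 231948, 157948686, 15727112, 17155, 539194668812]
    [(0, [0, 1], 5), (1, [2, 3], 4), (2, [4, 5], 3), (3, [6], 2)] = true)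

end Cfsg.Agent.S1602
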