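import Cfsg.Statements.S1628
import Cfsg.Agent.Lib.Ru.Basic

set_option autoImplicit false
open Cfsg

namespace Cfsg.Agent.S1628

/-- The Conway–Wales lattice as stored is even with no vectors of true norm 2: stored norms are multiples of 8, never equal to 8, and the minimum over nonzero vectors is 16. -/
theorem result : (∀ x ∈ Cfsg.Spor.ruLattice, (8 : ℤ) ∣ Cfsg.Spor.ruNorm x) ∧ (∀ x ∈ Cfsg.Spor.ruLattice, Cfsg.Spor.ruNorm x ≠ 8) ∧ (∀ x ∈ Cfsg.Spor.ruLattice, x ≠ 0 → 16 ≤ Cfsg.Spor.ruNorm x) ∧ ∃ x ∈ Cfsg.Spor.ruLattice, Cfsg.Spor.ruNorm x = 16 := by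
  have h2 : ∀ x ∈ Cfsg.Spor.ruLattice, x ≠ 0 → 16 ≤ Cfsg.Spor.ruNorm x := fun x hx h0 => by
    rw [Lib.Ru.ruNorm_eq]
    by_contra! h
    have := Lib.Ru.norm_short ⟨hx, h0, h.le⟩
    omega
  refine ⟨fun x hx => ?_, fun x hx h => ?_, h2, Lib.Ru.bl 0, Subtype.prop _, by
    rw [Lib.Ru.ruNorm_eq, Lib.Ru.dot_bl_zero]⟩
  · let S : AddSubgroup Cfsg.Spor.ruLattice :=
      { carrier := {x | 8 ∣ Lib.Ru.dot (x : Cfsg.Spor.RuVec) x}
        zero_mem' := ⟨0, ((Lib.Ru.dotH _).map_zero).trans (mul_zero _).symm⟩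
        add_mem' := fun {a b} ha hb => by
          have := Lib.Ru.four_dvd_dot a.2 b.2
          rw [Set.mem_ofPred_eq] at ha hb ⊢
          rw [AddSubgroup.coe_add, Lib.Ru.dot_add, Lib.Ru.add_dot, Lib.Ru.add_dot, Lib.Ru.dot_comm (b : Cfsg.Spor.RuVec) a]
          omega
        neg_mem' := fun {a} ha => by
          rw [Set.mem_ofPred_eq] at ha ⊢
          rwa [AddSubgroup.coe_neg, Lib.Ru.dot_neg, Lib.Ru.dot_comm, Lib.Ru.dot_neg, neg_neg] }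
    have : (⟨x, hx⟩ : Cfsg.Spor.ruLattice) ∈ S := by
      rw [← Lib.Ru.sum_bl ⟨x, hx⟩]
      refine sum_mem fun k hk => zsmul_mem (show 8 ∣ Lib.Ru.dot (Lib.Ru.bl k : Cfsg.Spor.RuVec) (Lib.Ru.bl k) from ?_) _
      have hk := Finset.mem_range.1 hk
      obtain ⟨j, rfl | rfl⟩ := Nat.even_or_odd' k
      · rw [Lib.Ru.dot_bl (by omega)]; norm_num
      · rw [← Lib.Ru.ruI_bl (by omega), ← Lib.Ru.iota_smul, Lib.Ru.dot_smul_self, Lib.Ru.dot_bl (by omega)]; norm_num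
    rw [Lib.Ru.ruNorm_eq]; exact this
  · have := h2 x hx (by rintro rfl; simp [Cfsg.Spor.ruNorm] at h)
    omega

end Cfsg.Agent.S1628
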