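import Cfsg.Statements.S5534
import Cfsg.Agent.Lib.M3.W2
import Cfsg.Agent.Lib.Calc.Iso2

set_option autoImplicit false
open Cfsg

namespace Cfsg.Agent.S5534

/-- The Monster (realised inside the presented Bimonster) has an involution whose centralizer is a non-split double cover of the Baby Monster (the finitely presented group of the definitions): the centralizer has centre of order 2, its central quotient is isomorphic to the Baby Monster, and the centre has no complement. -/
theorem result : ∃ y : Cfsg.Spor.Monster, orderOf y = 2 ∧ Cfsg.IsNonsplitDoubleCover ↥(Subgroup.centralizer ({y} : Set Cfsg.Spor.Monster)) Cfsg.Spor.BabyMonster := by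
  obtain ⟨r, h, ⟨e⟩⟩ := Lib.M3.exists_eB
  refine ⟨Lib.M3.eM (Lib.Griess.qM r), (MulEquiv.orderOf_eq _ _).trans (Lib.Griess.orderOf_qM h),
    Lib.Calc.isNonsplitDoubleCover_congr ((Lib.M3.eM.subgroupMap _).trans (MulEquiv.subgroupCongr ?_))
      (Lib.Calc.isNonsplitDoubleCover_congr_right e (Lib.Griess.simple_BB h).2)⟩
  ext x
  obtain ⟨x, rfl⟩ := Lib.M3.eM.surjective x
  rw [Subgroup.mem_centralizer_singleton_iff, ← map_mul, ← map_mul, Lib.M3.eM.apply_eq_iff_eq,
    ← Subgroup.mem_centralizer_singleton_iff]
  exact Subgroup.mem_map_iff_mem Lib.M3.eM.injective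

end Cfsg.Agent.S5534
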