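import Cfsg.Statements.S1647
import Cfsg.Agent.Lib.MT.Simp
import Cfsg.Agent.S5534

set_option autoImplicit false
open Cfsg

namespace Cfsg.Agent.S1647

/-- In a finite simple group, if some involution y has centraliser C with a normal subgroup Q, extraspecial of order 2 ^ 25 and containing an elementary abelian subgroup of order 2 ^ 13, whose centraliser in C lies in Q, such that C / Q is isomorphic to the first Conway group, then some involution x has centraliser a non-split double cover of the Baby Monster. -/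
theorem result {G : Type*} [Group G] [Finite G] [IsSimpleGroup G] (y : G) (hy : orderOf y = 2) (Q : Subgroup (Subgroup.centralizer ({y} : Set G))) [Q.Normal] (hQ : Cfsg.IsExtraspecial 2 Q) (hcard : Nat.card Q = 2 ^ 25) (hplus : ∃ E : Subgroup Q, Cfsg.IsElementaryAbelian 2 E ∧ Nat.card E = 2 ^ 13) (h2c : Subgroup.centralizer (Q : Set (Subgroup.centralizer ({y} : Set G))) ≤ Q) (hCo1 : Cfsg.Spor.IsoCo1 ((Subgroup.centralizer ({y} : Set G)) ⧸ Q)) : ∃ x : G, orderOf x = 2 ∧ Cfsg.IsNonsplitDoubleCover (Subgroup.centralizer ({x} : Set G)) Cfsg.Spor.BabyMonster := by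
  obtain ⟨⟨e⟩, -⟩ := Lib.Griess.MT.of_simple hy hQ hcard h2c hCo1
  obtain ⟨x, o, h⟩ := S5534.result
  refine ⟨e.symm x, (MulEquiv.orderOf_eq _ _).trans o,
    Lib.Calc.isNonsplitDoubleCover_congr ((e.symm.subgroupMap _).trans (MulEquiv.subgroupCongr ?_)) h⟩
  ext x
  obtain ⟨x, rfl⟩ := e.symm.surjective x
  rw [Subgroup.mem_centralizer_singleton_iff, ← map_mul, ← map_mul, e.symm.apply_eq_iff_eq,
    ← Subgroup.mem_centralizer_singleton_iff]
  exact Subgroup.mem_map_iff_mem e.symm.injective

end Cfsg.Agent.S1647
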