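import Cfsg.Statements.S1706
import Cfsg.Agent.Lib.Th.MLow

set_option autoImplicit false
open Cfsg

namespace Cfsg.Agent.S1706

open Cfsg.Lib.Th Subgroup

/-- In the presented Thompson sporadic group (generators a, b, c, d, e, s, t, u), the subgroup generated by the images of a, b, c, d, e, s, t has index 143127000. -/
theorem result : (((Subgroup.closure ({Cfsg.Spor.Th.a, Cfsg.Spor.Th.b, Cfsg.Spor.Th.c, Cfsg.Spor.Th.d, Cfsg.Spor.Th.e, Cfsg.Spor.Th.s, Cfsg.Spor.Th.t} : Set (FreeGroup Cfsg.Spor.Th.Gen))).map (PresentedGroup.mk (Cfsg.Spor.coxRelators Cfsg.Spor.Th.edges ∪ {r | r ∈ Cfsg.Spor.Th.extra})))).index = 143127000 := by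
  obtain ⟨ι, h⟩ := solΓ.1
  refine Eq.trans (congrArg index (le_antisymm ?_ ?_)) (h.exact solΓ.2).1
  · rw [map_le_iff_le_comap, closure_le]
    rintro _ (rfl | rfl | rfl | rfl | rfl | rfl | rfl)
    exacts [⟨_, h.map 0 (by decide)⟩, ⟨_, h.map 1 (by decide)⟩, ⟨_, h.map 2 (by decide)⟩, ⟨_, h.map 3 (by decide)⟩,
      ⟨_, h.map 4 (by decide)⟩, ⟨_, h.map 5 (by decide)⟩, ⟨_, h.map 6 (by decide)⟩]
  · rw [MonoidHom.range_eq_map, map_le_iff_le_comap, top_le_iff]
    refine topH _ fun c hc => ⟨FreeGroup.of (num c), subset_closure ?_, (h.map c hc).symm⟩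
    interval_cases c <;> simp [num]

end Cfsg.Agent.S1706
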