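import Cfsg.Statements.S1906
import Cfsg.Agent.Lib.CharDeg.GL2Mat
import Cfsg.Agent.Lib.Transfer.Extremal
import Cfsg.Agent.Lib.Gold.Core

set_option autoImplicit false
open Cfsg

namespace Cfsg.Agent.S1906

open Subgroup Cfsg.Lib Cfsg.Lib.BG

theorem exists_inv {X : Type*} [Group X] [Finite X] (hX : IsPGroup 2 X) (H : ¬ IsMulCommutative X) :
    ∃ y ∈ commutator X, y ∈ center X ∧ y * y = 1 ∧ y ≠ 1 := by
  have h := nil_meet_center (pgroup_nil (hX.to_subgroup ⊤)) (le_top : commutator X ≤ ⊤)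
    (normalizer_eq_top_iff.2 inferInstance).ge fun e => H (by
      have := abelian_iff_der.2 e
      exact ⟨⟨fun a b => congrArg Subtype.val (this.1.1 ⟨a, trivial⟩ ⟨b, trivial⟩)⟩⟩)
  obtain ⟨y, hy⟩ := exists_prime_orderOf_dvd_card' 2 (pgroup_dvd_card (hX.to_subgroup _) h)
  rw [← orderOf_coe] at hy
  exact ⟨y, y.2.1, mem_center_iff.2 fun g => mem_cent.1 y.2.2 g trivial, by rw [← pow_two, ← hy, pow_orderOf_eq_one],
    fun e => by simp [e] at hy⟩

theorem inv_cases {F : Type*} [Field F] {A : Matrix (Fin 2) (Fin 2) F} (h : A * A = 1) :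
    A = 1 ∨ A = -1 ∨ (¬ GLTwo.Scal A ∧ A.det = -1) := by
  have e := fun i j => congrFun (congrFun h i) j
  have e0 := e 0 0; have e1 := e 0 1; have e2 := e 1 0; have e3 := e 1 1
  simp [Matrix.mul_apply, Fin.sum_univ_two] at e0 e1 e2 e3
  by_cases hs : GLTwo.Scal A
  · obtain ⟨a, b, c⟩ := hs
    rcases mul_self_eq_one_iff.1 (show A 0 0 * A 0 0 = 1 by simpa [a] using e0) with d | d
    · exact Or.inl (GLTwo.mat_ext (by simp [d]) (by simp [a]) (by simp [b]) (by simp [← c, d]))
    · exact Or.inr (Or.inl (GLTwo.mat_ext (by simp [d]) (by simp [a]) (by simp [b]) (by simp [← c, d])))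
  refine Or.inr (Or.inr ⟨hs, ?_⟩)
  have t : A 0 0 + A 1 1 = 0 := by
    by_contra t
    exact hs ⟨mul_left_cancel₀ t (by linear_combination e1), mul_left_cancel₀ t (by linear_combination e2),
      mul_left_cancel₀ t (by linear_combination e0 - e3)⟩
  rw [Matrix.det_fin_two]
  linear_combination A 0 0 * t - e0

theorem main {G : Type*} [Group G] [Finite G] (hG : ∀ H : Subgroup G, H.index ≠ 2) (X : Sylow 2 G)
    {F : Type*} [Field F] [Finite F] (h2 : (1 : F) ≠ -1) (l : (X : Subgroup G) →* Fˣ) (μ : (X : Subgroup G) →* Matrix (Fin 2) (Fin 2) F)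
    (hi : ∀ x, l x = 1 → μ x = 1 → x = 1) (E : Subgroup G) (hE : E ≤ (X : Subgroup G)) (sq : ∀ e ∈ E, e * e = 1)
    (hE8 : Nat.card E = 8) : IsMulCommutative (X : Subgroup G) := by
  by_contra H
  have c : ∀ x y, μ x * μ y = μ y * μ x → x * y = y * x := fun x y e => by
    rw [← mul_inv_eq_one]
    refine hi _ (by simp [mul_comm (l x)]) ?_
    rw [map_mul, map_mul, e, ← map_mul, ← map_mul, mul_inv_cancel, map_one]
  have m2 : ∀ x : (X : Subgroup G), x.1 * x = 1 → μ x * μ x = 1 := fun x e => by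
    rw [← map_mul, show x * x = 1 from Subtype.ext e, map_one]
  obtain ⟨e, he, e1, e2⟩ : ∃ e : (X : Subgroup G), e.1 ∈ E ∧ e ≠ 1 ∧ μ e = 1 := by
    set K := (Matrix.detMonoidHom.comp μ).toHomUnits.ker
    have mK : ∀ x, x ∈ K ↔ (μ x).det = 1 := fun x => by simp [K, ← Units.val_eq_one]
    have h1 : K.relIndex (E.subgroupOf X) ∣ 2 := by
      by_cases h : ∃ a ∈ E.subgroupOf X, a ∉ K
      · obtain ⟨a, ha, a1⟩ := h
        have k : ∀ a ∈ E.subgroupOf X, a ∉ K → (μ a).det = -1 := fun a ha a1 =>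
          (mul_self_eq_one_iff.1 (by rw [← Matrix.det_mul, m2 a (sq _ ha), Matrix.det_one])).resolve_left (mt (mK a).2 a1)
        exact relIndex_dvd_two_iff.2 ⟨a, ha, fun b hb => or_iff_not_imp_right.2 fun b1 => by
          simp [mK, k a ha a1, k b hb b1]⟩
      · exact relIndex_dvd_two_iff.2 ⟨1, one_mem _, fun b hb => Or.inr (by_contra fun e => h ⟨b, hb, e⟩)⟩
    have h4 := BG.card_mul_relIndex (inf_le_right : K ⊓ E.subgroupOf X ≤ _)
    rw [inf_relIndex_right, subOf_card hE, hE8] at h4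
    have h3 := Nat.le_of_dvd two_pos h1
    obtain ⟨a, ha, a1⟩ := exists_ne_one (A := K ⊓ E.subgroupOf X) fun e => by rw [e, card_bot] at h4; omega
    obtain ⟨b, hb, b1⟩ : ∃ b ∈ K ⊓ E.subgroupOf X, b ∉ zpowers a := by
      by_contra! h
      have := card_le_of_le (show _ ≤ zpowers a from h)
      rw [Nat.card_zpowers, Gold.ord2 (Subtype.ext (sq _ ha.2)) a1] at this
      nlinarith
    have k : ∀ a ∈ K ⊓ E.subgroupOf X, μ a = 1 ∨ μ a = -1 := fun a ha =>
      (inv_cases (m2 a (sq _ ha.2))).imp_right fun e => e.elim id fun e => absurd (((mK a).1 ha.1).symm.trans e.2) h2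
    rcases k a ha with ea | ea
    · exact ⟨a, ha.2, a1, ea⟩
    rcases k b hb with eb | eb
    · exact ⟨b, hb.2, fun e => b1 (e ▸ one_mem _), eb⟩
    exact ⟨a * b, mul_mem ha.2 hb.2, fun e => b1 (eq_inv_of_mul_eq_one_right e ▸ inv_mem (mem_zpowers a)),
      by simp [ea, eb]⟩
  have key : ∀ y : (X : Subgroup G), y ∈ center _ → y.1 * y = 1 → y ≠ 1 → l y = 1 → μ y = -1 := fun y hy y2 y1 ly => by
    rcases inv_cases (m2 y y2) with h | h | h
    · exact absurd (hi y ly h) y1
    · exact h
    refine absurd ⟨⟨fun a b => c a b ?_⟩⟩ H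
    obtain ⟨s, t, e1⟩ := GLTwo.exists_eq_of_commute h.1 (X := μ a) (by rw [← map_mul, mem_center_iff.1 hy a, map_mul])
    obtain ⟨s', t', e2⟩ := GLTwo.exists_eq_of_commute h.1 (X := μ b) (by rw [← map_mul, mem_center_iff.1 hy b, map_mul])
    rw [e1, e2]
    simp only [add_mul, mul_add, smul_mul_assoc, mul_smul_comm, one_mul, mul_one, smul_smul, smul_add]
    module
  have ld : commutator (X : Subgroup G) ≤ l.ker := Abelianization.commutator_subset_ker l
  obtain ⟨y, hy, hz, y2, y1⟩ := exists_inv X.isPGroup' H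
  have e0 : (l.ker.map (X : Subgroup G).subtype).subgroupOf X = l.ker :=
    comap_map_eq_self_of_injective (subtype_injective _) _
  have : ((l.ker.map (X : Subgroup G).subtype).subgroupOf X).Normal := by rw [e0]; infer_instance
  have ce : ∀ x, x * e = e * x := fun x => c x e (by simp [e2])
  obtain ⟨g, ⟨w, hw, e3⟩, -, e4⟩ := Transfer.exists_conj_mem_and_conj_le X (T := l.ker.map (X : Subgroup G).subtype)
    (isCyclic_of_injective ((QuotientGroup.kerLift l).comp (QuotientGroup.quotientMulEquivOfEq e0).toMonoidHom)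
      ((QuotientGroup.kerLift_injective l).comp (MulEquiv.injective _))) (sq _ he)
    (mem_sup_left (Transfer.pResidual_two_eq_top_iff.2 hG ▸ mem_top _)) X.isPGroup'
    fun x hx => mem_cent1.2 (congrArg Subtype.val (ce ⟨x, hx⟩))
  have n := Transfer.mem_normalizer_of_conj_le e4
  have e5 : (w : G) = g * e * g⁻¹ := e3
  have w2 : w.1 * w = 1 := by rw [e5, conj_mul, sq _ he]; simp
  have e6 : w = y := by
    rw [← mul_inv_eq_one]
    refine hi _ (mul_mem hw (inv_mem (ld hy))) ?_
    rw [inv_eq_of_mul_eq_one_right y2, map_mul, key y hz (congrArg Subtype.val y2) y1 (ld hy), key w (mem_center_iff.2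
      fun x => Subtype.ext ?_) w2 (fun h => e1 (Subtype.ext (by simpa [h] using e5.symm))) hw]
    · simp
    simpa [e5, mul_assoc] using congrArg (fun t => g * t.1 * g⁻¹) (ce ⟨_, conj_mem_of_norm' n x.2⟩)
  have := conj_mem_of_norm' (norm_der (zpowers_le.2 n) (mem_zpowers g))
    (map_subtype_commutator (X : Subgroup G) ▸ mem_map_of_mem (X : Subgroup G).subtype (e6 ▸ hy))
  rw [← map_subtype_commutator] at this
  obtain ⟨u, hu, e7⟩ := this
  exact e1 (hi e ((Subtype.ext (by simpa [e5, mul_assoc] using e7) : u = e) ▸ ld hu) e2)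

theorem split {X F V : Type*} [Group X] [Field F] [AddCommGroup V] [Module F V] (ρ : Representation F X V)
    (hρ : Function.Injective ρ) {L W : Submodule F V} (h : IsCompl L W) (h1 : Module.finrank F L = 1)
    (h2 : Module.finrank F W = 2) (hL : ∀ g, L ≤ L.comap (ρ g)) (hW : ∀ g, W ≤ W.comap (ρ g)) :
    ∃ (l : X →* Fˣ) (μ : X →* Matrix (Fin 2) (Fin 2) F), ∀ x, l x = 1 → μ x = 1 → x = 1 := by
  have := Module.finite_of_finrank_eq_succ h1
  have := Module.finite_of_finrank_eq_succ h2
  set a := LinearMap.toMatrixAlgEquiv (Module.finBasisOfFinrankEq F L h1)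
  set b := LinearMap.toMatrixAlgEquiv (Module.finBasisOfFinrankEq F W h2)
  refine ⟨(Matrix.detMonoidHom.comp (a.toMulEquiv.toMonoidHom.comp (ρ.subrepresentation L hL))).toHomUnits,
    b.toMulEquiv.toMonoidHom.comp (ρ.subrepresentation W hW), fun x e1 e2 => hρ ?_⟩
  have e3 : ρ.subrepresentation L hL x = 1 := a.injective (by
    rw [map_one]; ext i j
    obtain rfl := Subsingleton.elim i 0
    obtain rfl := Subsingleton.elim j 0
    simpa using congrArg Units.val e1)
  have e4 : ρ.subrepresentation W hW x = 1 := b.injective (e2.trans (map_one b).symm)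
  rw [map_one]
  refine LinearMap.ext fun v => ?_
  obtain ⟨u, hu, w, hw, rfl⟩ := Submodule.mem_sup.1 (h.sup_eq_top ▸ Submodule.mem_top : v ∈ L ⊔ W)
  rw [map_add, show ρ x u = u from congrArg Subtype.val (LinearMap.congr_fun e3 ⟨u, hu⟩),
    show ρ x w = w from congrArg Subtype.val (LinearMap.congr_fun e4 ⟨w, hw⟩)]; rfl

/-- Let G be a finite group with no subgroup of index 2 whose Sylow 2-subgroup X embeds in GL₃(F) for a finite field F of odd order. If X contains an elementary abelian subgroup of order 8, then X is abelian. -/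
theorem result {G : Type*} [Group G] [Finite G] (hG : ∀ H : Subgroup G, H.index ≠ 2) (X : Sylow 2 G)
    {F : Type*} [Field F] [Fintype F] (hF : Odd (Fintype.card F))
    (f : ↥(X : Subgroup G) →* GL (Fin 3) F) (hf : Function.Injective f)
    (E : Subgroup G) (hE : E ≤ (X : Subgroup G)) (hEa : Cfsg.IsElementaryAbelian 2 E) (hE8 : Nat.card E = 8) :
    IsMulCommutative (X : Subgroup G) := by
  by_contra H
  have h3 : (2 : F) ≠ 0 := Ring.two_ne_zero fun e => (Nat.not_even_iff_odd.2 hF) (Nat.even_iff.2 (FiniteField.even_card_of_char_two e))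
  have h2 : (1 : F) ≠ -1 := fun e => h3 (by linear_combination e)
  obtain ⟨t, ht, hz, t2, t1⟩ := exists_inv X.isPGroup' H
  set ρ : Representation F (X : Subgroup G) (Fin 3 → F) :=
    (Matrix.toLinAlgEquiv' (R := F) (n := Fin 3)).toMulEquiv.toMonoidHom.comp ((Units.coeHom _).comp f)
  have hρ : Function.Injective ρ := (Matrix.toLinAlgEquiv' (R := F) (n := Fin 3)).injective.comp (Units.val_injective.comp hf)
  have inv : ∀ (c : F) g, Module.End.eigenspace (ρ t) c ≤ (Module.End.eigenspace (ρ t) c).comap (ρ g) := fun c g v hv => by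
    rw [Submodule.mem_comap, Module.End.mem_eigenspace_iff] at *
    rw [← Module.End.mul_apply, ← map_mul, ← mem_center_iff.1 hz g, map_mul, Module.End.mul_apply, hv, map_smul]
  have tt : ∀ v, ρ t (ρ t v) = v := fun v => by rw [← Module.End.mul_apply, ← map_mul, t2, map_one]; rfl
  have hc : IsCompl (Module.End.eigenspace (ρ t) 1) (Module.End.eigenspace (ρ t) (-1)) := by
    refine ⟨Module.End.disjoint_genEigenspace _ h2 1 1, codisjoint_iff.2 (eq_top_iff.2 fun v _ => Submodule.mem_sup.2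
      ⟨(2 : F)⁻¹ • (v + ρ t v), ?_, (2 : F)⁻¹ • (v - ρ t v), ?_, ?_⟩)⟩
    · simp [Module.End.mem_eigenspace_iff, tt, add_comm]
    · simp [Module.End.mem_eigenspace_iff, tt, smul_sub, sub_eq_neg_add, add_comm]
    · rw [← smul_add, add_add_sub_cancel, ← two_smul F v, inv_smul_smul₀ h3]
  have h4 := Submodule.finrank_add_eq_of_isCompl hc
  rw [Module.finrank_fin_fun] at h4
  have k : ∀ c : F, ρ t ≠ c • 1 → Module.finrank F (Module.End.eigenspace (ρ t) c) ≠ 3 := fun c e h => e (LinearMap.ext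
    fun v => Module.End.mem_eigenspace_iff.1 (Submodule.eq_top_of_finrank_eq (h.trans (Module.finrank_fin_fun F).symm) ▸
      Submodule.mem_top))
  have k1 := k 1 fun e => t1 (hρ (by simpa using e))
  have k2 := k (-1) fun e => by
    have d : (f t).1.det = 1 := by
      simpa using congrArg Units.val (Abelianization.commutator_subset_ker (Matrix.GeneralLinearGroup.det.comp f) ht)
    have : (f t).1 = -1 := (Matrix.toLinAlgEquiv' (R := F) (n := Fin 3)).injective (by rw [map_neg, map_one, ← neg_one_smul F]; exact e)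
    rw [this, Matrix.det_neg] at d
    exact h2 (d.symm.trans (by simp; ring))
  have sq := Inv.elemAb_two_iff.1 hEa
  rcases (by omega : Module.finrank F (Module.End.eigenspace (ρ t) 1) = 1 ∨
    Module.finrank F (Module.End.eigenspace (ρ t) 1) = 2) with h | h
  · obtain ⟨l, μ, e⟩ := split ρ hρ hc h (by omega) (inv _) (inv _)
    exact H (main hG X h2 l μ e E hE sq hE8)
  · obtain ⟨l, μ, e⟩ := split ρ hρ hc.symm (by omega) h (inv _) (inv _)
    exact H (main hG X h2 l μ e E hE sq hE8)

end Cfsg.Agent.S1906
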