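import Cfsg.Statements.S1913
import Cfsg.Agent.Lib.ZD.Cor2
-- import your own Cfsg.Agent.* helpers here

set_option autoImplicit false
open Cfsg

namespace Cfsg.Agent.S1913

open Cfsg.Lib.ZD Cfsg.Lib.BG Cfsg.Lib.Inv Subgroup in
/-- Let z be an involution in the centre of a Sylow 2-subgroup of a finite group G and H a proper subgroup such that z ∈ gHg⁻¹ exactly when g ∈ H, and such that for every involution u commuting with z whose centralizer is not contained in H, the subgroup H ∩ L is strongly embedded in L = ⟨G-conjugates of z commuting with u⟩. Then, with K the normal closure of z in G, H ∩ K is strongly embedded in K. -/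
theorem result {G : Type*} [Group G] [Finite G] (P : Sylow 2 G) (z : G) (hz2 : orderOf z = 2)
    (hzP : z ∈ (Subgroup.center ↥(P : Subgroup G)).map (P : Subgroup G).subtype)
    (H : Subgroup G) (hH : H ≠ ⊤) (hi : ∀ g : G, z ∈ H.map (MulAut.conj g).toMonoidHom ↔ g ∈ H)
    (hii : ∀ u : G, orderOf u = 2 → u * z = z * u → ¬ Subgroup.centralizer ({u} : Set G) ≤ H →
      Cfsg.IsStronglyEmbedded (H.subgroupOf (Subgroup.closure {x : G | IsConj z x ∧ x * u = u * x}))) :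
    Cfsg.IsStronglyEmbedded (H.subgroupOf (Subgroup.normalClosure ({z} : Set G))) := by
  have h : Fx H {z} := ⟨by simpa, by simpa using (hi 1).2 H.one_mem, by
    rintro _ rfl g hg
    exact inv_mem_iff.1 ((hi g⁻¹).1 ⟨_, hg, by simp [mul_assoc]⟩)⟩
  haveI := nontrivial_quot hH
  have hf := h.full rfl
  have hcj : ∀ x ∈ Group.conjugatesOfSet {z}, IsConj z x := fun x hx => by
    simpa [Group.mem_conjugatesOfSet_iff] using hx
  have hw : WPD (Group.conjugatesOfSet {z}) (G ⧸ H) := by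
    refine h.wpd P rfl (fun s hs => mem_cent1.2 ?_) ?_
    · obtain ⟨_, hc, rfl⟩ := hzP
      exact congrArg Subtype.val (mem_center_iff.1 hc ⟨s, hs⟩)
    rintro z rfl x hx e1 e2
    by_contra hn
    have ho := ord_mul_comm hz2 (h.ord' hx) e1 e2
    have hxH : x ∈ H := h.fix _ rfl x (by rw [← e2, mul_inv_cancel_right]; exact h.mem _ rfl)
    refine not_se_of_cent ho (mul_mem (h.mem _ rfl) hxH) (mul_mem (Subgroup.subset_closure ?_)
      (Subgroup.subset_closure ?_)) ?_ (hii _ ho (by rw [mul_assoc, ← e2]) hn)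
    exacts [⟨IsConj.refl _, by rw [mul_assoc, ← e2]⟩, ⟨hcj x hx, by rw [← mul_assoc, ← e2]⟩,
      fun y hy => mem_cent1.2 hy.2]
  have hp := hw.pd_of_loc hf fun w hw2 hwa x hx y hy e1 e2 hxw hyw => by
    obtain ⟨g, rfl⟩ := mem_cj1.1 hx
    obtain ⟨b, hb⟩ := exists_ne ((1 : G) : G ⧸ H)
    have hw' : orderOf (g⁻¹ * w * g⁻¹⁻¹) = 2 := by rwa [orderOf_conj']
    have hwa' : ∀ a : G ⧸ H, (g⁻¹ * w * g⁻¹⁻¹) • a = a := fun a => by simp [mul_smul, hwa]
    obtain ⟨s, hs, hsw⟩ := hw.exists_cent1_TT hf hb.symm (mul_self_of_orderOf hw')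
      (Or.inl ⟨hwa' _, hwa' _⟩)
    have c1 : z * (g⁻¹ * w * g⁻¹⁻¹) = g⁻¹ * w * g⁻¹⁻¹ * z := by
      simpa [mul_assoc] using congrArg (g⁻¹ * · * g) (mem_cent1.1 hxw)
    have hse := hii _ hw' c1.symm fun e => hb (hs.2.symm.trans (smul_one_iff.2 (e hsw)))
    have hy' := hw.conj _ hy g⁻¹
    have m1 : z ∈ closure {x : G | IsConj z x ∧ x * (g⁻¹ * w * g⁻¹⁻¹) = g⁻¹ * w * g⁻¹⁻¹ * x} :=
      subset_closure ⟨IsConj.refl _, c1⟩
    have m2 : g⁻¹ * y * g⁻¹⁻¹ ∈
        closure {x : G | IsConj z x ∧ x * (g⁻¹ * w * g⁻¹⁻¹) = g⁻¹ * w * g⁻¹⁻¹ * x} :=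
      subset_closure ⟨hcj _ hy', by simpa [mul_assoc] using congrArg (g⁻¹ * · * g) (mem_cent1.1 hyw)⟩
    obtain ⟨c, hc⟩ := isConj_iff.1 (se_isConj hse (s := ⟨_, m1⟩) (t := ⟨_, mul_mem m1 m2⟩)
      (by rwa [orderOf_mk]) (by
        rw [orderOf_mk, ← orderOf_conj' g, ← ord_mul_comm (hw.ord _ hx) (hw.ord _ hy) e1 e2]
        congr 1; group))
    refine mem_cj1.2 ⟨g * c, ?_⟩
    have hc' : (c : G) * z * (c : G)⁻¹ = z * (g⁻¹ * y * g⁻¹⁻¹) := congrArg Subtype.val hc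
    calc _ = g * ((c : G) * z * (c : G)⁻¹) * g⁻¹ := by group
      _ = _ := by rw [hc']; group
  have := hp.se hf ((1 : G) : G ⧸ H)
  rwa [MulAction.stabilizer_quotient] at this

end Cfsg.Agent.S1913
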