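import Cfsg.Statements.S1921
import Cfsg.Agent.Lib.Comp.Component
import Cfsg.Agent.Lib.Transfer.SylowIn
import Cfsg.Agent.Lib.Inv.Basic
import Cfsg.Agent.Lib.Core.Basic

set_option autoImplicit false
open Cfsg

namespace Cfsg.Agent.S1921

open Cfsg.Lib Cfsg.Lib.Comp Cfsg.Lib.Transfer Subgroup

/-- Let a be an involution of a finite group H and L a component of H with a L a⁻¹ ≠ L; put M = ⟨L, aLa⁻¹⟩ and let J be the subgroup generated by the elements x · a x a⁻¹ with x ∈ L (the diagonal). Then every element of M outside J·Z(M) generates M together with J. -/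
theorem result {H : Type*} [Group H] [Finite H] (a : H) (ha : orderOf a = 2) (L : Subgroup H) (hL : Cfsg.IsComponent L)
    (hLa : L.map (MulAut.conj a).toMonoidHom ≠ L) (x : H) (hxM : x ∈ L ⊔ L.map (MulAut.conj a).toMonoidHom)
    (hxJ : x ∉ Subgroup.closure {y : H | ∃ l ∈ L, y = l * (a * l * a⁻¹)} ⊔
      ((L ⊔ L.map (MulAut.conj a).toMonoidHom) ⊓ Subgroup.centralizer ((L ⊔ L.map (MulAut.conj a).toMonoidHom : Subgroup H) : Set H))) :
    Subgroup.closure {y : H | ∃ l ∈ L, y = l * (a * l * a⁻¹)} ⊔ Subgroup.zpowers x = L ⊔ L.map (MulAut.conj a).toMonoidHom := by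
  set J := closure {y : H | ∃ l ∈ L, y = l * (a * l * a⁻¹)}
  have h0 := isComponent_commutator_eq_bot_of_ne hL (isComponent_map_conj hL a) hLa.symm
  have h1 : ∀ l ∈ L, ∀ m ∈ L, Commute l (a * m * a⁻¹) := fun l hl m hm =>
    (commutator_eq_bot_iff_le_centralizer.1 h0 hl _ (conj_mem_conj.2 hm)).symm
  have h2 : ∀ l ∈ L, l * (a * l * a⁻¹) ∈ J := fun l hl => subset_closure ⟨l, hl, rfl⟩
  have h3 : J ≤ L ⊔ a ⋆ L := (closure_le _).2 <| by
    rintro _ ⟨l, hl, rfl⟩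
    exact mul_mem (mem_sup_left hl) (mem_sup_right (conj_mem_conj.2 hl))
  obtain ⟨l, hl, _, ⟨m, hm, rfl⟩, rfl⟩ := (mem_sup_of_le_normalizer' (le_normalizer_of_commutator_eq_bot h0)).1 hxM
  have e : l * (MulAut.conj a).toMonoidHom m = l * m⁻¹ * (m * (a * m * a⁻¹)) := by simp [mul_assoc]
  rw [e] at hxJ ⊢
  set Y := J ⊔ zpowers (l * m⁻¹ * (m * (a * m * a⁻¹)))
  have h4 : l * m⁻¹ ∈ Y := (mul_mem_cancel_right (mem_sup_left (h2 m hm))).1 (mem_sup_right (mem_zpowers _))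
  have h5 : L ≤ Y := by
    refine ((qs_eq_or_le_centralizer hL.2 (N := L ⊓ Y) inf_le_left fun k hk =>
      mem_normalizer_of_conj_le (conj_le_iff.2 fun y hy => ⟨L.mul_mem (L.mul_mem hk hy.1) (L.inv_mem hk), ?_⟩)).resolve_right
        fun h => hxJ (mul_mem (mem_sup_right ⟨mem_sup_left (L.mul_mem hl (L.inv_mem hm)), ?_⟩)
          (mem_sup_left (h2 m hm)))).ge.trans inf_le_right
    · have := mul_mem (mul_mem (mem_sup_left (h2 k hk) : _ ∈ Y) hy.2) (inv_mem (mem_sup_left (h2 k hk) : _ ∈ Y))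
      rwa [mul_assoc k, ← (h1 y hy.1 k hk).eq, show k * (y * (a * k * a⁻¹)) * (k * (a * k * a⁻¹))⁻¹ =
      k * y * k⁻¹ by group] at this
    · rw [Core.centralizer_sup]
      exact ⟨h ⟨L.mul_mem hl (L.inv_mem hm), h4⟩, commutator_eq_bot_iff_le_centralizer.1 h0 (mul_mem hl (inv_mem hm))⟩
  refine le_antisymm (sup_le h3 (zpowers_le.2 (mul_mem (mem_sup_left (mul_mem hl (inv_mem hm))) (h3 (h2 m hm)))))
    (sup_le h5 (conj_le_iff.2 fun k hk => (mul_mem_cancel_left (h5 hk)).1 (mem_sup_left (h2 k hk))))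

end Cfsg.Agent.S1921
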