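import Cfsg.Statements.S1922
import Cfsg.Agent.Lib.Inv.SylowTwo
import Cfsg.Agent.Lib.Core.Basic

set_option autoImplicit false
open Cfsg

namespace Cfsg.Agent.S1922

open Cfsg.Lib Cfsg.Lib.Inv Cfsg.Lib.Transfer Subgroup

theorem par {α : Type*} [Finite α] {P : α → Prop} (σ : α → α) (h : ∀ a, P a → P (σ a))
    (h2 : ∀ a, P a → σ (σ a) = a) : Nat.card {a // P a} ≡ Nat.card {a // P a ∧ σ a = a} [MOD 2] := by
  classical
  have := Fintype.ofFinite α
  have : Fact (Nat.Prime 2) := ⟨Nat.prime_two⟩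
  have := Equiv.Perm.card_fixedPoints_modEq (α := {a // P a}) (f := fun a => ⟨σ a, h a a.2⟩) (p := 2) (n := 1)
    (funext fun a => Subtype.ext (h2 a a.2))
  rw [← Nat.card_eq_fintype_card, ← Nat.card_eq_fintype_card] at this
  rwa [← Nat.card_congr (Equiv.subtypeSubtypeEquivSubtypeInter P fun a => σ a = a),
    ← card_subtype_congr (P := fun a : {a // P a} => (⟨σ a, h a a.2⟩ : {a // P a}) = a) fun a => Subtype.ext_iff]

theorem refl_conj {G : Type*} [Group G] {x y : G} (hx : x * x = 1) (hy : y * y = 1) (k : ℕ) :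
    IsConj x ((x * y) ^ k * x) ∨ IsConj y ((x * y) ^ k * x) := by
  obtain ⟨j, rfl | rfl⟩ := k.even_or_odd'
  · exact Or.inl (isConj_iff.2 ⟨(x * y) ^ (j : ℤ), by rw [zpow_conj_left hx hy]; norm_cast⟩)
  · refine Or.inr (isConj_iff.2 ⟨(x * y) ^ (j + 1 : ℤ), ?_⟩)
    rw [mul_assoc, ← zpow_neg, mul_zpow_of_inv (pair_right_inv hx hy), ← mul_assoc, ← zpow_add]
    nth_rw 2 [pair_right_eq hx hy]
    rw [← mul_assoc, ← zpow_add, ← zpow_natCast]
    congr 2
    push_cast
    ring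

/-- Let z be an involution of a finite group G and H a proper subgroup such that z lies in gHg⁻¹ exactly when g ∈ H. Then the following are equivalent: (1) for every conjugate t ≠ z of z commuting with z, the product zt lies in gHg⁻¹ exactly when g ∈ H; (2) z lies in the centre of some Sylow 2-subgroup of G, and for every conjugate t ≠ z of z commuting with z, the centralizer of zt is contained in H. -/
theorem result {G : Type*} [Group G] [Finite G] (z : G) (hz : orderOf z = 2) (H : Subgroup G) (hH : H ≠ ⊤)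
    (h0 : ∀ g : G, z ∈ H.map (MulAut.conj g).toMonoidHom ↔ g ∈ H) :
    (∀ t : G, IsConj z t → t ≠ z → t * z = z * t → ∀ g : G, z * t ∈ H.map (MulAut.conj g).toMonoidHom ↔ g ∈ H) ↔
      ((∃ P : Sylow 2 G, z ∈ (Subgroup.center ↥(P : Subgroup G)).map (P : Subgroup G).subtype) ∧
        ∀ t : G, IsConj z t → t ≠ z → t * z = z * t → Subgroup.centralizer ({z * t} : Set G) ≤ H) := by
  have : Fact (Nat.Prime 2) := ⟨Nat.prime_two⟩
  have hzH : z ∈ H := by simpa [conj_one] using (h0 1).2 (one_mem _)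
  have h1 : ∀ g : G, g⁻¹ * z * g ∈ H ↔ g ∈ H := fun g => by rw [← mem_conj, h0]
  have hC : centralizer {z} ≤ H := fun g hg => (h1 g).1 (by
    rwa [mul_assoc, ← mem_centralizer_singleton_iff.1 hg, inv_mul_cancel_left])
  have hz2 := mul_self_of_orderOf hz
  have h2 : ∀ {t : G}, IsConj z t → t * t = 1 := fun h => mul_self_of_orderOf ((orderOf_eq_of_isConj h).symm.trans hz)
  refine ⟨fun h => ⟨?_, fun t ht h3 h4 g hg => (h t ht h3 h4 g).1 (mem_conj.2 ?_)⟩, ?_⟩
  · obtain ⟨g, hg⟩ := SetLike.not_le_iff_exists.1 (mt top_le_iff.1 hH)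
    replace hg := hg.2
    have h3 : ∀ {a b y : G}, IsConj z a → IsConj z b → Even (orderOf (a * b)) → y ∉ H →
        (∀ w ∈ zpowers (a * b), Commute w a → Commute w b → w ∈ H ∧ y⁻¹ * w * y ∈ H) → False :=
      fun {a b y} ha hb he hy hw => by
        obtain ⟨e1, e2, e3⟩ := half_pow_of_even (h2 ha) (h2 hb) he
        have e4 : IsConj z ((a * b) ^ (orderOf (a * b) / 2) * a) :=
          (refl_conj (h2 ha) (h2 hb) _).elim ha.trans hb.trans
        obtain ⟨e5, e6⟩ := hw _ (npow_mem_zpowers _ _) e2 e3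
        generalize (a * b) ^ (orderOf (a * b) / 2) = w at e1 e2 e4 e5 e6
        obtain ⟨k, rfl⟩ := isConj_iff.1 ha
        have e7 := h (k⁻¹ * w * k * z) (e4.trans (isConj_iff.2 ⟨k⁻¹, by group⟩))
          (fun e => ne_one_of_orderOf e1 (by simpa [mul_assoc, mul_inv_eq_iff_eq_mul, inv_mul_eq_iff_eq_mul] using e))
          (by rw [← mul_assoc, mul_left_inj, ← mul_right_inj k, ← mul_left_inj k⁻¹]; simpa [mul_assoc] using e2.eq)
        have e8 : z * (k⁻¹ * w * k * z) = k⁻¹ * w * k := by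
          rw [← mul_assoc, show z * (k⁻¹ * w * k) = k⁻¹ * w * k * z by
            rw [← mul_right_inj k, ← mul_left_inj k⁻¹]; simpa [mul_assoc] using e2.eq.symm, mul_assoc, hz2, mul_one]
        simp only [e8, mem_conj] at e7
        exact hy ((mul_mem_cancel_left ((e7 k⁻¹).1 (by simpa [mul_assoc] using e5))).1
          ((e7 (k⁻¹ * y)).1 (by simpa [mul_assoc] using e6)))
    have h4 : ∀ {y : G}, y ∉ H → Odd (orderOf (z * (y * z * y⁻¹))) := fun {y} hy =>
      Nat.not_even_iff_odd.1 fun he => h3 (IsConj.refl z) (isConj_iff.2 ⟨y, rfl⟩) he hy fun w _ e1 e2 =>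
        ⟨hC (mem_centralizer_singleton_iff.2 e1), hC (mem_centralizer_singleton_iff.2 (by
          rw [← mul_right_inj y, ← mul_left_inj y⁻¹]; simpa [mul_assoc] using e2.eq))⟩
    have h5 : ∀ {e : G}, IsConj z e → g⁻¹ * e * g ∈ H → ∃ f, (IsConj z f ∧ g⁻¹ * f ∈ H) ∧ f * z * f⁻¹ = e :=
      fun {e} he heH => by
        obtain ⟨y, rfl⟩ := isConj_iff.1 he
        have e1 : y⁻¹ * g ∈ H := (h1 _).1 (by simpa [mul_assoc] using heH)
        obtain ⟨k, hk⟩ := exists_pow_conj_of_odd hz2 (h2 he) (h4 fun hy => hg ((mul_mem_cancel_left (inv_mem hy)).1 e1))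
        have e2 := (refl_conj hz2 (h2 he) k).elim id he.trans
        generalize (z * (y * z * y⁻¹)) ^ k = c at hk e2
        have e3 : c * z * z * (c * z)⁻¹ = y * z * y⁻¹ := by rw [← hk]; group
        refine ⟨_, ⟨e2, inv_mem_iff.1 ((h1 _).1 ?_)⟩, e3⟩
        rw [← e3] at heH
        simpa [mul_assoc] using heH
    have h6 : ∀ {a b : G}, IsConj z a ∧ g⁻¹ * a ∈ H → IsConj z b ∧ g⁻¹ * b ∈ H → Odd (orderOf (a * b)) :=
      fun {a b} ha hb => Nat.not_even_iff_odd.1 fun he => h3 ha.1 hb.1 he hg fun w hw _ _ => by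
        refine (zpowers_le (H := H ⊓ g ⋆ H)).2 ⟨?_, mem_conj.2 ?_⟩ hw |>.imp_right mem_conj.1
        · simpa [inv_eq_of_mul_self (h2 ha.1), mul_assoc] using H.mul_mem (inv_mem ha.2) hb.2
        · simpa [inv_eq_of_mul_self (h2 hb.1), mul_assoc] using H.mul_mem ha.2 (inv_mem hb.2)
    have h7 : Nat.card {f // IsConj z f ∧ g⁻¹ * f ∈ H} = Nat.card {e // IsConj z e ∧ e ∈ H} := by
      refine Nat.card_eq_of_bijective (fun f => ⟨g⁻¹ * f * z * (g⁻¹ * f)⁻¹, isConj_iff.2 ⟨_, rfl⟩,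
        mul_mem (mul_mem f.2.2 hzH) (inv_mem f.2.2)⟩) ⟨fun ⟨a, ha⟩ ⟨b, hb⟩ e => ?_, fun ⟨e, he⟩ => ?_⟩
      · have e1 : Commute z (b * a) := by
          have := congrArg (fun x => b⁻¹ * g * x.1 * g⁻¹ * a) e
          simpa [Commute, SemiconjBy, mul_assoc, inv_eq_of_mul_self (h2 hb.1), ← mul_assoc b b, h2 hb.1] using this.symm
        obtain ⟨y, hy⟩ := isConj_iff.1 hb.1
        have e2 := h4 (y := y) fun h => hg (by
          have := H.mul_mem (hy ▸ mul_mem (mul_mem h hzH) (inv_mem h)) (inv_mem hb.2)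
          rwa [mul_inv_rev, inv_inv, ← mul_assoc, mul_inv_cancel, one_mul] at this)
        have e3 := eq_one_of_odd_of_mul_self (h6 hb ha) (mul_self_eq_one_of_odd_inv (g := z * b) (by
          rw [mul_inv_rev, mul_assoc z, mul_assoc z, ← mul_assoc _ b⁻¹, pair_left_inv (h2 hb.1) (h2 ha.1),
            ← mul_assoc, e1.inv_right.eq, mul_inv_cancel_right]) (hy ▸ e2))
        exact Subtype.ext ((eq_inv_of_mul_eq_one_right e3).trans (inv_eq_of_mul_self (h2 hb.1)))
      · obtain ⟨f, hf, e1⟩ := h5 (e := g * e * g⁻¹) (he.1.trans (isConj_iff.2 ⟨g, rfl⟩)) (by simpa [mul_assoc] using he.2)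
        exact ⟨⟨f, hf⟩, Subtype.ext (by simpa [mul_assoc] using congrArg (fun x => g⁻¹ * x * g) e1)⟩
    obtain ⟨f, hf, -⟩ := h5 (e := g * z * g⁻¹) (isConj_iff.2 ⟨g, rfl⟩) (by simpa [mul_assoc] using hzH)
    have e1 := par (P := fun a => IsConj z a ∧ g⁻¹ * a ∈ H) (fun a => f * a * f⁻¹) (fun a ha => ⟨ha.1.trans
      (isConj_iff.2 ⟨f, rfl⟩), by
        simpa [inv_eq_of_mul_self (h2 ha.1), inv_eq_of_mul_self (h2 hf.1), mul_assoc] using
          H.mul_mem (H.mul_mem hf.2 (inv_mem ha.2)) hf.2⟩)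
      fun a _ => by simp [inv_eq_of_mul_self (h2 hf.1), mul_assoc, h2 hf.1, ← mul_assoc f f]
    have e0 : Nat.card {a // (IsConj z a ∧ g⁻¹ * a ∈ H) ∧ f * a * f⁻¹ = a} = 1 := by
      refine (card_subtype_congr (Q := fun a => a = f) fun a => ⟨fun ⟨ha, e⟩ => ?_,
        by rintro rfl; simpa using hf⟩).trans Nat.card_unique
      rw [mul_inv_eq_iff_eq_mul] at e
      have := eq_one_of_odd_of_mul_self (h6 hf ha) (by
        rw [mul_assoc, ← mul_assoc a, ← e, mul_assoc, h2 ha.1, mul_one, h2 hf.1])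
      rw [eq_inv_of_mul_eq_one_right this, inv_eq_of_mul_self (h2 hf.1)]
    rw [h7, e0] at e1
    classical
    have e2 := par (P := IsConj z) (fun a => if a ∈ H then a else z * a * z⁻¹) (fun a ha => by
      split_ifs
      exacts [ha, ha.trans (isConj_iff.2 ⟨z, rfl⟩)]) fun a _ => by
        by_cases h : a ∈ H
        · simp [h]
        · simp [h, mul_mem_cancel_left hzH, mul_mem_cancel_right hzH, inv_eq_of_orderOf hz, mul_assoc, hz2,
            ← mul_assoc z z]
    rw [card_class_eq_index, card_subtype_congr (Q := fun a => IsConj z a ∧ a ∈ H) fun a => and_congr_right fun _ =>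
      ⟨fun e => by_contra fun h => h (hC (mem_centralizer_singleton_iff.2 (by
        rw [if_neg h, mul_inv_eq_iff_eq_mul] at e; exact e.symm))), fun h => if_pos h⟩] at e2
    obtain ⟨T, h8, h9, h10, h11⟩ := exists_sylowIn_ge (isPGroup_zpowers_of_mul_self hz2)
      (zpowers_le.2 (mem_centralizer_singleton_iff.2 rfl : z ∈ centralizer {z}))
    obtain ⟨P, rfl⟩ := exists_sylow_eq_iff.2 ⟨h10, by
      rw [← relIndex_mul_index h9, Nat.prime_two.dvd_mul, not_or]
      exact ⟨h11, by have := e2.trans e1; unfold Nat.ModEq at this; omega⟩⟩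
    exact ⟨P, ⟨z, h8 (mem_zpowers z)⟩, mem_center_iff.2 fun a => Subtype.ext
      (mem_centralizer_singleton_iff.1 (h9 a.2)), rfl⟩
  · rw [mul_assoc, ← mem_centralizer_singleton_iff.1 hg, inv_mul_cancel_left]
    exact mul_mem hzH (hC (mem_centralizer_singleton_iff.2 h4))
  rintro ⟨⟨P, ⟨⟨y, hy⟩, h3, rfl⟩⟩, h⟩ t ht h4 h5 g
  have h6 := mul_mem hzH (hC (mem_centralizer_singleton_iff.2 h5))
  refine ⟨fun hg => ?_, fun hg => by rwa [conj_eq_self_of_mem hg]⟩
  have h7 : (P : Subgroup G) ≤ centralizer {y} := fun a ha =>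
    mem_centralizer_singleton_iff.2 (congrArg Subtype.val (mem_center_iff.1 h3 ⟨a, ha⟩))
  obtain ⟨k, hk, h8⟩ := exists_conj_le_of_not_dvd_relIndex' (sylow_not_dvd_relIndex P (h7.trans hC))
    (isPGroup_zpowers_of_mul_self (x := g⁻¹ * (y * t) * g) (by
      have : y * t * (y * t) = 1 := by
        rw [mul_assoc, ← mul_assoc t, show t * y = y * t from h5, mul_assoc, h2 ht, mul_one]; exact hz2
      rw [mul_assoc, mul_assoc, mul_assoc g⁻¹, mul_inv_cancel_left, ← mul_assoc (y * t), this]; simp))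
    (zpowers_le.2 (mem_conj.1 hg))
  rw [conj_zpowers, zpowers_le] at h8
  have h9 := mem_centralizer_singleton_iff.1 (h7 h8)
  have : k * g⁻¹ ∈ H := (h1 _).1 (h t ht h4 h5 (mem_centralizer_singleton_iff.2 (by
    rw [← mul_right_inj (k * g⁻¹), ← mul_left_inj (g * k⁻¹)]
    simpa [mul_assoc] using h9.symm)))
  rwa [mul_mem_cancel_left hk, inv_mem_iff] at this

end Cfsg.Agent.S1922
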