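import Cfsg.Statements.S1923
import Cfsg.Agent.Lib.NS.AS

set_option autoImplicit false
open Cfsg

namespace Cfsg.Agent.S1923

/-- Let r be a prime and let A and G be subgroups of a finite group X with G nontrivial and A normalizing G, A an elementary abelian r-group of order at least r³. For each nontrivial a ∈ A let θ(a) be an A-invariant subgroup of C_G(a) of order prime to r such that: (a) whenever the layer E(θ(a)) is nontrivial, it is a non-abelian group whose only A-invariant normal subgroups are 1 and itself, all of its non-abelian simple sections are known simple groups, the Fitting subgroup of θ(a) is trivial, and C_A(E(θ(a))) = ⟨a⟩; (b) for all nontrivial a, b ∈ A, θ(a) ∩ C_G(b) ≤ θ(b) and E(E(θ(a)) ∩ C_G(b)) ≤ E(θ(b)); (c) G is generated by the subgroups E(θ(a)). Then G has order prime to r, G is non-abelian with no A-invariant normal subgroups other than 1 and G, every non-abelian simple section of G is a known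 simple group, and C_G(a) = θ(a) for every nontrivial a ∈ A. -/
theorem result {X : Type*} [Group X] [Finite X] {r : ℕ} [Fact r.Prime] (A G : Subgroup X) (hG : G ≠ ⊥) (hAG : A ≤ Subgroup.normalizer (G : Set X))
    (hA : Cfsg.IsElementaryAbelian r A) (hrank : r ^ 3 ≤ Nat.card A)
    (θ : X → Subgroup X)
    (hθ : ∀ a ∈ A, a ≠ 1 → θ a ≤ G ⊓ Subgroup.centralizer ({a} : Set X) ∧ A ≤ Subgroup.normalizer ((θ a : Subgroup X) : Set X) ∧ (Nat.card ↥(θ a)).Coprime r)
    (hE : ∀ a ∈ A, a ≠ 1 → Cfsg.layer ↥(θ a) ≠ ⊥ →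
      ¬ IsMulCommutative ↥((Cfsg.layer ↥(θ a)).map (θ a).subtype) ∧
      (∀ N : Subgroup X, N ≤ (Cfsg.layer ↥(θ a)).map (θ a).subtype → (N.subgroupOf ((Cfsg.layer ↥(θ a)).map (θ a).subtype)).Normal →
         A ≤ Subgroup.normalizer (N : Set X) → N = ⊥ ∨ N = (Cfsg.layer ↥(θ a)).map (θ a).subtype) ∧
      Cfsg.IsKGroup ↥((Cfsg.layer ↥(θ a)).map (θ a).subtype) ∧
      Cfsg.fittingSubgroup ↥(θ a) = ⊥ ∧
      A ⊓ Subgroup.centralizer (((Cfsg.layer ↥(θ a)).map (θ a).subtype : Subgroup X) : Set X) = Subgroup.zpowers a)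
    (hbal : ∀ a ∈ A, ∀ b ∈ A, a ≠ 1 → b ≠ 1 →
      θ a ⊓ Subgroup.centralizer ({b} : Set X) ≤ θ b ∧
      (Cfsg.layer ↥((Cfsg.layer ↥(θ a)).map (θ a).subtype ⊓ Subgroup.centralizer ({b} : Set X))).map
          ((Cfsg.layer ↥(θ a)).map (θ a).subtype ⊓ Subgroup.centralizer ({b} : Set X)).subtype ≤ (Cfsg.layer ↥(θ b)).map (θ b).subtype)
    (hgen : G = ⨆ a : {a : X // a ∈ A ∧ a ≠ 1}, (Cfsg.layer ↥(θ a.1)).map (θ a.1).subtype) :
    (Nat.card G).Coprime r ∧ ¬ IsMulCommutative ↥G ∧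
    (∀ N : Subgroup X, N ≤ G → (N.subgroupOf G).Normal → A ≤ Subgroup.normalizer (N : Set X) → N = ⊥ ∨ N = G) ∧
    Cfsg.IsKGroup ↥G ∧ ∀ a ∈ A, a ≠ 1 → G ⊓ Subgroup.centralizer ({a} : Set X) = θ a := by
  have hr : r.Prime := Fact.out
  have k : ∀ {a K}, Lib.NS.Gp A θ a K → Cfsg.layer ↥(θ a) ≠ ⊥ := fun k e =>
    k.cmp.ne_bot (eq_bot_iff.2 (k.cmp.le_layer.trans (Lib.Comp.layer_eq_bot_iff'.2 e).le))
  have h : Lib.NS.ASd r A G θ := ⟨hA, hrank, ⟨fun a ha h => (hθ a ha h).1.trans inf_le_right,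
      fun a ha h => hr.coprime_iff_not_dvd.1 (hθ a ha h).2.2.symm,
      fun a ha h => Lib.BG.le_norm_iff.1 (hθ a ha h).2.1, fun a ha h b hb h' => (hbal a ha b hb h h').1⟩,
    fun a ha h => (hθ a ha h).1.trans inf_le_left,
    fun a K m N hN => (hE a m.mem m.ne (k m)).2.1 N hN.1 hN.normal,
    fun a K m => Lib.NS.sk_iff.2 (hE a m.mem m.ne (k m)).2.2.1,
    fun a K m => (Subgroup.map_eq_bot_iff_of_injective _ (θ a).subtype_injective).2
      (hE a m.mem m.ne (k m)).2.2.2.1,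
    fun a K m => (hE a m.mem m.ne (k m)).2.2.2.2.le, fun a ha h b hb h' => (hbal a ha b hb h h').2,
    fun Y hY => hgen.le.trans (iSup_le fun a => (Lib.NS.gp_or_ng a.2.1 a.2.2).elim
      (fun ⟨K, m⟩ => hY _ K m) fun n => n.bot.le.trans bot_le), hG⟩
  exact ⟨(hr.coprime_iff_not_dvd.2 h.main.1).symm, h.nonab, fun N h1 h2 =>
    h.simple ⟨h1, (Subgroup.normal_subgroupOf_iff_le_normalizer h1).1 h2⟩, h.main.2⟩

end Cfsg.Agent.S1923
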