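import Cfsg.Statements.S1930
import Cfsg.Agent.Lib.EQ.KZ

set_option autoImplicit false
open Cfsg

namespace Cfsg.Agent.S1930

open Cfsg.Lib Cfsg.Lib.PLocal Cfsg.Lib.Transfer Subgroup

/-- Inside a finite group let G be a nontrivial subgroup and R an r-subgroup (r a prime) normalizing G, with the order of G prime to r. Let p > 3 be a prime with F*(G) = O_p(G), and let P be the intersection of all R-invariant Sylow p-subgroups of G. Then P has a nontrivial characteristic subgroup that is normalized by G. -/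
theorem result {X : Type*} [Group X] [Finite X] (G R : Subgroup X) (r : ℕ) [Fact r.Prime] (hR : IsPGroup r ↥R) (hcop : (Nat.card ↥G).Coprime r) (hnorm : R ≤ Subgroup.normalizer (G : Set X)) (hG : G ≠ ⊥) (p : ℕ) [Fact p.Prime] (hp : 3 < p) (hF : Cfsg.generalizedFittingSubgroup ↥G = Cfsg.pCore p ↥G) (P : Subgroup X) (hP : P = ⨅ S : {S : Sylow p ↥G // ∀ a ∈ R, ((S : Subgroup ↥G).map G.subtype).map (MulAut.conj a).toMonoidHom = (S : Subgroup ↥G).map G.subtype}, ((S : Sylow p ↥G) : Subgroup ↥G).map G.subtype) : ∃ C : Subgroup ↥P, C.Characteristic ∧ C ≠ ⊥ ∧ G ≤ Subgroup.normalizer ((C.map P.subtype : Subgroup X) : Set X) := by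
  have hp' : p.Prime := Fact.out
  have hr' : r.Prime := Fact.out
  have : Nontrivial G := (nontrivial_iff_ne_bot G).2 hG
  have h0 : pCore p G ≠ ⊥ := hF ▸ Comp.genFitting_ne_bot
  have hpG : p ∣ Nat.card G :=
    ((Core.pCore_isPGroup p G).card_eq_or_dvd.resolve_left fun e => h0 (card_eq_one.1 e)).trans (card_subgroup_dvd_card _)
  obtain ⟨n, hn⟩ := IsPGroup.iff_card.1 hR
  have hc' : (Nat.card R).Coprime (Nat.card G) := hn ▸ hcop.symm.pow_left n
  have hc : (Nat.card R).Coprime p := hc'.coprime_dvd_right hpG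
  have hs : Group.IsSolvable R := by have := hR.isNilpotent; infer_instance
  have key : ∀ Q ≤ G, IsPGroup p Q → R ≤ normalizer (Q : Set X) →
      ∃ S ≤ G, IsPGroup p S ∧ R ≤ normalizer (S : Set X) ∧ Q ≤ S ∧ P ≤ S := fun Q h1 h2 h3 => by
    obtain ⟨T, b1, b2, b3, b4, b5⟩ := Coprime.exists_invariant_sylowIn_ge hnorm hc' (Or.inl hs) h1 h2 h3
    obtain ⟨S, rfl⟩ := exists_sylow_map_eq_iff.2 ⟨b2, b3, b4⟩
    exact ⟨_, b2, b3, b5, b1, hP ▸ iInf_le_of_le ⟨S, fun a ha => conj_eq_self_iff.2 (b5 ha)⟩ le_rfl⟩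
  obtain ⟨S, b1, b2, -, -, b3⟩ := key ⊥ bot_le IsPGroup.of_bot le_normalizer_of_normal
  have hO : pCoreOf p G ≤ P := hP ▸ le_iInf fun S => map_mono (Core.pCore_le_sylow S.1)
  have hPp := b2.to_le b3
  have : Nontrivial P := (nontrivial_iff_ne_bot P).2 fun e => h0 (Core.pCoreOf_eq_bot_iff.1 (le_bot_iff.1 (e ▸ hO)))
  refine ⟨kInfLower P, characteristic_iff_map_eq.2 (isCharPFunctor_kInfLower.2 P P hPp),
    isCharPFunctor_kInfLower.1 P hPp this, ?_⟩
  change G ≤ normalizer (inducedFunctor kInfLower P : Set X)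
  rw [inducedFunctor_kInfLower]
  refine EQ.le_normalizer_kLowIn (p := p) (Nat.lt_of_le_of_ne hp fun e => ?_) hnorm hs hc hc' hO (b3.trans b1)
    (fun x hx => ?_) fun x hx Q h1 h2 h3 => ?_
  · exact absurd (e ▸ hp') (by decide)
  · refine mem_map_of_mem G.subtype (x := ⟨x, hx.1⟩) (hF ▸ Comp.centralizer_genFitting_le fun y hy => Subtype.ext ?_)
    exact hx.2 _ (mem_map_of_mem G.subtype (hF ▸ hy))
  · obtain ⟨S, h4, h5, h6, h7, h8⟩ := key Q h1 h2 h3
    exact ⟨S, h4, h5, h6, h7, h8 hx⟩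

end Cfsg.Agent.S1930
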