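import Cfsg.Statements.S1936
import Cfsg.Agent.Lib.Sig.AbSyl2
import Cfsg.Agent.Lib.Char.Burnside
import Cfsg.Agent.Lib.PSL2.SmallIso

set_option autoImplicit false
open Cfsg

namespace Cfsg.Agent.S1936

open Subgroup Cfsg.Lib Cfsg.Lib.Sig Cfsg.Lib.Comp
open scoped MatrixGroups commutatorElement

universe u

theorem lift {G G' : Type*} [Group G] [Group G'] [Finite G] {p : ℕ} {f : G →* G'}
    (hf : Function.Surjective f) (hk : IsPGroup p f.ker ∨ (Nat.card f.ker).Coprime p)
    (K : Subgroup G') (hK : (Nat.card K).Coprime p) :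
    ∃ L : Subgroup G, (Nat.card L).Coprime p ∧ L.map f = K := by
  rcases hk with hk | hk
  · have hle : f.ker ≤ K.comap f := fun x hx => by
      rw [mem_comap, MonoidHom.mem_ker.1 hx]; exact K.one_mem
    have hi : (f.ker.subgroupOf (K.comap f)).index = Nat.card K := by
      have := relIndex_ker (K.comap f) f
      rw [map_comap_eq_self_of_surjective hf] at this
      exact this
    obtain ⟨L, hL⟩ := exists_right_complement'_of_coprime (N := f.ker.subgroupOf (K.comap f))
      (by rw [hi]; exact Core.coprime_card_of_isPGroup ((Core.isPGroup_subgroupOf_iff hle).2 hk) hK)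
    refine ⟨L.map (K.comap f).subtype, ?_, le_antisymm ?_ fun y hy => ?_⟩
    · rw [card_map_of_injective (subtype_injective _), ← hL.symm.index_eq_card, hi]
      exact hK
    · exact map_le_iff_le_comap.2 (map_subtype_le _)
    · obtain ⟨x, rfl⟩ := hf y
      obtain ⟨⟨a, b⟩, e⟩ := hL.2 ⟨x, hy⟩
      refine ⟨b.1, ⟨b.1, b.2, rfl⟩, ?_⟩
      have e' : (a.1 : G) * b.1 = x := congrArg Subtype.val e
      rw [← e', map_mul, MonoidHom.mem_ker.1 (show (a.1 : G) ∈ f.ker from a.2), one_mul]
  · exact ⟨K.comap f, Core.coprime_comap f hK hk, map_comap_eq_self_of_surjective hf K⟩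

theorem sq_eq_one {F : Type*} [Field F] [CharP F 2] (g : SL(2, F)) (h : g 0 0 + g 1 1 = 0) :
    g * g = 1 := by
  have h2 : (2 : F) = 0 := CharP.cast_eq_zero F 2
  have hd := g.det_coe
  rw [Matrix.det_fin_two] at hd
  ext i j
  fin_cases i <;> fin_cases j <;> simp [Matrix.mul_apply, Fin.sum_univ_two]
  · linear_combination g 0 0 * h - hd - h2
  · linear_combination g 0 1 * h
  · linear_combination g 1 0 * h
  · linear_combination g 1 1 * h - hd - h2

theorem exists_inv_SL {F : Type*} [Field F] [Finite F] [CharP F 2] (g : SL(2, F))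
    (hg : g * g ≠ 1) : ∃ u : SL(2, F), u * u = 1 ∧ u * g * u = g⁻¹ := by
  have h2 : (2 : F) = 0 := CharP.cast_eq_zero F 2
  have key : ∀ x y z : F, x * x - y * z = 1 → x * (g 0 0 + g 1 1) + y * g 1 0 + z * g 0 1 = 0 →
      ∃ u : SL(2, F), u * u = 1 ∧ u * g * u = g⁻¹ := by
    intro x y z h1 h3
    obtain ⟨u, hu⟩ : ∃ u : SL(2, F), (u : Matrix (Fin 2) (Fin 2) F) = !![x, y; z, x] :=
      ⟨⟨!![x, y; z, x], by rw [Matrix.det_fin_two_of]; exact h1⟩, rfl⟩
    refine ⟨u, sq_eq_one u ?_, ?_⟩
    · rw [hu]; simp; linear_combination x * h2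
    · rw [eq_inv_iff_mul_eq_one, mul_assoc]
      refine sq_eq_one _ ?_
      rw [Matrix.SpecialLinearGroup.coe_mul, hu]
      simp [Matrix.mul_apply, Fin.sum_univ_two]
      linear_combination h3
  have htr : g 0 0 + g 1 1 ≠ 0 := fun h => hg (sq_eq_one g h)
  by_cases hb : g 0 1 = 0
  · refine key (g 1 0) (g 0 0 + g 1 1) ((g 1 0 * g 1 0 - 1) / (g 0 0 + g 1 1)) ?_ ?_
    · field_simp; ring
    · rw [hb]; linear_combination g 1 0 * (g 0 0 + g 1 1) * h2
  by_cases hc : g 1 0 = 0
  · refine key (g 0 1) ((g 0 1 * g 0 1 - 1) / (g 0 0 + g 1 1)) (g 0 0 + g 1 1) ?_ ?_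
    · field_simp; ring
    · rw [hc]; linear_combination g 0 1 * (g 0 0 + g 1 1) * h2
  obtain ⟨y, hy⟩ := FiniteField.isSquare_of_char_two (ringChar.eq F 2) (g 0 1 / g 1 0)
  have hy0 : y ≠ 0 := fun e => by
    rw [e, mul_zero] at hy
    exact div_ne_zero hb hc hy
  refine key 0 y y⁻¹ ?_ ?_
  · rw [mul_inv_cancel₀ hy0]; linear_combination -h2
  · rw [div_eq_iff hc] at hy
    rw [hy]; field_simp; linear_combination y * g 1 0 * h2

def PP (p : ℕ) (G : Type u) [Group G] : Prop :=
  ∀ H : Subgroup G, (Nat.card H).Coprime p → IsMulCommutative H ∧ ∀ x ∈ H, x ^ (p - 1) = 1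

theorem PP.sub {G : Type u} [Group G] [Finite G] {p : ℕ} (h : PP p G) (L : Subgroup G) : PP p L := by
  intro H hH
  obtain ⟨h1, h2⟩ := h (H.map L.subtype) (Core.coprime_map _ hH)
  exact ⟨⟨⟨fun x y => Subtype.ext (Subtype.ext
    (comm_of_mem h1 (mem_map_of_mem _ x.2) (mem_map_of_mem _ y.2)))⟩⟩,
    fun x hx => Subtype.ext (h2 x (mem_map_of_mem _ hx))⟩

theorem PP.quot {G : Type u} [Group G] [Finite G] {p : ℕ} (h : PP p G) (N : Subgroup G) [N.Normal]
    (hN : IsPGroup p N ∨ (Nat.card N).Coprime p) : PP p (G ⧸ N) := by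
  intro K hK
  obtain ⟨L, hL, rfl⟩ := lift (QuotientGroup.mk'_surjective N) (by rwa [QuotientGroup.ker_mk']) K hK
  obtain ⟨h1, h2⟩ := h L hL
  refine ⟨⟨⟨?_⟩⟩, ?_⟩
  · rintro ⟨_, x, hx, rfl⟩ ⟨_, y, hy, rfl⟩
    refine Subtype.ext ?_
    change QuotientGroup.mk' N x * QuotientGroup.mk' N y = QuotientGroup.mk' N y * QuotientGroup.mk' N x
    rw [← map_mul, ← map_mul, comm_of_mem h1 hx hy]
  · rintro _ ⟨x, hx, rfl⟩
    rw [← map_pow, h2 x hx, map_one]

theorem PP.simple {G : Type u} [Group G] [Finite G] [IsSimpleGroup G] {p : ℕ} [Fact p.Prime]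
    (h : PP p G) (hs : ∀ L : Subgroup G, L ≠ ⊤ → Group.IsSolvable L) : IsMulCommutative G := by
  by_contra hG
  have hp : p.Prime := Fact.out
  have hns : ¬ Group.IsSolvable G := fun e => hG ⟨⟨IsSimpleGroup.comm_iff_isSolvable.2 e⟩⟩
  obtain ⟨l, hl, hlG, hl2, hlp⟩ : ∃ l : ℕ, l.Prime ∧ l ∣ Nat.card G ∧ l ≠ 2 ∧ l ≠ p := by
    by_contra hc
    push Not at hc
    exact hns (Char.isSolvable_of_forall_prime_dvd G 2 p fun r hr hd =>
      (eq_or_ne r 2).imp_right (hc r hr hd))
  have := Fact.mk hl
  obtain ⟨g, hg⟩ := exists_prime_orderOf_dvd_card' l hlG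
  have hgc : (Nat.card (zpowers g)).Coprime p := by
    rw [Nat.card_zpowers, hg]; exact (Nat.coprime_primes hl hp).2 hlp
  have hlp1 : l ∣ p - 1 := hg ▸ orderOf_dvd_of_pow_eq_one ((h _ hgc).2 g (mem_zpowers g))
  have hl3 : 3 ≤ l := by have := hl.two_le; omega
  have hp3 : 3 < p := by
    have := Nat.le_of_dvd (by have := hp.two_le; omega) hlp1
    omega
  have hcp : ∀ (q : ℕ) (Q : Subgroup G), q.Prime → q < p → IsPGroup q Q → (Nat.card Q).Coprime p :=
    fun q Q hq hlt hQ => Core.coprime_card_of_isPGroup hQ ((Nat.coprime_primes hp hq).2 hlt.ne')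
  obtain ⟨S⟩ : Nonempty (Sylow 2 G) := inferInstance
  have hSc := hcp 2 _ Nat.prime_two (by omega) S.isPGroup'
  have hS := (h _ hSc).1
  by_cases h3 : PRankLE 2 2 G
  · have h4 := card_eq_four_of_rank_two hG S hS h3
    have h6 := Inv.k4_relIndex_dvd_six h4
    have := Fact.mk Nat.prime_three
    obtain ⟨R⟩ : Nonempty (Sylow 3 (normalizer ((S : Subgroup G) : Set G))) := inferInstance
    have hR : IsPGroup 3 ((R : Subgroup _).map (normalizer ((S : Subgroup G) : Set G)).subtype) :=
      R.isPGroup'.map _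
    have hab := (h _ (Core.coprime_sup (map_subtype_le _) (hcp 3 _ Nat.prime_three hp3 hR) hSc)).1
    have hRC : (R : Subgroup _) ≤ (centralizer ((S : Subgroup G) : Set G)).subgroupOf
        (normalizer ((S : Subgroup G) : Set G)) := fun x hx y hy =>
      comm_of_mem hab (mem_sup_right hy) (mem_sup_left (mem_map_of_mem _ hx))
    have h7 : ¬ 3 ∣ (centralizer ((S : Subgroup G) : Set G)).relIndex
        (normalizer ((S : Subgroup G) : Set G)) := fun e =>
      R.not_dvd_index (e.trans (index_dvd_of_le hRC))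
    have h8 : ¬ 2 ∣ (centralizer ((S : Subgroup G) : Set G)).relIndex
        (normalizer ((S : Subgroup G) : Set G)) := fun e =>
      S.not_dvd_index (e.trans ((relIndex_dvd_of_le_left _ (Inv.k4_le_centralizer h4)).trans
        (relIndex_dvd_index_of_le le_normalizer)))
    have h9 : (centralizer ((S : Subgroup G) : Set G)).relIndex
        (normalizer ((S : Subgroup G) : Set G)) = 1 := by
      have := Nat.le_of_dvd (by norm_num) h6
      interval_cases (centralizer ((S : Subgroup G) : Set G)).relIndex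
        (normalizer ((S : Subgroup G) : Set G)) <;> omega
    rw [relIndex_eq_one] at h9
    have h10 := MonoidHom.ker_transferSylow_isComplement' S h9
    rcases IsSimpleGroup.eq_bot_or_eq_top_of_normal (MonoidHom.transferSylow S h9).ker inferInstance
      with e | e
    · rw [e, isComplement'_bot_left] at h10
      exact sylow_not_normal hG S (h10 ▸ inferInstance)
    · rw [e, isComplement'_top_left] at h10
      exact sylow_not_normal hG S (h10 ▸ inferInstance)
  · obtain ⟨F, _, _, n, h1, h2, -, -, ⟨e⟩⟩ := psl2_of_rank_three hG S hS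
      (not_componentType_of_solvable fun t ht => hs _ fun e => by
        have ht1 : t ∈ center G := mem_center_iff.2 fun x =>
          mem_centralizer_singleton_iff.1 (e ▸ mem_top x)
        rcases IsSimpleGroup.eq_bot_or_eq_top_of_normal (center G) inferInstance with e | e
        · rw [e, mem_bot] at ht1
          rw [ht1, orderOf_one] at ht
          exact absurd ht (by norm_num)
        · exact hG ⟨⟨fun x y => (mem_center_iff.1 (e ▸ mem_top y) x)⟩⟩) h3
    have := Sz.charP_of_card h2
    obtain ⟨e'⟩ := PSL2.equiv_sl_psl_of_even (F := F) (by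
      rw [Nat.card_eq_fintype_card, h2, Nat.not_odd_iff_even, Nat.even_pow]
      exact ⟨even_two, by omega⟩)
    have hgg : g * g ≠ 1 := fun e => by
      have := orderOf_dvd_of_pow_eq_one ((pow_two g).trans e)
      rw [hg] at this
      have := Nat.le_of_dvd two_pos this
      omega
    set i := e.trans e'.symm
    obtain ⟨u, hu, hug⟩ := exists_inv_SL (i g) (by rw [← map_mul]; exact fun e => hgg (i.injective (e.trans (map_one i).symm)))
    obtain ⟨u, rfl⟩ := i.surjective u
    rw [← map_mul, EmbeddingLike.map_eq_one_iff] at hu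
    rw [← map_mul, ← map_mul, ← map_inv, EmbeddingLike.apply_eq_iff_eq] at hug
    have hui : u⁻¹ = u := inv_eq_of_mul_eq_one_right hu
    have hU : IsPGroup 2 (zpowers u) := Core.isPGroup_subgroup_iff.2 (by
      rintro _ ⟨k, rfl⟩
      exact ⟨1, by rw [pow_one, ← zpow_natCast, ← zpow_mul, mul_comm, zpow_mul, zpow_natCast,
        pow_two, hu, one_zpow]⟩)
    have hn : zpowers u ≤ normalizer ((zpowers g : Subgroup G) : Set G) := by
      rw [zpowers_le]
      refine mem_normalizer_fintype ?_
      rintro _ ⟨k, rfl⟩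
      rw [← conj_zpow, hui, hug]
      exact zpow_mem (inv_mem (mem_zpowers g)) k
    have hab := (h _ (Core.coprime_sup hn (hcp 2 _ Nat.prime_two (by omega) hU) hgc)).1
    have hc := comm_of_mem hab (mem_sup_left (mem_zpowers u)) (mem_sup_right (mem_zpowers g))
    rw [hc, mul_assoc, hu, mul_one] at hug
    exact hgg (by nth_rewrite 1 [hug]; exact inv_mul_cancel g)

theorem main {p : ℕ} [Fact p.Prime] (n : ℕ) : ∀ (G : Type u) [Group G] [Finite G],
    Nat.card G = n → PP p G → Group.IsSolvable G := by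
  induction n using Nat.strong_induction_on with
  | _ n ih =>
  intro G _ _ hn h
  have hs : ∀ L : Subgroup G, L ≠ ⊤ → Group.IsSolvable L := fun L hL =>
    ih _ (hn ▸ Core.card_lt_of_ne_top hL) L rfl (h.sub L)
  have hq : ∀ N : Subgroup G, N.Normal → N ≠ ⊥ → IsPGroup p N ∨ (Nat.card N).Coprime p →
      Group.IsSolvable G := fun N _ h1 hN => by
    refine isSolvable_of_normal N ?_ (ih _ (hn ▸ Core.card_quotient_lt h1) _ rfl (h.quot N hN))
    rcases hN with hN | hN
    · exact Core.isSolvable_of_isPGroup hN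
    · exact Group.isSolvable_of_comm (h N hN).1.1.1
  by_cases h1 : pCore p G = ⊥
  swap
  · exact hq _ inferInstance h1 (Or.inl (Core.pCore_isPGroup p G))
  by_cases h2 : pPrimeCore p G = ⊥
  swap
  · exact hq _ inferInstance h2 (Or.inr (Core.pPrimeCore_coprime p G))
  rcases subsingleton_or_nontrivial G with h3 | h3
  · infer_instance
  have : IsSimpleGroup G := ⟨fun N hN => or_iff_not_imp_right.2 fun e => by
    have hF : generalizedFittingSubgroup G = layer G := by
      rw [genFitting_eq_layer_sup_pCore h2, h1, sup_bot_eq]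
    have h4 := commutator_layer_eq_bot_of_solvable (hs N e) (le_normalizer_of_normal (H := N))
    rw [commutator_comm, commutator_eq_bot_iff_le_centralizer] at h4
    have h5 := centralizer_genFitting_le (G := G)
    rw [hF] at h5
    exact le_bot_iff.1 (h1 ▸ (le_inf (h4.trans h5) h4).trans (center_layer_le_pCore h2))⟩
  exact Group.isSolvable_of_comm (h.simple hs).1.1

/-- Let p be a prime and G a finite group in which every subgroup of order prime to p is abelian of exponent dividing p − 1. Then G is solvable. -/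
theorem result {G : Type*} [Group G] [Finite G] (p : ℕ) [Fact p.Prime] (h : ∀ H : Subgroup G, (Nat.card ↥H).Coprime p → IsMulCommutative ↥H ∧ ∀ x ∈ H, x ^ (p - 1) = 1) : Group.IsSolvable G := by
  exact main _ G rfl h

end Cfsg.Agent.S1936
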