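import Cfsg.Statements.S2179
import Cfsg.Agent.Lib.Chev.InvolCent
import Cfsg.Agent.Lib.Chev.CertF4

set_option autoImplicit false
open Cfsg

namespace Cfsg.Agent.S2179

open Cfsg.Lib.Chev

/-- Centralizers of the two remaining classes of involutions in the Chevalley group G of type F₄ over a finite field F of characteristic two (this problem's root numbering for type F₄, from the Chevalley data module: p₁, p₂ short, p₃, p₄ long with indices 33, 27, 25, 24 and negatives 14, 20, 22, 23; U generated by the positive root subgroups). For an element of G with matrix x_47(1)x_44(1) (highest root times highest short root): its centralizer in G is generated by U, X_{−p₂} and X_{−p₃}. For an element of G with matrix x_39(1)x_45(1) (roots (1,2,2,1) and (2,4,2,1), an orthogonal short/long pair): its centralizer in G is generated by X_{p₁}, X_{−p₁}, X_{p₄}, X_{−p₄} and the root subgroups of all positive roots other than p₂ (27), p₃ (25), p₁ + p₂ (34) and p₃ + p₄ (26). -/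
theorem result {F : Type*} [Field F] [Fintype F] [CharP F 2] (w v : GL Cfsg.Lie.chevF4.Idx F) (hw : (w : Matrix Cfsg.Lie.chevF4.Idx Cfsg.Lie.chevF4.Idx F) = Cfsg.Lie.chevF4.x F 47 1 * Cfsg.Lie.chevF4.x F 44 1) (hv : (v : Matrix Cfsg.Lie.chevF4.Idx Cfsg.Lie.chevF4.Idx F) = Cfsg.Lie.chevF4.x F 39 1 * Cfsg.Lie.chevF4.x F 45 1) :
    Cfsg.Lie.chevF4.group F ⊓ Subgroup.centralizer {w} = Cfsg.Lie.chevF4.posUnipotent F ⊔ Cfsg.Lie.chevF4.rootSubgroup F 20 ⊔ Cfsg.Lie.chevF4.rootSubgroup F 22 ∧
    Cfsg.Lie.chevF4.group F ⊓ Subgroup.centralizer {v} = Cfsg.Lie.chevF4.rootSubgroup F 33 ⊔ Cfsg.Lie.chevF4.rootSubgroup F 14 ⊔ Cfsg.Lie.chevF4.rootSubgroup F 24 ⊔ Cfsg.Lie.chevF4.rootSubgroup F 23 ⊔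
      Subgroup.closure {g : GL Cfsg.Lie.chevF4.Idx F | ∃ (r : ℕ) (c : F), Cfsg.Lie.chevF4.IsPosRoot r ∧ r ∉ [27, 25, 34, 26] ∧ (g : Matrix Cfsg.Lie.chevF4.Idx Cfsg.Lie.chevF4.Idx F) = Cfsg.Lie.chevF4.x F r c} := by
  rw [checkedF4.posUnipotent_eq, checkedF4.rootSubgroup_eq' (r := 14) (by decide), checkedF4.rootSubgroup_eq' (r := 20) (by decide),
    checkedF4.rootSubgroup_eq' (r := 22) (by decide), checkedF4.rootSubgroup_eq' (r := 23) (by decide),
    checkedF4.rootSubgroup_eq' (r := 33) (by decide), checkedF4.rootSubgroup_eq' (r := 24) (by decide),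
    checkedF4.centralizer_eq 2 (l := fl _ [47, 44]) (Z := []) (J := fl _ [1, 2])
      (S := [20, 22] ++ List.range' 24 24) (Γ := []) (fun _ => 1)
      (fun i r => if i.val = 0 ↔ r.val = 44 then 1 else 0)
      (by decide +kernel) (by decide +kernel) (by decide +kernel) (by decide +kernel)
      (by decide +kernel) (by decide +kernel) [47, 44] (by decide +kernel) (v := w)
      (by rw [hw]; simp),
    checkedF4.centralizer_eq 2 (l := fl _ [39, 45]) (Z := fl _ [40, 44, 46, 47])
      (J := fl _ [0, 3])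
      (S := [14, 23] ++ (List.range' 24 24).filter (· ∉ [27, 25, 34, 26]))
      (Γ := (fl _ [27, 34, 25, 26]).zip (fl _ [40, 44, 46, 47]))
      (fun r => if r.val = 39 then 2 else 3) (fun i r => if i.val = 2 ∧ r.val = 39 then 2 else 1)
      (by decide +kernel) (by decide +kernel) (by decide +kernel) (by decide +kernel)
      (by decide +kernel) (by decide +kernel) [39, 45] (by decide +kernel) (v := v)
      (by rw [hv]; simp)]
  simp only [← and_assoc]
  rw [checkedF4.closure_eq_XS (fun r => Lie.chevF4.IsPosRoot r ∧ r ∉ [27, 25, 34, 26]) fun r hr => hr.1.1]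
  simp only [PreSys.U, ← PreSys.XS_union, checkedF4.isPosRoot_iff]
  constructor <;> refine congrArg _ (Set.ext ?_) <;> decide +kernel

end Cfsg.Agent.S2179
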