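import Cfsg.Statements.S2245
import Cfsg.Agent.Lib.CharDeg.SylAlt
import Cfsg.Agent.Lib.Alt.RealSylow
import Cfsg.Agent.Lib.Alt.Arith
import Cfsg.Agent.Lib.Perm.Centralizer
import Cfsg.Agent.S3620

set_option autoImplicit false
open Cfsg

namespace Cfsg.Agent.S2245

section
open Equiv Equiv.Perm Subgroup MulAction Cfsg.Lib.CharDeg.SylAlt

variable {Ω : Type*} [Fintype Ω] [DecidableEq Ω] {G : Type*} [Group G] [Finite G] [MulAction G Ω]

theorem fwd [FaithfulSMul G Ω] (h5 : 5 ≤ Nat.card Ω)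
    (hA : ∀ σ ∈ alternatingGroup Ω, ∃ g : G, toPermHom G Ω g = σ) (R : Sylow 2 G)
    (h : ∃! M : Subgroup G, IsCoatom M ∧ (R : Subgroup G) ≤ M) :
    ∃ k, 2 ≤ k ∧ Nat.card Ω = 2 ^ k + 1 := by
  obtain ⟨M, ⟨hM, hRM⟩, hu⟩ := h
  refine core h5 ((R : Subgroup G).map (toPermHom G Ω)) (R.isPGroup'.map _) ?_
    (M.map (toPermHom G Ω)) (fun hle => hM.1 ?_) fun H hRH hAH σ hσ => ?_
  · rintro ⟨a, ha⟩ x y
    have h1 : orbit (⊤ : Subgroup G) x = Set.univ := Set.eq_univ_of_forall fun w => by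
      by_cases hw : x = w
      · exact hw ▸ mem_orbit_self x
      obtain ⟨σ, hσ, h2, -⟩ := exists_even h5 ∅ hw (by simp) (by simp)
      obtain ⟨g, rfl⟩ := hA σ hσ
      exact ⟨⟨g, mem_top g⟩, h2⟩
    have h2 := sylow_orbit R ⊤ le_top x (k := a) (by rw [h1, Set.ncard_univ, ha])
    have h3 := Nat.le_of_dvd ((Set.ncard_pos).2 ⟨x, mem_orbit_self x⟩) h2
    have h4 := Set.eq_of_subset_of_ncard_le (Set.subset_univ (orbit (R : Subgroup G) x))
      (by rw [Set.ncard_univ, ha]; exact h3)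
    obtain ⟨r, hr⟩ : y ∈ orbit (R : Subgroup G) x := h4 ▸ Set.mem_univ y
    exact ⟨⟨_, r, r.2, rfl⟩, hr⟩
  · have h1 : (sign.comp (toPermHom G Ω)).ker ≤ M := fun g hg => by
      obtain ⟨m, hm, e⟩ := hle (show toPermHom G Ω g ∈ alternatingGroup Ω from hg)
      exact toPerm_injective (β := Ω) e ▸ hm
    have h2 : M.index ∣ 2 := by
      refine (index_dvd_of_le h1).trans ?_
      rw [index_ker]
      simpa using card_subgroup_dvd_card (sign.comp (toPermHom G Ω)).range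
    have h3 : ¬ 2 ∣ M.index := fun h => R.not_dvd_index (h.trans (index_dvd_of_le hRM))
    rcases (Nat.dvd_prime Nat.prime_two).1 h2 with h | h
    · exact index_eq_one.1 h
    · exact absurd (h ▸ dvd_rfl) h3
  · obtain ⟨M', hM', hle⟩ := (eq_top_or_exists_le_coatom (H.comap (toPermHom G Ω))).resolve_left
      fun h => hAH fun τ hτ => by
        obtain ⟨g, rfl⟩ := hA τ hτ
        exact (h ▸ mem_top g : g ∈ H.comap (toPermHom G Ω))
    obtain ⟨g, rfl⟩ := hA σ hσ.1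
    rw [hu M' ⟨hM', (map_le_iff_le_comap.1 hRH).trans hle⟩] at hle
    exact ⟨g, hle hσ.2, rfl⟩

theorem bwd (h5 : 5 ≤ Nat.card Ω)
    (hA : ∀ σ ∈ alternatingGroup Ω, ∃ g : G, toPermHom G Ω g = σ) (R : Sylow 2 G) {k : ℕ}
    (hk : 2 ≤ k) (hn : Nat.card Ω = 2 ^ k + 1)
    (hJ : ∀ M : Subgroup G, (R : Subgroup G) ≤ M → IsMultiplyPretransitive M Ω 2 → M = ⊤) :
    ∃! M : Subgroup G, IsCoatom M ∧ (R : Subgroup G) ≤ M := by
  obtain ⟨a, ha⟩ := R.isPGroup'.nonempty_fixed_point_of_prime_not_dvd_card Ω (by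
    rw [hn]
    have : 2 ∣ 2 ^ k := dvd_pow_self 2 (by omega)
    omega)
  have hRa : (R : Subgroup G) ≤ stabilizer G a := fun r hr => ha ⟨r, hr⟩
  have htr : ∀ x y, x ≠ a → y ≠ a → ∃ r ∈ (R : Subgroup G), r • x = y := fun x y hx hy => by
    have hsub : ∀ H ≤ stabilizer G a, orbit H x ⊆ {a}ᶜ := fun H hH => by
      rintro _ ⟨g, rfl⟩ (e : (g : G) • x = a)
      rw [smul_eq_iff_eq_inv_smul] at e
      exact hx (e.trans (hH (H.inv_mem g.2)))
    have h1 : orbit (stabilizer G a) x = {a}ᶜ := (hsub _ le_rfl).antisymm fun w hw => by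
      obtain ⟨σ, hσ, h2, h3⟩ := exists_even_fix h5 hx hw
      obtain ⟨g, rfl⟩ := hA σ hσ
      exact ⟨⟨g, h3⟩, h2⟩
    have hc := Set.ncard_add_ncard_compl ({a} : Set Ω)
    rw [Set.ncard_singleton] at hc
    have h2 := sylow_orbit R _ hRa x (k := k) (by rw [h1]; exact Dvd.intro 1 (by omega))
    have h3 := Nat.le_of_dvd ((Set.ncard_pos).2 ⟨x, mem_orbit_self x⟩) h2
    have h4 := Set.eq_of_subset_of_ncard_le (hsub _ hRa) (by omega)
    obtain ⟨r, hr⟩ : y ∈ orbit (R : Subgroup G) x := h4 ▸ hy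
    exact ⟨r, r.2, hr⟩
  have key : ∀ M : Subgroup G, (R : Subgroup G) ≤ M → ¬ M ≤ stabilizer G a → M = ⊤ := by
    intro M hRM hM
    obtain ⟨g, hg, hga⟩ := SetLike.not_le_iff_exists.1 hM
    have h1 : ∀ c, ∃ m ∈ M, m • a = c := fun c => by
      by_cases hc : c = a
      · exact ⟨1, M.one_mem, by rw [hc, one_smul]⟩
      obtain ⟨r, hr, e⟩ := htr _ c hga hc
      exact ⟨r * g, M.mul_mem (hRM hr) hg, by rw [mul_smul, e]⟩
    refine hJ M hRM (is_two_pretransitive_iff.2 fun {a' b c d} hab hcd => ?_)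
    obtain ⟨m₁, hm₁, rfl⟩ := h1 a'
    obtain ⟨m₂, hm₂, rfl⟩ := h1 c
    obtain ⟨r, hr, e⟩ := htr (m₁⁻¹ • b) (m₂⁻¹ • d) (fun h => hab (inv_smul_eq_iff.1 h).symm)
      (fun h => hcd (inv_smul_eq_iff.1 h).symm)
    refine ⟨⟨m₂ * r * m₁⁻¹, M.mul_mem (M.mul_mem hm₂ (hRM hr)) (M.inv_mem hm₁)⟩, ?_, ?_⟩
    · change (m₂ * r * m₁⁻¹) • m₁ • a = m₂ • a
      rw [mul_smul, inv_smul_smul, mul_smul, show r • a = a from hRa hr]
    · change (m₂ * r * m₁⁻¹) • b = d
      rw [mul_smul, mul_smul, e, smul_inv_smul]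
  have hne : stabilizer G a ≠ ⊤ := fun h => by
    obtain ⟨y, -, hy⟩ := pick Set.univ {a} (by rw [Set.ncard_univ, Finset.card_singleton]; omega)
    obtain ⟨σ, hσ, h2, -⟩ := exists_even h5 ∅ (x := a) (y := y) (fun e => hy (by simp [e]))
      (by simp) (by simp)
    obtain ⟨g, rfl⟩ := hA σ hσ
    exact hy (Finset.mem_singleton.2 (h2.symm.trans (h ▸ mem_top g : g ∈ stabilizer G a)))
  refine ⟨stabilizer G a, ⟨⟨hne, fun M hM => key M (hRa.trans hM.le) hM.not_ge⟩, hRa⟩, ?_⟩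
  rintro M ⟨hM, hRM⟩
  by_cases h : M ≤ stabilizer G a
  · exact (hM.le_iff.1 h).elim (fun e => absurd e hne) Eq.symm
  · exact absurd (key M hRM h) hM.1

theorem symJ (h5 : 5 ≤ Nat.card Ω) (R : Sylow 2 (Perm Ω)) (M : Subgroup (Perm Ω))
    (hRM : (R : Subgroup (Perm Ω)) ≤ M) (h2 : IsMultiplyPretransitive M Ω 2) : M = ⊤ := by
  have : Nontrivial Ω := Finite.one_lt_card_iff_nontrivial.1 (by omega)
  obtain ⟨a, b, hab⟩ := exists_pair_ne Ω
  obtain ⟨g, hg⟩ := Cfsg.Lib.Alt.exists_conj_mem_sylow R (x := swap a b) (k := 1)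
    (by rw [pow_one, pow_two, swap_mul_self])
  refine subgroup_eq_top_of_isPreprimitive_of_isSwap_mem (isPreprimitive_of_is_two_pretransitive h2)
    _ ⟨g a, g b, g.injective.ne hab, ?_⟩ (hRM hg)
  rw [mul_swap_eq_swap_mul, mul_inv_cancel_right]

omit [Fintype Ω] in
theorem sw_comm {a b c d : Ω} (ac : a ≠ c) (ad : a ≠ d) (bc : b ≠ c) (bd : b ≠ d) :
    swap a b * swap c d = swap c d * swap a b := by
  rw [mul_swap_eq_swap_mul, swap_apply_of_ne_of_ne ac.symm bc.symm,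
    swap_apply_of_ne_of_ne ad.symm bd.symm]

omit [Fintype Ω] in
theorem sw_sq {a b c d : Ω} (ac : a ≠ c) (ad : a ≠ d) (bc : b ≠ c) (bd : b ≠ d) :
    (swap a b * swap c d) ^ 2 = 1 := by
  rw [pow_two]
  nth_rw 1 [sw_comm ac ad bc bd]
  rw [mul_assoc, swap_mul_self_mul, swap_mul_self]

omit [Fintype Ω] in
theorem sw_comm2 {a b c d : Ω} (ab : a ≠ b) (ac : a ≠ c) (ad : a ≠ d) (bc : b ≠ c) (bd : b ≠ d)
    (cd : c ≠ d) : swap a b * swap c d * (swap a c * swap b d) =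
      swap a c * swap b d * (swap a b * swap c d) := by
  have e1 : (swap a b * swap c d) a = b := by
    rw [mul_apply, swap_apply_of_ne_of_ne ac ad, swap_apply_left]
  have e2 : (swap a b * swap c d) b = a := by
    rw [mul_apply, swap_apply_of_ne_of_ne bc bd, swap_apply_right]
  have e3 : (swap a b * swap c d) c = d := by
    rw [mul_apply, swap_apply_left, swap_apply_of_ne_of_ne ad.symm bd.symm]
  have e4 : (swap a b * swap c d) d = c := by
    rw [mul_apply, swap_apply_right, swap_apply_of_ne_of_ne ac.symm bc.symm]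
  generalize swap a b * swap c d = u at *
  rw [← mul_assoc, mul_swap_eq_swap_mul u, mul_assoc, mul_swap_eq_swap_mul u, e1, e2, e3, e4,
    ← mul_assoc, sw_comm ab ad bc.symm cd]

theorem altJ (h9 : 9 ≤ Nat.card Ω) (R : Sylow 2 (alternatingGroup Ω))
    (M : Subgroup (alternatingGroup Ω)) (hRM : (R : Subgroup (alternatingGroup Ω)) ≤ M)
    (h2 : IsMultiplyPretransitive M Ω 2) : M = ⊤ := by
  obtain ⟨a, b, c, d, ab, ac, ad, bc, bd, cd, hu, hv⟩ : ∃ (a b c d : Ω) (ab : a ≠ b) (ac : a ≠ c)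
      (_ : a ≠ d) (_ : b ≠ c) (bd : b ≠ d) (cd : c ≠ d),
      (⟨_, two_swap ab cd⟩ : alternatingGroup Ω) ∈ M ∧
      (⟨_, two_swap ac bd⟩ : alternatingGroup Ω) ∈ M := by
    obtain ⟨a, -, -⟩ := pick (Set.univ : Set Ω) ∅ (by rw [Set.ncard_univ, Finset.card_empty]; omega)
    obtain ⟨b, -, hb⟩ := pick Set.univ {a} (by rw [Set.ncard_univ, Finset.card_singleton]; omega)
    obtain ⟨c, -, hc⟩ := pick Set.univ {a, b} (by
      rw [Set.ncard_univ]; exact Finset.card_le_two.trans_lt (by omega))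
    obtain ⟨d, -, hd⟩ := pick Set.univ {a, b, c} (by
      rw [Set.ncard_univ]; exact Finset.card_le_three.trans_lt (by omega))
    simp only [Finset.mem_insert, Finset.mem_singleton, not_or] at hb hc hd
    have ab := Ne.symm hb
    have ac := Ne.symm hc.1
    have ad := Ne.symm hd.1
    have bc := Ne.symm hc.2
    have bd := Ne.symm hd.2.1
    have cd := Ne.symm hd.2.2
    let u : alternatingGroup Ω := ⟨_, two_swap ab cd⟩
    let v : alternatingGroup Ω := ⟨_, two_swap ac bd⟩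
    have huu : u ^ 2 = 1 := Subtype.ext (sw_sq ac ad bc bd)
    have hvv : v ^ 2 = 1 := Subtype.ext (sw_sq ab ad bc.symm cd)
    have huv : Commute u v := Subtype.ext (sw_comm2 ab ac ad bc bd cd)
    have hp : ∀ u : alternatingGroup Ω, u ^ 2 = 1 → IsPGroup 2 (zpowers u) := fun u hu => by
      rintro ⟨_, n, rfl⟩
      refine ⟨1, Subtype.ext ?_⟩
      simp only [SubmonoidClass.coe_pow, OneMemClass.coe_one, pow_one]
      rw [← zpow_natCast, ← zpow_mul, mul_comm, zpow_mul, zpow_natCast, hu, one_zpow]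
    have hQ := IsPGroup.to_sup_of_normal_right' (hp u huu) (hp v hvv) (by
      refine le_trans ?_ (centralizer_le_normalizer _)
      rw [zpowers_le]
      rintro _ ⟨n, rfl⟩
      exact (huv.zpow_right n).symm)
    obtain ⟨g, hg⟩ := Cfsg.Lib.Alt.exists_conj_le_sylow R hQ
    have h1 := hRM (hg u (mem_sup_left (mem_zpowers u)))
    have h3 := hRM (hg v (mem_sup_right (mem_zpowers v)))
    have e : ∀ p q r s : Ω, g.1 * (swap p q * swap r s) * g.1⁻¹ =
        swap (g.1 p) (g.1 q) * swap (g.1 r) (g.1 s) := fun p q r s => by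
      rw [← mul_assoc, mul_swap_eq_swap_mul g.1, mul_assoc (swap _ _), mul_swap_eq_swap_mul g.1,
        ← mul_assoc, mul_inv_cancel_right]
    refine ⟨g.1 a, g.1 b, g.1 c, g.1 d, g.1.injective.ne ab, g.1.injective.ne ac,
      g.1.injective.ne ad, g.1.injective.ne bc, g.1.injective.ne bd, g.1.injective.ne cd, ?_, ?_⟩
    · convert h1 using 1; exact Subtype.ext (e _ _ _ _).symm
    · convert h3 using 1; exact Subtype.ext (e _ _ _ _).symm
  have := isPreprimitive_of_is_two_pretransitive h2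
  have hc : ({a, b, c, d} : Set Ω).ncard ≤ 4 := by
    have := Finset.card_le_four (a := a) (b := b) (c := c) (d := d)
    rw [← Set.ncard_coe_finset] at this
    simpa using this
  have hfix : ∀ (p q r s : Ω) (h1 : p ≠ q) (h2 : r ≠ s)
      (h : (⟨_, two_swap h1 h2⟩ : alternatingGroup Ω) ∈ M), p ∈ ({a, b, c, d} : Set Ω) →
      q ∈ ({a, b, c, d} : Set Ω) → r ∈ ({a, b, c, d} : Set Ω) → s ∈ ({a, b, c, d} : Set Ω) →
      (⟨_, h⟩ : M) ∈ fixingSubgroup M ({a, b, c, d} : Set Ω)ᶜ := by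
    intro p q r s h1 h2 h hp hq hr hs
    rw [mem_fixingSubgroup_iff]
    intro w hw
    change swap p q (swap r s w) = w
    have hne : ∀ t ∈ ({a, b, c, d} : Set Ω), w ≠ t := fun t ht e => hw (e ▸ ht)
    rw [swap_apply_of_ne_of_ne (hne r hr) (hne s hs), swap_apply_of_ne_of_ne (hne p hp) (hne q hq)]
  have f1 := hfix a b c d ab cd hu (by simp) (by simp) (by simp) (by simp)
  have f2 := hfix a c b d ac bd hv (by simp) (by simp) (by simp) (by simp)
  have hall := Cfsg.Agent.S3620.result (G := M) (Ω := Ω)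
    (fun N _ h => Cfsg.Lib.Perm.isPretransitive_of_normal N h) {a, b, c, d}
    ((Set.one_lt_ncard).2 ⟨a, by simp, b, by simp, ab⟩) (by rw [← Nat.card_eq_fintype_card]; omega)
    (by
      have h0 : ∀ w : SubMulAction.ofFixingSubgroup M ({a, b, c, d} : Set Ω)ᶜ,
          ∃ g : fixingSubgroup M ({a, b, c, d} : Set Ω)ᶜ, g • a = w := by
        rintro ⟨w, hw⟩
        rcases (not_not.1 hw : w ∈ ({a, b, c, d} : Set Ω)) with rfl | rfl | rfl | rfl
        · exact ⟨1, one_smul _ _⟩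
        · refine ⟨⟨_, f1⟩, ?_⟩
          change swap a w (swap c d a) = w
          rw [swap_apply_of_ne_of_ne ac ad, swap_apply_left]
        · refine ⟨⟨_, f2⟩, ?_⟩
          change swap a w (swap b d a) = w
          rw [swap_apply_of_ne_of_ne ab ad, swap_apply_left]
        · refine ⟨⟨_, f1⟩ * ⟨_, f2⟩, ?_⟩
          change swap a b (swap c w (swap a c (swap b w a))) = w
          rw [swap_apply_of_ne_of_ne ab ad, swap_apply_left, swap_apply_left,
            swap_apply_of_ne_of_ne ad.symm bd.symm]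
      refine ⟨fun x y => ?_⟩
      obtain ⟨g, hg⟩ := h0 x
      obtain ⟨h, hh⟩ := h0 y
      refine ⟨h * g⁻¹, Subtype.ext ?_⟩
      change (h * g⁻¹) • (x : Ω) = y
      rw [← hg, mul_smul, inv_smul_smul, hh])
  rw [eq_top_iff]
  intro σ _
  obtain ⟨x, hx⟩ := hall σ σ.2
  have : x.1 = σ := Subtype.ext hx
  exact this ▸ x.2

theorem altJ5 (R : Sylow 2 (alternatingGroup (Fin 5)))
    (M : Subgroup (alternatingGroup (Fin 5))) (hRM : (R : Subgroup (alternatingGroup (Fin 5))) ≤ M)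
    (h2 : IsMultiplyPretransitive M (Fin 5) 2) : M = ⊤ := by
  have := isPretransitive_of_is_two_pretransitive (G := M) (α := Fin 5)
  have h1 : 5 ∣ Nat.card M := by
    have := (stabilizer M (0 : Fin 5)).index_dvd_card
    rwa [index_stabilizer_of_transitive, Nat.card_fin] at this
  have h60 : Nat.card (alternatingGroup (Fin 5)) = 60 := by
    have := Cfsg.Lib.Alt.two_mul_card_alt_fin (n := 5) (by norm_num)
    simp only [Nat.factorial] at this
    omega
  have h3 : ¬ 2 ∣ M.index := fun h => R.not_dvd_index (h.trans (index_dvd_of_le hRM))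
  have h4 := M.card_mul_index
  obtain ⟨c, hc⟩ := h1
  rw [h60, hc] at h4
  have h5 : M.index ∣ 12 := ⟨c, by linarith⟩
  have h6 : M.index = 1 ∨ M.index = 3 := by
    have := Nat.le_of_dvd (by norm_num) h5
    generalize M.index = i at *
    interval_cases i <;> omega
  rcases h6 with h | h
  · exact index_eq_one.1 h
  rcases (alternatingGroup.isSimpleGroup_five).eq_bot_or_eq_top_of_normal M.normalCore
    inferInstance with e | e
  · have h7 : M.normalCore.index ∣ M.index.factorial := by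
      rw [normalCore_eq_ker, index_ker]
      have := card_subgroup_dvd_card (toPermHom (alternatingGroup (Fin 5)) (_ ⧸ M)).range
      rwa [Nat.card_perm] at this
    rw [e, index_bot, h60, h] at h7
    exact absurd h7 (by decide)
  · exact top_le_iff.1 (e ▸ M.normalCore_le)

end

/-- For n ≥ 5 with n ≠ 6, a Sylow 2-subgroup of the alternating group A_n lies in exactly one maximal subgroup of A_n if and only if n = 2^k + 1 for some k ≥ 2; the same holds for the symmetric group S_n. -/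
theorem result (n : ℕ) (hn : 5 ≤ n) (h6 : n ≠ 6) :
    ((∀ R : Sylow 2 ↥(alternatingGroup (Fin n)), (∃! M : Subgroup ↥(alternatingGroup (Fin n)), IsCoatom M ∧ (R : Subgroup ↥(alternatingGroup (Fin n))) ≤ M) ↔ ∃ k : ℕ, 2 ≤ k ∧ n = 2 ^ k + 1) ∧
    (∀ R : Sylow 2 (Equiv.Perm (Fin n)), (∃! M : Subgroup (Equiv.Perm (Fin n)), IsCoatom M ∧ (R : Subgroup (Equiv.Perm (Fin n))) ≤ M) ↔ ∃ k : ℕ, 2 ≤ k ∧ n = 2 ^ k + 1)) := by
  have h5 : 5 ≤ Nat.card (Fin n) := by rwa [Nat.card_fin]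
  refine ⟨fun R => ⟨fun h => ?_, fun ⟨k, hk, e⟩ => ?_⟩, fun R => ⟨fun h => ?_, fun ⟨k, hk, e⟩ => ?_⟩⟩
  · simpa using fwd h5 (fun σ hσ => ⟨⟨σ, hσ⟩, rfl⟩) R h
  · refine bwd h5 (fun σ hσ => ⟨⟨σ, hσ⟩, rfl⟩) R hk (by rwa [Nat.card_fin]) ?_
    rcases hk.eq_or_lt with rfl | hk3
    · subst e; exact altJ5 R
    · have := Nat.pow_le_pow_right (show 0 < 2 by norm_num) hk3
      exact altJ (by rw [Nat.card_fin]; omega) R
  · simpa using fwd h5 (fun σ _ => ⟨σ, rfl⟩) R h
  · exact bwd h5 (fun σ _ => ⟨σ, rfl⟩) R hk (by rwa [Nat.card_fin]) (symJ h5 R)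

end Cfsg.Agent.S2245
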