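import Cfsg.Statements.S2272
import Cfsg.Agent.Lib.Linear.Transv

set_option autoImplicit false
open Cfsg

namespace Cfsg.Agent.S2272

/-- Let F be a finite field and d ≥ 3, and let a, b be non-identity elements of PSL_d(F). Then the product of the conjugacy classes of a and b is not a single conjugacy class: there are conjugates a′ of a and b′ of b such that a′b′ is not conjugate to ab. -/
theorem result {F : Type*} [Field F] [Fintype F] (d : ℕ) (hd : 3 ≤ d)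
    (a b : Matrix.ProjectiveSpecialLinearGroup (Fin d) F) (ha : a ≠ 1) (hb : b ≠ 1) :
    ∃ g h : Matrix.ProjectiveSpecialLinearGroup (Fin d) F, ¬ IsConj (a * b) (g * a * g⁻¹ * (h * b * h⁻¹)) := by
  classical
  have flag : ∀ A : Matrix.SpecialLinearGroup (Fin d) F, A ∉ Subgroup.center _ →
      ∃ v ψ : Fin d → F, ψ ⬝ᵥ v = 0 ∧ ψ ⬝ᵥ A.1.mulVec v ≠ 0 := fun A hA => by
    by_contra! H
    have h1 : ∀ i j, i ≠ j → A.1 i j = 0 := fun i j h => by
      simpa using H (Pi.single j 1) (Pi.single i 1) (by simp [Pi.single_eq_of_ne h.symm])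
    have h2 : ∀ i j, i ≠ j → A.1 i i = A.1 j j := fun i j h => by
      have := H (Pi.single i 1 + Pi.single j 1) (Pi.single i 1 - Pi.single j 1)
        (by simp [Pi.single_eq_of_ne h, Pi.single_eq_of_ne h.symm])
      rw [Matrix.mulVec_add] at this
      simpa [h1 i j h, h1 j i h.symm, sub_eq_zero, add_neg_eq_zero] using this
    refine hA (Subgroup.mem_center_iff.2 fun g => Subtype.ext ?_)
    have : A.1 = Matrix.scalar _ (A.1 ⟨0, by omega⟩ ⟨0, by omega⟩) := by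
      ext i j
      by_cases h : i = j
      · subst h
        by_cases h0 : i = ⟨0, by omega⟩
        · simp [h0]
        · simp [h2 i _ h0]
      · simp [h1 i j h, h]
    rw [Matrix.SpecialLinearGroup.coe_mul, Matrix.SpecialLinearGroup.coe_mul, this]
    exact (Matrix.scalar_commute _ (fun _ => Commute.all _ _) _).symm.eq
  induction a using QuotientGroup.induction_on with | H A => ?_
  induction b using QuotientGroup.induction_on with | H B => ?_
  obtain ⟨v, ψ, h1, h2⟩ := flag A (mt (QuotientGroup.eq_one_iff _).2 ha)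
  obtain ⟨u, χ, h3, h4⟩ := flag B (mt (QuotientGroup.eq_one_iff _).2 hb)
  obtain ⟨φ, h5, h6⟩ : ∃ φ : Fin d → F, φ ≠ 0 ∧ (Matrix.of ![v, A.1.mulVec v]).mulVec φ = 0 := by
    obtain ⟨φ, k1, k2⟩ := (Submodule.ne_bot_iff _).1 (LinearMap.ker_ne_bot_of_finrank_lt
      (f := (Matrix.of ![v, A.1.mulVec v]).mulVecLin) (by simp; omega))
    exact ⟨φ, k2, k1⟩
  have h7 : φ ⬝ᵥ v = 0 := by rw [dotProduct_comm]; exact congrFun h6 0
  have h8 : φ ⬝ᵥ A.1.mulVec v = 0 := by rw [dotProduct_comm]; exact congrFun h6 1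
  have hij : (⟨0, by omega⟩ : Fin d) ≠ ⟨1, by omega⟩ := by simp
  obtain ⟨g, a, b, a0, b0, g1, g2⟩ := Lib.Linear.exists_SL_flag hij (v := v) (by rintro rfl; simp at h2) h5 h7
  obtain ⟨g', a', b', a0', b0', g3, g4⟩ := Lib.Linear.exists_SL_flag hij (v := u)
    (by rintro rfl; simp at h4) (by rintro rfl; simp at h4) h3
  obtain ⟨B', hB, h9⟩ : ∃ B', IsConj B B' ∧ φ ⬝ᵥ B'.1.mulVec v ≠ 0 := by
    refine ⟨g * (g'⁻¹ * B * g') * g⁻¹, isConj_iff.2 ⟨g * g'⁻¹, by group⟩, fun k => h4 ?_⟩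
    generalize hC : g'⁻¹ * B * g' = C at k
    obtain rfl : B = g' * C * g'⁻¹ := by rw [← hC]; group
    have e : ∀ (g : Matrix.SpecialLinearGroup (Fin d) F) x φ, φ ⬝ᵥ (g * C * g⁻¹).1.mulVec
        (g.1.mulVec x) = Matrix.vecMul φ g.1 ⬝ᵥ C.1.mulVec x := fun g x φ => by
      rw [Matrix.mulVec_mulVec, ← Matrix.SpecialLinearGroup.coe_mul, inv_mul_cancel_right,
        Matrix.SpecialLinearGroup.coe_mul, ← Matrix.mulVec_mulVec, Matrix.dotProduct_mulVec]
    rw [← g1, e, g2] at k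
    rw [← g3, e, g4]
    simp [a0, b0] at k
    simp [k]
  have tr : ∀ θ (h : θ ⬝ᵥ v = 0), (A * (Lib.Linear.tvSL v θ h * B' * (Lib.Linear.tvSL v θ h)⁻¹)).1.trace =
      (A.1 * B'.1).trace + θ ⬝ᵥ A.1.mulVec (B'.1.mulVec v) * (-1) + θ ⬝ᵥ B'.1.mulVec (A.1.mulVec v) -
        θ ⬝ᵥ B'.1.mulVec v * θ ⬝ᵥ A.1.mulVec v := fun θ h => by
    rw [show (Lib.Linear.tvSL v θ h)⁻¹ = Lib.Linear.tvSL v (-θ) (by simp [h]) from
      inv_eq_of_mul_eq_one_right (Subtype.ext (by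
        simp [add_mul, mul_add, Lib.Linear.vecMulVec_mul_vecMulVec', h]))]
    have k : ∀ M : Matrix (Fin d) (Fin d) F, (M * Matrix.vecMulVec v θ).trace = θ ⬝ᵥ M.mulVec v :=
      fun M => by rw [Matrix.mul_vecMulVec, Matrix.trace_vecMulVec, dotProduct_comm]
    have k2 : (A.1 * Matrix.vecMulVec v θ * B'.1).trace = θ ⬝ᵥ B'.1.mulVec (A.1.mulVec v) := by
      rw [Matrix.trace_mul_comm, ← mul_assoc, k, Matrix.mulVec_mulVec]
    simp only [Matrix.SpecialLinearGroup.coe_mul, Lib.Linear.tvSL_coe, Matrix.vecMulVec_neg,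
      mul_add _ (1 : Matrix _ _ F), mul_one, mul_neg, Matrix.trace_add, Matrix.trace_neg, mul_add A.1,
      ← mul_assoc A.1, k, add_mul, one_mul, k2, ← Matrix.mulVec_mulVec,
      Lib.Linear.vecMulVec_mulVec', Matrix.mulVec_smul, dotProduct_smul, smul_eq_mul]
    ring
  have sur : ∀ c : F, ∃ g : Matrix.SpecialLinearGroup (Fin d) F, (A * (g * B * g⁻¹)).1.trace = c := by
    intro c
    obtain ⟨x, rfl⟩ := isConj_iff.1 hB
    generalize hB' : x * B * x⁻¹ = B' at h9 tr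
    obtain ⟨s, hs⟩ : ∃ s : F, s * ψ ⬝ᵥ A.1.mulVec v * φ ⬝ᵥ B'.1.mulVec v = φ ⬝ᵥ B'.1.mulVec (A.1.mulVec v) -
        φ ⬝ᵥ A.1.mulVec (B'.1.mulVec v) + 1 := ⟨_, by rw [mul_assoc, div_mul_cancel₀ _ (mul_ne_zero h2 h9)]⟩
    have := fun t : F => tr (t • φ + s • ψ) (by simp [h1, h7])
    refine ⟨Lib.Linear.tvSL v (((A * (Lib.Linear.tvSL v ((0 : F) • φ + s • ψ) (by simp [h1]) * B' *
      (Lib.Linear.tvSL v ((0 : F) • φ + s • ψ) (by simp [h1]))⁻¹)).1.trace - c) • φ + s • ψ) (by simp [h1, h7]) * x, ?_⟩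
    rw [show ∀ y, y * x * B * (y * x)⁻¹ = y * B' * y⁻¹ from fun y => by rw [← hB']; group, this, this]
    simp only [add_dotProduct, smul_dotProduct, h8, smul_eq_mul]
    linear_combination (c - (A.1 * B'.1).trace + s * ψ ⬝ᵥ A.1.mulVec (B'.1.mulVec v) -
      s * ψ ⬝ᵥ B'.1.mulVec (A.1.mulVec v) + s * ψ ⬝ᵥ B'.1.mulVec v * (s * ψ ⬝ᵥ A.1.mulVec v)) * hs
  have inv : ∀ X Y : Matrix.SpecialLinearGroup (Fin d) F,
      IsConj (X : Matrix.ProjectiveSpecialLinearGroup (Fin d) F) Y → X.1.trace = 0 → Y.1.trace = 0 := by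
    intro X Y h h0
    obtain ⟨x, hx⟩ := isConj_iff.1 h
    induction x using QuotientGroup.induction_on with | H x => ?_
    obtain ⟨r, -, hr⟩ := Matrix.SpecialLinearGroup.mem_center_iff.1
      (QuotientGroup.eq.1 (show ((x * X * x⁻¹ : Matrix.SpecialLinearGroup (Fin d) F) :
        Matrix.ProjectiveSpecialLinearGroup (Fin d) F) = Y from hx))
    rw [← mul_inv_cancel_left (x * X * x⁻¹) Y, Matrix.SpecialLinearGroup.coe_mul, ← hr,
      Matrix.scalar_apply, ← Matrix.smul_one_eq_diagonal, mul_smul_comm, mul_one, Matrix.trace_smul,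
      Matrix.SpecialLinearGroup.coe_mul, Matrix.trace_mul_comm, ← Matrix.SpecialLinearGroup.coe_mul,
      ← mul_assoc, inv_mul_cancel, one_mul, h0, smul_zero]
  by_contra! H
  obtain ⟨g0, e0⟩ := sur 0
  obtain ⟨g1, e1⟩ := sur 1
  have := inv (A * (g0 * B * g0⁻¹)) (A * (g1 * B * g1⁻¹)) (by simpa using (H 1 g0).symm.trans (H 1 g1)) e0
  exact one_ne_zero (e1.symm.trans this)

end Cfsg.Agent.S2272
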