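import Cfsg.Statements.S2276
import Cfsg.Agent.Lib.Alt.FreeB

set_option autoImplicit false
open Cfsg

namespace Cfsg.Agent.S2276

open Equiv Equiv.Perm Subgroup Finset Cfsg.Lib.Alt.FP
open scoped commutatorElement

section
variable {α : Type*} [Fintype α] [DecidableEq α] {p : ℕ} {u w : Perm α}

theorem core (hp : p.Prime) (hp3 : 3 ≤ p) {k m : ℕ} (hc : Fintype.card α = p ^ k) (h5 : 5 ≤ Fintype.card α)
    (hu : Full u) (h1 : w ≠ 1) (hw : w ^ p ^ m = 1) : R p u w := by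
  have hp' := hp.odd_of_ne_two (by omega)
  have ho : Odd (Fintype.card α) := hc ▸ hp'.pow
  by_cases hf : Full w
  · obtain ⟨σ, rfl⟩ := isConj_iff.1 (Full.isConj (u := u⁻¹) (isCycleOn_inv.2 hu) hf (by omega))
    obtain ⟨s, s1, s2⟩ := Q_full hp hp' hu ho h5 (fun h => by
      have : p ∣ 5 := h ▸ hc ▸ dvd_pow_self p (by rintro rfl; simp at hc; omega)
      exact (Nat.prime_dvd_prime_iff_eq hp Nat.prime_five).1 this) (sign σ)
    exact ⟨s * σ⁻¹, by simp [s1], by simpa [mul_assoc] using s2⟩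
  obtain ⟨t, t1, t2⟩ : ∃ t : Perm α, sign t = -1 ∧ t * w = w * t := by
    by_contra! h
    obtain ⟨-, h2, h3⟩ := centralizer_le_alternating_iff.1 (show centralizer {w} ≤ alternatingGroup α from
      fun t ht => (Int.units_eq_one_or _).resolve_right fun e => h t e (ht w rfl).symm)
    have h4 : w.cycleType.toFinset ⊆ (Ico 1 k).image (p ^ ·) := fun n hn => by
      rw [Multiset.mem_toFinset] at hn
      obtain ⟨j, -, rfl⟩ := (Nat.dvd_prime_pow hp).1 ((dvd_of_mem_cycleType hn).trans (orderOf_dvd_of_pow_eq_one hw))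
      have a := two_le_of_mem_cycleType hn
      obtain ⟨c, τ, rfl, hd, hc', e⟩ := mem_cycleType_iff.1 hn
      refine mem_image.2 ⟨j, mem_Ico.2 ⟨Nat.pos_of_ne_zero (by rintro rfl; simp at a), ?_⟩, rfl⟩
      rw [← Nat.pow_lt_pow_iff_right hp.one_lt, ← hc, ← e]
      refine (card_lt_iff_ne_univ _).2 fun l => hf ?_
      have l' : ∀ x, c x ≠ x := fun x => mem_support.1 (l ▸ mem_univ x)
      rw [show τ = 1 from Equiv.ext fun x => (hd x).resolve_left (l' x), mul_one]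
      simpa [Full, l'] using hc'.isCycleOn
    have h6 := sum_le_sum_of_subset (f := id) h4
    rw [sum_image fun a _ b _ e => Nat.pow_right_injective hp.two_le e] at h6
    have h7 := Nat.geomSum_lt hp.two_le (s := range k) (n := k) (by simp)
    rw [range_eq_Ico, sum_eq_sum_Ico_succ_bot (Nat.pos_of_ne_zero (by rintro rfl; simp at hc; omega))] at h7
    have h8 : w.cycleType.sum = ∑ x ∈ w.cycleType.toFinset, id x := by
      rw [← Multiset.toFinset_eq (Multiset.nodup_iff_count_le_one.2 h3)]; simp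
    simp only [id, pow_zero, zero_add] at h6 h7 h8
    omega
  have hw' : w⁻¹ ^ p ^ m = 1 := by rw [inv_pow, hw, inv_one]
  obtain ⟨u0, a1, a2⟩ : ∃ u, Full u ∧ Q p u w⁻¹⁻¹ := by
    by_cases h : ∃ a, ∀ j, 1 ≤ j → j ≤ 4 → (w⁻¹ ^ j) a ≠ a
    · obtain ⟨a, ha⟩ := h
      exact Q_long hp' ho h5 (sign_of_odd hp'.pow hw') ha
    push Not at h
    have h3 : w⁻¹ ^ 3 = 1 := by
      ext a
      obtain ⟨j, j1, j2, e⟩ := h a
      have a1 : Function.IsPeriodicPt ⇑w⁻¹ j a := by rwa [Function.IsPeriodicPt, iterate_eq_pow]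
      have a2 : Function.IsPeriodicPt ⇑w⁻¹ (p ^ m) a := by rw [Function.IsPeriodicPt, iterate_eq_pow, hw']; rfl
      have a3 : j.gcd (p ^ m) ∣ 3 := by
        have := Odd.of_dvd_nat (hp'.pow (n := m)) (Nat.gcd_dvd_right j _)
        have := Nat.gcd_dvd_left j (p ^ m)
        have := (Nat.le_of_dvd j1 this).trans j2
        generalize j.gcd (p ^ m) = d at *
        interval_cases d <;> simp_all (decide := true)
      have := (a1.gcd a2).trans_dvd a3
      rwa [Function.IsPeriodicPt, iterate_eq_pow] at this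
    have h4 : p = 3 := by
      have := orderOf_dvd_of_pow_eq_one hw'
      rw [orderOf_eq_prime h3 (inv_ne_one.2 h1)] at this
      exact ((Nat.prime_dvd_prime_iff_eq Nat.prime_three hp).1 (Nat.prime_three.dvd_of_dvd_pow this)).symm
    subst h4
    obtain ⟨k, rfl⟩ : ∃ j, k = j + 2 := ⟨k - 2, by rcases k with _ | _ | k <;> simp_all⟩
    have : 0 < 3 ^ k := by positivity
    exact Q_three ho (by rw [hc, pow_add]; omega) (by rw [hc, pow_add]; omega) h3 (inv_ne_one.2 h1)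
  exact R_of_odd (inv_inv w ▸ a2) (hu.isConj a1 (by omega)) (IsConj.refl _) t1 t2

theorem cyc3 (h : u ^ 3 = 1) : u.cycleType = Multiset.replicate (u.support.card / 3) 3 ∧ 3 ∣ u.support.card := by
  have h2 := Multiset.eq_replicate_card.2 fun n (hn : n ∈ u.cycleType) => show n = 3 by
    have := (Nat.dvd_prime Nat.prime_three).1 ((dvd_of_mem_cycleType hn).trans (orderOf_dvd_of_pow_eq_one h))
    have := two_le_of_mem_cycleType hn
    omega
  have h3 := sum_cycleType u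
  rw [h2, Multiset.sum_replicate, smul_eq_mul] at h3
  exact ⟨by rw [h2]; congr 1; omega, by omega⟩

theorem small {m : ℕ} (hm : m ≤ Fintype.card α) (hu : u ^ 3 = 1) (hw : w ^ 3 = 1) (a b t y z : Perm (Fin m))
    (h1 : u.support.card = a.support.card) (h2 : w.support.card = b.support.card)
    (hy : y ∈ closure ({a, b} : Set _)) (hz : z ∈ closure ({a, b} : Set _))
    (h : a ^ 3 = 1 ∧ b ^ 3 = 1 ∧ sign t = -1 ∧ t * b = b * t ∧ (a * b) ^ 20 = 1 ∧ a * b ≠ 1 ∧ a ≠ 1 ∧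
      a = z * (a * (y * a * y⁻¹) * a⁻¹ * (y * a * y⁻¹)⁻¹) * z⁻¹) : R 3 u w := by
  obtain ⟨ι⟩ : Nonempty (Fin m ↪ α) := Function.Embedding.nonempty_of_card_le (by simpa)
  obtain ⟨a1, a2, a3, a4, a5, a6, a7, a8⟩ := h
  have q : Q 3 a b := ⟨fun ⟨k, hk⟩ => a6 (orderOf_eq_one_iff.1 (Nat.eq_one_of_dvd_coprimes
    (Nat.Coprime.pow_left k (by decide : Nat.Coprime 3 20)) (hk ▸ dvd_rfl) (orderOf_dvd_of_pow_eq_one a5))),
    not_solv (subset_closure (by simp)) hy hz a7 a8⟩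
  have c : ∀ {x : Perm α} {x' : Perm (Fin m)}, x ^ 3 = 1 → x' ^ 3 = 1 → x.support.card = x'.support.card →
      IsConj x (viaEmbeddingHom ι x') := fun k1 k2 k3 => by
    rw [isConj_iff_cycleType_eq, (cyc3 k1).1, k3, ← (cyc3 k2).1]
    exact (@cycleType_extendDomain _ _ _ _ _ _ _ (fun _ => Classical.propDecidable _)
      (Equiv.ofInjective ι.1 ι.2) _).symm
  refine R_of_odd (q.map _ (viaEmbeddingHom_injective ι)) (c hu a1 h1) (c hw a2 h2) (t := viaEmbeddingHom ι t) ?_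
    (by rw [← map_mul, a4, map_mul])
  rw [← a3]
  exact @sign_extendDomain _ _ _ _ _ _ t _ (fun _ => Classical.propDecidable _) (Equiv.ofInjective ι.1 ι.2)

theorem small' (h5 : 5 ≤ Fintype.card α) (h6 : Fintype.card α ≤ 6) (hu : u ^ 3 = 1) (hw : w ^ 3 = 1)
    (hu1 : u ≠ 1) (hw1 : w ≠ 1) : R 3 u w := by
  have c : ∀ {x : Perm α}, x ^ 3 = 1 → x ≠ 1 → x.support.card = 3 ∨ x.support.card = 6 ∧ 6 ≤ Fintype.card α :=
    fun {x} k1 k2 => by
      have := (cyc3 k1).2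
      have := card_le_univ x.support
      have := mt card_support_eq_zero.1 k2
      omega
  have m : ∀ {m : ℕ} (a b : Perm (Fin m)), a ∈ closure ({a, b} : Set _) ∧ b ∈ closure ({a, b} : Set _) :=
    fun a b => ⟨subset_closure (by simp), subset_closure (by simp)⟩
  have k : ∀ {u w : Perm α}, u ^ 3 = 1 → w ^ 3 = 1 → u.support.card = 3 → w.support.card = 6 →
      6 ≤ Fintype.card α → R 3 u w := fun hu hw h1 h2 h3 =>
    small h3 hu hw (swap 0 1 * swap 1 2) (swap 0 1 * swap 1 3 * swap 2 4 * swap 4 5) (swap 0 2 * swap 1 4 * swap 3 5)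
      _ _ (h1.trans (by decide +kernel)) (h2.trans (by decide +kernel)) (m _ _).2
      (mul_mem (mul_mem (mul_mem (m _ _).2 (m _ _).2) (m _ _).1) (m _ _).2) (by decide +kernel)
  rcases c hu hu1 with h1 | ⟨h1, h3⟩ <;> rcases c hw hw1 with h2 | ⟨h2, h3⟩
  · exact small h5 hu hw (swap 0 1 * swap 1 2) (swap 0 3 * swap 3 4) (swap 1 2) _ _ (h1.trans (by decide +kernel))
      (h2.trans (by decide +kernel)) (mul_mem (mul_mem (mul_mem (m _ _).2 (m _ _).1) (m _ _).1) (m _ _).2) (m _ _).2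
      (by decide +kernel)
  · exact k hu hw h1 h2 h3
  · exact (k hw hu h2 h1 h3).symm
  · exact small h3 hu hw (swap 0 1 * swap 1 2 * swap 3 4 * swap 4 5) (swap 0 1 * swap 1 3 * swap 2 5 * swap 5 4)
      (swap 0 2 * swap 1 5 * swap 3 4) _ _ (h1.trans (by decide +kernel)) (h2.trans (by decide +kernel))
      (mul_mem (mul_mem (mul_mem (m _ _).2 (m _ _).1) (m _ _).1) (m _ _).2) (m _ _).2 (by decide +kernel)

/-- The permutations leaving `S` invariant. -/
def stab (S : Finset α) : Subgroup (Perm α) where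
  carrier := {g | ∀ x, g x ∈ S ↔ x ∈ S}
  one_mem' := fun _ => Iff.rfl
  mul_mem' := fun ha hb x => (ha _).trans (hb x)
  inv_mem' := fun {g} ha x => by rw [← ha]; simp

/-- Restriction to an invariant set. -/
def resH (S : Finset α) : stab S →* Perm S where
  toFun g := g.1.subtypePerm g.2
  map_one' := rfl
  map_mul' _ _ := rfl

theorem res (hp : p.Prime) {S T : Finset α} (hS : u ∈ stab S) (hT : w ∈ stab T) (hc : T.card = S.card)
    (h2 : 1 < S.card) {q : ℕ} (hw : w ^ q = 1) {x : α} (hx : x ∈ T) (hx' : w x ≠ x)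
    (H : ∀ w' : Perm S, w' ≠ 1 → w' ^ q = 1 → R p (resH S ⟨u, hS⟩) w') : R p u w := by
  obtain ⟨σ, s1, s2⟩ : ∃ σ : Perm α, sign σ = 1 ∧ ∀ x, σ x ∈ S ↔ x ∈ T := by
    obtain ⟨σ, hσ⟩ := Perm.exists_map_finset_eq T S hc
    have : ∀ x, σ x ∈ S ↔ x ∈ T := fun x => by simp [← hσ]
    rcases Int.units_eq_one_or (sign σ) with s | s
    · exact ⟨σ, s, this⟩
    obtain ⟨a, ha, b, hb, hab⟩ := one_lt_card.1 h2
    refine ⟨swap a b * σ, by simp [s, hab], fun x => ?_⟩
    rw [← this, mul_apply, swap_apply_def]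
    grind
  have h1 : σ * w * σ⁻¹ ∈ stab S := fun x => by
    rw [mul_apply, mul_apply, s2, hT, ← s2]; simp
  obtain ⟨g, g1, g2⟩ := H (resH S ⟨_, h1⟩) (fun e => hx' (by
      simpa using (show (σ * w * σ⁻¹) (σ x) = σ x from congrArg (fun f : Perm S => (f ⟨σ x, (s2 x).2 hx⟩).1) e)))
    (by rw [← map_pow, ← map_one (resH S)]; congr 1; exact Subtype.ext (by simp [conj_pow, hw]))
  have h3 : ofSubtype g ∈ stab S := ofSubtype_apply_mem_iff_mem g
  have h4 : resH S ⟨_, h3⟩ = g := subtypePerm_ofSubtype g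
  rw [← h4, ← map_inv, ← map_mul, ← map_mul] at g2
  refine ⟨ofSubtype g * σ, by rw [map_mul, s1, mul_one, ← g1]; convert sign_ofSubtype g, ?_⟩
  simpa [mul_assoc] using (g2.of_map hp).map (stab S).subtype (stab S).subtype_injective

/-- The orbit of a point. -/
def O (u : Perm α) (a : α) : Finset α := univ.filter (u.SameCycle a)

theorem mem_O {a x : α} : x ∈ O u a ↔ u.SameCycle a x := by simp [O]

theorem O_stab (a : α) : u ∈ stab (O u a) := fun x => by simp [mem_O]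

theorem O_cyc (a : α) : u.IsCycleOn (O u a) :=
  ⟨u.bijOn (O_stab a), fun _ hx _ hy => (mem_O.1 hx).symm.trans (mem_O.1 hy)⟩

theorem O_dvd {a : α} {n : ℕ} : (u ^ n) a = a ↔ (O u a).card ∣ n :=
  (O_cyc a).pow_apply_eq (mem_O.2 (SameCycle.refl _ _))

theorem union_stab {A B : Finset α} (hA : u ∈ stab A) (hB : u ∈ stab B) : u ∈ stab (A ∪ B) :=
  fun x => by rw [mem_union, mem_union, hA, hB]

theorem disj_O {A : Finset α} (hA : u ∈ stab A) {x : α} (hx : x ∉ A) : Disjoint A (O u x) := by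
  refine disjoint_right.2 fun y hy k => hx ?_
  obtain ⟨i, rfl⟩ := mem_O.1 hy
  exact (zpow_mem hA i x).1 k

theorem greedy (hp : p.Prime) {k : ℕ} (hw : w ^ p ^ k = 1) (hk : p ^ k ≤ Fintype.card α) (d : ℕ) :
    ∀ A : Finset α, w ∈ stab A → (∀ x, x ∉ A → (O w x).card ∣ A.card) → A.card + d = p ^ k →
      ∃ T, A ⊆ T ∧ w ∈ stab T ∧ T.card = p ^ k := by
  induction d using Nat.strong_induction_on with
  | _ d ih =>
  intro A h1 h2 h3
  rcases d.eq_zero_or_pos with rfl | hd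
  · exact ⟨A, Subset.rfl, h1, h3⟩
  obtain ⟨x, hx, hm⟩ := exists_max_image Aᶜ (fun x => (O w x).card) (card_pos.1 (by rw [card_compl]; omega))
  rw [mem_compl] at hx
  have e : ∀ y, (O w y).card ∣ p ^ k := fun y => O_dvd.1 (by rw [hw]; rfl)
  have a := card_union_of_disjoint (disj_O h1 hx)
  have b : (O w x).card ≤ d := Nat.le_of_dvd hd ((Nat.dvd_add_right (h2 x hx)).1 (h3 ▸ e x))
  have c : 0 < (O w x).card := card_pos.2 ⟨x, mem_O.2 (SameCycle.refl _ _)⟩
  obtain ⟨T, t1, t2, t3⟩ := ih (d - (O w x).card) (by omega) (A ∪ O w x) (union_stab h1 (O_stab x))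
    (fun y hy => by
      have hy' : y ∉ A := fun k => hy (mem_union_left _ k)
      rw [a]
      refine dvd_add (h2 y hy') ?_
      have := hm y (mem_compl.2 hy')
      obtain ⟨i, -, hi⟩ := (Nat.dvd_prime_pow hp).1 (e x)
      obtain ⟨j, -, hj⟩ := (Nat.dvd_prime_pow hp).1 (e y)
      rw [hi, hj] at this ⊢
      exact pow_dvd_pow _ ((Nat.pow_le_pow_iff_right hp.one_lt).1 this)) (by omega)
  exact ⟨T, subset_union_left.trans t1, t2, t3⟩

theorem exists_max (hp : p.Prime) {k : ℕ} (h1 : u ≠ 1) (hk : orderOf u = p ^ k) :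
    ∃ a, u a ≠ a ∧ (O u a).card = p ^ k := by
  obtain ⟨k, rfl⟩ : ∃ j, k = j + 1 := ⟨k - 1, by rcases k with _ | k <;> simp_all⟩
  obtain ⟨a, ha⟩ : ∃ a, (u ^ p ^ k) a ≠ a := by
    by_contra! h
    have := Nat.le_of_dvd (pow_pos hp.pos _) (hk ▸ orderOf_dvd_of_pow_eq_one (Equiv.ext h))
    exact absurd (Nat.pow_lt_pow_right hp.one_lt k.lt_succ_self) (not_lt.2 this)
  exact ⟨a, fun e => ha (pow_apply_eq_self_of_apply_eq_self e _), Nat.eq_prime_pow_of_dvd_least_prime_pow hp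
    (mt O_dvd.2 ha) (O_dvd.1 (by rw [← hk, pow_orderOf_eq_one]; rfl))⟩

theorem six (h6 : 6 ≤ Fintype.card α) (hu : u ^ 3 = 1) (h1 : u ≠ 1) :
    ∃ S, u ∈ stab S ∧ S.card = 6 ∧ ∃ x ∈ S, u x ≠ x := by
  have c : ∀ a, u a ≠ a → (O u a).card = 3 := fun a ha =>
    ((Nat.dvd_prime Nat.prime_three).1 (O_dvd.1 (by rw [hu]; rfl))).resolve_left fun e =>
      ha (by simpa using (O_dvd (n := 1)).2 e.dvd)
  obtain ⟨a, ha⟩ : ∃ x, u x ≠ x := by by_contra! k; exact h1 (Equiv.ext k)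
  have m : a ∈ O u a := mem_O.2 (SameCycle.refl _ _)
  by_cases h : ∃ b, b ∉ O u a ∧ u b ≠ b
  · obtain ⟨b, b1, b2⟩ := h
    exact ⟨_, union_stab (O_stab a) (O_stab b), by
      rw [card_union_of_disjoint (disj_O (O_stab a) b1), c a ha, c b b2], a, mem_union_left _ m, ha⟩
  push Not at h
  obtain ⟨B, b1, b2⟩ := exists_subset_card_eq (s := (O u a)ᶜ) (n := 3) (by rw [card_compl, c a ha]; omega)
  refine ⟨_, union_stab (O_stab a) (B := B) fun x => ⟨fun k => ?_, fun k => ?_⟩, by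
    rw [card_union_of_disjoint (disjoint_right.2 fun x hx => mem_compl.1 (b1 hx)), c a ha, b2],
    a, mem_union_left _ m, ha⟩
  · rwa [← u.injective (h _ (mem_compl.1 (b1 k)))]
  · rwa [h _ (mem_compl.1 (b1 k))]

theorem main (hp : p.Prime) (hp3 : 3 ≤ p) (h5 : 5 ≤ Fintype.card α) (hu : u ≠ 1) (hw : w ≠ 1) {k l : ℕ}
    (hk : orderOf u = p ^ k) (hl : orderOf w = p ^ l) (h : l ≤ k) : R p u w := by
  have hw' : w ^ p ^ k = 1 := orderOf_dvd_iff_pow_eq_one.1 (hl ▸ pow_dvd_pow p h)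
  obtain ⟨a, a1, a2⟩ := exists_max hp hu hk
  by_cases h4 : 5 ≤ p ^ k
  · obtain ⟨b, b1, b2⟩ := exists_max hp hw hl
    obtain ⟨T, t1, t2, t3⟩ := greedy hp hw' (a2 ▸ card_le_univ _) (p ^ k - p ^ l) (O w b) (O_stab b)
      (fun x _ => b2 ▸ O_dvd.1 (by rw [← hl, pow_orderOf_eq_one]; rfl))
      (by have := Nat.pow_le_pow_right hp.pos h; omega)
    exact res hp (O_stab a) t2 (t3.trans a2.symm) (by omega) hw' (t1 (mem_O.2 (SameCycle.refl _ _))) b1
      fun w' k1 k2 => core hp hp3 (k := k) (by simpa using a2) (by simpa [a2] using h4)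
        (by rw [Full, coe_univ]; exact (O_cyc a).subtypePerm) k1 k2
  obtain ⟨rfl, rfl⟩ : k = 1 ∧ p = 3 := by
    rcases k with _ | _ | k
    · simp_all
    · have := hp.odd_of_ne_two (by omega)
      rw [Nat.odd_iff] at this
      simp at h4; omega
    · have := Nat.pow_le_pow_left hp3 2
      have := Nat.pow_le_pow_right hp.pos (show 2 ≤ k + 1 + 1 by omega)
      omega
  have hu' : u ^ 3 = 1 := orderOf_dvd_iff_pow_eq_one.1 hk.dvd
  by_cases h6 : Fintype.card α ≤ 6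
  · exact small' h5 h6 hu' hw' hu hw
  obtain ⟨S, s1, s2, x, s3, s4⟩ := six (by omega) hu' hu
  obtain ⟨T, t1, t2, y, t3, t4⟩ := six (by omega) hw' hw
  refine res hp s1 t1 (t2.trans s2.symm) (by omega) hw' t3 t4 fun w' k1 k2 =>
    small' (by simp [s2]) (by simp [s2]) ?_ k2 (fun e => s4 ?_) k1
  · rw [← map_pow, ← map_one (resH S)]; congr 1; exact Subtype.ext hu'
  · exact congrArg (fun f : Perm S => (f ⟨x, s3⟩).1) e
end

/-- Let n ≥ 5, p ≥ 3 a prime, and u, w non-identity elements of p-power order in the alternating group A_n. Then there is g ∈ A_n such that u·(g w g⁻¹) does not have p-power order and ⟨u, g w g⁻¹⟩ is not solvable. -/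
theorem result (n : ℕ) (hn : 5 ≤ n) (p : ℕ) (hp : p.Prime) (hp3 : 3 ≤ p) (u w : alternatingGroup (Fin n)) (hu : u ≠ 1) (hw : w ≠ 1)
    (hu' : ∃ k : ℕ, orderOf u = p ^ k) (hw' : ∃ k : ℕ, orderOf w = p ^ k) :
    ∃ g : alternatingGroup (Fin n), (¬ ∃ k : ℕ, orderOf (u * (g * w * g⁻¹)) = p ^ k) ∧
      ¬ Group.IsSolvable ↥(Subgroup.closure ({u, g * w * g⁻¹} : Set (alternatingGroup (Fin n)))) := by
  obtain ⟨k, hk⟩ := hu'
  obtain ⟨l, hl⟩ := hw'
  rw [← orderOf_coe] at hk hl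
  have a : u.1 ≠ 1 := fun e => hu (Subtype.ext e)
  have b : w.1 ≠ 1 := fun e => hw (Subtype.ext e)
  obtain ⟨g, g1, g2⟩ : R p u.1 w.1 := by
    rcases le_total l k with h | h
    · exact main hp hp3 (by simpa) a b hk hl h
    · exact (main hp hp3 (by simpa) b a hl hk h).symm
  exact ⟨⟨g, g1⟩, Q.of_map hp (alternatingGroup _).subtype g2⟩

end Cfsg.Agent.S2276
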