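import Cfsg.Statements.S2277
import Cfsg.Agent.Lib.HH.Misc
import Cfsg.Agent.Lib.FGS.Misc
import Cfsg.Agent.Lib.PGroup.Basic

set_option autoImplicit false
open Cfsg

namespace Cfsg.Agent.S2277

open Subgroup Cfsg.Lib Cfsg.Lib.BG Cfsg.Lib.Transfer Cfsg.Lib.HH

section
variable {G : Type*} [Group G] [Finite G]

theorem card_inf_mul (A B : Subgroup G) : Nat.card ↥(A ⊓ B) * A.relIndex B = Nat.card B := by
  rw [← inf_relIndex_right, BG.card_mul_relIndex inf_le_right]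

theorem prod_of_card {A B K : Subgroup G} (hA : A ≤ K) (hB : B ≤ K)
    (h : Nat.card K * Nat.card ↥(A ⊓ B) ≤ Nat.card A * Nat.card B) {k : G} (hk : k ∈ K) :
    ∃ b ∈ B, ∃ a ∈ A, k = b * a := by
  have h1 : A.relIndex B = A.relIndex K := by
    refine le_antisymm (relIndex_le_of_le_right hB Subgroup.index_ne_zero_of_finite) ?_
    rw [← BG.card_mul_relIndex hA, ← card_inf_mul A B, mul_assoc, mul_comm (A.relIndex K)] at h
    exact Nat.le_of_mul_le_mul_left (Nat.le_of_mul_le_mul_left h Nat.card_pos) Nat.card_pos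
  obtain ⟨b, hb, a, ha, e⟩ := FGS.exists_mul_of_relIndex_eq (A := A.subgroupOf K) (B := B.subgroupOf K)
    (by rw [relIndex_subgroupOf hB, h1]; rfl) ⟨k, hk⟩
  exact ⟨b, hb, a, ha, congrArg Subtype.val e⟩

theorem card_of_prod {A B K : Subgroup G} (hA : A ≤ K) (hB : B ≤ K)
    (h : ∀ k ∈ K, ∃ b ∈ B, ∃ a ∈ A, k = b * a) :
    Nat.card K * Nat.card ↥(A ⊓ B) = Nat.card A * Nat.card B := by
  have h1 := FGS.relIndex_eq_index_of_mul (A := A.subgroupOf K) (B := B.subgroupOf K) fun k => by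
    obtain ⟨b, hb, a, ha, e⟩ := h k k.2
    exact ⟨⟨b, hB hb⟩, hb, ⟨a, hA ha⟩, ha, Subtype.ext e⟩
  rw [relIndex_subgroupOf hB] at h1
  rw [← BG.card_mul_relIndex hA, ← card_inf_mul A B, h1, mul_assoc, mul_comm (A.relIndex K)]
  rfl

omit [Finite G] in
theorem fix_congr {K : Subgroup G} {y y' : G} (h : y * y'⁻¹ ∈ 𝐂(K)) : K ⊓ 𝐂[y] = K ⊓ 𝐂[y'] := by
  ext k
  rw [mem_inf, mem_inf]
  refine and_congr_right fun hk => ?_
  have := mem_cent.1 h k hk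
  simp only [mem_cent1]
  constructor
  · intro e
    have : y * (y'⁻¹ * k) = y * (k * y'⁻¹) := by rw [← mul_assoc, ← this, ← mul_assoc, e, mul_assoc]
    have := mul_left_cancel this
    calc k * y' = y' * (y'⁻¹ * k) * y' := by group
      _ = _ := by rw [this]; group
  · intro e
    calc k * y = k * (y * y'⁻¹) * y' := by group
      _ = y * y'⁻¹ * (k * y') := by rw [this, mul_assoc]
      _ = _ := by rw [e]; group

variable {p : ℕ} [hp : Fact p.Prime] {P K : Subgroup G}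

theorem fix_central (hK : P ≤ 𝐍(K)) (hmin : ∀ U < K, P ≤ 𝐍(U) → U ≤ 𝐂(P)) {z : G} (hz : z ∉ 𝐂(K))
    (hc : ∀ g ∈ P, g * z * g⁻¹ * z⁻¹ ∈ 𝐂(K)) : K ⊓ 𝐂[z] ≤ 𝐂(P) := by
  refine hmin _ (lt_of_le_of_ne inf_le_left fun e => hz (le_cent1_iff.1 (e ▸ inf_le_right))) ?_
  refine le_norm_of_conj fun g hg => ?_
  rw [conj_inf, conj_eq_of_norm (hK hg), conj_cent1]
  exact fix_congr (hc g hg)

theorem key (hp3 : 3 ≤ p) (hP : IsPGroup p P) (hcop : (Nat.card K).Coprime p) (hK : P ≤ 𝐍(K))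
    (hmin : ∀ U < K, P ≤ 𝐍(U) → U ≤ 𝐂(P)) (hn : ¬ K ≤ 𝐂(P)) {C : Set G} (hC : closure C = P) :
    ∃ c ∈ C, Nat.card ↥(K ⊓ 𝐂[c]) ^ 2 < Nat.card K * Nat.card ↥(K ⊓ 𝐂(P)) := by
  have hCP : ∀ c ∈ C, c ∈ P := fun c hc => hC ▸ subset_closure hc
  have hlt : Nat.card ↥(K ⊓ 𝐂(P)) < Nat.card K :=
    card_lt_of_lt (lt_of_le_of_ne inf_le_left fun e => hn (e ▸ inf_le_right))
  have small : ∀ U : Subgroup G, U ≤ K ⊓ 𝐂(P) → Nat.card U ^ 2 < Nat.card K * Nat.card ↥(K ⊓ 𝐂(P)) := by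
    intro U hU
    have := card_le_of_le hU
    have := Nat.card_pos (α := ↥(K ⊓ 𝐂(P)))
    nlinarith
  have hNC : P ≤ 𝐍(𝐂(K)) := norm_cent hK
  by_cases hab : ⁅P, P⁆ ≤ 𝐂(K)
  · obtain ⟨c, hc, hcK⟩ : ∃ c ∈ C, c ∉ 𝐂(K) := by
      by_contra h
      push Not at h
      exact hn (cent_symm (hC ▸ (closure_le _).2 h))
    exact ⟨c, hc, small _ (le_inf inf_le_left (fix_central hK hmin hcK fun g hg =>
      hab (comm_mem_comm hg (hCP c hc))))⟩
  obtain ⟨W, ⟨hWP, hPW, hW⟩, hWmin⟩ :=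
    (Set.toFinite {W : Subgroup G | W ≤ P ∧ P ≤ 𝐍(W) ∧ ¬ ⁅W, P⁆ ≤ 𝐂(K)}).exists_minimal
      ⟨P, le_rfl, le_norm P, hab⟩
  have hW2 : ⁅⁅W, P⁆, P⁆ ≤ 𝐂(K) := by
    by_contra h
    have h1 := PGroup.commutator_lt (pgroup_of_le hP hWP) hP hPW (by rintro rfl; simp at hW)
    exact h1.not_ge (hWmin ⟨comm_le_of_le hWP le_rfl, right_norm_comm _ _, h⟩ h1.le)
  obtain ⟨e, he, c, hc, hz⟩ : ∃ e ∈ W, ∃ c ∈ C, e * c * e⁻¹ * c⁻¹ ∉ 𝐂(K) := by
    by_contra h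
    push Not at h
    refine hW (comm_le_iff.2 fun e he y hy => ?_)
    rw [← hC] at hy
    induction hy using closure_induction with
    | mem c hc => exact h e he c hc
    | one => simp
    | mul a b ha hb iha ihb =>
      have := mul_mem iha (conj_mem_of_norm (hNC (hC ▸ ha)) ihb)
      convert this using 1; group
    | inv a ha iha =>
      have := conj_mem_of_norm' (hNC (hC ▸ ha)) (inv_mem iha)
      convert this using 1; group
  refine ⟨c, hc, ?_⟩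
  have hcP := hCP c hc
  have heP := hWP he
  have hzW : e * c * e⁻¹ * c⁻¹ ∈ ⁅W, P⁆ := comm_mem_comm he hcP
  obtain ⟨z, hzd⟩ : ∃ z, z = e * c * e⁻¹ * c⁻¹ := ⟨_, rfl⟩
  rw [← hzd] at hz hzW
  have hzP : z ∈ P := comm_le_of_le hWP le_rfl hzW
  have hcen : ∀ w ∈ ⁅W, P⁆, ∀ g ∈ P, g * w * g⁻¹ * w⁻¹ ∈ 𝐂(K) := fun w hw g hg => by
    have := inv_mem (hW2 (comm_mem_comm hw hg))
    convert this using 1; group
  have hz2 : z ^ 2 ∉ 𝐂(K) := by
    intro h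
    apply hz
    obtain ⟨n, hn⟩ := pElt_iff_orderOf.1 (pElt_of_mem hP hzP)
    refine zpowers_le.2 h (mem_zpowers_pow_iff.2 ?_)
    rw [hn]
    exact Nat.Coprime.pow_right n ((Nat.coprime_primes Nat.prime_two hp.out).2 (by omega))
  have hFz := fix_central hK hmin hz (hcen z hzW)
  have hFz2 := fix_central hK hmin hz2 (hcen _ (pow_mem hzW 2))
  have hconj : ∀ g ∈ P, Nat.card ↥(K ⊓ 𝐂[g * c * g⁻¹]) = Nat.card ↥(K ⊓ 𝐂[c]) := by
    intro g hg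
    rw [← card_conj g (K ⊓ 𝐂[c]), conj_inf, conj_eq_of_norm (hK hg), conj_cent1]
  have e1 : e * c * e⁻¹ = z * c := by rw [hzd]; group
  have e2 : K ⊓ 𝐂[e * e * c * (e * e)⁻¹] = K ⊓ 𝐂[z * (z * c)] := by
    apply fix_congr
    have : e * e * c * (e * e)⁻¹ = e * z * e⁻¹ * (z * c) := by
      rw [← e1, hzd]; group
    rw [this]
    convert hcen z hzW e heP using 1; group
  have hinf : (K ⊓ 𝐂[z * c]) ⊓ (K ⊓ 𝐂[c]) ≤ K ⊓ 𝐂(P) := by
    rintro k ⟨⟨hk, h1⟩, -, h2⟩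
    refine ⟨hk, hFz ⟨hk, mem_cent1_symm ?_⟩⟩
    exact ((𝐂[k]).mul_mem_cancel_right (mem_cent1_symm h2)).1 (mem_cent1_symm h1)
  by_contra hge
  push Not at hge
  have c1 := hconj e heP
  have c2 := hconj (e * e) (mul_mem heP heP)
  rw [e1] at c1
  rw [e2] at c2
  rw [← c2] at hge
  refine (small _ ?_).not_ge hge
  rw [c2] at hge
  rintro v ⟨hv, hvc⟩
  obtain ⟨a, ha, b, hb, rfl⟩ := prod_of_card (A := K ⊓ 𝐂[z * c]) (B := K ⊓ 𝐂[c]) inf_le_left inf_le_left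
    (by rw [c1, ← sq]; exact (Nat.mul_le_mul_left _ (card_le_of_le hinf)).trans hge) hv
  -- invariance of the fixed subgroups under `z`
  have inv : ∀ y ∈ P, z ∈ 𝐍(K ⊓ 𝐂[y]) := by
    intro y hy
    apply norm_of_conj_eq
    rw [conj_inf, conj_eq_of_norm (hK hzP), conj_cent1]
    apply fix_congr
    have := inv_mem (hcen z hzW y hy)
    convert this using 1; group
  have ha' := mem_cent1.1 ha.2
  have hb' := mem_cent1.1 hb.2
  have hv' := mem_cent1.1 hvc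
  have hE : z * z * a * (z * z)⁻¹ * a⁻¹ = a * (b * (z * b * z⁻¹)⁻¹) * a⁻¹ := by
    have : a * b * (z * (z * c)) = z * z * a * z⁻¹ * b * (z * c) := by
      rw [hv', mul_assoc _ b, hb']
      calc z * (z * c) * (a * b) = z * z * (c * a) * b := by group
        _ = _ := by rw [← ha']; group
    calc z * z * a * (z * z)⁻¹ * a⁻¹ = (z * z * a * z⁻¹ * b * (z * c)) * (z * c)⁻¹ * b⁻¹ * z⁻¹ * a⁻¹ := by group
      _ = _ := by rw [← this]; group
  have hm : b * (z * b * z⁻¹)⁻¹ ∈ K ⊓ 𝐂(P) := by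
    refine hinf (mem_inf.2 ⟨mul_mem hb (inv_mem (conj_mem_of_norm (inv _ (mul_mem hzP hcP)) hb)), ?_⟩)
    have h1 : z * z * a * (z * z)⁻¹ ∈ K ⊓ 𝐂[c] :=
      conj_mem_of_norm (mul_mem (inv c hcP) (inv c hcP)) ha
    have := mul_mem (inv_mem ha) h1
    convert this using 1
    calc b * (z * b * z⁻¹)⁻¹ = a⁻¹ * (a * (b * (z * b * z⁻¹)⁻¹) * a⁻¹) * a := by group
      _ = _ := by rw [← hE]; group
  have hcopPK : (Nat.card P).Coprime (Nat.card K) := ((PiGrp.p'_iff_coprime.2 hcop).coprime_pgroup hP).symm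
  have stab : ∀ y ∈ P, ∀ k ∈ K, k⁻¹ * (y * k * y⁻¹) ∈ K ⊓ 𝐂(P) → k ∈ K ⊓ 𝐂[y] := by
    intro y hy k hk h
    have h2 : y * k⁻¹ * y⁻¹ * k⁻¹⁻¹ ∈ K ⊓ 𝐂(P) := by
      convert inv_mem h using 1; group
    have := Coprime.commutator_eq_one_of_commute (a := y) (k := k⁻¹) (mem_cent.1 h2.2 y hy)
      (Coprime.orderOf_coprime_of_mem hcopPK hy h2.1)
    exact ⟨hk, by simpa using inv_mem (mem_cent1.2 this.symm)⟩
  have haM : a ∈ K ⊓ 𝐂(P) := by
    refine ⟨ha.1, hFz2 (sq z ▸ stab _ (mul_mem hzP hzP) a ha.1 ?_)⟩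
    convert hm using 1
    calc a⁻¹ * (z * z * a * (z * z)⁻¹) = a⁻¹ * (z * z * a * (z * z)⁻¹ * a⁻¹) * a := by group
      _ = _ := by rw [hE]; group
  have hbM : b ∈ K ⊓ 𝐂(P) := by
    refine ⟨hb.1, hFz ?_⟩
    refine (inv_mem_iff (H := K ⊓ 𝐂[z])).1 (stab _ hzP b⁻¹ (inv_mem hb.1) ?_)
    convert hm using 1; group
  exact mul_mem haM hbM

end

/-- Let p ≥ 3 be prime and G a finite group with a Sylow p-subgroup P and a normal p-complement N (N normal, of order prime to p, with NP = G). Suppose P is generated by a subset C and also by a subset D, and that ⟨x c x⁻¹, d⟩ is a p-group for all x ∈ N, c ∈ C, d ∈ D. Then P centralizes N, so that G = N × P. -/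
theorem result {G : Type*} [Group G] [Finite G] (p : ℕ) [Fact p.Prime] (hp3 : 3 ≤ p) (P : Sylow p G)
    (N : Subgroup G) [N.Normal] (hN : (Nat.card N).Coprime p) (hNP : N ⊔ (P : Subgroup G) = ⊤)
    (C D : Set G) (hC : Subgroup.closure C = (P : Subgroup G)) (hD : Subgroup.closure D = (P : Subgroup G))
    (h : ∀ x ∈ N, ∀ c ∈ C, ∀ d ∈ D, IsPGroup p ↥(Subgroup.closure ({x * c * x⁻¹, d} : Set G))) :
    ⁅(P : Subgroup G), N⁆ = ⊥ := by
  have hP := Syl.of_sylow_top P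
  have hN' : PiGrp {p}ᶜ N := PiGrp.p'_iff_coprime.2 hN
  have hnN : (⊤ : Subgroup G) ≤ 𝐍(N) := (normalizer_eq_top N).ge
  rw [comm_eq_bot_iff']
  by_contra hn
  obtain ⟨K, ⟨hKN, hK, hKn⟩, hmin⟩ :=
    (Set.toFinite {K : Subgroup G | K ≤ N ∧ (P : Subgroup G) ≤ 𝐍(K) ∧ ¬ K ≤ 𝐂((P : Subgroup G))}).exists_minimal
      ⟨N, le_rfl, le_top.trans hnN, hn⟩
  have hmin' : ∀ U < K, (P : Subgroup G) ≤ 𝐍(U) → U ≤ 𝐂((P : Subgroup G)) := by
    intro U hU h1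
    by_contra h2
    exact hU.not_ge (hmin ⟨hU.le.trans hKN, h1, h2⟩ hU.le)
  have hKc := (hN'.of_le hKN).coprime_p
  obtain ⟨c, hc, h1⟩ := key hp3 hP.pgroup hKc hK hmin' hKn hC
  obtain ⟨d, hd, h2⟩ := key hp3 hP.pgroup hKc hK hmin' hKn hD
  have hcP : c ∈ (P : Subgroup G) := hC ▸ subset_closure hc
  have hdP : d ∈ (P : Subgroup G) := hD ▸ subset_closure hd
  have hprod : ∀ k ∈ K, ∃ b ∈ K ⊓ 𝐂[d], ∃ a ∈ K ⊓ 𝐂[c], k = b * a := by
    intro x hx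
    have hS : Syl p (P : Subgroup G) (K ⊔ P) := hP.of_le le_sup_right le_top
    obtain ⟨g, hg, hle⟩ := Syl.exists_conj_le hS (h x (hKN hx) c hc d hd) (by
      rw [closure_le]
      rintro _ (rfl | rfl)
      · exact mul_mem (mul_mem (mem_sup_left hx) (mem_sup_right hcP)) (inv_mem (mem_sup_left hx))
      · exact mem_sup_right hdP)
    obtain ⟨y, hy, n, hn, rfl⟩ := (mem_sup_right_norm hK).1 (sup_comm K _ ▸ hg)
    rw [← conj_conj, conj_le_iff_le_inv_conj, conj_eq_of_mem (inv_mem hy), conj_le_iff] at hle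
    have fix : ∀ u ∈ K, ∀ t ∈ (P : Subgroup G), u * t * u⁻¹ ∈ (P : Subgroup G) → u ∈ K ⊓ 𝐂[t] := by
      intro u hu t ht h
      have h1 : u * t * u⁻¹ * t⁻¹ ∈ K ⊓ (P : Subgroup G) := by
        refine mem_inf.2 ⟨?_, mul_mem h (inv_mem ht)⟩
        have := mul_mem hu (conj_mem_of_norm (hK ht) (inv_mem hu))
        simpa only [mul_assoc] using this
      rw [disjoint_of_coprime ((hN'.of_le hKN).coprime_pgroup hP.pgroup), mem_bot, mul_inv_eq_one,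
        mul_inv_eq_iff_eq_mul] at h1
      exact ⟨hu, mem_cent1.2 h1⟩
    refine ⟨n⁻¹, inv_mem (fix n hn d hdP (hle _ (subset_closure (by simp)))), n * x,
      fix _ (mul_mem hn hx) c hcP ?_, by group⟩
    convert hle (x * c * x⁻¹) (subset_closure (by simp)) using 1
    group
  have h3 := card_of_prod inf_le_left inf_le_left hprod
  have h4 : Nat.card ↥(K ⊓ 𝐂((P : Subgroup G))) ≤ Nat.card ↥((K ⊓ 𝐂[c]) ⊓ (K ⊓ 𝐂[d])) :=
    card_le_of_le (le_inf (inf_le_inf_left _ (cent_le_cent1 hcP)) (inf_le_inf_left _ (cent_le_cent1 hdP)))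
  have h5 := Nat.mul_le_mul_left (Nat.card K) h4
  nlinarith [sq_nonneg ((Nat.card ↥(K ⊓ 𝐂[c]) : ℤ) - Nat.card ↥(K ⊓ 𝐂[d]))]

end Cfsg.Agent.S2277
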