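import Cfsg.Statements.S2290
import Cfsg.Agent.Lib.Pres.SLGen

set_option autoImplicit false
open Cfsg

namespace Cfsg.Agent.S2290

/-- For every finite field F with q elements and n ≥ 2, with q ≥ 4 when n = 2, the simple group PSL_n(F) has a presentation with 2 generators and at most 80 relations. -/
theorem result {F : Type*} [Field F] [Fintype F] (n : ℕ) (hn : 2 ≤ n) (h2 : n = 2 → 4 ≤ Fintype.card F) :
    ∃ rels : Finset (FreeGroup (Fin 2)), rels.card ≤ 80 ∧ Nonempty (PresentedGroup (↑rels : Set (FreeGroup (Fin 2))) ≃* Matrix.ProjectiveSpecialLinearGroup (Fin n) F) := by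
  haveI : NeZero n := ⟨by omega⟩
  obtain ⟨d, h⟩ : ∃ d, Cfsg.Lib.Pres.HasPres (Matrix.SpecialLinearGroup (Fin n) F) d 23 := by
    obtain rfl | rfl | h : n = 2 ∨ n = 3 ∨ 4 ≤ n := by omega
    · obtain ⟨p, _⟩ := CharP.exists F
      haveI := Fact.mk (CharP.char_is_prime F p)
      exact ⟨_, (Cfsg.Lib.Pres.hasPres_SL2 p).1.mono (by omega)⟩
    · exact ⟨_, Cfsg.Lib.Pres.hasPres_SL3.mono (by omega)⟩
    · exact ⟨_, (Cfsg.Lib.Pres.hasPres_SL h).1⟩
  exact (h.psl.two (Cfsg.Lib.Pres.exists_pair_of_surjective _ (QuotientGroup.mk'_surjective _)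
    (Cfsg.Lib.Pres.exists_pair_SL hn))).mono (by omega)

end Cfsg.Agent.S2290
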