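import Cfsg.Statements.S2292
import Cfsg.Agent.Lib.Pres.Sp
import Cfsg.Agent.S2411

set_option autoImplicit false
open Cfsg

namespace Cfsg.Agent.S2292

/-- Let F be a finite field with q elements and m ≥ 2 with (m, q) ≠ (2, 2). Then the simple group PSp_2m(F) has a presentation with 2 generators and at most 80 relations. -/
theorem result {F : Type*} [Field F] [Fintype F] (m : ℕ) (hm : 2 ≤ m) (h22 : ¬ (m = 2 ∧ Fintype.card F = 2)) :
    ∃ rels : Finset (FreeGroup (Fin 2)), rels.card ≤ 80 ∧ Nonempty (PresentedGroup (↑rels : Set (FreeGroup (Fin 2))) ≃* Cfsg.PSp m F) := by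
  obtain ⟨h2, h3, h4⟩ := Cfsg.Lib.Pres.hasPres_Sp' (F := F) (n := m)
  obtain ⟨d, h⟩ : ∃ d, Cfsg.Lib.Pres.HasPres (Matrix.symplecticGroup (Fin m) F) d 48 := by
    obtain h | h | h : m = 2 ∨ m = 3 ∨ 4 ≤ m := by omega
    exacts [⟨_, (h2 h).mono (by omega)⟩, ⟨_, (h3 h).mono (by omega)⟩, ⟨_, h4 h⟩]
  have := Fintype.one_lt_card (α := F)
  exact (h.psp.two (Cfsg.Agent.S2411.result m hm (by omega))).mono (by omega)

end Cfsg.Agent.S2292
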