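import Cfsg.Statements.S2470
import Cfsg.Agent.Lib.GLC.Ord2
import Cfsg.Agent.S2476

set_option autoImplicit false
open Cfsg

namespace Cfsg.Agent.S2470

/-- Adjacency of an odd prime and the characteristic in the prime graph of PSL(n,q): let F be a finite field of characteristic p with q elements, n ≥ 2 with PSL(n,F) simple, and let r ≠ p be an odd prime dividing the order of PSL(n,F), with k the multiplicative order of q modulo r. Then PSL(n,F) has NO element of order r·p if and only if either k > n − 2, or n = 3, r = 3 and 3 divides q − 1 exactly once. -/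
theorem result {F : Type*} [Field F] [Fintype F] (p : ℕ) [Fact p.Prime] [CharP F p] (n : ℕ) (hn : 2 ≤ n) (hsmall : n = 2 → 4 ≤ Fintype.card F)
    (r : ℕ) (hr : r.Prime) (hr2 : r ≠ 2) (hrp : r ≠ p) (hrG : r ∣ Nat.card (Matrix.ProjectiveSpecialLinearGroup (Fin n) F))
    (k : ℕ) (hk : k = orderOf ((Fintype.card F : ℕ) : ZMod r)) :
    (r * p ∉ Set.range (orderOf : Matrix.ProjectiveSpecialLinearGroup (Fin n) F → ℕ)) ↔
      (n - 2 < k ∨ (n = 3 ∧ r = 3 ∧ 3 ∣ Fintype.card F - 1 ∧ ¬ 9 ∣ Fintype.card F - 1)) := by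
  open Lib.GLC Matrix Polynomial Module in
  have h3 := S2476.result (F := F) p
  rw [← Nat.card_eq_fintype_card] at *
  have hp : p.Prime := Fact.out
  have h1 : 1 < Nat.card F := Finite.one_lt_card
  have hq : ∀ j, r ∣ Nat.card F ^ j - 1 ↔ k ∣ j := fun j => hk ▸ dvd_pow_sub_one_iff Nat.card_pos
  have hk0 : 0 < k := by
    haveI := Fact.mk hr
    exact hk ▸ orderOf_pos_iff.2 (isOfFinOrder_iff_isUnit.2 (Ne.isUnit fun e =>
      not_dvd_card p hr hrp ((ZMod.natCast_eq_zero_iff _ _).1 e)))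
  have hc := (Nat.coprime_primes hr hp).2 hrp
  by_cases h4 : n = 3 ∧ k = 1
  · obtain ⟨rfl, rfl⟩ := h4
    have h4 := (pow_one (Nat.card F) ▸ (hq 1).2 dvd_rfl :)
    have h6 : ∀ j, 0 < j → ¬ p ∣ Nat.card F ^ j - 1 := fun j hj h => hp.one_lt.ne' (Nat.dvd_one.1
      ((Nat.dvd_sub_iff_right (Nat.one_le_pow _ _ Nat.card_pos) ((char_dvd_card p).trans (dvd_pow_self _ hj.ne'))).1 h))
    have h7 := Nat.gcd_dvd_right 3 (Nat.card F - 1)
    rw [h3, Set.mem_setOf_eq, Nat.mul_div_assoc _ h7, mul_comm r, Nat.mul_dvd_mul_iff_left hp.pos, or_iff_right, or_iff_right,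
      or_iff_right fun h => h6 1 one_pos (by simpa using (dvd_mul_right p r).trans h), or_iff_left,
      Nat.dvd_div_iff_mul_dvd h7]
    · rcases (Nat.dvd_prime Nat.prime_three).1 (Nat.gcd_dvd_left 3 (Nat.card F - 1)) with h | h
      · simpa [-Nat.card_eq_fintype_card, h, h4] using fun _ h' => absurd (h ▸ Nat.dvd_gcd dvd_rfl h') (by simp)
      rw [h] at h7 ⊢
      rcases eq_or_ne r 3 with rfl | h8
      · simp [-Nat.card_eq_fintype_card, h7]
      · simpa [h8] using ((Nat.coprime_primes Nat.prime_three hr).2 h8.symm).mul_dvd_of_dvd_of_dvd h7 h4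
    · rintro ⟨rfl, h⟩
      exact hr2 ((Nat.prime_dvd_prime_iff_eq hr hp).1 (hr.dvd_of_dvd_pow (n := 2) ((dvd_mul_left r 2).trans h)))
    · exact fun h => h6 2 two_pos ((dvd_mul_right p r).trans (h.trans (Nat.div_dvd_of_dvd
        (h7.trans (Nat.sub_one_dvd_pow_sub_one _ 2)))))
    · refine fun h => h6 3 three_pos ((dvd_mul_right p r).trans (h.trans ((Nat.div_dvd_of_dvd ?_).trans ?_)))
      · have := ((geom_modEq h1 3).of_dvd h7).dvd_iff dvd_rfl
        rw [← Nat.geomSum_eq h1] at this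
        simpa [Finset.sum_range_succ, add_comm, add_left_comm, add_assoc] using this.2 (Nat.gcd_dvd_left ..)
      · exact ⟨Nat.card F - 1, by zify [h1.le, Nat.one_le_pow 3 _ h1.le]; ring⟩
  rw [or_iff_left fun h => h4 ⟨h.1, Nat.dvd_one.1 ((hq 1).1 (by simpa [h.2.1] using h.2.2.1))⟩, mem_range_orderOf_iff,
    ← not_le, not_iff_not]
  constructor
  · rintro ⟨⟨g⟩, hg⟩
    have hu := isUnit_toLin'_gl (SpecialLinearGroup.toGL g)
    have hb := blocks_typ (toLin' g.1)
    obtain ⟨φ, e, h5, h6, h7, h8⟩ := exists_block_of_char_dvd p hu ((dvd_mul_left p r).trans (hg.trans (orderOf_psl_dvd g)))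
    obtain ⟨ψ, f, h0, h9, h10, h11, -, h12⟩ := exists_block_of_prime_dvd p hu hr hrp
      ((dvd_mul_right r p).trans (hg.trans (orderOf_psl_dvd g)))
    have h13 := Nat.le_of_dvd h9.natDegree_pos (hk ▸ h12)
    have h14 := Nat.mul_le_mul h7 h6.natDegree_pos
    rcases eq_or_ne (φ ^ e) (ψ ^ f) with h | h
    swap
    · have := add_natDegree_le hb h8 h11 h
      have := Nat.mul_le_mul h10 h13
      simp only [natDegree_pow, finrank_fin_fun] at *
      omega
    obtain ⟨rfl, rfl⟩ := (pow_eq_pow_iff h5 h6 h0 h9 (by omega)).1 h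
    have h15 := (Nat.mul_le_mul h7 h13).trans ((mul_natDegree_le hb h8).trans_eq (finrank_fin_fun F))
    by_contra
    obtain ⟨rfl, rfl⟩ : n = 2 ∧ k = 1 := by omega
    have h16 := (mul_natDegree_le hb h8).trans_eq (finrank_fin_fun F)
    obtain rfl : e = 2 := by nlinarith [h6.natDegree_pos]
    obtain ⟨a, rfl⟩ : ∃ a, φ = X - C a := ⟨-φ.coeff 0, by simpa using h5.eq_X_add_C (by omega)⟩
    rw [eq_singleton_of_le hb (typ_pp _) h8 (by simp)] at hb
    refine hr.one_lt.ne' (Nat.dvd_one.1 ((Nat.mul_dvd_mul_iff_right hp.pos).1 (hg.trans (pow_one p ▸ orderOf_psl_dvd_iff.2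
      ⟨_, hb.pow_eq_smul_one_iff.2 fun P hP => Multiset.mem_singleton.1 hP ▸ pow_dvd_X_pow_mul p (X_sub_C_dvd_iff.2 rfl)
        (by simpa using hp.two_le)⟩))))
  · intro h
    obtain ⟨u, hu⟩ := exists_psl_char (F := F) (n := Fin 2) p (by simp)
    suffices ∃ x : ProjectiveSpecialLinearGroup (Fin (n - 2)) F, r ∣ orderOf x by
      obtain ⟨x, hx⟩ := this
      obtain ⟨y, h5, h6⟩ := exists_psl_add (n := Fin n) x u (by simp [hn])
      exact ⟨y, hc.mul_dvd_of_dvd_of_dvd (hx.trans h5) (hu.trans h6)⟩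
    rcases eq_or_ne k 1 with rfl | h5
    · obtain ⟨a, ha, h5⟩ := exists_orderOf_eq (K := F) (pow_one (Nat.card F) ▸ (hq 1).2 dvd_rfl :)
      obtain ⟨x, hx⟩ := exists_psl_of_blocks (n := Fin 2) (μ := {X - C a, X - C a⁻¹}) (k := r) (by simp [monic_X_sub_C])
        (by simp) (by simp [ha]) fun j c hj => ((Nat.coprime_primes hr Nat.prime_two).2 hr2).dvd_of_dvd_mul_left (by
          rw [← h5, orderOf_dvd_iff_pow_eq_one, two_mul, pow_add, mul_eq_one_iff_eq_inv₀ (pow_ne_zero j ha), ← inv_pow,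
            X_sub_C_dvd_iff.1 (hj _ (by simp)), X_sub_C_dvd_iff.1 (hj (X - C a⁻¹) (by simp))])
      exact (exists_psl_of_le x (by simp; omega)).imp fun _ => hx.trans
    · haveI : Nonempty (Fin k) := ⟨⟨0, hk0⟩⟩
      obtain ⟨x, hx⟩ := exists_psl_of_coprime (F := F) (n := Fin k) (hr.coprime_iff_not_dvd.2 fun h =>
        h5 (Nat.dvd_one.1 ((hq 1).1 (by simpa using h)))) (by rw [Fintype.card_fin, hq])
      exact (exists_psl_of_le x (by simpa using h)).imp fun _ => hx.trans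

end Cfsg.Agent.S2470
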