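import Cfsg.Statements.S2364
import Cfsg.Agent.Lib.GLC.Ord2
import Cfsg.Agent.S2470

set_option autoImplicit false
open Cfsg

namespace Cfsg.Agent.S2364

/-- Let F be a finite field of characteristic p, n ≥ 4, and let a, b be commuting elements of PSL(n, F) with a of order p. Then every prime divisor of the order of b divides the order of SL(n − 2, F). -/
theorem result {F : Type*} [Field F] [Fintype F] (p : ℕ) [Fact p.Prime] [CharP F p] (n : ℕ) (hn : 4 ≤ n)
    (a b : Matrix.ProjectiveSpecialLinearGroup (Fin n) F) (ha : orderOf a = p) (hab : Commute a b) :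
    (orderOf b).primeFactors ⊆ (Nat.card (Matrix.SpecialLinearGroup (Fin (n - 2)) F)).primeFactors := by
  open Lib.GLC Matrix in
  intro r h0
  obtain ⟨hr, h1, -⟩ := Nat.mem_primeFactors.1 h0
  obtain ⟨m, rfl⟩ : ∃ m, n = m + 4 := ⟨n - 4, by omega⟩
  refine Nat.mem_primeFactors.2 ⟨hr, (card_SL_eq (F := F) (m + 1)).symm ▸ ?_, Nat.card_pos.ne'⟩
  rcases eq_or_ne r p with rfl | h2
  · exact ((char_dvd_card r).trans (dvd_pow_self _ (Nat.div_pos (by nlinarith) two_pos).ne')).mul_right _
  obtain ⟨k, h3, h4⟩ : ∃ k ≤ m, r ∣ Nat.card F ^ (k + 2) - 1 := by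
    rcases eq_or_ne r 2 with rfl | h3
    · exact ⟨0, by simp, (Nat.Odd.sub_odd (Nat.not_even_iff_odd.1 fun h => not_dvd_card p hr h2
        (Nat.even_pow.1 h).1.two_dvd) odd_one).two_dvd⟩
    have h4 := orderOf_pow_orderOf_div (orderOf_pos b).ne' h1
    have h5 := (S2470.result p (m + 4) (by omega) (by omega) r hr h3 h2 (h1.trans (orderOf_dvd_natCard b)) _ rfl).2.mt
      fun h => h ⟨_, ((hab.pow_right _).symm.orderOf_mul_eq_mul_orderOf_of_coprime (by
        rw [h4, ha]; exact (Nat.coprime_primes hr Fact.out).2 h2)).trans (by rw [h4, ha])⟩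
    rw [← Nat.card_eq_fintype_card, not_or] at h5
    rcases lt_or_ge (orderOf (Nat.card F : ZMod r)) 2 with h | h
    · refine ⟨0, by simp, (dvd_pow_sub_one_iff Nat.card_pos).2 ?_⟩
      haveI := Fact.mk hr
      rw [show orderOf (Nat.card F : ZMod r) = 1 from le_antisymm (by omega) (orderOf_pos_iff.2 (isOfFinOrder_iff_isUnit.2
        (Ne.isUnit fun e => not_dvd_card p hr h2 ((ZMod.natCast_eq_zero_iff _ _).1 e))))]
      exact one_dvd _
    · exact ⟨orderOf (Nat.card F : ZMod r) - 2, by omega, (dvd_pow_sub_one_iff Nat.card_pos).2 (Nat.sub_add_cancel h).symm.dvd⟩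
  exact (h4.trans (Finset.dvd_prod_of_mem (fun i => Nat.card F ^ (i + 2) - 1) (Finset.mem_range.2 (by omega)))).mul_left _

end Cfsg.Agent.S2364
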