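import Cfsg.Statements.S2375
import Cfsg.Agent.Lib.Chev.CycTor

set_option autoImplicit false
open Cfsg

namespace Cfsg.Agent.S2375

open Cfsg.Lib.Chev

/-- The group E₈(q) contains a cyclic subgroup of order q⁸ + q⁷ − q⁵ − q⁴ − q³ + q + 1 which is its own centralizer. -/
theorem result {F : Type*} [Field F] [Fintype F] (q : ℕ) (hF : Fintype.card F = q) :
    ∃ H : Subgroup ↥(Cfsg.Lie.chevE8.group F), IsCyclic ↥H ∧ Nat.card ↥H = q ^ 8 + q ^ 7 - q ^ 5 - q ^ 4 - q ^ 3 + q + 1 ∧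
      Subgroup.centralizer (H : Set ↥(Cfsg.Lie.chevE8.group F)) = H := by
  have h2 : 2 ≤ q := hF ▸ Fintype.one_lt_card
  have h0 : ∀ i, q ^ i + q ^ i ≤ q ^ (i + 1) := fun i => by
    rw [pow_succ, ← mul_two]; exact Nat.mul_le_mul_left _ h2
  have h1 : q ^ 5 ≤ q ^ 8 + q ^ 7 ∧ q ^ 4 ≤ q ^ 8 + q ^ 7 - q ^ 5 ∧
      q ^ 3 ≤ q ^ 8 + q ^ 7 - q ^ 5 - q ^ 4 := by
    have := h0 3; have := h0 4; have := h0 5; have := h0 6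
    norm_num at *; omega
  rw [← Nat.div_one (q ^ 8 + q ^ 7 - q ^ 5 - q ^ 4 - q ^ 3 + q + 1)]
  refine checkedE8.exists_cyclic (by simp) (algE8 _) ([0, 1, 2, 3, 4, 5, 6, 7] : List (Fin 8))
    (X := .of (toM 8 8 [[1, 0, 0, 0, 0, 0, 1, 0], [1, 1, 0, 0, 0, 0, 0, 1], [0, 0, 1, 1, 1, 1, 0, -1], [1, 1, 1, 1, 1, 0, 0, 0], [1, 1, 1, 1, 0, 0, 0, 0], [1, 1, 1, 0, 0, 0, 0, 0], [1, 1, 0, 0, 0, 0, 0, 0], [1, 0, 0, 0, 0, 0, 0, 0]]))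
    (P := .of (toM 8 8 [[0, 0, 0, 0, 0, 0, 0, 1], [0, 0, 0, 0, 0, 0, 1, -1], [0, 0, 0, 0, 0, 1, -1, 0], [0, 0, 0, 0, 1, -1, 0, 0], [0, 0, 0, 1, -1, 0, 0, 0], [0, 1, 1, -1, 0, 0, 0, 0], [1, 0, 0, 0, 0, 0, 0, -1], [0, 1, 0, 0, 0, 0, -1, 0]]))
    (a := toV 8 [1, 1, 0, -1, -1, -1, 0, 1]) ?_ (by decide +kernel) (by decide) (by decide) hF
    (by rw [(kerDataE8 _).kerChr_eq_bot, Subgroup.card_bot]) ?_ fun h => ?_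
  · exact IsCartan.wM_wp_mul (n := 8) (isCartanE8 _)
      (B := [[2, 0, -1, 0, 0, 0, 0, 0], [0, 2, 0, -1, 0, 0, 0, 0], [-1, 0, 2, -1, 0, 0, 0, 0], [0, -1, -1, 2, -1, 0, 0, 0], [0, 0, 0, -1, 2, -1, 0, 0], [0, 0, 0, 0, -1, 2, -1, 0], [0, 0, 0, 0, 0, -1, 2, -1], [0, 0, 0, 0, 0, 0, -1, 2]]) (by decide +kernel) (by decide +kernel)
  · change _ = (q : ℤ) ^ 8 + ∑ j : Fin 8, toV 8 [1, 1, 0, -1, -1, -1, 0, 1] j * (q : ℤ) ^ j.val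
    simp [h1.1, h1.2.1, h1.2.2, Fin.sum_univ_succ, toV]
    ring
  · have h3 : q < 5 := by omega
    clear hF h1 h0
    revert h h2
    revert q
    decide +kernel

end Cfsg.Agent.S2375
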