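import Cfsg.Statements.S2419
import Cfsg.Agent.Lib.Chev.WeylChk
import Cfsg.Agent.Lib.Chev.Data

set_option autoImplicit false
open Cfsg

namespace Cfsg.Agent.S2419

open Cfsg.Lib.Chev

/-- The Coxeter groups of types B₂, G₂, E₆, E₇, E₈ are generated by the Coxeter element `s₁ s₂ ⋯ s_l` together with one suitable reflection (a conjugate of a simple reflection); for types D₄ and F₄ the Coxeter element together with two suitable reflections suffices. -/
theorem result (c : (Σ n : ℕ, CoxeterMatrix (Fin n)) × ℕ)
    (hc : c ∈ [(⟨2, CoxeterMatrix.B 2⟩, 1), (⟨2, CoxeterMatrix.G₂⟩, 1), (⟨4, Cfsg.Lie.coxeterD4⟩, 2), (⟨4, CoxeterMatrix.F₄⟩, 2),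
      (⟨6, CoxeterMatrix.E₆⟩, 1), (⟨7, CoxeterMatrix.E₇⟩, 1), (⟨8, CoxeterMatrix.E₈⟩, 1)]) :
    ∃ T : Finset c.1.2.Group, T.card = c.2 ∧ (∀ t ∈ T, ∃ (g : c.1.2.Group) (i : Fin c.1.1), t = g * c.1.2.simple i * g⁻¹) ∧
      Subgroup.closure (({((List.finRange c.1.1).map c.1.2.simple).prod} : Set c.1.2.Group) ∪ ↑T) = ⊤ := by
  simp only [List.mem_cons, List.not_mem_nil, or_false] at hc
  rcases hc with rfl | rfl | rfl | rfl | rfl | rfl | rfl
  · exact IsCartan.exists_gen (n := 2) (isCartanB2 checkedB2) (coxeterB2_sys _) _ [([], 0)]
      [[(1, true)], [(1, true), (0, true)]]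
      (by decide +kernel)
  · exact IsCartan.exists_gen (n := 2) (isCartanG2 checkedG2) (coxeterG2_sys _) _ [([], 0)]
      [[(1, true)], [(1, true), (0, true)]]
      (by decide +kernel)
  · exact IsCartan.exists_gen (n := 4) (isCartanD4 checkedD4) (coxeterD4_sys _) _ [([], 3), ([], 1)]
      [[(0, false), (2, true), (0, true)], [(2, true)], [(0, true), (1, true), (2, true), (1,
       true), (0, false)], [(1, true)]]
      (by decide +kernel)
  · exact IsCartan.exists_gen (n := 4) (isCartanF4 checkedF4) (coxeterF4_sys _) _ [([], 3), ([], 1)]
      [[(0, false), (2, true), (0, true)], [(2, true)], [(0, false), (1, true), (0, true)], [(1,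
       true)]]
      (by decide +kernel)
  · exact IsCartan.exists_gen (n := 6) (isCartanE6 checkedE6) (coxeterE6_sys _) _ [([], 3)]
      [[(0, false), (0, false), (0, false), (0, false), (0, false), (1, true), (0, true), (0,
       true), (0, true), (0, true), (0, true)], [(1, true), (0, false), (0, false), (0, false),
       (1, true), (0, true), (0, true), (0, true), (1, true)], [(0, false), (0, false), (0,
       false), (0, false), (1, true), (0, true), (0, true), (0, true), (0, true)], [(1, true)],
       [(0, true), (1, true), (0, false)], [(0, true), (0, true), (1, true), (0, false), (0,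
       false)]]
      (by decide +kernel)
  · exact IsCartan.exists_gen (n := 7) (isCartanE7 checkedE7) (coxeterE7_sys _) _ [([], 3)]
      [[(0, false), (1, true), (0, false), (0, false), (0, false), (0, false), (1, true), (0,
       true), (0, true), (0, true), (0, true), (1, true), (0, true)], [(1, true), (0, true), (1,
       true), (0, false), (0, false), (0, false), (0, false), (1, true), (0, true), (0, true),
       (0, true), (0, true), (1, true), (0, false), (1, true)], [(1, true), (0, false), (0,
       false), (0, false), (0, false), (1, true), (0, true), (0, true), (0, true), (0, true),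
       (1, true)], [(1, true)], [(0, true), (1, true), (0, false)], [(0, true), (0, true), (1,
       true), (0, false), (0, false)], [(0, true), (0, true), (0, true), (1, true), (0, false),
       (0, false), (0, false)]]
      (by decide +kernel)
  · exact IsCartan.exists_gen (n := 8) (isCartanE8 checkedE8) (coxeterE8_sys _) _ [([], 4)]
      [[(0, false), (0, false), (1, true), (0, true), (0, true), (0, true), (0, true), (0,
       true), (0, true), (1, true), (0, false), (0, false), (0, false), (0, false), (0, false),
       (0, false), (1, true), (0, true), (0, true)], [(0, false), (1, true), (0, true), (1,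
       true), (0, true), (0, true), (0, true), (0, true), (0, true), (0, true), (1, true), (0,
       false), (0, false), (0, false), (0, false), (0, false), (0, false), (1, true), (0,
       false), (1, true), (0, true)], [(0, false), (1, true), (0, true), (0, true), (0, true),
       (0, true), (0, true), (0, true), (1, true), (0, false), (0, false), (0, false), (0,
       false), (0, false), (0, false), (1, true), (0, true)], [(0, false), (1, true), (0,
       true)], [(1, true)], [(0, true), (1, true), (0, false)], [(0, true), (0, true), (1,
       true), (0, false), (0, false)], [(0, true), (0, true), (0, true), (1, true), (0, false),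
       (0, false), (0, false)]]
      (by decide +kernel)

end Cfsg.Agent.S2419
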