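import Cfsg.Statements.S2468
import Cfsg.Agent.Lib.GLC.Ord2

set_option autoImplicit false
open Cfsg

namespace Cfsg.Agent.S2468

/-- Adjacency of two odd primes in the prime graph of PSL(n,q): let F be a finite field of characteristic p with q elements, n ≥ 2 with PSL(n,F) simple, and let r ≠ s be odd primes different from p dividing the order of PSL(n,F). Let k and l be the multiplicative orders of q modulo r and modulo s, and suppose 2 ≤ k ≤ l. Then PSL(n,F) has NO element of order r·s if and only if k + l > n and k does not divide l. -/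
theorem result {F : Type*} [Field F] [Fintype F] (p : ℕ) [Fact p.Prime] [CharP F p] (n : ℕ) (hn : 2 ≤ n) (hsmall : n = 2 → 4 ≤ Fintype.card F)
    (r s : ℕ) (hr : r.Prime) (hs : s.Prime) (hr2 : r ≠ 2) (hs2 : s ≠ 2) (hrp : r ≠ p) (hsp : s ≠ p) (hrs : r ≠ s)
    (hrG : r ∣ Nat.card (Matrix.ProjectiveSpecialLinearGroup (Fin n) F)) (hsG : s ∣ Nat.card (Matrix.ProjectiveSpecialLinearGroup (Fin n) F))
    (k l : ℕ) (hk : k = orderOf ((Fintype.card F : ℕ) : ZMod r)) (hl : l = orderOf ((Fintype.card F : ℕ) : ZMod s))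
    (h2k : 2 ≤ k) (hkl : k ≤ l) :
    (r * s ∉ Set.range (orderOf : Matrix.ProjectiveSpecialLinearGroup (Fin n) F → ℕ)) ↔ (n < k + l ∧ ¬ k ∣ l) := by
  open Lib.GLC Matrix Polynomial Module in
  rw [← Nat.card_eq_fintype_card] at hk hl
  haveI : Nonempty (Fin n) := ⟨⟨0, by omega⟩⟩
  have h1 : ∀ t j, t.Prime → j = orderOf (Nat.card F : ZMod t) → 2 ≤ j → t.Coprime (Nat.card F - 1) := fun t j ht h h' =>
    ht.coprime_iff_not_dvd.2 fun e => by
      have := Nat.dvd_one.1 (h ▸ (dvd_pow_sub_one_iff (k := 1) Nat.card_pos).1 (by simpa using e))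
      omega
  have h2 : ∀ t j, t.Coprime (Nat.card F - 1) → orderOf (Nat.card F : ZMod t) ∣ j → 2 ≤ j →
      ∃ x : ProjectiveSpecialLinearGroup (Fin j) F, t ∣ orderOf x := fun t j ht h h' =>
    haveI : Nonempty (Fin j) := ⟨⟨0, by omega⟩⟩
    exists_psl_of_coprime ht (by rwa [Fintype.card_fin, dvd_pow_sub_one_iff Nat.card_pos])
  have h3 := h1 r k hr hk h2k
  have h4 := h1 s l hs hl (h2k.trans hkl)
  have hc := (Nat.coprime_primes hr hs).2 hrs
  rw [mem_range_orderOf_iff, ← not_le, ← not_or, not_iff_not]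
  constructor
  · rintro ⟨⟨g⟩, hg⟩
    have hu := isUnit_toLin'_gl (SpecialLinearGroup.toGL g)
    have hb := blocks_typ (toLin' g.1)
    obtain ⟨φ, e, h5, h6, h7, h8, -, h9⟩ := exists_block_of_prime_dvd p hu hr hrp
      ((dvd_mul_right r s).trans (hg.trans (orderOf_psl_dvd g)))
    obtain ⟨ψ, f, h10, h11, h12, h13, -, h14⟩ := exists_block_of_prime_dvd p hu hs hsp
      ((dvd_mul_left s r).trans (hg.trans (orderOf_psl_dvd g)))
    rw [← hk] at h9
    rw [← hl] at h14
    rcases eq_or_ne (φ ^ e) (ψ ^ f) with h | h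
    · obtain ⟨rfl, rfl⟩ := (pow_eq_pow_iff h5 h6 h10 h11 h7).1 h
      obtain ⟨c, hc⟩ := h14
      have := (Nat.le_mul_of_pos_left _ h7).trans ((mul_natDegree_le hb h8).trans_eq (finrank_fin_fun F))
      have h15 := h6.natDegree_pos
      rw [hc] at h9 h15 this
      rcases c with _ | _ | c
      exacts [absurd h15 (by simp), .inr (by simpa using h9), .inl (by nlinarith)]
    · have := add_natDegree_le hb h8 h13 h
      have := Nat.mul_le_mul h7 (Nat.le_of_dvd h6.natDegree_pos h9)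
      have := Nat.mul_le_mul h12 (Nat.le_of_dvd h11.natDegree_pos h14)
      simp only [natDegree_pow, finrank_fin_fun] at *
      omega
  rintro (h | h)
  · obtain ⟨x, hx⟩ := h2 r k h3 hk.symm.dvd h2k
    obtain ⟨y, hy⟩ := h2 s l h4 hl.symm.dvd (h2k.trans hkl)
    obtain ⟨z, h5, h6⟩ := exists_psl_add (n := Fin (k + l)) x y (by simp)
    exact (exists_psl_of_le z (by simpa using h)).imp fun _ => (hc.mul_dvd_of_dvd_of_dvd (hx.trans h5) (hy.trans h6)).trans
  · obtain ⟨x, hx⟩ := h2 (r * s) l (h3.mul_left h4) ((dvd_pow_sub_one_iff Nat.card_pos).1 (hc.mul_dvd_of_dvd_of_dvd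
      ((dvd_pow_sub_one_iff Nat.card_pos).2 (hk ▸ h)) ((dvd_pow_sub_one_iff Nat.card_pos).2 hl.symm.dvd))) (h2k.trans hkl)
    exact (exists_psl_of_le x (by simpa [hl] using orderOf_le_of_dvd_card_PSL hs (not_dvd_card p hs hsp) hsG)).imp
      fun _ => hx.trans

end Cfsg.Agent.S2468
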