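import Cfsg.Statements.S2469
import Cfsg.Agent.Lib.GLC.SpAdj

set_option autoImplicit false
open Cfsg

namespace Cfsg.Agent.S2469

open Cfsg.Lib Cfsg.Lib.GLC Matrix Module Polynomial

/-- Adjacency of two odd primes in the prime graph of PSp(2n,q): let F be a finite field of characteristic p with q elements, n ≥ 2 with PSp(2n,F) simple, and let r ≠ s be odd primes different from p dividing the order of PSp(2n,F). Let k, l be the multiplicative orders of q modulo r and s, put η(m) = m for odd m and η(m) = m/2 for even m, and suppose η(k) ≤ η(l). Then PSp(2n,F) has NO element of order r·s if and only if η(k) + η(l) > n and l/k is not an odd integer. -/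
theorem result {F : Type*} [Field F] [Fintype F] (p : ℕ) [Fact p.Prime] [CharP F p] (n : ℕ) (hn : 2 ≤ n) (hsmall : n = 2 → 3 ≤ Fintype.card F)
    (r s : ℕ) (hr : r.Prime) (hs : s.Prime) (hr2 : r ≠ 2) (hs2 : s ≠ 2) (hrp : r ≠ p) (hsp : s ≠ p) (hrs : r ≠ s)
    (hrG : r ∣ Nat.card (Cfsg.PSp n F)) (hsG : s ∣ Nat.card (Cfsg.PSp n F))
    (k l ηk ηl : ℕ) (hk : k = orderOf ((Fintype.card F : ℕ) : ZMod r)) (hl : l = orderOf ((Fintype.card F : ℕ) : ZMod s))
    (hηk : (Odd k ∧ ηk = k) ∨ (Even k ∧ 2 * ηk = k)) (hηl : (Odd l ∧ ηl = l) ∨ (Even l ∧ 2 * ηl = l)) (hkl : ηk ≤ ηl) :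
    (r * s ∉ Set.range (orderOf : Cfsg.PSp n F → ℕ)) ↔ (n < ηk + ηl ∧ ¬ ∃ t : ℕ, Odd t ∧ l = k * t) := by
  rw [← Nat.card_eq_fintype_card] at hk hl
  haveI := Fact.mk hr
  haveI := Fact.mk hs
  haveI : Nonempty (Fin n) := ⟨⟨0, by omega⟩⟩
  have hk0 : k ≠ 0 := hk ▸ (Homocyc.orderOf_pos_of (not_dvd_card p hr hrp)).ne'
  have hl0 : l ≠ 0 := hl ▸ (Homocyc.orderOf_pos_of (not_dvd_card p hs hsp)).ne'
  have hc := (Nat.coprime_primes hr hs).2 hrs
  have hq : 0 < Nat.card F := Nat.card_pos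
  rw [mem_range_psp (.inl ((hr.odd_of_ne_two hr2).mul (hs.odd_of_ne_two hs2))), ← not_le, ← not_or,
    not_iff_not]
  constructor
  · rintro ⟨g, hg⟩
    rw [← Symp.orderOf_toLin'_sp] at hg
    have hu := (Symp.spE_sp g).isUnit
    obtain ⟨φ, e, h5, h6, h7, h8, h13, -⟩ := exists_block_of_prime_dvd p hu hr hrp
      ((dvd_mul_right r s).trans hg)
    obtain ⟨ψ, f, h0, h9, h10, h11, h12, -⟩ := exists_block_of_prime_dvd p hu hs hsp
      ((dvd_mul_left s r).trans hg)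
    obtain ⟨ν, j, N, hν, -, hj, hN, h1, h2, h3⟩ := (cl_sp g).exists_orbit h0 h9 h10 h11
      (not_dvd_sq_of_dvd_orderOf hs hs2 h12)
    have hsN := h12.trans (dvd_X_pow_sub_one_iff.1 h1)
    have h4 := eta_le_of_dvd hηl (hl ▸ orderOf_dvd_two_mul hq hN hsN)
    have h4' := Nat.le_of_dvd hj h4
    rw [sum_typ_toLin', Fintype.card_sum, Fintype.card_fin] at h2
    have h14 := Nat.mul_le_mul_left j h10
    rcases h3 φ e h5 h6 h7 h8 with h | ⟨rfl, h⟩
    · obtain ⟨ν', j', N', -, -, hj', hN', h1', h2', -⟩ := hν.exists_orbit h5 h6 h7 h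
        (not_dvd_sq_of_dvd_orderOf hr hr2 h13)
      have := Nat.le_of_dvd hj' (eta_le_of_dvd hηk (hk ▸ orderOf_dvd_two_mul hq hN'
        (h13.trans (dvd_X_pow_sub_one_iff.1 h1'))))
      have := Nat.mul_le_mul_left j' h7
      left; omega
    have hrN := h13.trans (dvd_X_pow_sub_one_iff.1 h)
    by_cases h15 : 2 * ηl ≤ j
    · left; omega
    right
    obtain ⟨c, rfl⟩ := h4
    obtain rfl : c = 1 := by
      rcases c with _ | _ | c
      · simp at hj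
      · rfl
      · exact absurd (by nlinarith) h15
    rw [mul_one] at hN hj
    rcases hN with rfl | rfl
    · rw [dvd_add_one_iff hq hr hr2, ← hk] at hrN
      rw [dvd_add_one_iff hq hs hs2, ← hl] at hsN
      have h16 : l = 2 * ηl := by
        rcases hηl with ⟨-, rfl⟩ | ⟨-, h⟩
        exacts [absurd dvd_rfl hsN.2, h.symm]
      obtain ⟨t, ht⟩ := hrN.1
      refine ⟨t, Nat.not_even_iff_odd.1 ?_, h16.trans ht⟩
      rintro ⟨u, rfl⟩
      exact hrN.2 ⟨u, by rw [mul_add] at ht; omega⟩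
    · rw [dvd_pow_sub_one_iff hq, ← hk] at hrN
      rw [dvd_pow_sub_one_iff hq, ← hl] at hsN
      have := Nat.le_of_dvd hj hsN
      rcases hηl with ⟨ho, rfl⟩ | ⟨-, h⟩
      · obtain ⟨t, ht⟩ := hrN
        exact ⟨t, (Nat.odd_mul.1 (ht ▸ ho)).2, ht⟩
      · omega
  rintro (h | ⟨t, ht, h⟩)
  · obtain ⟨x, hx⟩ := exists_sp_eta hr hr2 hk hk0 hηk
    obtain ⟨y, hy⟩ := exists_sp_eta hs hs2 hl hl0 hηl
    obtain ⟨z, h1, h2⟩ := exists_sp_add x y h
    exact ⟨z, hc.mul_dvd_of_dvd_of_dvd (hx.trans h1) (hy.trans h2)⟩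
  obtain ⟨j, hj, hjn, h1⟩ := exists_dvd_of_dvd_card_psp hs (not_dvd_card p hs hsp) hsG
  have h2 := (Nat.le_of_dvd hj (eta_le_of_dvd hηl (hl ▸ h1))).trans hjn
  have h3 : r * s ∣ Nat.card F ^ l - 1 := hc.mul_dvd_of_dvd_of_dvd
    ((dvd_pow_sub_one_iff hq).2 (hk ▸ ⟨t, h⟩)) ((dvd_pow_sub_one_iff hq).2 hl.symm.dvd)
  suffices ∃ x : symplecticGroup (Fin ηl) F, r * s ∣ orderOf x by
    obtain ⟨x, hx⟩ := this
    obtain ⟨z, h4, -⟩ := exists_sp_add (n := n) (l := 0) x 1 h2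
    exact ⟨z, hx.trans h4⟩
  rcases hηl with ⟨-, rfl⟩ | ⟨he, h4⟩
  · exact Homocyc.exists_sp_order_odd hl0 h3
  · refine Homocyc.exists_sp_order_even (by omega) (hc.mul_dvd_of_dvd_of_dvd
      ((dvd_add_one_iff hq hr hr2).2 ?_) ((dvd_add_one_iff hq hs hs2).2 ?_)) ?_
    · rw [← hk, h4]
      refine ⟨⟨t, h⟩, ?_⟩
      rintro ⟨u, hu⟩
      have : t = 2 * u := Nat.eq_of_mul_eq_mul_left (Nat.pos_of_ne_zero hk0)
        (by rw [← h, ← h4, hu]; ring)
      exact Nat.not_even_iff_odd.2 ht ⟨u, by omega⟩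
    · rw [← hl, h4]
      exact ⟨dvd_rfl, fun h' => by have := Nat.le_of_dvd (by omega) h'; omega⟩
    · rw [h4]
      refine Nat.dvd_antisymm ((dvd_pow_sub_one_iff hq).1 h3) ?_
      rw [hl, ← dvd_pow_sub_one_iff hq]
      exact (dvd_mul_left s r).trans ((dvd_pow_sub_one_iff hq).2 dvd_rfl)

end Cfsg.Agent.S2469
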