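import Cfsg.Statements.S2472
import Cfsg.Agent.Lib.GLC.SpAdj

set_option autoImplicit false
open Cfsg

namespace Cfsg.Agent.S2472

open Cfsg.Lib Cfsg.Lib.GLC Matrix Module Polynomial

/-- Adjacency of a prime and the characteristic in the prime graph of PSp(2n,q): let F be a finite field of characteristic p with q elements, n ≥ 2 with PSp(2n,F) simple, and let r ≠ p be an odd prime dividing the order of PSp(2n,F), with k the multiplicative order of q modulo r and η(k) = k for odd k, k/2 for even k. Then PSp(2n,F) has NO element of order r·p if and only if η(k) > n − 1. -/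
theorem result {F : Type*} [Field F] [Fintype F] (p : ℕ) [Fact p.Prime] [CharP F p] (n : ℕ) (hn : 2 ≤ n) (hsmall : n = 2 → 3 ≤ Fintype.card F)
    (r : ℕ) (hr : r.Prime) (hr2 : r ≠ 2) (hrp : r ≠ p) (hrG : r ∣ Nat.card (Cfsg.PSp n F))
    (k ηk : ℕ) (hk : k = orderOf ((Fintype.card F : ℕ) : ZMod r)) (hηk : (Odd k ∧ ηk = k) ∨ (Even k ∧ 2 * ηk = k)) :
    (r * p ∉ Set.range (orderOf : Cfsg.PSp n F → ℕ)) ↔ n - 1 < ηk := by
  rw [← Nat.card_eq_fintype_card] at hk
  have hp : p.Prime := Fact.out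
  haveI := Fact.mk hr
  have hk0 : k ≠ 0 := hk ▸ (Homocyc.orderOf_pos_of (not_dvd_card p hr hrp)).ne'
  have hc := (Nat.coprime_primes hr hp).2 hrp
  rw [mem_range_psp, ← not_le, not_iff_not]
  swap
  · refine (eq_or_ne p 2).symm.imp (fun h => (hr.odd_of_ne_two hr2).mul (hp.odd_of_ne_two h)) ?_
    rintro rfl
    exact_mod_cast CharP.cast_eq_zero F 2
  constructor
  · rintro ⟨g, hg⟩
    rw [← Symp.orderOf_toLin'_sp] at hg
    have hu := (Symp.spE_sp g).isUnit
    obtain ⟨φ, e, h5, h6, h7, h8⟩ := exists_block_of_char_dvd p hu ((dvd_mul_left p r).trans hg)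
    obtain ⟨ψ, f, h0, h9, h10, h11, h12, -⟩ := exists_block_of_prime_dvd p hu hr hrp
      ((dvd_mul_right r p).trans hg)
    obtain ⟨ν, j, N, -, -, hj, hN, h1, h2, h3⟩ := (cl_sp g).exists_orbit h0 h9 h10 h11
      (not_dvd_sq_of_dvd_orderOf hr hr2 h12)
    have h4 := Nat.le_of_dvd hj (eta_le_of_dvd hηk (hk ▸ orderOf_dvd_two_mul Nat.card_pos hN
      (h12.trans (dvd_X_pow_sub_one_iff.1 h1))))
    rw [sum_typ_toLin', Fintype.card_sum, Fintype.card_fin] at h2
    rcases h3 φ e h5 h6 (by omega) h8 with h | ⟨rfl, -⟩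
    · have h13 := Multiset.single_le_sum (fun _ _ => Nat.zero_le _) _
        (Multiset.mem_map_of_mem natDegree h)
      rw [natDegree_pow] at h13
      have := Nat.mul_le_mul h7 h6.natDegree_pos
      have := Nat.mul_le_mul_left j h10
      omega
    · have := Nat.mul_le_mul_left j h7
      omega
  · intro h
    obtain ⟨x, hx⟩ := exists_sp_eta hr hr2 hk hk0 hηk
    obtain ⟨u, hu⟩ := exists_prime_orderOf_dvd_card' (G := symplecticGroup (Fin 1) F) p (by
      rw [Symp.card_sp]
      exact ((char_dvd_card p).trans (dvd_pow_self _ (by simp))).mul_right _)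
    obtain ⟨z, h1, h2⟩ := exists_sp_add (n := n) x u (by omega)
    exact ⟨z, hc.mul_dvd_of_dvd_of_dvd (hx.trans h1) (hu ▸ h2)⟩

end Cfsg.Agent.S2472
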