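import Cfsg.Statements.S2520
import Cfsg.Agent.Lib.Oct.Low

set_option autoImplicit false
open Cfsg

namespace Cfsg.Agent.S2520

open Cfsg.Lib.Oct

theorem charP_of_card {F : Type*} [Field F] [Fintype F] {p a : ℕ} (hp : p.Prime) (hF : Fintype.card F = p ^ a) :
    CharP F p := by
  obtain ⟨r, _, n, hr, h⟩ := FiniteField.card' F
  obtain rfl := (Nat.prime_dvd_prime_iff_eq hr hp).1 (hr.dvd_of_dvd_pow (hF ▸ h ▸ dvd_pow_self r n.ne_zero))
  assumption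

theorem dvd_of_mem {F : Type*} [Field F] [Finite F] (p : ℕ) [Fact p.Prime] [CharP F p] {n : ℕ}
    (h : n ∈ Set.range (orderOf : Lie.chevG2.group F → ℕ)) :
    (∀ j, 8 ≤ p ^ j ∨ p ≠ 2 ∧ 7 ≤ p ^ j → n ∣ p ^ j) ∨ n ∣ Nat.card F ^ 2 - 1 ∨ n ∣ Nat.card F ^ 2 + Nat.card F + 1 ∨
      n ∣ Nat.card F ^ 2 - Nat.card F + 1 ∨ n ∣ p * (Nat.card F - 1) ∨ n ∣ p * (Nat.card F + 1) ∨ p = 2 ∧ n ∣ 12 := by
  obtain ⟨g, hg⟩ := mem_range_iff.1 h
  refine (unip_or_ord p g).imp (fun ⟨k, h⟩ j hj => hg.trans (orderOf_dvd_of_pow_eq_one (pow_eq_one_of_unip p h hj))) ?_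
  simp only [Lib.Oct.Ord, ← orderOf_dvd_iff_pow_eq_one]
  exact .imp hg.trans (.imp hg.trans (.imp hg.trans (.imp hg.trans (.imp hg.trans (.imp_right hg.trans)))))

/-- Let F be a finite field with q = 2^a ≥ 4 elements and G₂(F) the Chevalley group of type G₂ over it. Every element order of G₂(F) maximal under divisibility lies in the set {8, 12, 2(q + 1), 2(q − 1), q² − 1, q² + q + 1, q² − q + 1}, and every member of that set is an element order of G₂(F). -/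
theorem result {F : Type*} [Field F] [Fintype F] (a : ℕ) (ha : 2 ≤ a) (hF : Fintype.card F = 2 ^ a) :
    {n : ℕ | n ∈ Set.range (orderOf : ↥(Cfsg.Lie.chevG2.group F) → ℕ) ∧ ∀ m ∈ Set.range (orderOf : ↥(Cfsg.Lie.chevG2.group F) → ℕ), n ∣ m → m = n} ⊆ ({8, 12, 2 * (2 ^ a + 1), 2 * (2 ^ a - 1), 2 ^ (2 * a) - 1, 2 ^ (2 * a) + 2 ^ a + 1, 2 ^ (2 * a) - 2 ^ a + 1} : Set ℕ) ∧
    ({8, 12, 2 * (2 ^ a + 1), 2 * (2 ^ a - 1), 2 ^ (2 * a) - 1, 2 ^ (2 * a) + 2 ^ a + 1, 2 ^ (2 * a) - 2 ^ a + 1} : Set ℕ) ⊆ Set.range (orderOf : ↥(Cfsg.Lie.chevG2.group F) → ℕ) := by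
  have := charP_of_card Nat.prime_two hF
  have := Fact.mk Nat.prime_two
  rw [mul_comm 2 a, pow_mul, ← hF, ← Nat.card_eq_fintype_card]
  have H : ({8, 12, 2 * (Nat.card F + 1), 2 * (Nat.card F - 1), Nat.card F ^ 2 - 1, Nat.card F ^ 2 + Nat.card F + 1,
      Nat.card F ^ 2 - Nat.card F + 1} : Set ℕ) ⊆ Set.range (orderOf : Lie.chevG2.group F → ℕ) := by
    simp only [Set.insert_subset_iff, Set.singleton_subset_iff, mem_range_iff]
    exact ⟨(exists_reg 2 (j := 2) (by decide) 1 3 (by decide)).imp fun _ h => h.symm.dvd, has_twelve F,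
      has_mul_add F 2, has_mul_sub F 2, has_sq_sub_one F, has_sq_add F, has_sq_sub F⟩
  refine ⟨fun n ⟨h1, h2⟩ => ?_, H⟩
  rcases dvd_of_mem 2 h1 with h | h | h | h | h | h | h
  · exact h2 8 (H (by simp)) (h 3 (by simp)) ▸ by simp
  all_goals first | exact h2 _ (H (by simp)) h ▸ by simp | exact h2 _ (H (by simp)) h.2 ▸ by simp

end Cfsg.Agent.S2520
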