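import Cfsg.Statements.S2530
import Cfsg.Agent.Lib.ThreeTr.SymPres

set_option autoImplicit false
open Cfsg

namespace Cfsg.Agent.S2530

open Cfsg.Lib.ThreeTr in
theorem coxA_simple (n : ℕ) :
    CoxA (fun i : ℕ => if h : i < n then (CoxeterMatrix.A n).toCoxeterSystem.simple ⟨i, h⟩ else 1) n := by
  set cs := (CoxeterMatrix.A n).toCoxeterSystem
  refine ⟨fun i hi => ?_, fun i hi => ?_, fun i j hij hj => ?_⟩
  · simp only [dif_pos hi]
    exact cs.simple_mul_simple_self _
  · have hi' : i < n := by omega
    simp only [dif_pos hi, dif_pos hi']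
    have h := cs.simple_mul_simple_pow ⟨i, hi'⟩ ⟨i + 1, hi⟩
    have hM : (CoxeterMatrix.A n) ⟨i, hi'⟩ ⟨i + 1, hi⟩ = 3 := by
      simp [CoxeterMatrix.A, Fin.ext_iff]
    rw [hM] at h
    set a := cs.simple ⟨i, hi'⟩
    set b := cs.simple ⟨i + 1, hi⟩
    have ha : a * a = 1 := cs.simple_mul_simple_self _
    have hb : b * b = 1 := cs.simple_mul_simple_self _
    have e : a * b * a * (b * a * b) = 1 := by rw [← h]; simp only [pow_succ, pow_zero, one_mul, mul_assoc]
    have e2 : (b * a * b) * (b * a * b) = 1 := by
      calc (b * a * b) * (b * a * b) = b * (a * (b * b) * a) * b := by simp only [mul_assoc]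
        _ = 1 := by rw [hb, mul_one, ha, mul_one, hb]
    rw [← e2] at e
    exact mul_right_cancel e
  · have hi' : i < n := by omega
    simp only [dif_pos hj, dif_pos hi']
    have h := cs.simple_mul_simple_pow ⟨i, hi'⟩ ⟨j, hj⟩
    have hM : (CoxeterMatrix.A n) ⟨i, hi'⟩ ⟨j, hj⟩ = 2 := by
      have h1 : i ≠ j := by omega
      have h2 : ¬ (j + 1 = i) := by omega
      have h3 : ¬ (i + 1 = j) := by omega
      simp [CoxeterMatrix.A, Fin.ext_iff, h1, h2, h3]
    rw [hM] at h
    set a := cs.simple ⟨i, hi'⟩
    set b := cs.simple ⟨j, hj⟩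
    have ha : a * a = 1 := cs.simple_mul_simple_self _
    have hb : b * b = 1 := cs.simple_mul_simple_self _
    have e : a * b * (a * b) = 1 := by rw [← h]; simp only [pow_succ, pow_zero, one_mul, mul_assoc]
    have e2 : (b * a) * (a * b) = 1 := by
      calc (b * a) * (a * b) = b * (a * a) * b := by simp only [mul_assoc]
        _ = 1 := by rw [ha, mul_one, hb]
    rw [← e2] at e
    exact mul_right_cancel e

/-- The Coxeter presentation of the symmetric group: for every n, the symmetric group on n+1 letters is the Coxeter group of type A_n with the adjacent transpositions (i, i+1) as simple reflections; that is, it is presented by generators r_1, …, r_n subject to r_i² = 1, (r_i r_j)² = 1 for |i − j| > 1 and (r_i r_{i+1})³ = 1, with r_i mapping to (i, i+1). -/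
theorem result (n : ℕ) :
    ∃ cs : CoxeterSystem (CoxeterMatrix.A n) (Equiv.Perm (Fin (n + 1))), ∀ i : Fin n, cs.simple i = Equiv.swap i.castSucc i.succ := by
  open Cfsg.Lib.ThreeTr in
  classical
  obtain ⟨φ, hφ⟩ := (coxA_simple n).exists_hom
  set cs := (CoxeterMatrix.A n).toCoxeterSystem
  have ha := coxA_adjSwap n
  have hlift : (CoxeterMatrix.A n).IsLiftable (fun i : Fin n => adjSwap n i) := by
    intro i j
    by_cases hij : i = j
    · subst hij
      simp [ha.sq i i.2]
    · have hsq := ha.sq i i.2
      have hsq' := ha.sq j j.2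
      by_cases h1 : (j : ℕ) + 1 = i ∨ (i : ℕ) + 1 = j
      · have hM : (CoxeterMatrix.A n) i j = 3 := by
          simp only [CoxeterMatrix.A, Matrix.of_apply, if_neg hij, if_pos h1]
        rw [hM]
        have hb : adjSwap n i * adjSwap n j * adjSwap n i = adjSwap n j * adjSwap n i * adjSwap n j := by
          rcases h1 with h1 | h1
          · have := ha.braid j (by omega)
            rw [h1] at this
            exact this.symm
          · have := ha.braid i (by omega)
            rw [h1] at this
            exact this
        calc (adjSwap n i * adjSwap n j) ^ 3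
            = (adjSwap n i * adjSwap n j * adjSwap n i) * (adjSwap n j * adjSwap n i * adjSwap n j) := by
              simp only [pow_succ, pow_zero, one_mul, mul_assoc]
          _ = adjSwap n j * (adjSwap n i * (adjSwap n j * adjSwap n j) * adjSwap n i) * adjSwap n j := by
              rw [hb]; simp only [mul_assoc]
          _ = 1 := by rw [hsq', mul_one, hsq, mul_one, hsq']
      · have hM : (CoxeterMatrix.A n) i j = 2 := by
          simp only [CoxeterMatrix.A, Matrix.of_apply, if_neg hij, if_neg h1]
        rw [hM]
        have hne : (i : ℕ) ≠ j := fun h => hij (Fin.ext h)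
        have hc : adjSwap n i * adjSwap n j = adjSwap n j * adjSwap n i := by
          rcases Nat.lt_or_gt_of_ne hne with h | h
          · exact ha.comm i j (by omega) j.2
          · exact (ha.comm j i (by omega) i.2).symm
        calc (adjSwap n i * adjSwap n j) ^ 2
            = adjSwap n i * (adjSwap n j * adjSwap n i) * adjSwap n j := by
              simp only [pow_succ, pow_zero, one_mul, mul_assoc]
          _ = (adjSwap n i * adjSwap n i) * (adjSwap n j * adjSwap n j) := by
              rw [← hc]; simp only [mul_assoc]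
          _ = 1 := by rw [hsq, hsq', mul_one]
  let ψ := cs.lift ⟨_, hlift⟩
  have hψ : ∀ i : Fin n, ψ (cs.simple i) = adjSwap n i := fun i => cs.lift_apply_simple hlift i
  have hφ' : ∀ i : Fin n, φ (adjSwap n i) = cs.simple i := fun i => by
    rw [hφ i i.2, dif_pos i.2]
  have h1 : φ.comp ψ = MonoidHom.id _ := by
    apply cs.ext_simple
    intro i
    simp [hψ, hφ']
  have h2 : ψ.comp φ = MonoidHom.id _ := by
    apply MonoidHom.eq_of_eqOn_dense (s := adjSwap n '' {i | i < n}) (coxSub_adjSwap n)
    rintro _ ⟨i, hi, rfl⟩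
    have := hφ' ⟨i, hi⟩
    have h' := hψ ⟨i, hi⟩
    simp only [MonoidHom.comp_apply, MonoidHom.id_apply]
    rw [this, h']
  refine ⟨⟨MonoidHom.toMulEquiv φ ψ h2 h1⟩, fun i => ?_⟩
  have := hψ i
  rw [adjSwap_eq i.2] at this
  exact this

end Cfsg.Agent.S2530
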