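import Cfsg.Statements.S2649
import Cfsg.Agent.Lib.Ext2.Coc

set_option autoImplicit false
open Cfsg

namespace Cfsg.Agent.S2649



/-- Extensions of the Mathieu group M₂₃ by its code module split. Let E be a finite group with a normal subgroup N, an isomorphism φ from E/N onto M₂₃ = `Spor.M23` (the stabiliser of the extra point `none` in M₂₄ acting on the 24 points `GolayPt`), and an injective additive homomorphism ψ from N onto the set of words of the binary Golay code `golayCode` that vanish at `none` (an 11-dimensional space over the field with two elements), such that conjugation by g ∈ E on N corresponds under ψ to the coordinate permutation w ↦ w ∘ σ⁻¹, σ the permutation φ(gN). Then N has a complement in E: some subgroup H meets N trivially and generates E together with N. (Equivalently, the second cohomology group of M₂₃ with coefficients in this module vanishes.) -/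
theorem result
    {E : Type*} [Group E] [Finite E] (N : Subgroup E) [hN : N.Normal]
    (φ : E ⧸ N ≃* ↥Cfsg.Spor.M23)
    (ψ : Additive ↥N →+ (Cfsg.GolayPt → ZMod 2)) (hinj : Function.Injective ψ)
    (hrange : ∀ w : Cfsg.GolayPt → ZMod 2, w ∈ Set.range ψ ↔ (w ∈ Cfsg.golayCode ∧ w none = 0))
    (hψ : ∀ (g : E) (n : ↥N),
      ψ (Additive.ofMul ⟨g * n * g⁻¹, hN.conj_mem n n.2 g⟩)
        = ψ (Additive.ofMul n) ∘ ⇑(((φ (QuotientGroup.mk g) : ↥Cfsg.Spor.M23) : Equiv.Perm Cfsg.GolayPt)⁻¹)) :
    ∃ H : Subgroup E, H ⊓ N = ⊥ ∧ H ⊔ N = ⊤ := by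
  classical
  have k := Lib.Ext2.ker_quoHom N φ
  have := Lib.Ext2.code_split (Lib.Ext2.range_quoHom N φ) (fun m => if h : m ∈ N then ψ (Additive.ofMul ⟨m, h⟩) else 0)
  rw [k] at this
  refine this (fun m hm m' hm' => ?_) (fun m hm m' hm' h => ?_) (fun w => ?_) fun g m hm => ?_
  · rw [dif_pos hm, dif_pos hm', dif_pos (N.mul_mem hm hm'), ← map_add]; rfl
  · simp only [dif_pos (show m ∈ N from hm), dif_pos (show m' ∈ N from hm')] at h
    exact congrArg Subtype.val (Additive.ofMul.injective (hinj h))
  · rw [← hrange]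
    exact ⟨fun ⟨m, hm, h⟩ => ⟨_, by rwa [dif_pos hm] at h⟩, fun ⟨m, h⟩ => ⟨m.toMul, m.toMul.2, by rwa [dif_pos m.toMul.2]⟩⟩
  · rw [dif_pos hm, dif_pos (hN.conj_mem m hm g)]
    exact hψ g ⟨m, hm⟩

end Cfsg.Agent.S2649
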