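import Cfsg.Statements.S2652
import Cfsg.Agent.Lib.Fi.M23Two

set_option autoImplicit false
open Cfsg

namespace Cfsg.Agent.S2652

open Cfsg.Lib Cfsg.Lib.Fi

/-- Let T be a Sylow 2-subgroup of the Fischer group Fi₂₃ (the finitely presented group `Spor.Fi23`; T has order 2¹⁸). Then every elementary abelian subgroup of Fi₂₃ contained in T and normal in T has order at most 2¹¹, and there is exactly one such subgroup of order 2¹¹. -/
theorem result
    (T : Sylow 2 Cfsg.Spor.Fi23) :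
    (∀ A : Subgroup Cfsg.Spor.Fi23, A ≤ T → (A.subgroupOf T).Normal → Cfsg.IsElementaryAbelian 2 A →
        Nat.card A ≤ 2 ^ 11) ∧
    ∃! A : Subgroup Cfsg.Spor.Fi23, A ≤ T ∧ (A.subgroupOf T).Normal ∧ Cfsg.IsElementaryAbelian 2 A ∧
        Nat.card A = 2 ^ 11 := by
  obtain ⟨τ, h⟩ := M23.exists_has
  have := h.fin
  obtain ⟨τ, h, e⟩ := h.std_sylow (M23.pcc2 h) (m := 15600091832325) (by decide) (by decide) T
  have P := M23.pcc2 h
  have k := maxIn_eq_of (d := 11) (m := 7) h.snd P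
    ((pcR_of h.snd M23.p2_rel).elem P (by decide) (by decide +kernel) (by decide +kernel)) M23.j2_ok (by decide)
    (by decide +kernel) M23.off2
  have c := P.card_eq (i := 11) (by decide)
  obtain ⟨a1, a2, a3⟩ := k.ge rfl
  rw [e]
  refine ⟨fun A h1 _ h2 => c ▸ a3 A h1 h2, _, ⟨a1, (Subgroup.normal_subgroupOf_iff_le_normalizer a1).2 (P.le_nrm 11), a2, c⟩,
    fun A ⟨h1, _, h2, h3⟩ => k.le ⟨h1, h2, fun B b1 b2 => (a3 B b1 b2).trans (c.trans h3.symm).le⟩⟩

end Cfsg.Agent.S2652
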