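import Cfsg.Statements.S3028
import Cfsg.Agent.Lib.Core.Subnormal
import Cfsg.Agent.Lib.Core.PiSeparable
import Cfsg.Agent.Lib.Comp.GenFitting
import Cfsg.Agent.Lib.Comp.Layer
import Cfsg.Agent.Lib.Loc.Residual

set_option autoImplicit false
open Cfsg

namespace Cfsg.Agent.S3028

open Cfsg.Lib Cfsg.Lib.Core Cfsg.Lib.Comp Cfsg.Lib.Transfer Subgroup

universe u

variable {G : Type*} [Group G] {G' : Type*} [Group G'] {p : ℕ} [Fact p.Prime]

theorem syl [Finite G] {S B : Subgroup G} (hi : ¬ p ∣ S.index) (hB : B.IsSubnormal) :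
    ¬ p ∣ (B ⊓ S).relIndex B := by
  rw [inf_relIndex_left]
  exact (subnormalIn_top.2 hB).not_dvd_relIndex (by rwa [relIndex_top_right])

theorem img [Finite G] [Finite G'] (f : G →* G') {S B : Subgroup G} (hS : IsPGroup p S)
    (hi : ¬ p ∣ S.index) (hB : B.IsSubnormal) : (B ⊓ S).map f = B.map f ⊓ S.map f :=
  eq_of_not_dvd_relIndex_of_le (H := B.map f)
    (fun h => syl hi hB (h.trans (relIndex_map_dvd f _ _))) ((hS.map f).to_le inf_le_right)
    inf_le_left (map_inf_le _ _ f)

theorem ded {N S T : Subgroup G} [N.Normal] (hT : T ≤ S) : (N ⊔ T) ⊓ S ≤ (N ⊓ S) ⊔ T := by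
  rintro x ⟨h1, h2⟩
  obtain ⟨n, hn, t, ht, rfl⟩ := exists_mul_of_mem_sup le_normalizer_of_normal h1
  exact mul_mem (mem_sup_left ⟨hn, by simpa using S.mul_mem h2 (S.inv_mem (hT ht))⟩) (mem_sup_right ht)

/-- the case of a normal subgroup -/
theorem nrm [Finite G] {S N B : Subgroup G} [N.Normal] (hS : IsPGroup p S) (hi : ¬ p ∣ S.index)
    (hB : B.IsSubnormal) : (N ⊔ B) ⊓ S ≤ (N ⊓ S) ⊔ (B ⊓ S) := by
  refine le_trans (le_inf ?_ inf_le_right) (ded inf_le_right)
  have h1 := map_inf_le (N ⊔ B) S (QuotientGroup.mk' N)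
  rw [Subgroup.map_sup, (Subgroup.map_eq_bot_iff _).2 (QuotientGroup.ker_mk' N).ge, bot_sup_eq,
    ← img _ hS hi hB, map_le_iff_le_comap, comap_map_eq, QuotientGroup.ker_mk', sup_comm _ N] at h1
  exact h1

/-- two commuting subnormal subgroups -/
theorem nrm' [Finite G] {S A B : Subgroup G} (hS : IsPGroup p S) (hi : ¬ p ∣ S.index)
    (hA : A.IsSubnormal) (hB : B.IsSubnormal) (h : B ≤ normalizer (A : Set G)) :
    (A ⊔ B) ⊓ S ≤ (A ⊓ S) ⊔ (B ⊓ S) := by
  set J := A ⊔ B
  haveI : (A.subgroupOf J).Normal :=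
    (normal_subgroupOf_iff_le_normalizer le_sup_left).2 (sup_le le_normalizer h)
  have h1 := nrm (N := A.subgroupOf J) (S := S.subgroupOf J) (B := B.subgroupOf J)
    (hS.comap_subtype) ((subnormalIn_top.2 (isSubnormal_sup hA hB)).not_dvd_relIndex
      (by rwa [relIndex_top_right])) (hB.comap _)
  rw [← subgroupOf_sup le_sup_left le_sup_right, subgroupOf_self, top_inf_eq] at h1
  have h2 := map_mono (f := J.subtype) h1
  rw [subgroupOf_map_subtype, Subgroup.map_sup, inf_comm] at h2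
  refine h2.trans (sup_le_sup ?_ ?_) <;> exact map_le_iff_le_comap.2 fun x hx => hx

theorem main (n : ℕ) : ∀ (G : Type u) [Group G] [Finite G], Nat.card G ≤ n → ∀ S A B : Subgroup G,
    IsPGroup p S → ¬ p ∣ S.index → A.IsSubnormal → B.IsSubnormal → A ⊔ B = ⊤ →
    S ≤ (A ⊓ S) ⊔ (B ⊓ S) := by
  induction n with
  | zero => intro G _ _ h; exact absurd h (by have := Nat.card_pos (α := G); omega)
  | succ n ih =>
  intro G _ _ hn S A B hS hi hA hB hAB
  set T := (A ⊓ S) ⊔ (B ⊓ S)
  have hT : T ≤ S := sup_le inf_le_right inf_le_right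
  by_contra hc
  have red : ∀ N : Subgroup G, N.Normal → N ⊓ S ≤ T → N = ⊥ := fun N hN h => by
    by_contra h0
    have hf := QuotientGroup.mk'_surjective N
    have h1 := ih (G ⧸ N) (by
      have := card_eq_card_quotient_mul_card_subgroup N
      have h2 : 1 < Nat.card N := (one_lt_card_iff_ne_bot N).2 h0
      have h3 : 0 < Nat.card (G ⧸ N) := Nat.card_pos
      nlinarith) (S.map (QuotientGroup.mk' N)) _ _ (hS.map _)
      (fun h => hi (h.trans (index_map_dvd S hf))) (hA.map hf) (hB.map hf)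
      (by rw [← Subgroup.map_sup, hAB, map_top_of_surjective _ hf])
    rw [← img _ hS hi hA, ← img _ hS hi hB, ← Subgroup.map_sup, map_le_iff_le_comap, comap_map_eq,
      QuotientGroup.ker_mk', sup_comm] at h1
    exact hc ((le_inf h1 le_rfl).trans ((ded hT).trans (sup_le h le_rfl)))
  have hO : pPrimeCore p G = ⊥ :=
    red _ inferInstance (by rw [inf_comm, inf_pPrimeCore_eq_bot hS]; exact bot_le)
  have hE : layer G = ⊥ := by
    refine red _ inferInstance ?_
    have h1 : ∀ K ∈ {K : Subgroup G | IsComponent K ∧ K ≤ A}, IsComponent K := fun _ h => h.1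
    have h2 : ∀ K ∈ {K : Subgroup G | IsComponent K ∧ ¬ K ≤ A}, IsComponent K := fun _ h => h.1
    rw [layer_eq_sSup_sup_sSup (· ≤ A)]
    refine (nrm' hS hi (isSubnormal_sSup_components h1) (isSubnormal_sSup_components h2)
      ((sSup_le_layer h2).trans (layer_le_normalizer_sSup h1))).trans (sup_le_sup
        (inf_le_inf_right _ (sSup_le fun K hK => hK.2)) (inf_le_inf_right _ (sSup_le fun K hK => ?_)))
    refine (isComponent_le_or_commutator_eq_bot hK.1 hB).resolve_right fun h => ?_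
    have h3 := commutator_sup_eq_bot_right
      ((isComponent_le_or_commutator_eq_bot hK.1 hA).resolve_left hK.2) h
    rw [hAB] at h3
    exact isComponent_ne_bot hK.1 (by
      rw [← isComponent_commutator_self hK.1, eq_bot_iff, ← h3]; exact commutator_mono le_rfl le_top)
  have hC := centralizer_pCore_le_iff_layer.2 ⟨hE, hO⟩
  obtain ⟨P, rfl⟩ := exists_sylow_eq_iff.2 ⟨hS, hi⟩
  have hQ : ∀ {X : Subgroup G}, X.IsSubnormal → X ⊓ P ≤ T →
      ⁅pCore p G, pResidualOf p X⁆ ≤ pCore p G ⊓ T := fun {X} hX h => by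
    have h1 := Loc.core_le_normalizer_res (p := p) le_top (isSubnormal_subgroupOf_top_iff.2 hX)
    rw [pCoreOf_def, pCoreOf_top] at h1
    have h2 := commutator_le_inf_of_normalizer (H := pCore p G) le_normalizer_of_normal le_rfl h1
    exact le_inf (h2.trans inf_le_left) (le_trans (h2.trans (le_inf
      (inf_le_right.trans (map_subtype_le _)) (inf_le_left.trans (pCore_le_sylow P)))) h)
  have hN : ∀ {X : Subgroup G}, X.IsSubnormal → X ⊓ P ≤ T →
      X ≤ normalizer ((pCore p G ⊓ T : Subgroup G) : Set G) := fun {X} hX h => by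
    rw [← map_pResidual_sup_eq inf_le_left (syl hi hX)]
    refine sup_le ?_ (h.trans (le_normalizer_inf le_normalizer_of_normal le_normalizer))
    exact le_normalizer_iff_commutator_le_left.2 (by
      exact (commutator_mono inf_le_left le_rfl).trans (hQ hX h))
  have h0 : pCore p G ⊓ T = ⊥ := red _ (normal_of_top_le_normalizer (hAB ▸ sup_le
    (hN hA le_sup_left) (hN hB le_sup_right))) (inf_le_left.trans inf_le_right)
  have hX : ∀ {X : Subgroup G}, X.IsSubnormal → X ⊓ P ≤ T → X ≤ T := fun {X} hX h => by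
    have h1 := hQ hX h
    rw [h0, le_bot_iff, commutator_comm, commutator_eq_bot_iff_le_centralizer] at h1
    rw [← map_pResidual_sup_eq inf_le_left (syl hi hX)]
    exact sup_le ((le_inf (map_subtype_le _) (h1.trans (hC.trans (pCore_le_sylow P)))).trans h) h
  exact hc (le_top.trans (hAB.ge.trans (sup_le (hX hA le_sup_left) (hX hB le_sup_right))))

theorem result {G : Type*} [Group G] [Finite G] {p : ℕ} [Fact p.Prime] (S : Sylow p G) (A₁ A₂ : Subgroup G)
    (h₁ : A₁.IsSubnormal) (h₂ : A₂.IsSubnormal) :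
    (A₁ ⊔ A₂) ⊓ (S : Subgroup G) = (A₁ ⊓ (S : Subgroup G)) ⊔ (A₂ ⊓ (S : Subgroup G)) := by
  refine le_antisymm ?_ (sup_le (inf_le_inf_right _ le_sup_left) (inf_le_inf_right _ le_sup_right))
  set J := A₁ ⊔ A₂
  have h1 := main (p := p) _ J le_rfl ((S : Subgroup G).subgroupOf J) (A₁.subgroupOf J)
    (A₂.subgroupOf J) S.isPGroup'.comap_subtype
    ((subnormalIn_top.2 (isSubnormal_sup h₁ h₂)).not_dvd_relIndex
      (by rw [relIndex_top_right]; exact S.not_dvd_index)) (h₁.comap _) (h₂.comap _)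
    (by rw [← subgroupOf_sup le_sup_left le_sup_right, subgroupOf_self])
  have h2 := map_mono (f := J.subtype) h1
  rw [subgroupOf_map_subtype, Subgroup.map_sup, inf_comm] at h2
  refine h2.trans (sup_le_sup ?_ ?_) <;> exact map_le_iff_le_comap.2 fun x hx => hx

end Cfsg.Agent.S3028
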