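import Cfsg.Statements.S2806
import Cfsg.Agent.S3028
import Cfsg.Agent.Lib.Loc.Kieler
import Cfsg.Agent.Lib.Loc.StronglyEmbeddedRank

set_option autoImplicit false
open Cfsg

namespace Cfsg.Agent.S2806

open Subgroup Cfsg.Lib.Core Cfsg.Lib.Loc Cfsg.Lib.Transfer

variable {G : Type*} [Group G] [Finite G] {p : ℕ} [hp : Fact p.Prime]

theorem chp (hG : IsOfLocalCharacteristic p G) {T : Subgroup G} (hT : IsPGroup p T) (h : T ≠ ⊥) :
    IsChP p (normalizer (omegaOneCenter p T : Set G)) :=
  isChP_iff.2 (hG.2 _ (hT.to_le (oz_le T)) (oz_ne_bot hT h))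

theorem kieler_local (hG : IsOfLocalCharacteristic p G) (T : Sylow p G) {L : Subgroup G}
    (hL : L.IsSubnormal) (h0 : (T : Subgroup G) ⊓ L ≠ ⊥) :
    L ⊓ centralizer (omegaOneCenter p ((T : Subgroup G) ⊓ L) : Set G) =
      L ⊓ centralizer (omegaOneCenter p (T : Subgroup G) : Set G) := by
  refine le_antisymm (le_inf inf_le_left ?_) ?_
  · refine (subnormalIn_top.2 hL).head_induction (P := fun L => (T : Subgroup G) ⊓ L ≠ ⊥ →
      L ⊓ centralizer (omegaOneCenter p ((T : Subgroup G) ⊓ L) : Set G) ≤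
        centralizer (omegaOneCenter p (T : Subgroup G) : Set G)) (fun _ => by simp)
      (fun B C _ hBC hn hC ih h0 => ?_) h0
    have h1 : (T : Subgroup G) ⊓ C ≤ normalizer (omegaOneCenter p ((T : Subgroup G) ⊓ B) : Set G) :=
      ((inf_le_inf le_normalizer hn).trans inf_normalizer_le_normalizer_inf).trans
        (normalizer_le_normalizer_oz _)
    set N := normalizer (omegaOneCenter p ((T : Subgroup G) ⊓ B) : Set G)
    have h2 : IsChP p (C ⊓ N) :=
      (chp hG (T.isPGroup'.to_inf_left) h0).subnormal (hC.inf_of_le le_top)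
    have h3 := inf_centralizer_oz_inf_le h2
      ((SubnormalIn.of_le_normalizer hBC hn).inf_right N) (le_inf inf_le_right h1) fun e =>
        not_dvd_relIndex_of_isSubnormal T.not_dvd_index (subnormalIn_top.1 hC) (by
          rw [← inf_relIndex_right, ← relIndex_mul_relIndex _ _ C (le_inf inf_le_right h1)
            inf_le_left]
          exact e.mul_right _)
    rw [show (T : Subgroup G) ⊓ C ⊓ (B ⊓ N) = (T : Subgroup G) ⊓ B from le_antisymm
      (inf_le_inf inf_le_left inf_le_left) (le_inf (inf_le_inf_left _ hBC)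
        (le_inf inf_le_right ((inf_le_inf_left _ hBC).trans h1)))] at h3
    refine le_trans (le_inf (inf_le_left.trans hBC) (le_trans ?_ h3))
      (ih fun e => h0 (le_bot_iff.1 ((inf_le_inf_left _ hBC).trans e.le)))
    exact le_inf (inf_le_inf_left _ (centralizer_le_normalizer _)) inf_le_right
  · have h1 : (T : Subgroup G) ≤ normalizer (omegaOneCenter p (T : Subgroup G) : Set G) :=
      le_normalizer.trans (normalizer_le_normalizer_oz _)
    have h2 := kieler (chp hG T.isPGroup' fun e => h0 (by simp [e]))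
      ((subnormalIn_top.2 hL).inf_of_le le_top) h1 T.isPGroup' (sylow_not_dvd_relIndex T h1)
    rw [inf_comm L, ← inf_assoc, inf_eq_left.2 h1] at h2
    refine le_inf inf_le_left (le_trans ?_ (h2.le.trans inf_le_right))
    exact le_inf (le_inf (inf_le_right.trans (centralizer_le_normalizer _)) inf_le_left) inf_le_right

theorem ps_eq (hG : IsOfLocalCharacteristic p G) (T : Sylow p G) {L : Subgroup G}
    (hL : L.IsSubnormal) : pointStabilizer p L ((T : Subgroup G) ⊓ L) =
      pElementClosure p (L ⊓ centralizer (omegaOneCenter p (T : Subgroup G) : Set G)) := by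
  change pElementClosure p (L ⊓ centralizer (omegaOneCenter p ((T : Subgroup G) ⊓ L) : Set G)) = _
  by_cases h0 : (T : Subgroup G) ⊓ L = ⊥
  · have := pel_le_of_sylowIn (N := ⊥) (not_dvd_relIndex_of_isSubnormal T.not_dvd_index hL)
      le_normalizer_of_normal h0.le
    rw [le_bot_iff.1 ((pel_mono inf_le_left).trans this),
      le_bot_iff.1 ((pel_mono inf_le_left).trans this)]
  · rw [kieler_local hG T hL h0]

/-- Let H be a finite group of local characteristic p, T a Sylow p-subgroup, and L₁, L₂ subnormal subgroups of H generating the subgroup L. Then the point stabilizer of L with respect to T ∩ L is generated by the point stabilizers of L₁ and L₂ with respect to T ∩ L₁ and T ∩ L₂ (point stabilizer of X w.r.t. R: the subgroup generated by the p-elements of X centralizing Ω₁(Z(R))). -/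
theorem result {H : Type*} [Group H] [Finite H] {p : ℕ} [Fact p.Prime] (hH : Cfsg.IsOfLocalCharacteristic p H) (T : Sylow p H) (L₁ L₂ : Subgroup H) (h₁ : L₁.IsSubnormal) (h₂ : L₂.IsSubnormal) : Cfsg.pointStabilizer p (L₁ ⊔ L₂) ((T : Subgroup H) ⊓ (L₁ ⊔ L₂)) = Cfsg.pointStabilizer p L₁ ((T : Subgroup H) ⊓ L₁) ⊔ Cfsg.pointStabilizer p L₂ ((T : Subgroup H) ⊓ L₂) := by
  rw [ps_eq hH T h₁, ps_eq hH T h₂, ps_eq hH T (isSubnormal_sup h₁ h₂)]
  refine le_antisymm (pel_le_iff.2 fun P hP hP' => ?_)
    (sup_le (pel_mono (inf_le_inf_right _ le_sup_left)) (pel_mono (inf_le_inf_right _ le_sup_right)))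
  obtain ⟨c, hc, h⟩ := exists_conj_le_of_not_dvd_relIndex T.isPGroup'
    (sylow_not_dvd_relIndex T (le_centralizer_oz _)) hP' (hP.trans inf_le_right)
  have h1 : P ≤ (c⁻¹ • T : Sylow p H) := fun x hx => by
    rw [Sylow.coe_subgroup_smul, mem_pointwise_smul_iff_inv_smul_mem]
    simpa using h ⟨x, hx, rfl⟩
  have h2 : ((c⁻¹ • T : Sylow p H) : Subgroup H) ≤
      centralizer (omegaOneCenter p (T : Subgroup H) : Set H) := fun x hx => by
    rw [Sylow.coe_subgroup_smul, mem_pointwise_smul_iff_inv_smul_mem] at hx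
    have := mul_mem (mul_mem (inv_mem hc) (le_centralizer_oz _ hx)) hc
    simpa [mul_assoc] using this
  refine ((le_inf (hP.trans inf_le_left) h1).trans (S3028.result _ L₁ L₂ h₁ h₂).le).trans
    (sup_le_sup ?_ ?_) <;> exact le_pel (inf_le_inf_left _ h2) (Sylow.isPGroup' _).to_inf_right

end Cfsg.Agent.S2806
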