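import Cfsg.Statements.S2810
import Cfsg.Agent.Lib.Loc.Kieler
-- import your own Cfsg.Agent.* helpers here

set_option autoImplicit false
open Cfsg

namespace Cfsg.Agent.S2810

open Subgroup Cfsg.Lib Cfsg.Lib.Loc Cfsg.Lib.Core Cfsg.Lib.Transfer
open scoped commutatorElement

/-- Let H be a finite group of characteristic p and L a subgroup of H centralizing every factor of some H-invariant chain 1 = A₀ ≤ A₁ ≤ … ≤ Aₙ = O_p(H) of normal subgroups (that is, [A_{i+1}, L] ≤ Aᵢ for each i). Then L ≤ O_p(H). -/
theorem result {H : Type*} [Group H] [Finite H] {p : ℕ} [Fact p.Prime] (hchar : Subgroup.centralizer (Cfsg.pCore p H : Set H) ≤ Cfsg.pCore p H) (L : Subgroup H) (n : ℕ) (A : Fin (n + 1) → Subgroup H) (h0 : A 0 = ⊥) (hn : A (Fin.last n) = Cfsg.pCore p H) (hmono : Monotone A) (hnorm : ∀ i, (A i).Normal) (hcent : ∀ i : Fin n, ⁅A i.succ, L⁆ ≤ A i.castSucc) : L ≤ Cfsg.pCore p H := by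
  have hP : ∀ i, IsPGroup p (A i) := fun i =>
    (pCore_isPGroup p H).to_le (hn ▸ hmono (Fin.le_last i))
  have h := res_le_centralizer_of_chain (p := p) (L := normalClosure (L : Set H))
    (fun i => A ⟨n - i, by omega⟩) n (by simpa using h0) (fun i hi => by
      have := hnorm (⟨n - (i + 1), by omega⟩ : Fin n).castSucc
      have := hnorm (⟨n - (i + 1), by omega⟩ : Fin n).succ
      have h1 := hcent ⟨n - (i + 1), by omega⟩
      rw [commutator_comm] at h1
      have h2 := commutator_iSup_conj_le (A := ⊤) le_normalizer_of_normal le_normalizer_of_normal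
        le_normalizer_of_normal h1
      rw [iSup_conj_top, commutator_comm] at h2
      have e : (⟨n - i, by omega⟩ : Fin (n + 1)) = (⟨n - (i + 1), by omega⟩ : Fin n).succ := by
        simp only [Fin.succ_mk, Fin.mk.injEq]; omega
      rw [e]; exact h2) fun i _ => hP _
  have h3 : A ⟨n - 0, by omega⟩ = pCore p H := hn
  simp only [h3] at h
  exact le_normalClosure.trans (le_pCore inferInstance
    (isPGroup_of_res_le (pCore_isPGroup p H) (h.trans hchar)))

end Cfsg.Agent.S2810
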