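import Cfsg.Statements.S2813
import Cfsg.Agent.Lib.Loc.PClosed
-- import your own Cfsg.Agent.* helpers here

set_option autoImplicit false
open Cfsg

namespace Cfsg.Agent.S2813

open Subgroup Cfsg.Lib Cfsg.Lib.Loc Cfsg.Lib.Core Cfsg.Lib.Transfer
open scoped commutatorElement

/-- Let K be a subgroup of the finite group H with O_p(K) = 1 and Y a p-subgroup of N_H(K) with [K, Y, Y] = 1. Then [K, Y] = 1. -/
theorem result {H : Type*} [Group H] [Finite H] {p : ℕ} [Fact p.Prime] (K : Subgroup H) (hO : Cfsg.pCore p ↥K = ⊥) (Y : Subgroup H) (hY : IsPGroup p ↥Y) (hYK : Y ≤ Subgroup.normalizer (K : Set H)) (hq : ⁅⁅K, Y⁆, Y⁆ = ⊥) : ⁅K, Y⁆ = ⊥ := by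
  have hn : K ≤ normalizer ((Y ⊔ ⁅K, Y⁆ : Subgroup H) : Set H) := le_normalizer_sup_commutator K Y
  have h1 : Y ≤ pCoreOf p (Y ⊔ ⁅K, Y⁆) := le_core le_sup_left
    (sup_le le_normalizer (Comp.le_normalizer_of_commutator_eq_bot hq)) hY
  have h2 : ⁅K, Y⁆ ≤ pCoreOf p (Y ⊔ ⁅K, Y⁆) := (commutator_mono le_rfl h1).trans
    (le_normalizer_iff_commutator_le_right.1 (hn.trans (normalizer_le_normalizer_core p _)))
  rw [eq_bot_iff, ← core_eq_bot_iff.2 hO]
  exact le_core (le_normalizer_iff_commutator_le_left.1 hYK) (normalizer_commutator_ge_left _ _)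
    ((core_pgroup p _).to_le h2)

end Cfsg.Agent.S2813
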