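import Cfsg.Statements.S2814
import Cfsg.Agent.Lib.Loc.PClosed
-- import your own Cfsg.Agent.* helpers here

set_option autoImplicit false
open Cfsg

namespace Cfsg.Agent.S2814

open Subgroup Cfsg.Lib Cfsg.Lib.Loc Cfsg.Lib.Core Cfsg.Lib.Transfer
open scoped commutatorElement

/-- Let A be a subgroup of the finite group H and K the subnormal closure of A (intersection of the subnormal subgroups containing A). Then K is the normal closure of A inside K and N_H(A) ≤ N_H(K); K = A·O^p(K), O^p(K) being generated by the elements of K of order prime to p; and if A is a p-group, O^p(K) = [O^p(K), A]. -/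
theorem result {H : Type*} [Group H] [Finite H] {p : ℕ} [Fact p.Prime] (A : Subgroup H) (K : Subgroup H) (hK : K = Cfsg.subnormalClosure A) : (Subgroup.normalClosure ((A.subgroupOf K : Subgroup ↥K) : Set ↥K)).map K.subtype = K ∧ Subgroup.normalizer (A : Set H) ≤ Subgroup.normalizer (K : Set H) ∧ A ⊔ (Cfsg.pResidual p ↥K).map K.subtype = K ∧ (IsPGroup p ↥A → ⁅(Cfsg.pResidual p ↥K).map K.subtype, A⁆ = (Cfsg.pResidual p ↥K).map K.subtype) := by
  have hsn : K.IsSubnormal := hK ▸ isSubnormal_sInf fun _ h => h.2
  have hAK : A ≤ K := hK ▸ le_sInf fun _ h => h.1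
  have hmin : ∀ X, A ≤ X → SubnormalIn X K → X = K := fun X h1 h2 =>
    le_antisymm h2.le (hK ▸ sInf_le ⟨h1, h2.isSubnormal hsn⟩)
  have h3 : A ⊔ pResidualOf p K = K := by
    have hle := sup_le hAK (res_le p K)
    refine hmin _ le_sup_left ((isSubnormal_subgroupOf_iff hle).1 (isSubnormal_of_quotient_isNilpotent
      (N := pResidual p K) isPGroup_quotient_pResidual.isNilpotent ?_))
    rw [← res_subgroupOf_self]; exact subgroupOf_mono _ le_sup_right
  refine ⟨hmin _ ((le_map_subtype_iff hAK).2 le_normalClosure)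
    (.of_le_normalizer (map_subtype_le _) (le_normalizer_map_subtype _)), fun g hg => ?_, h3,
    fun hA => ?_⟩
  · refine mem_normalizer_of_conj_le (conj_le_iff_le_inv_conj.2 (hK ▸ sInf_le ⟨?_, ?_⟩))
    · rw [← conj_le_iff_le_inv_conj, conj_eq_self_iff.2 hg, ← hK]; exact hAK
    · rw [← hK]; exact hsn.map (MulAut.conj g⁻¹).surjective
  · have hle : ⁅pResidualOf p K, A⁆ ≤ pResidualOf p K :=
      le_normalizer_iff_commutator_le_left.1 (hAK.trans (le_normalizer_res p K))
    have h4 := hmin (A ⊔ ⁅pResidualOf p K, A⁆) le_sup_left (.of_le_normalizer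
      (sup_le hAK (hle.trans (res_le p K))) (h3.ge.trans (sup_le (le_normalizer_of_le le_sup_left)
        (le_normalizer_sup_commutator _ _))))
    exact le_antisymm hle (res_le_of_le_sup hA (normalizer_commutator_ge_right _ _) h4.ge)

end Cfsg.Agent.S2814
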