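import Cfsg.Statements.S2815
import Cfsg.Agent.Lib.Loc.PClosed
-- import your own Cfsg.Agent.* helpers here

set_option autoImplicit false
open Cfsg

namespace Cfsg.Agent.S2815

open Subgroup Cfsg.Lib Cfsg.Lib.Loc Cfsg.Lib.Core Cfsg.Lib.Transfer
open scoped commutatorElement

/-- Let H be a finite group and p a prime dividing its order with O_p(H) = 1, and suppose K = O^p(H) (generated by the elements of order prime to p) is quasisimple. Then K = F*(H); for every nontrivial p-subgroup Y of H, K = [K, Y] and K lies in the subgroup generated by the K-conjugates of Y; every normal subgroup of H not containing K has order prime to p; and H is p-irreducible. -/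
theorem result {H : Type*} [Group H] [Finite H] {p : ℕ} [Fact p.Prime] (hp : p ∣ Nat.card H) (hO : Cfsg.pCore p H = ⊥) (hq : Cfsg.IsQuasisimple ↥(Cfsg.pResidual p H)) : Cfsg.pResidual p H = Cfsg.generalizedFittingSubgroup H ∧ (∀ Y : Subgroup H, IsPGroup p ↥Y → Y ≠ ⊥ → ⁅Cfsg.pResidual p H, Y⁆ = Cfsg.pResidual p H ∧ Cfsg.pResidual p H ≤ ⨆ k : ↥(Cfsg.pResidual p H), Y.map (MulAut.conj (k : H)).toMonoidHom) ∧ (∀ C : Subgroup H, C.Normal → ¬ Cfsg.pResidual p H ≤ C → (Nat.card ↥C).Coprime p) ∧ Cfsg.IsPIrreducible p H := by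
  have hperf := Comp.qs_commutator_self hq
  have h1 : pResidual p H = generalizedFittingSubgroup H := by
    refine le_antisymm ((Comp.le_layer ⟨Normal.isSubnormal inferInstance, hq⟩).trans
      Comp.layer_le_genFitting) ?_
    rw [Comp.genFitting_def, ← res_top]
    exact sup_le (le_res_of_perfect Comp.commutator_layer_self le_top) (le_res_of_coprime le_top
      (coprime_of_le (fittingSubgroup_le_pPrimeCore hO) (pPrimeCore_coprime p H)))
  have h3 : ∀ C : Subgroup H, C.Normal → ¬ pResidual p H ≤ C → (Nat.card C).Coprime p := by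
    intro C _ hC
    have h4 := (Comp.qs_le_or_inf_le_centralizer hq le_normalizer_of_normal).resolve_left hC
    have h5 := Comp.le_centralizer_of_perfect_of_commutator_le hperf
      ((commutator_le_inf _ C).trans h4)
    rw [h1] at h5
    exact coprime_of_le ((h5.trans Comp.centralizer_genFitting_le_fitting).trans
      (fittingSubgroup_le_pPrimeCore hO)) (pPrimeCore_coprime p H)
  refine ⟨h1, fun Y hY hY1 => ?_, h3, fun hc => ?_, fun N hN hc => ?_⟩
  · have h4 : ⁅pResidual p H, Y⁆ = pResidual p H :=
      (Comp.qs_commutator_eq_self_or hq le_normalizer_of_normal).resolve_right fun h => hY1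
        (eq_bot_of_le_centralizer_genFitting hO hY (h1 ▸ le_centralizer_iff.1
          (commutator_eq_bot_iff_le_centralizer.1 h)))
    refine ⟨h4, le_trans ?_ (iSup_conj_eq_sup_commutator Y _).ge⟩
    rw [commutator_comm, h4]; exact le_sup_right
  · obtain ⟨T⟩ := (inferInstance : Nonempty (Sylow p H))
    exact T.ne_bot_of_dvd_card hp (le_bot_iff.1 (hO ▸ isPClosed_iff_top.1 hc _ T.isPGroup'))
  · by_contra hn
    exact hc (isPClosed_of_coprime (h3 N hN hn))

end Cfsg.Agent.S2815
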