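import Cfsg.Statements.S2816
import Cfsg.Agent.Lib.Loc.PClosed
-- import your own Cfsg.Agent.* helpers here

set_option autoImplicit false
open Cfsg

namespace Cfsg.Agent.S2816

open Subgroup Cfsg.Lib Cfsg.Lib.Loc Cfsg.Lib.Core Cfsg.Lib.Transfer
open scoped commutatorElement

/-- Let H be a finite group and p a prime with O_p(H) = 1, and Y a p-subgroup of H. Then for every subnormal subgroup K of H containing Y, [F*(H), Y] = [F*(K), Y] = [F*(K), Y, Y]; and if Y₀ ≤ Y with [F*(H), Y, Y₀] = 1 then Y₀ = 1 (in particular [F*(H), Y] = 1 forces Y = 1). -/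
theorem result {H : Type*} [Group H] [Finite H] {p : ℕ} [Fact p.Prime] (hO : Cfsg.pCore p H = ⊥) (Y : Subgroup H) (hY : IsPGroup p ↥Y) : (∀ K : Subgroup H, K.IsSubnormal → Y ≤ K → ⁅Cfsg.generalizedFittingSubgroup H, Y⁆ = ⁅(Cfsg.generalizedFittingSubgroup ↥K).map K.subtype, Y⁆ ∧ ⁅(Cfsg.generalizedFittingSubgroup ↥K).map K.subtype, Y⁆ = ⁅⁅(Cfsg.generalizedFittingSubgroup ↥K).map K.subtype, Y⁆, Y⁆) ∧ (∀ Y₀ : Subgroup H, Y₀ ≤ Y → ⁅⁅Cfsg.generalizedFittingSubgroup H, Y⁆, Y₀⁆ = ⊥ → Y₀ = ⊥) := by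
  have h := commutator_sup_centralizer_genFitting hO (Normal.isSubnormal inferInstance) le_rfl hY
    le_normalizer_of_normal
  have h' := commutator_commutator_eq_of_sup h
  refine ⟨fun K hK hYK => ?_, fun Y₀ hY₀ hc => eq_bot_of_le_centralizer_genFitting hO (hY.to_le hY₀) ?_⟩
  · rw [Comp.map_genFitting_eq_inf_of_isSubnormal hK]
    obtain ⟨m, hm⟩ := (subnormalIn_top.2 hK).exists_iterate_commutator_le
    have h1 : ∀ m, ⁅generalizedFittingSubgroup H, Y⁆ ≤ (fun X : Subgroup H => ⁅X, K⁆)^[m] ⊤ := by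
      intro m
      induction m with
      | zero => exact le_top
      | succ m ih => rw [Function.iterate_succ_apply', ← h']; exact commutator_mono ih hYK
    have h2 : ⁅generalizedFittingSubgroup H, Y⁆ = ⁅generalizedFittingSubgroup H ⊓ K, Y⁆ :=
      le_antisymm (h'.ge.trans (commutator_mono (le_inf (commutator_le_left _ _) ((h1 m).trans hm))
        le_rfl)) (commutator_mono inf_le_left le_rfl)
    exact ⟨h2, by rw [← h2, h']⟩
  · rw [← h, Core.centralizer_sup]
    exact le_inf (le_centralizer_iff.1 (commutator_eq_bot_iff_le_centralizer.1 hc))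
      (hY₀.trans (le_centralizer_iff.1 inf_le_right))

end Cfsg.Agent.S2816
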