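import Cfsg.Statements.S2817
import Cfsg.Agent.Lib.Loc.PClosed
-- import your own Cfsg.Agent.* helpers here

set_option autoImplicit false
open Cfsg

namespace Cfsg.Agent.S2817

open Subgroup Cfsg.Lib Cfsg.Lib.Loc Cfsg.Lib.Core Cfsg.Lib.Transfer
open scoped commutatorElement

/-- Let H be a finite group and p a prime with O_p(H) = 1, Q a p-subgroup of H, L = [F*(H), Q], and F the largest normal subgroup of F*(H) centralized by Q (a normal subgroup of F*(H) centralized by Q and containing every such). Then F = C_{F*(H)}(LQ); L = [L, Q]; L ∩ F ≤ Φ(L); every p-subgroup B of N_H(Q) with [L, B] ≤ F satisfies [L, B] = 1; and C_H(FL) has order prime to p. -/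
theorem result {H : Type*} [Group H] [Finite H] {p : ℕ} [Fact p.Prime] (hO : Cfsg.pCore p H = ⊥) (Q : Subgroup H) (hQ : IsPGroup p ↥Q) (L : Subgroup H) (hL : L = ⁅Cfsg.generalizedFittingSubgroup H, Q⁆) (F : Subgroup H) (hF : F ≤ Cfsg.generalizedFittingSubgroup H ∧ Cfsg.generalizedFittingSubgroup H ≤ Subgroup.normalizer (F : Set H) ∧ Q ≤ Subgroup.centralizer (F : Set H) ∧ ∀ N : Subgroup H, N ≤ Cfsg.generalizedFittingSubgroup H → Cfsg.generalizedFittingSubgroup H ≤ Subgroup.normalizer (N : Set H) → Q ≤ Subgroup.centralizer (N : Set H) → N ≤ F) : F = Cfsg.generalizedFittingSubgroup H ⊓ Subgroup.centralizer ((L ⊔ Q : Subgroup H) : Set H) ∧ ⁅L, Q⁆ = L ∧ L ⊓ F ≤ (frattini ↥L).map L.subtype ∧ (∀ B : Subgroup H, IsPGroup p ↥B → B ≤ Subgroup.normalizer (Q : Set H) → ⁅L, B⁆ ≤ F → ⁅L, B⁆ = ⊥) ∧ (Nat.card ↥(Subgroup.centralizer ((F ⊔ L : Subgroup H) : Set H))).Coprime p := by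
  obtain ⟨hF1, hF2, hF3, hF4⟩ := hF
  set E := generalizedFittingSubgroup H
  have hE : ∀ Y : Subgroup H, IsPGroup p Y → ⁅E, Y⁆ ⊔ (E ⊓ centralizer (Y : Set H)) = E := fun Y hY =>
    commutator_sup_centralizer_genFitting hO (Normal.isSubnormal inferInstance) le_rfl hY
      le_normalizer_of_normal
  have hLE : L ≤ E := hL ▸ commutator_le_left _ _
  have hEL : E ≤ normalizer (L : Set H) := hL ▸ normalizer_commutator_ge_left _ _
  have hLQ : ⁅L, Q⁆ = L := hL ▸ commutator_commutator_eq_of_sup (hE Q hQ)
  have hn : E ≤ normalizer ((L ⊔ Q : Subgroup H) : Set H) := by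
    rw [hL, sup_comm]; exact le_normalizer_sup_commutator _ _
  have hLF : L ≤ centralizer (F : Set H) := hL ▸ (commutator_mono le_rfl hF3).trans
    (le_normalizer_iff_commutator_le_right.1 (le_normalizer_centralizer hF2))
  have hsn : ∀ X ≤ E, E ≤ normalizer (X : Set H) → X.IsSubnormal := fun X h1 h2 =>
    (SubnormalIn.of_le_normalizer h1 h2).isSubnormal (Normal.isSubnormal inferInstance)
  have h1 : F = E ⊓ centralizer ((L ⊔ Q : Subgroup H) : Set H) :=
    le_antisymm (le_inf hF1 (le_centralizer_iff.1 (sup_le hLF hF3))) (hF4 _ inf_le_left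
      (le_normalizer_inf le_normalizer (le_normalizer_centralizer hn))
      (le_centralizer_iff.1 (inf_le_right.trans (centralizer_le (le_sup_right : Q ≤ L ⊔ Q)))))
  have hQL : Q ≤ normalizer (L : Set H) := hL ▸ normalizer_commutator_ge_right _ _
  have h3 : L ⊓ F ≤ (frattini L).map L.subtype := by
    have hcore : pCoreOf p (L ⊔ Q) = ⊥ := by
      refine eq_bot_of_le_centralizer_genFitting hO (core_pgroup p _) (le_centralizer_iff.1
        (le_centralizer_of_inf_eq_bot (hn.trans (normalizer_le_normalizer_core p _))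
          le_normalizer_of_normal ?_))
      rw [eq_bot_iff, ← hO]
      exact le_pCore_of_isSubnormal (hsn _ inf_le_left (le_normalizer_inf le_normalizer
        (hn.trans (normalizer_le_normalizer_core p _)))) ((core_pgroup p _).to_le inf_le_right)
    have hres : pResidualOf p (L ⊔ Q) = L := by
      rw [sup_comm, res_sup_of_isPGroup hQ hQL]
      exact res_eq_of_genFitting_eq_top (Comp.genFitting_eq_top_of_isSubnormal_of_le (hsn L hLE hEL) hLE)
        (core_eq_bot_of_subnormal (subnormalIn_top.2 (hsn L hLE hEL)) (core_top.trans hO))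
    have h4 := frattini_eq_map_frattini_res (core_eq_bot_iff.1 hcore)
    have h5 := map_mono (f := (L ⊔ Q).subtype) (center_inf_commutator_le_frattini.trans h4.le)
    rw [map_frattiniOf (L ⊔ Q).subtype_injective, Subgroup.map_inf _ _ _ (L ⊔ Q).subtype_injective,
      map_subtype_center, map_subtype_commutator] at h5
    have h6 : (pResidual p ↥(L ⊔ Q)).map (L ⊔ Q).subtype = L := hres
    rw [h6] at h5
    refine le_trans (le_inf (le_inf (inf_le_left.trans le_sup_left)
      (inf_le_right.trans (h1.le.trans inf_le_right))) ?_) h5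
    exact inf_le_left.trans (hLQ.ge.trans (commutator_mono le_sup_left le_sup_right))
  refine ⟨h1, hLQ, h3, fun B hB hBQ hc => ?_, ?_⟩
  · have hBL : B ≤ normalizer (L : Set H) :=
      hL ▸ le_normalizer_commutator le_normalizer_of_normal hBQ
    have h4 := commutator_sup_centralizer_genFitting hO (hsn L hLE hEL) hLE hB hBL
    have h5 := eq_of_le_sup_frattiniOf ((le_inf (le_normalizer_iff_commutator_le_left.1 hBL) hc).trans h3)
      inf_le_left h4.ge
    exact commutator_eq_bot_iff_le_centralizer.2 (h5.ge.trans inf_le_right)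
  · have hD : E ⊓ centralizer (L : Set H) ≤ F ⊔ L := by
      have hD1 : E ≤ normalizer ((E ⊓ centralizer (L : Set H) : Subgroup H) : Set H) :=
        le_normalizer_inf le_normalizer (le_normalizer_centralizer hEL)
      rw [← commutator_sup_centralizer_genFitting hO (hsn _ inf_le_left hD1) inf_le_left hQ
        (le_normalizer_inf le_normalizer_of_normal (le_normalizer_centralizer hQL)), sup_comm, h1,
        Core.centralizer_sup, inf_assoc]
      exact sup_le_sup_left ((commutator_mono inf_le_left le_rfl).trans hL.ge) _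
    obtain ⟨P, -, hP1, hP, hPi⟩ := exists_sylowIn_ge (p := p) (Q := ⊥) IsPGroup.of_bot
      (bot_le : ⊥ ≤ centralizer ((F ⊔ L : Subgroup H) : Set H))
    have h4 : ⁅E, P⁆ ≤ F ⊔ L := le_trans (le_inf (commutator_le_left _ _)
      (((commutator_mono le_rfl hP1).trans (le_normalizer_iff_commutator_le_right.1
        (le_normalizer_centralizer (le_normalizer_sup hF2 hEL)))).trans
        (centralizer_le (le_sup_right : L ≤ F ⊔ L)))) hD
    have h5 : P = ⊥ := eq_bot_of_le_centralizer_genFitting hO hP (le_centralizer_iff.1 ((hE P hP).ge.trans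
      (sup_le (h4.trans (le_centralizer_iff.1 hP1)) inf_le_right)))
    rw [h5, relIndex_bot_left] at hPi
    exact coprime_iff_not_dvd.2 hPi

end Cfsg.Agent.S2817
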