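import Cfsg.Statements.S2818
import Cfsg.Agent.Lib.Loc.Kieler
import Cfsg.Agent.Lib.PGroup.Frattini
-- import your own Cfsg.Agent.* helpers here

set_option autoImplicit false
open Cfsg

namespace Cfsg.Agent.S2818

open Subgroup Cfsg.Lib Cfsg.Lib.Loc Cfsg.Lib.Core Cfsg.Lib.Transfer
open scoped commutatorElement

/-- Let P be a finite p-subgroup of a group G and H a subgroup of N_G(P) with [P, H] ≤ Ω₁(Z(P)) (the elements of order dividing p in the centre of P). Then H centralizes the Frattini subgroup of P. -/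
theorem result {G : Type*} [Group G] [Finite G] {p : ℕ} [Fact p.Prime] (P : Subgroup G) (hP : IsPGroup p ↥P) (H : Subgroup G) (hH : H ≤ Subgroup.normalizer (P : Set G)) (h : ⁅P, H⁆ ≤ Cfsg.omegaOne p (P ⊓ Subgroup.centralizer (P : Set G))) : ⁅(frattini ↥P).map P.subtype, H⁆ = ⊥ := by
  have hc : ⁅P, H⁆ ≤ centralizer (P : Set G) := h.trans (oz_le_centralizer P)
  rw [commutator_eq_bot_iff_le_centralizer, PGroup.map_subtype_frattini_le_iff hP]
  refine ⟨commutator_eq_bot_iff_le_centralizer.1 (commutator_commutator_eq_bot_of_rotate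
    (commutator_eq_bot_iff_le_centralizer.2 hc) ?_), fun x hx y hy => ?_⟩
  · rw [commutator_comm H]; exact commutator_eq_bot_iff_le_centralizer.2 hc
  · have h1 := mem_oz.1 (h (commutator_mem_commutator hx hy))
    have h2 : Commute ⁅x, y⁆⁻¹ x := (show Commute ⁅x, y⁆ x from (h1.1.2 x hx).symm).inv_left
    have h3 : y * x * y⁻¹ = ⁅x, y⁆⁻¹ * x := by simp only [commutatorElement_def]; group
    rw [← mul_inv_eq_iff_eq_mul, ← conj_pow, h3, h2.mul_pow, inv_pow, h1.2, inv_one, one_mul]

end Cfsg.Agent.S2818
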