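import Cfsg.Statements.S2819
import Cfsg.Agent.Lib.Loc.Kieler
import Cfsg.Agent.Lib.PGroup.Frattini
-- import your own Cfsg.Agent.* helpers here

set_option autoImplicit false
open Cfsg

namespace Cfsg.Agent.S2819

open Subgroup Cfsg.Lib Cfsg.Lib.Loc Cfsg.Lib.Core Cfsg.Lib.Transfer
open scoped commutatorElement

/-- Let P be a finite p-subgroup of a group G, H a subgroup of N_G(P), and Y a subgroup of H centralizing the derived subgroup P' such that [P, Y] is elementary abelian. Then O^p(⟨Y^H⟩), the subgroup of the normal closure of Y in H generated by its elements of order prime to p, centralizes the Frattini subgroup of P. -/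
theorem result {G : Type*} [Group G] [Finite G] {p : ℕ} [Fact p.Prime] (P : Subgroup G) (hP : IsPGroup p ↥P) (H : Subgroup G) (hH : H ≤ Subgroup.normalizer (P : Set G)) (Y : Subgroup G) (hYH : Y ≤ H) (hYc : Y ≤ Subgroup.centralizer ((⁅P, P⁆ : Subgroup G) : Set G)) (hel : Cfsg.IsElementaryAbelian p ⁅P, Y⁆) (NY : Subgroup G) (hNY : NY = (Subgroup.normalClosure ((Y.subgroupOf H : Subgroup ↥H) : Set ↥H)).map H.subtype) : (Cfsg.pResidual p ↥NY).map NY.subtype ≤ Subgroup.centralizer (((frattini ↥P).map P.subtype : Subgroup G) : Set G) := by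
  rw [map_subtype_normalClosure_subgroupOf hYH] at hNY
  have hPP : H ≤ normalizer ((⁅P, P⁆ : Subgroup G) : Set G) := le_normalizer_commutator hH hH
  have h1 : (frattini P).map P.subtype ≤ relCent Y ⁅P, P⁆ := by
    rw [PGroup.map_subtype_frattini_le_iff hP]
    refine ⟨le_relCent.2 ⟨le_normalizer, ?_⟩, fun x hx => ⟨normalizer_commutator_ge_left _ _
      (pow_mem hx p), fun y hy => ?_⟩⟩
    · rw [commutator_eq_bot_iff_le_centralizer.2 (le_centralizer_iff.1 hYc)]; exact bot_le
    · have hc := commutator_mem_commutator hx hy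
      have hcP : ⁅x, y⁆ ∈ P := le_normalizer_iff_commutator_le_left.1 (hYH.trans hH) hc
      have h3 : y * x * y⁻¹ = ⁅x, y⁆⁻¹ * x := by simp only [commutatorElement_def]; group
      have h4 : ⁅x ^ p, y⁆ = x ^ p * ((⁅x, y⁆⁻¹ * x) ^ p)⁻¹ := by
        rw [← h3, conj_pow, commutatorElement_def]; group
      have h5 : (⟨x, hx⟩ : P) ^ p * (((⟨_, hcP⟩ : P)⁻¹ * ⟨x, hx⟩) ^ p)⁻¹ ∈ _root_.commutator P := by
        rw [← Abelianization.ker_of, MonoidHom.mem_ker]
        have h6 : (⟨_, hcP⟩ : P) ^ p = 1 := Subtype.ext (hel.2 _ hc)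
        simp only [map_mul, map_inv, map_pow, mul_pow, inv_pow]
        rw [← map_pow _ (⟨_, hcP⟩ : P), h6]; simp
      rw [h4, ← map_subtype_commutator]
      exact ⟨_, h5, rfl⟩
  have h2 : ⁅(frattini P).map P.subtype, NY⁆ ≤ ⁅P, P⁆ := by
    rw [hNY, commutator_comm]
    refine commutator_iSup_conj_le (hH.trans (normalizer_le_normalizer_map_subtype _)) hPP
      (hYH.trans hPP) ?_
    rw [commutator_comm]; exact (le_relCent.1 h1).2
  refine res_le_centralizer_of_commutator (hP.to_le (le_normalizer_iff_commutator_le_left.1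
    le_normalizer)) ((commutator_mono le_rfl (res_le p _)).trans h2) ((res_le p _).trans ?_)
  rw [hNY]; exact iSup_conj_le hYc (le_normalizer_centralizer hPP)

end Cfsg.Agent.S2819
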