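import Cfsg.Statements.S2824
import Cfsg.Agent.Lib.Loc.PReduced
-- import your own Cfsg.Agent.* helpers here

set_option autoImplicit false
open Cfsg

namespace Cfsg.Agent.S2824

open Subgroup Cfsg.Lib Cfsg.Lib.Loc Cfsg.Lib.Core Cfsg.Lib.Transfer

/-- Let H be a finite group, p a prime, T a Sylow p-subgroup, L and M subgroups of characteristic p containing T, Y_L the largest p-reduced normal subgroup of L and T₀ = C_T(Y_L). If M·C_H(Y_L) = L·C_H(Y_L), then L* := N_M(T₀) has Y_{L*} = Y_L and L·C_H(Y_L) = L*·C_H(Y_L). -/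
theorem result {H : Type*} [Group H] [Finite H] {p : ℕ} [Fact p.Prime] (T : Sylow p H) (L M : Subgroup H) (hTL : (T : Subgroup H) ≤ L) (hTM : (T : Subgroup H) ≤ M) (hL : Subgroup.centralizer (Cfsg.pCore p ↥L : Set ↥L) ≤ Cfsg.pCore p ↥L) (hM : Subgroup.centralizer (Cfsg.pCore p ↥M : Set ↥M) ≤ Cfsg.pCore p ↥M) (T₀ : Subgroup H) (hT₀ : T₀ = (T : Subgroup H) ⊓ Subgroup.centralizer (((Cfsg.largestPReducedOf p L) : Subgroup H) : Set H)) (hfac : M ⊔ Subgroup.centralizer (((Cfsg.largestPReducedOf p L) : Subgroup H) : Set H) = L ⊔ Subgroup.centralizer (((Cfsg.largestPReducedOf p L) : Subgroup H) : Set H)) (Ls : Subgroup H) (hLs : Ls = M ⊓ Subgroup.normalizer ((T₀ : Subgroup H) : Set H)) : (Cfsg.largestPReducedOf p Ls) = (Cfsg.largestPReducedOf p L) ∧ L ⊔ Subgroup.centralizer (((Cfsg.largestPReducedOf p L) : Subgroup H) : Set H) = Ls ⊔ Subgroup.centralizer (((Cfsg.largestPReducedOf p L) : Subgroup H) : Set H) := by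
  have hY := pRed_Y p L
  have hTi := sylow_not_dvd_relIndex T hTL
  have hMN : M ≤ normalizer (largestPReducedOf p L : Set H) :=
    (le_sup_left.trans hfac.le).trans (sup_le hY.normal (centralizer_le_normalizer _))
  have hfr := le_inf_normalizer_sup_centralizer hTM T.isPGroup' (sylow_not_dvd_relIndex T hTM) hMN
  rw [← hT₀, ← hLs] at hfr
  have hLsM : Ls ≤ M := hLs ▸ inf_le_left
  have h2 : L ⊔ centralizer (largestPReducedOf p L : Set H) =
      Ls ⊔ centralizer (largestPReducedOf p L : Set H) := by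
    rw [← hfac]
    exact le_antisymm (sup_le (hfr.trans (sup_le_sup_left inf_le_right _)) le_sup_right)
      (sup_le_sup_right hLsM _)
  have hTLs : (T : Subgroup H) ≤ Ls := by
    rw [hLs, hT₀]
    exact le_inf hTM (le_normalizer_inf le_normalizer (le_normalizer_centralizer (hTL.trans hY.normal)))
  have hYT : largestPReducedOf p L ≤ T₀ := hT₀ ▸
    le_inf (hY.le_core.trans (core_le_of_not_dvd hTi)) (PGroup.elemAb_le_centralizer hY.elemAb)
  have hT₀T : T₀ ≤ T := hT₀ ▸ inf_le_left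
  refine ⟨le_antisymm ?_ (hY.of_sup_centralizer (hYT.trans (hT₀T.trans hTLs))
    (le_sup_left.trans h2.le) (le_sup_left.trans h2.ge)).le_Y, h2⟩
  have hY' := pRed_Y p Ls
  have h3 : T₀ ≤ centralizer (largestPReducedOf p Ls : Set H) :=
    hY'.le_centralizer (.of_le_normalizer (hT₀T.trans hTLs) (hLs ▸ inf_le_right))
      (T.isPGroup'.to_le hT₀T)
  rw [Y_eq_oz (isChP_iff.2 hL) hTL T.isPGroup' hTi, ← hT₀]
  refine le_oz hY'.elemAb ?_ (le_centralizer_iff.1 h3)
  rw [hT₀]
  exact le_inf (hY'.le_core.trans (core_le_of_not_dvd (sylow_not_dvd_relIndex T hTLs)))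
    (le_centralizer_iff.1 (hYT.trans h3))

end Cfsg.Agent.S2824
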