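import Cfsg.Statements.S2825
import Cfsg.Agent.Lib.Loc.PReduced
-- import your own Cfsg.Agent.* helpers here

set_option autoImplicit false
open Cfsg

namespace Cfsg.Agent.S2825

open Subgroup Cfsg.Lib Cfsg.Lib.Loc Cfsg.Lib.Core Cfsg.Lib.Transfer

/-- Let L be a subnormal subgroup of the finite group H, p a prime, Y_H and Y_L the largest p-reduced normal subgroups. Then Y_H ∩ L = Y_H ∩ Y_L and this subgroup is a p-reduced normal subgroup of L; C_L(Y_L) = C_L(Y_H) = C_L(Y_H ∩ L); and if O^p(H) ≤ L, then [Y_L, L] = 1 if and only if [Y_H, H] = 1. -/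
theorem result {H : Type*} [Group H] [Finite H] {p : ℕ} [Fact p.Prime] (L : Subgroup H) (hL : L.IsSubnormal) : Cfsg.largestPReduced p H ⊓ L = Cfsg.largestPReduced p H ⊓ (Cfsg.largestPReducedOf p L) ∧ Cfsg.IsPReducedNormal p ((Cfsg.largestPReduced p H ⊓ L).subgroupOf L) ∧ L ⊓ Subgroup.centralizer ((Cfsg.largestPReducedOf p L : Subgroup H) : Set H) = L ⊓ Subgroup.centralizer (Cfsg.largestPReduced p H : Set H) ∧ L ⊓ Subgroup.centralizer (Cfsg.largestPReduced p H : Set H) = L ⊓ Subgroup.centralizer ((Cfsg.largestPReduced p H ⊓ L : Subgroup H) : Set H) ∧ (Cfsg.pResidual p H ≤ L → (⁅(Cfsg.largestPReducedOf p L), L⁆ = ⊥ ↔ ⁅Cfsg.largestPReduced p H, (⊤ : Subgroup H)⁆ = ⊥)) := by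
  have hL' := subnormalIn_top.2 hL
  have hY := pRed_Y p (⊤ : Subgroup H)
  have h1 := hY.inf_subnormal hL'
  have h2 := inf_centralizer_Y_eq (p := p) hL'
  rw [Y_top] at hY h1 h2
  refine ⟨le_antisymm (le_inf inf_le_left h1.le_Y) (inf_le_inf_left _ (Y_le p L)),
    (isPReducedNormal_subgroupOf_iff h1.le).2 h1, h2,
    le_antisymm (inf_le_inf_left _ (centralizer_le inf_le_left)) (le_inf inf_le_left ?_), fun h => ?_⟩
  · exact hY.le_centralizer_of_subnormal hL' (le_inf (le_normalizer_iff_commutator_le_left.1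
      (le_top.trans hY.normal)) (hY.commutator_res hL').le) (.of_le_normalizer inf_le_left
      (le_normalizer_inf le_normalizer (le_normalizer_centralizer h1.normal)))
      ((res_le p _).trans inf_le_right)
  · rw [commutator_eq_bot_iff_le_centralizer, commutator_eq_bot_iff_le_centralizer,
      le_centralizer_iff, ← inf_eq_left, h2, inf_eq_left, le_centralizer_iff (H := largestPReduced p H)]
    exact ⟨fun h' => hY.red ⊤ le_rfl le_normalizer (by rw [res_top]; exact h.trans h'),
      fun h' => le_top.trans h'⟩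

end Cfsg.Agent.S2825
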