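import Cfsg.Statements.S2826
import Cfsg.Agent.Lib.Loc.Kieler
-- import your own Cfsg.Agent.* helpers here

set_option autoImplicit false
open Cfsg

namespace Cfsg.Agent.S2826

open Subgroup Cfsg.Lib Cfsg.Lib.Loc Cfsg.Lib.Core Cfsg.Lib.Transfer

/-- Let H be a finite group of characteristic p, T a Sylow p-subgroup, and V a normal elementary abelian p-subgroup of H containing Ω₁(Z(T)). Then C_H(Ω₁(Z(T))) = C_H([V, O^p(H)] ∩ Ω₁(Z(T))), O^p(H) being generated by the elements of order prime to p. -/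
theorem result {H : Type*} [Group H] [Finite H] {p : ℕ} [Fact p.Prime] (hH : Subgroup.centralizer (Cfsg.pCore p H : Set H) ≤ Cfsg.pCore p H) (T : Sylow p H) (V : Subgroup H) [V.Normal] (hV : Cfsg.IsElementaryAbelian p V) (hZV : (Cfsg.omegaOne p ((T : Subgroup H) ⊓ Subgroup.centralizer (((T : Subgroup H) : Subgroup H) : Set H))) ≤ V) : Subgroup.centralizer ((Cfsg.omegaOne p ((T : Subgroup H) ⊓ Subgroup.centralizer (((T : Subgroup H) : Subgroup H) : Set H))) : Set H) = Subgroup.centralizer (((⁅V, Cfsg.pResidual p H⁆ ⊓ (Cfsg.omegaOne p ((T : Subgroup H) ⊓ Subgroup.centralizer (((T : Subgroup H) : Subgroup H) : Set H)))) : Subgroup H) : Set H) := by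
  refine le_antisymm (centralizer_le inf_le_right) ?_
  have hTi := sylow_not_dvd_relIndex T le_top
  have h := inf_centralizer_le_sup_commutator_res hV.1 (PGroup.elemAb_isPGroup hV)
    (le_normalizer_of_normal (K := ⊤)) hTi
  rw [inf_top_eq, res_top] at h
  rw [le_centralizer_iff]
  intro z hz
  obtain ⟨c, hc, w, hw, rfl⟩ := (mem_sup_of_le_normalizer_right le_normalizer_of_normal).1
    (h ⟨hZV hz, oz_le_centralizer _ hz⟩)
  have hcZ : c ∈ omegaOneCenter p (T : Subgroup H) := mem_oz.2 ⟨⟨pCore_le_sylow T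
    (le_pCore inferInstance (PGroup.elemAb_isPGroup hV) hc.1), centralizer_le le_top hc.2⟩, hV.2 _ hc.1⟩
  refine mul_mem (centralizer_le le_top hc.2) (le_centralizer_iff.1 le_rfl ⟨hw, ?_⟩)
  simpa [oz_def] using mul_mem (inv_mem hcZ) hz

end Cfsg.Agent.S2826
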