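import Cfsg.Statements.S2827
import Cfsg.Agent.Lib.Loc.PClosed
-- import your own Cfsg.Agent.* helpers here

set_option autoImplicit false
open Cfsg

namespace Cfsg.Agent.S2827

open Subgroup Cfsg.Lib Cfsg.Lib.Loc Cfsg.Lib.Core Cfsg.Lib.Transfer
open scoped commutatorElement

/-- Let H be a finite p-irreducible group (not p-closed, and O^p(H) lies in every normal subgroup that is not p-closed) and T a Sylow p-subgroup. Then H is generated by the conjugates of T and H = H'·T; O^p(H) ≤ H'; and for every normal subgroup Y of T not contained in O_p(H), O^p(H) = [O^p(H), Y] and O^p(H) is contained in the normal closure of Y in H. -/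
theorem result {H : Type*} [Group H] [Finite H] {p : ℕ} [Fact p.Prime] (hH : Cfsg.IsPIrreducible p H) (T : Sylow p H) : Subgroup.normalClosure ((T : Subgroup H) : Set H) = ⊤ ∧ commutator H ⊔ (T : Subgroup H) = ⊤ ∧ Cfsg.pResidual p H ≤ commutator H ∧ ∀ Y : Subgroup H, Y ≤ (T : Subgroup H) → (T : Subgroup H) ≤ Subgroup.normalizer (Y : Set H) → ¬ Y ≤ Cfsg.pCore p H → ⁅Cfsg.pResidual p H, Y⁆ = Cfsg.pResidual p H ∧ Cfsg.pResidual p H ≤ Subgroup.normalClosure (Y : Set H) := by
  have hTi := sylow_not_dvd_relIndex T le_top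
  have h1 : normalClosure ((T : Subgroup H) : Set H) = ⊤ := by
    rw [eq_top_iff, ← pResidual_sup_sylow T]
    refine sup_le (hH.2 _ inferInstance fun hc => hH.1 (isPClosed_iff_top.2 fun P hP => ?_))
      le_normalClosure
    have h2 := (isPClosed_iff.1 hc _ le_normalClosure T.isPGroup').trans (pCoreOf_le_pCore _)
    obtain ⟨g, hg⟩ := exists_conj_le_sylow T hP
    have := hg.trans h2
    rwa [conj_le_iff_le_inv_conj, conj_eq_self_of_normal] at this
  have h2 : _root_.commutator H ⊔ (T : Subgroup H) = ⊤ := by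
    have : (_root_.commutator H ⊔ (T : Subgroup H)).Normal := Normal.of_commutator_le _ le_sup_left
    exact top_le_iff.1 (h1.ge.trans (normalClosure_le_normal
      (le_sup_right : (T : Subgroup H) ≤ _root_.commutator H ⊔ (T : Subgroup H))))
  refine ⟨h1, h2, res_top.ge.trans (res_le_of_le_sup T.isPGroup' le_normalizer_of_normal
    (h2.ge.trans (sup_comm _ _).le)), fun Y hY hn hYO => ?_⟩
  have hH' : IsPIrreducible p (⊤ : Subgroup H) := isPIrreducible_iff.2 ⟨by
    rw [isPClosed_top_iff]; exact hH.1, fun N _ hN hc =>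
      res_top.le.trans (hH.2 N (normal_of_top_le_normalizer hN) hc)⟩
  have h3 := commutator_res_eq_of_pIrreducible hH' le_top hTi (T.isPGroup'.to_le hY) le_top hn
    (by rwa [core_top])
  rw [res_top] at h3
  exact ⟨h3, h3.ge.trans ((commutator_mono le_rfl le_normalClosure).trans (commutator_le_right _ _))⟩

end Cfsg.Agent.S2827
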