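import Cfsg.Statements.S2828
import Cfsg.Agent.Lib.Loc.PClosed
-- import your own Cfsg.Agent.* helpers here

set_option autoImplicit false
open Cfsg

namespace Cfsg.Agent.S2828

open Subgroup Cfsg.Lib Cfsg.Lib.Loc Cfsg.Lib.Core Cfsg.Lib.Transfer
open scoped commutatorElement

/-- Let H be a finite group, p a prime and D a normal p-subgroup of H. Then H is p-irreducible if and only if H/D is p-irreducible, and H is strongly p-irreducible if and only if H/D is strongly p-irreducible. -/
theorem result {H : Type*} [Group H] [Finite H] {p : ℕ} [Fact p.Prime] (D : Subgroup H) [D.Normal] (hD : IsPGroup p ↥D) : (Cfsg.IsPIrreducible p H ↔ Cfsg.IsPIrreducible p (H ⧸ D)) ∧ (Cfsg.IsStronglyPIrreducible p H ↔ Cfsg.IsStronglyPIrreducible p (H ⧸ D)) := by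
  have hs := QuotientGroup.mk'_surjective D
  have hk : IsPGroup p (QuotientGroup.mk' D).ker := by rwa [QuotientGroup.ker_mk']
  have hc : ∀ N : Subgroup H, IsPClosed p (N.map (QuotientGroup.mk' D)) ↔ IsPClosed p N :=
    fun N => ⟨isPClosed_of_map hk, fun h => isPClosed_map h _⟩
  have h0 : IsPClosed p H ↔ IsPClosed p (H ⧸ D) := by
    rw [← isPClosed_top_iff, ← hc, map_top_of_surjective _ hs, isPClosed_top_iff]
  have h1 : ∀ N : Subgroup H, N.Normal →
      (pResidual p (H ⧸ D) ≤ N.map (QuotientGroup.mk' D) ↔ pResidual p H ≤ N) := fun N _ => by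
    rw [← map_pResidual_of_surjective _ hs, map_mk'_le_map_mk'_iff, ← res_top]
    exact ⟨fun h => res_le_of_res_le_sup hD le_normalizer_of_normal (h.trans (sup_comm _ _).le),
      fun h => h.trans le_sup_left⟩
  have h2 : ∀ N : Subgroup H, ⁅N.map (QuotientGroup.mk' D), (⊤ : Subgroup (H ⧸ D))⁆ ≤ pCore p (H ⧸ D) ↔
      ⁅N, (⊤ : Subgroup H)⁆ ≤ pCore p H := fun N => by
    rw [← map_top_of_surjective _ hs, ← map_commutator, map_le_iff_le_comap, comap_pCore_mk' D hD]
  refine ⟨and_congr h0.not ⟨fun h N hN hn => ?_, fun h N hN hn => ?_⟩,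
    and_congr h0.not ⟨fun h N hN hn => ?_, fun h N hN hn => ?_⟩⟩
  · rw [← map_comap_mk' D N] at hn ⊢
    exact (h1 _ inferInstance).2 (h _ inferInstance (by rwa [← hc]))
  · exact (h1 N hN).1 (h _ (hN.map _ hs) (by rwa [hc]))
  · rw [← map_comap_mk' D N] at hn ⊢
    exact (h1 _ inferInstance).2 (h _ inferInstance (by rwa [← h2]))
  · exact (h1 N hN).1 (h _ (hN.map _ hs) (by rwa [h2]))

end Cfsg.Agent.S2828
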