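import Cfsg.Statements.S2829
import Cfsg.Agent.Lib.Loc.PClosed
-- import your own Cfsg.Agent.* helpers here

set_option autoImplicit false
open Cfsg

namespace Cfsg.Agent.S2829

open Subgroup Cfsg.Lib Cfsg.Lib.Loc Cfsg.Lib.Core Cfsg.Lib.Transfer
open scoped commutatorElement

/-- Every strongly p-irreducible finite group is p-irreducible. -/
theorem result {H : Type*} [Group H] [Finite H] {p : ℕ} [Fact p.Prime] (hH : Cfsg.IsStronglyPIrreducible p H) : Cfsg.IsPIrreducible p H := by
  refine ⟨hH.1, fun N hN hc => hH.2 N hN fun h => hc (isPClosed_iff.2 fun P hP hp => ?_)⟩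
  have h1 : (P ⊔ pCore p H).Normal := normal_of_top_le_normalizer
    (Coprime.le_normalizer_of_commutator_le (K := P ⊔ pCore p H) le_rfl (commutator_sup_le
      (le_normalizer_of_le le_sup_left) (le_normalizer_of_le le_sup_right)
      ((commutator_mono hP le_rfl).trans (h.trans le_sup_right))
      ((commutator_le_left _ _).trans le_sup_right)))
  exact (le_inf (le_sup_left.trans (le_pCore h1 (isPGroup_sup_pCore hp))) hP).trans
    (pCore_inf_le_pCoreOf N)

end Cfsg.Agent.S2829
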