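import Cfsg.Statements.S2830
import Cfsg.Agent.Lib.Loc.PClosed
-- import your own Cfsg.Agent.* helpers here

set_option autoImplicit false
open Cfsg

namespace Cfsg.Agent.S2830

open Subgroup Cfsg.Lib Cfsg.Lib.Loc Cfsg.Lib.Core Cfsg.Lib.Transfer
open scoped commutatorElement

/-- Let H act by conjugation on the elementary abelian p-subgroup V of a finite group G (H ≤ N(V)), with H p-irreducible and O^p(H) not centralizing V. Then C_H(V) is p-closed and C_T(V) ≤ O_p(H) for every p-subgroup T of H. If in addition O_p(H) centralizes V, then C_T(V) = T ∩ O_p(H) for every p-subgroup T of H, and V is p-reduced for H: O_p(H/C_H(V)) = 1. -/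
theorem result {G : Type*} [Group G] [Finite G] {p : ℕ} [Fact p.Prime] (V H : Subgroup G) (hV : Cfsg.IsElementaryAbelian p V) (hHV : H ≤ Subgroup.normalizer (V : Set G)) (hH : Cfsg.IsPIrreducible p ↥H) (hnc : ¬ (Cfsg.pResidual p ↥H).map H.subtype ≤ Subgroup.centralizer (V : Set G)) [hn : ((Subgroup.centralizer (V : Set G)).subgroupOf H).Normal] : Cfsg.IsPClosed p ↥(H ⊓ Subgroup.centralizer (V : Set G)) ∧ (∀ T : Subgroup G, T ≤ H → IsPGroup p ↥T → T ⊓ Subgroup.centralizer (V : Set G) ≤ Cfsg.pCoreOf p H) ∧ (Cfsg.pCoreOf p H ≤ Subgroup.centralizer (V : Set G) → (∀ T : Subgroup G, T ≤ H → IsPGroup p ↥T → T ⊓ Subgroup.centralizer (V : Set G) = T ⊓ Cfsg.pCoreOf p H) ∧ Cfsg.pCore p (↥H ⧸ (Subgroup.centralizer (V : Set G)).subgroupOf H) = ⊥) := by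
  obtain ⟨-, hH2⟩ := isPIrreducible_iff.1 hH
  have hN : H ≤ normalizer ((H ⊓ centralizer (V : Set G) : Subgroup G) : Set G) :=
    le_normalizer_inf le_normalizer (le_normalizer_centralizer hHV)
  have h1 : IsPClosed p ↥(H ⊓ centralizer (V : Set G)) := by
    by_contra hc
    exact hnc ((hH2 _ inf_le_left hN hc).trans inf_le_right)
  have h2 : ∀ T : Subgroup G, T ≤ H → IsPGroup p T → T ⊓ centralizer (V : Set G) ≤ pCoreOf p H :=
    fun T hT hp => (isPClosed_iff.1 h1 _ (inf_le_inf_right _ hT) (hp.to_le inf_le_left)).trans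
      (core_le_of_le_normalizer inf_le_left hN)
  refine ⟨h1, h2, fun hO => ⟨fun T hT hp => le_antisymm (le_inf inf_le_left (h2 T hT hp))
    (inf_le_inf_left _ hO), ?_⟩⟩
  rw [← map_comap_mk' _ (pCore p _), map_mk'_eq_bot_iff, ← map_subtype_le_iff]
  set X := ((pCore p (H ⧸ (centralizer (V : Set G)).subgroupOf H)).comap
    (QuotientGroup.mk' _)).map H.subtype
  have hX : pResidualOf p X ≤ centralizer (V : Set G) := by
    rw [← map_res, map_subtype_le_iff, res_le_iff_isPGroup_map, map_comap_mk']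
    exact pCore_isPGroup p _
  have h3 : IsPClosed p X := by
    by_contra hc
    exact hnc ((res_eq_of_le (hH2 X (map_subtype_le _) (le_normalizer_map_subtype _) hc)
      (map_subtype_le _)).ge.trans hX)
  exact (IsPClosed.res_sup_core h3).ge.trans (sup_le hX
    ((core_le_of_le_normalizer (map_subtype_le _) (le_normalizer_map_subtype _)).trans hO))

end Cfsg.Agent.S2830
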