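import Cfsg.Statements.S2831
import Cfsg.Agent.Lib.Loc.PClosed
-- import your own Cfsg.Agent.* helpers here

set_option autoImplicit false
open Cfsg

namespace Cfsg.Agent.S2831

open Subgroup Cfsg.Lib Cfsg.Lib.Loc Cfsg.Lib.Core Cfsg.Lib.Transfer
open scoped commutatorElement

/-- Let H be a finite group with Sylow p-subgroup T such that H is T-minimal (H is generated by the conjugates of T and T lies in exactly one maximal subgroup of H). Then H is p-irreducible: H is not p-closed and O^p(H) lies in every normal subgroup of H that is not p-closed. -/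
theorem result {H : Type*} [Group H] [Finite H] {p : ℕ} [Fact p.Prime] (T : Sylow p H) (hmin : Cfsg.IsMinimalOver (T : Subgroup H)) : Cfsg.IsPIrreducible p H := by
  obtain ⟨M, ⟨hM, hTM⟩, -⟩ := hmin.2
  refine ⟨fun h => ?_, fun N hN hc => ?_⟩
  · have := h T
    exact hM.1 (top_le_iff.1 ((IsMinimalOver.eq_top_of_normal hmin le_rfl).ge.trans hTM))
  · rw [← res_top]
    refine res_le_of_le_sup T.isPGroup' le_normalizer_of_normal (top_le_iff.2 ?_)
    by_contra hne
    exact hc (IsMinimalOver.isPClosed_of_le hmin hM le_rfl hTM T.isPGroup'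
      (sylow_not_dvd_relIndex T hTM) (le_sup_right.trans
        (IsMinimalOver.le_of_ne_top hmin hM hTM le_sup_left hne))).2

end Cfsg.Agent.S2831
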