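import Cfsg.Statements.S2832
import Cfsg.Agent.Lib.Loc.PClosed
-- import your own Cfsg.Agent.* helpers here

set_option autoImplicit false
open Cfsg

namespace Cfsg.Agent.S2832

open Subgroup Cfsg.Lib Cfsg.Lib.Loc Cfsg.Lib.Core Cfsg.Lib.Transfer
open scoped commutatorElement

/-- Let H be a finite group with Sylow p-subgroup T such that H is T-minimal (generated by the conjugates of T, with T in exactly one maximal subgroup), and let N be a normal subgroup of H. Then either H/N is a p-group or H/N is minimal over the image of T in the same sense. -/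
theorem result {H : Type*} [Group H] [Finite H] {p : ℕ} [Fact p.Prime] (T : Sylow p H) (hmin : Cfsg.IsMinimalOver (T : Subgroup H)) (N : Subgroup H) [N.Normal] : IsPGroup p (H ⧸ N) ∨ Cfsg.IsMinimalOver ((T : Subgroup H).map (QuotientGroup.mk' N)) := by
  have hs := QuotientGroup.mk'_surjective N
  by_cases h : (T : Subgroup H) ⊔ N = ⊤
  · left
    rw [← isPGroup_top_iff, ← (map_mk'_eq_top_iff N _).2 h]
    exact T.isPGroup'.map _
  · right
    refine ⟨by rw [coe_map, ← map_normalClosure _ _ hs, hmin.1, map_top_of_surjective _ hs], ?_⟩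
    obtain ⟨M, hM, hTM⟩ := exists_coatom_ge ((map_mk'_eq_top_iff N _).not.2 h)
    refine ⟨M, ⟨hM, hTM⟩, fun M' hM' => comap_injective hs (hmin.2.unique
      ⟨isCoatom_comap_of_surjective hs hM'.1, map_le_iff_le_comap.1 hM'.2⟩
      ⟨isCoatom_comap_of_surjective hs hM, map_le_iff_le_comap.1 hTM⟩)⟩

end Cfsg.Agent.S2832
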