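import Cfsg.Statements.S2833
import Cfsg.Agent.Lib.Loc.PClosed
-- import your own Cfsg.Agent.* helpers here

set_option autoImplicit false
open Cfsg

namespace Cfsg.Agent.S2833

open Subgroup Cfsg.Lib Cfsg.Lib.Loc Cfsg.Lib.Core Cfsg.Lib.Transfer
open scoped commutatorElement

/-- Let V be a subgroup of a finite group G normalized by the subgroup L, let X ≤ L and g ∈ L with [V, X, X] = 1 and L generated by X and gXg⁻¹. Put W = [V, L]. Then W = [V, X]·[V, gXg⁻¹], C_W(X) = [V, X], and C_W(L) = [V, X] ∩ [V, gXg⁻¹]. -/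
theorem result {G : Type*} [Group G] [Finite G] (V L : Subgroup G) (hLV : L ≤ Subgroup.normalizer (V : Set G)) (X : Subgroup G) (hX : X ≤ L) (g : G) (hg : g ∈ L) (hq : ⁅⁅V, X⁆, X⁆ = ⊥) (hgen : X ⊔ X.map (MulAut.conj g).toMonoidHom = L) (W : Subgroup G) (hW : W = ⁅V, L⁆) : ⁅V, X⁆ ⊔ ⁅V, X.map (MulAut.conj g).toMonoidHom⁆ = W ∧ W ⊓ Subgroup.centralizer (X : Set G) = ⁅V, X⁆ ∧ W ⊓ Subgroup.centralizer (L : Set G) = ⁅V, X⁆ ⊓ ⁅V, X.map (MulAut.conj g).toMonoidHom⁆ := by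
  have hXg : g ⋆ X ≤ L := map_conj_le_of_mem hX hg
  have hB : g ⋆ ⁅V, X⁆ = ⁅V, g ⋆ X⁆ := by rw [conj_commutator, conj_eq_self_iff.2 (hLV hg)]
  have hAV : ⁅V, X⁆ ≤ V := le_normalizer_iff_commutator_le_left.1 (hX.trans hLV)
  have hBV : ⁅V, g ⋆ X⁆ ≤ V := le_normalizer_iff_commutator_le_left.1 (hXg.trans hLV)
  have hAX : ⁅V, X⁆ ≤ centralizer (X : Set G) := commutator_eq_bot_iff_le_centralizer.1 hq
  have hBX : ⁅V, g ⋆ X⁆ ≤ centralizer ((g ⋆ X : Subgroup G) : Set G) := by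
    rw [← hB, ← conj_centralizer]; exact conj_mono g hAX
  have hle : ⁅V, X⁆ ⊔ ⁅V, g ⋆ X⁆ ≤ V := sup_le hAV hBV
  have h1 : ⁅V, X⁆ ⊔ ⁅V, g ⋆ X⁆ = W := by
    rw [hW]
    refine le_antisymm (sup_le (commutator_mono le_rfl hX) (commutator_mono le_rfl hXg)) ?_
    rw [← hgen, commutator_comm]
    exact commutator_sup_le (Coprime.le_normalizer_of_commutator_le hle le_sup_left)
      (Coprime.le_normalizer_of_commutator_le hle le_sup_right)
      ((commutator_comm _ _).le.trans le_sup_left) ((commutator_comm _ _).le.trans le_sup_right)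
  have hC : centralizer (L : Set G) = centralizer (X : Set G) ⊓
      centralizer ((g ⋆ X : Subgroup G) : Set G) := by rw [← hgen, Core.centralizer_sup]
  have h2 : ∀ z ∈ centralizer (L : Set G), z ∈ ⁅V, g ⋆ X⁆ ↔ z ∈ ⁅V, X⁆ := fun z hz => by
    rw [← hB, mem_conj, mul_assoc, ← hz g hg, inv_mul_cancel_left]
  have h3 : W ⊓ centralizer (X : Set G) = ⁅V, X⁆ := by
    rw [← h1, sup_inf_of_le_normalizer' hAX (hBV.trans (normalizer_commutator_ge_left _ _)),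
      sup_eq_left]
    exact fun z hz => (h2 z (hC ▸ ⟨hz.2, hBX hz.1⟩)).1 hz.1
  refine ⟨h1, h3, le_antisymm (fun z hz => ?_) (le_inf (inf_le_left.trans (le_sup_left.trans h1.le))
    (hC ▸ inf_le_inf hAX hBX))⟩
  have h4 : z ∈ ⁅V, X⁆ := h3 ▸ ⟨hz.1, centralizer_le hX hz.2⟩
  exact ⟨h4, (h2 z hz.2).2 h4⟩

end Cfsg.Agent.S2833
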