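import Cfsg.Statements.S2835
import Cfsg.Agent.Lib.Loc.PClosed
-- import your own Cfsg.Agent.* helpers here

set_option autoImplicit false
open Cfsg

namespace Cfsg.Agent.S2835

open Subgroup Cfsg.Lib Cfsg.Lib.Loc Cfsg.Lib.Core Cfsg.Lib.Transfer
open scoped commutatorElement

/-- Let L be a finite group, L₀ a maximal subgroup, T a Sylow p-subgroup of L₀ and Y ≤ T, and suppose L is Y-minimal (generated by the conjugates of Y, with Y in exactly one maximal subgroup, necessarily L₀). Then N_L(T) ≤ L₀, O_p(L) ≤ L₀ and T is a Sylow p-subgroup of L; N_L(L₀) = L₀; L = ⟨Y, gYg⁻¹⟩ for each g ∈ L outside L₀; and if Y is abelian then Y ∩ gYg⁻¹ = C_Y(L) for each such g. -/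
theorem result {L : Type*} [Group L] [Finite L] {p : ℕ} [Fact p.Prime] (L₀ : Subgroup L) (hL₀ : IsCoatom L₀) (T : Sylow p ↥L₀) (Y : Subgroup L) (hYT : Y ≤ (T : Subgroup ↥L₀).map L₀.subtype) (hmin : Cfsg.IsMinimalOver Y) : Subgroup.normalizer (((T : Subgroup ↥L₀).map L₀.subtype : Subgroup L) : Set L) ≤ L₀ ∧ Cfsg.pCore p L ≤ L₀ ∧ (∃ P : Sylow p L, (P : Subgroup L) = (T : Subgroup ↥L₀).map L₀.subtype) ∧ Subgroup.normalizer (L₀ : Set L) = L₀ ∧ (∀ g : L, g ∉ L₀ → Y ⊔ Y.map (MulAut.conj g).toMonoidHom = ⊤) ∧ (IsMulCommutative ↥Y → ∀ g : L, g ∉ L₀ → Y ⊓ Y.map (MulAut.conj g).toMonoidHom = Y ⊓ Subgroup.center L) := by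
  obtain ⟨h1, h2, h3⟩ := exists_sylow_map_eq_iff.1 ⟨T, rfl⟩
  have hY := hYT.trans h1
  have h4 := IsMinimalOver.not_dvd_index hmin hL₀ hYT h1 h2 h3
  have h5 : ∀ g : L, g ∉ L₀ → Y ⊔ g ⋆ Y = ⊤ := fun g hg =>
    IsMinimalOver.sup_conj_eq_top hmin hL₀ hY hg
  refine ⟨IsMinimalOver.normalizer_le hmin hL₀ hY hYT (ne_top_of_le_ne_top hL₀.1 h1),
    core_top.ge.trans ((core_le_of_not_dvd (by rwa [relIndex_top_right])).trans h1),
    exists_sylow_eq_iff.2 ⟨h2, h4⟩,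
    le_antisymm (IsMinimalOver.normalizer_le hmin hL₀ hY hY hL₀.1) le_normalizer, h5,
    fun hc g hg => le_antisymm (le_inf inf_le_left ?_) fun y hy => ⟨hy.1, ?_⟩⟩
  · rw [← centralizer_univ, ← coe_top, ← h5 g hg, Core.centralizer_sup]
    exact inf_le_inf (le_centralizer Y) (le_centralizer _)
  · change y ∈ g ⋆ Y
    rw [mem_conj, mul_assoc, ← mem_center_iff.1 hy.2 g, inv_mul_cancel_left]
    exact hy.1

end Cfsg.Agent.S2835
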