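import Cfsg.Statements.S2836
import Cfsg.Agent.Lib.Loc.PClosed
-- import your own Cfsg.Agent.* helpers here

set_option autoImplicit false
open Cfsg

namespace Cfsg.Agent.S2836

open Subgroup Cfsg.Lib Cfsg.Lib.Loc Cfsg.Lib.Core Cfsg.Lib.Transfer
open scoped commutatorElement

/-- Let L be a finite group, L₀ a maximal subgroup, T a Sylow p-subgroup of L₀, Y ≤ T, and suppose L is Y-minimal. Let D be the intersection of the conjugates of L₀ (the core of L₀). Then D contains O_p(L) and D/O_p(L) is the Frattini subgroup of L/O_p(L), so D is p-closed; and every normal subgroup N of L contained in L₀ is p-closed with N/O_p(N) a nilpotent group of order prime to p. -/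
theorem result {L : Type*} [Group L] [Finite L] {p : ℕ} [Fact p.Prime] (L₀ : Subgroup L) (hL₀ : IsCoatom L₀) (T : Sylow p ↥L₀) (Y : Subgroup L) (hYT : Y ≤ (T : Subgroup ↥L₀).map L₀.subtype) (hmin : Cfsg.IsMinimalOver Y) : (Cfsg.pCore p L ≤ L₀.normalCore ∧ (L₀.normalCore).map (QuotientGroup.mk' (Cfsg.pCore p L)) = frattini (L ⧸ Cfsg.pCore p L) ∧ Cfsg.IsPClosed p ↥(L₀.normalCore)) ∧ ∀ (N : Subgroup L) [N.Normal], N ≤ L₀ → Cfsg.IsPClosed p ↥N ∧ Group.IsNilpotent (↥N ⧸ Cfsg.pCore p ↥N) ∧ (Nat.card (↥N ⧸ Cfsg.pCore p ↥N)).Coprime p := by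
  obtain ⟨h1, h2, h3⟩ := exists_sylow_map_eq_iff.1 ⟨T, rfl⟩
  have hY := hYT.trans h1
  have h4 := IsMinimalOver.not_dvd_index hmin hL₀ hYT h1 h2 h3
  have hs := QuotientGroup.mk'_surjective (pCore p L)
  have hO : pCore p L ≤ L₀ :=
    core_top.ge.trans ((core_le_of_not_dvd (by rwa [relIndex_top_right])).trans h1)
  have hcl : ∀ (N : Subgroup L) [N.Normal], N ≤ L₀ → IsPClosed p N := fun N _ hN =>
    (IsMinimalOver.isPClosed_of_le hmin hL₀ hYT h1 h2 h3 hN).2
  have hi : ∀ (N : Subgroup L) [N.Normal], N ≤ L₀ → ¬ p ∣ (pCore p L).relIndex N := fun N _ hN => by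
    have := isPClosed_iff_not_dvd.1 (hcl N hN)
    rwa [pCoreOf_def, pCoreOf_eq_inf_of_normal, inf_relIndex_right] at this
  have hΦ : ∀ (N : Subgroup L) [N.Normal], N ≤ L₀ →
      N.map (QuotientGroup.mk' (pCore p L)) ≤ frattini (L ⧸ pCore p L) := fun N _ hN => by
    refine PGroup.le_frattini_iff.2 fun M hM => map_le_iff_le_comap.2 ?_
    have hM' := isCoatom_comap_of_surjective hs hM
    set K := M.comap (QuotientGroup.mk' (pCore p L))
    by_contra hn
    have h5 : K ⊔ N = ⊤ := hM'.2 _ (lt_of_le_of_ne le_sup_left fun e => hn (le_sup_right.trans e.ge))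
    have h6 : ¬ p ∣ K.index := fun hd => hi N hN (hd.trans (by
      have h7 := relIndex_mul_relIndex (K ⊓ N) K ⊤ inf_le_left le_top
      have h8 := relIndex_mul_relIndex (K ⊓ N) N ⊤ inf_le_right le_top
      rw [inf_relIndex_left, ← relIndex_sup_of_le_normalizer le_normalizer_of_normal, h5, ← h8,
        mul_comm, mul_left_inj' (by rw [relIndex_top_right]; exact index_ne_zero_of_finite),
        relIndex_top_right, inf_relIndex_right] at h7
      rw [h7]; exact relIndex_dvd_of_le_left _ (le_comap_mk'' _ M)))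
    obtain ⟨g, hg⟩ := exists_conj_le_of_not_dvd_index h6 h2
    have h7 := IsMinimalOver.le_of_ne_top hmin hL₀ hY (hYT.trans (conj_le_iff_le_inv_conj.1 hg))
      (isCoatom_conj hM' _).1
    rw [((isCoatom_conj hM' _).le_iff_eq hL₀.1).1 h7, ← conj_le_iff_le_inv_conj,
      conj_eq_self_of_normal] at hN
    exact hn hN
  refine ⟨⟨normal_le_normalCore.2 hO, le_antisymm (hΦ _ (normalCore_le _)) ?_,
    hcl _ (normalCore_le _)⟩, fun N _ hN => ⟨hcl N hN, ?_, ?_⟩⟩
  · rw [← map_comap_mk' (pCore p L) (frattini _)]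
    refine map_mono (normal_le_normalCore.2 ?_)
    have hM : IsCoatom (L₀.map (QuotientGroup.mk' (pCore p L))) := by
      refine ⟨(map_mk'_eq_top_iff _ _).not.2 (by rw [sup_eq_left.2 hO]; exact hL₀.1), fun K hK => ?_⟩
      rw [← map_comap_mk' (pCore p L) K, hL₀.2 _ (lt_of_le_of_ne (map_le_iff_le_comap.1 hK.le)
        fun e => hK.ne (by rw [e, map_comap_mk'])), map_top_of_surjective _ hs]
    refine (comap_mono (frattini_le_coatom hM)).trans ?_
    rw [comap_map_mk', sup_eq_left.2 hO]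
  · have hk : ((QuotientGroup.mk' (pCore p L)).comp N.subtype).ker = pCore p N := by
      rw [← MonoidHom.comap_ker, QuotientGroup.ker_mk', pCore_eq_subgroupOf_of_normal]; rfl
    have hr : ((QuotientGroup.mk' (pCore p L)).comp N.subtype).range ≤ frattini _ := by
      rw [MonoidHom.range_comp, range_subtype]; exact hΦ N hN
    have := isNilpotent_of_le hr frattini_nilpotent
    exact Group.nilpotent_of_mulEquiv ((QuotientGroup.quotientMulEquivOfEq hk.symm).trans
      (QuotientGroup.quotientKerEquivRange _)).symm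
  · rw [pCore_eq_subgroupOf_of_normal]
    exact coprime_iff_not_dvd.2 (hi N hN)

end Cfsg.Agent.S2836
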