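import Cfsg.Statements.S2837
import Cfsg.Agent.Lib.Loc.YMin
-- import your own Cfsg.Agent.* helpers here

set_option autoImplicit false
open Cfsg

namespace Cfsg.Agent.S2837

open Cfsg.Lib.Loc Cfsg.Lib.BG Cfsg.Lib.Core Cfsg.Lib.Transfer Subgroup

/-- Let L be a finite group of characteristic p, L₀ a maximal subgroup, Y an elementary abelian p-subgroup of L₀ with L Y-minimal and O_p(L) ≤ N_L(Y). Put A = the normal closure of O_p(L) ∩ Y in L. Then for every g ∈ L outside L₀: Φ(A) = A' = [A ∩ Y, A] = [A ∩ Y, A ∩ gYg⁻¹] ≤ C_Y(L), and Y ∩ gYg⁻¹ = (A ∩ Y) ∩ (A ∩ gYg⁻¹) = C_Y(L) = C_A(L). -/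
theorem result {L : Type*} [Group L] [Finite L] {p : ℕ} [Fact p.Prime] (hchar : Subgroup.centralizer (Cfsg.pCore p L : Set L) ≤ Cfsg.pCore p L) (L₀ : Subgroup L) (hL₀ : IsCoatom L₀) (Y : Subgroup L) (hYL₀ : Y ≤ L₀) (hYel : Cfsg.IsElementaryAbelian p Y) (hmin : Cfsg.IsMinimalOver Y) (hOY : Cfsg.pCore p L ≤ Subgroup.normalizer (Y : Set L)) (A : Subgroup L) (hA : A = Subgroup.normalClosure (((Cfsg.pCore p L ⊓ Y : Subgroup L)) : Set L)) (g : L) (hg : g ∉ L₀) : (frattini ↥A).map A.subtype = ⁅A, A⁆ ∧ ⁅A, A⁆ = ⁅A ⊓ Y, A⁆ ∧ ⁅A ⊓ Y, A⁆ = ⁅A ⊓ Y, A ⊓ Y.map (MulAut.conj g).toMonoidHom⁆ ∧ ⁅A ⊓ Y, A⁆ ≤ Y ⊓ Subgroup.center L ∧ Y ⊓ Y.map (MulAut.conj g).toMonoidHom = Y ⊓ Subgroup.center L ∧ (A ⊓ Y) ⊓ (A ⊓ Y.map (MulAut.conj g).toMonoidHom) = Y ⊓ Subgroup.center L ∧ A ⊓ Subgroup.center L = Y ⊓ Subgroup.center L := by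
    have h := YMin.of_top hmin hL₀ hYL₀
    have hY : Y ≤ centralizer (Y : Set L) := abelian_cent (elab_abelian hYel)
    have hO : (⊤ : Subgroup L) ≤ normalizer (pCore p L : Set L) := by rw [normalizer_eq_top]
    rw [inf_comm, ← ncl_top] at hA
    have hc : centralizer ((⊤ : Subgroup L) : Set L) = center L := by rw [coe_top, centralizer_univ]
    have hAO : A ≤ pCore p L := hA ▸ h.ncl_le_A hO
    have e1 : A ⊓ Y = Y ⊓ pCore p L :=
      le_antisymm (le_inf inf_le_right (inf_le_left.trans hAO)) (le_inf (hA ▸ le_ncl _ _) inf_le_left)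
    have hAn : g ⋆ A = A := conj_eq_of_norm (hA ▸ norm_ncl _ _ (mem_top g))
    have e2 : A ⊓ g ⋆ Y = g ⋆ (A ⊓ Y) := by rw [conj_inf, hAn]
    have e3 : A = A ⊓ Y ⊔ g ⋆ (A ⊓ Y) := by rw [e1, ← h.ncl_eq_sup hY hOY hO trivial hg, hA]
    have e4 := h.inf_conj hY trivial hg
    rw [hc] at e4
    set B := A ⊓ Y
    have hB : B ≤ centralizer (B : Set L) := cent_mono hY inf_le_right inf_le_right
    have hB' : g ⋆ B ≤ centralizer ((g ⋆ B : Subgroup L) : Set L) := by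
      rw [← conj_centralizer]; exact conj_mono g hB
    have hAB : A ≤ normalizer (B : Set L) := norm_inf (le_norm A) (hAO.trans hOY)
    have hAB' : A ≤ normalizer ((g ⋆ B : Subgroup L) : Set L) := by
      rw [← conj_normalizer, ← hAn]; exact conj_mono g hAB
    have hgB : g ⋆ B ≤ A := e2 ▸ inf_le_left
    have e5 : ⁅B, g ⋆ B⁆ ≤ Y ⊓ center L := e4 ▸ le_inf ((comm_le_left (hgB.trans hAB)).trans inf_le_right)
      ((comm_le_right (inf_le_left.trans hAB')).trans (conj_mono g inf_le_right))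
    have n1 := left_norm_comm B (g ⋆ B)
    have n2 := right_norm_comm B (g ⋆ B)
    have e6 : ⁅A, A⁆ ≤ ⁅B, g ⋆ B⁆ := by
      rw [e3]
      refine comm_sup_le n1 n2 (comm_sup_le' n1 n2 ((comm_eq_bot_iff.2 hB).le.trans bot_le) le_rfl)
        (comm_sup_le' n1 n2 (commutator_comm _ _).le ((comm_eq_bot_iff.2 hB').le.trans bot_le))
    have e7 : ⁅B, g ⋆ B⁆ ≤ ⁅B, A⁆ := commutator_mono le_rfl hgB
    have e8 : ⁅B, A⁆ ≤ ⁅A, A⁆ := commutator_mono inf_le_left le_rfl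
    have hAp : IsPGroup p A := pgroup_of_le (pCore_isPGroup p L) hAO
    have hZ : Y ⊓ center L ≤ A := by
      rw [hA]
      refine le_trans (le_inf inf_le_left ?_) (le_ncl _ _)
      rw [← core_top]
      exact le_core le_top (norm_of_cent (cent_symm (hc ▸ inf_le_right)))
        (pgroup_of_le (elab_pgroup hYel) inf_le_left)
    refine ⟨le_antisymm ((Cfsg.Lib.PGroup.map_subtype_frattini_le_iff hAp).2 ⟨le_rfl, fun x hx => ?_⟩)
      (Cfsg.Lib.PGroup.commutator_le_map_subtype_frattini hAp), le_antisymm (e6.trans e7) e8,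
      e2 ▸ le_antisymm (e8.trans e6) e7, (e8.trans e6).trans e5, e4, ?_, le_antisymm ?_ (le_inf hZ inf_le_right)⟩
    · have h1 : IsElementaryAbelian p (quo A ⁅A, A⁆) := by
        have hn := left_norm_comm A A
        rw [(congrArg (quo · ⁅A, A⁆) e3).trans (quo_sup (inf_le_left.trans hn) (hgB.trans hn))]
        exact elab_sup (elab_quo (elab_of_le hYel inf_le_right) _)
          (elab_quo ((elab_conj g).2 (elab_of_le hYel inf_le_right)) _)
          ((quo_le_cent_iff (inf_le_left.trans hn) (hgB.trans hn)).2 (e7.trans e8))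
      have h2 := (Cfsg.Lib.PGroup.isElementaryAbelian_iff.1 h1).2 _
        (mem_quo.2 ⟨⟨x, left_norm_comm A A hx⟩, hx, rfl⟩)
      rw [← map_pow, ← MonoidHom.mem_ker, qhom_ker] at h2
      exact h2
    · rw [← inf_inf_distrib_left, e4]; exact inf_eq_right.2 hZ
    · refine fun x hx => ⟨?_, hx.2⟩
      refine (h.mem_of_comm_le hY hOY hO bot_le bot_le (hA ▸ hx.1) ?_).1
      rw [relCent_bot]
      exact cent_anti le_top (hc ▸ hx.2)

end Cfsg.Agent.S2837
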