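import Cfsg.Statements.S2840
import Cfsg.Agent.Lib.Loc.WeakClosed
-- import your own Cfsg.Agent.* helpers here

set_option autoImplicit false
open Cfsg

namespace Cfsg.Agent.S2840

open Cfsg.Lib.Loc Cfsg.Lib.BG Cfsg.Lib.Core Cfsg.Lib.Transfer Subgroup

/-- Let Q be a nontrivial p-subgroup of the finite group H that is a weakly closed subgroup and K a subgroup containing Q; let K° be the weak closure of Q in K (generated by the H-conjugates of Q inside K). Then K° is generated by the K-conjugates of Q, and K° is the subnormal closure of Q in K. -/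
theorem result {H : Type*} [Group H] [Finite H] {p : ℕ} [Fact p.Prime] (Q : Subgroup H) (hQp : IsPGroup p ↥Q) (hQ1 : Q ≠ ⊥) (hwc : Cfsg.IsWeaklyClosedSubgroup p Q) (K : Subgroup H) (hQK : Q ≤ K) (Kc : Subgroup H) (hKc : Kc = Cfsg.weakClosure Q K) : Kc = ⨆ k : ↥K, ((Q : Subgroup H).map (MulAut.conj ((k : H) : H)).toMonoidHom) ∧ Kc = (Cfsg.subnormalClosure (Q.subgroupOf K)).map K.subtype := by
    have h := wc_iff.1 hwc
    rw [hKc, h.wcl_eq hQK]
    refine ⟨rfl, le_antisymm ?_ ?_⟩
    · have h1 : (subnormalClosure (Q.subgroupOf K)).IsSubnormal := isSubnormal_sInf fun A hA => hA.2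
      have h2 : Q ≤ (subnormalClosure (Q.subgroupOf K)).map K.subtype := by
        nth_rewrite 1 [← map_subgroupOf_eq_of_le hQK]
        exact map_mono (le_sInf fun A hA => hA.1)
      rw [h.ncl_le_of_subnormal (subnormalIn_map_subtype.2 h1) h2]
      exact ncl_le_self h2
    · rw [← map_subgroupOf_eq_of_le (ncl_le_self hQK)]
      exact map_mono (sInf_le ⟨comap_mono (le_ncl Q K), (ncl_nml hQK).normal.isSubnormal⟩)

end Cfsg.Agent.S2840
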