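import Cfsg.Statements.S2841
import Cfsg.Agent.Lib.Loc.WeakClosed
-- import your own Cfsg.Agent.* helpers here

set_option autoImplicit false
open Cfsg

namespace Cfsg.Agent.S2841

open Cfsg.Lib.Loc Cfsg.Lib.BG Cfsg.Lib.Core Cfsg.Lib.Transfer Subgroup

/-- Let Q be a nontrivial p-subgroup of the finite group H that is a weakly closed subgroup and N a normal subgroup of H. Then N = N_N(Q)·[N, Q] and [N, Q] = (Q ∩ [N, Q])·[N, Q, Q]. -/
theorem result {H : Type*} [Group H] [Finite H] {p : ℕ} [Fact p.Prime] (Q : Subgroup H) (hQp : IsPGroup p ↥Q) (hQ1 : Q ≠ ⊥) (hwc : Cfsg.IsWeaklyClosedSubgroup p Q) (N' : Subgroup H) [N'.Normal] : (∀ n : H, n ∈ N' → ∃ a ∈ N' ⊓ Subgroup.normalizer ((Q : Subgroup H) : Set H), ∃ b ∈ ⁅N', Q⁆, n = a * b) ∧ (∀ c : H, c ∈ ⁅N', Q⁆ → ∃ a ∈ Q ⊓ ⁅N', Q⁆, ∃ b ∈ ⁅⁅N', Q⁆, Q⁆, c = a * b) := by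
    have h := wc_iff.1 hwc
    have hn : Q ≤ normalizer (N' : Set H) := by rw [normalizer_eq_top]; exact le_top
    refine ⟨fun n hN => h.exists_mul hn hN, fun c hc => ?_⟩
    have h1 := h.ncl_eq_ncl_comm hn
    rw [ncl_eq_sup, ncl_eq_sup, commutator_comm Q, commutator_comm Q] at h1
    obtain ⟨a, ha, b, hb, e⟩ := (mem_sup_right_norm (right_norm_comm _ Q)).1 (h1 ▸ mem_sup_right hc)
    refine ⟨a, ⟨ha, ?_⟩, b, hb, e.symm⟩
    rw [eq_mul_inv_of_mul_eq e]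
    exact Subgroup.mul_mem _ hc (Subgroup.inv_mem _ (comm_le_left (right_norm_comm N' Q) hb))

end Cfsg.Agent.S2841
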