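import Cfsg.Statements.S2845
import Cfsg.Agent.Lib.Loc.Large
-- import your own Cfsg.Agent.* helpers here

set_option autoImplicit false
open Cfsg

namespace Cfsg.Agent.S2845

open Cfsg.Lib.Loc Cfsg.Lib.BG Cfsg.Lib.Core Cfsg.Lib.Transfer Subgroup

/-- Let Q be a nontrivial large p-subgroup of the finite group H. Then for every subgroup L ≥ Q with O_p(L) ≠ 1, C_H(O_p(L)) is a p-group and L has characteristic p, and either the weak closure L° of Q in L equals Q or C_H(L°) = 1; for every subgroup R of H containing a Sylow p-subgroup of H with O_p(R) ≠ 1, C_H(O_p(R)) ≤ O_p(R); and H has parabolic characteristic p. -/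
theorem result {H : Type*} [Group H] [Finite H] {p : ℕ} [Fact p.Prime] (Q : Subgroup H) (hQp : IsPGroup p ↥Q) (hQ1 : Q ≠ ⊥) (hL : Cfsg.IsLarge Q) : (∀ L : Subgroup H, Q ≤ L → Cfsg.pCore p ↥L ≠ ⊥ → IsPGroup p ↥(Subgroup.centralizer (((Cfsg.pCoreOf p L) : Subgroup H) : Set H)) ∧ Subgroup.centralizer (Cfsg.pCore p ↥L : Set ↥L) ≤ Cfsg.pCore p ↥L ∧ (Cfsg.weakClosure Q L = Q ∨ Subgroup.centralizer (((Cfsg.weakClosure Q L) : Subgroup H) : Set H) = ⊥)) ∧ (∀ R : Subgroup H, Cfsg.IsParabolic p R → Cfsg.pCore p ↥R ≠ ⊥ → Subgroup.centralizer (((Cfsg.pCoreOf p R) : Subgroup H) : Set H) ≤ (Cfsg.pCoreOf p R)) ∧ Cfsg.IsOfParabolicCharacteristic p H := by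
    refine ⟨fun L hQL h1 => ?_, fun R hR h1 => ?_, large_parChar hL hQp hQ1⟩
    · have h := large_cent_core hL hQp hQ1 hQL (core_eq_bot_iff.not.2 h1)
      refine ⟨h.1, isChP_iff.1 h.2, or_iff_not_imp_left.2 fun hne => ?_⟩
      by_contra hc
      refine hne (le_antisymm (wcl_le_iff.2 fun g hg => ?_) (le_wcl hQL))
      by_contra hn
      exact hc (eq_bot_mono (large_cent_inf_cent hL hQp hQ1 fun e => hn (conj_eq_of_norm e).le)
        (le_inf (cent_anti (le_wcl hQL)) (cent_anti (conj_le_wcl hg))))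
    · obtain ⟨T, hT, h⟩ := isParabolic_iff.1 hR
      exact large_charP hL hQp hQ1 hT h (core_eq_bot_iff.not.2 h1)

end Cfsg.Agent.S2845
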