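import Cfsg.Statements.S2850
import Cfsg.Agent.Lib.Loc.FrakM
-- import your own Cfsg.Agent.* helpers here

set_option autoImplicit false
open Cfsg

namespace Cfsg.Agent.S2850

open Cfsg.Lib.Loc Cfsg.Lib.BG Cfsg.Lib.Core Cfsg.Lib.Transfer Subgroup

/-- Standing hypotheses: G a finite group, S a Sylow p-subgroup, Q a nontrivial large p-subgroup of G contained in S (C_G(Q) ≤ Q and N_G(U) ≤ N_G(Q) for all nontrivial U ≤ C_G(Q)), and M a subgroup containing S with the basic property (M ∈ 𝔐_G(S)); Y_M denotes the largest p-reduced normal subgroup of M and M† = M·C_G(Y_M). Suppose Y_M is asymmetric in G. Then N_G(L) ≤ N_G(O_p(M)) ≤ M† for every p-subgroup L containing O_p(M); O_p(M) is a weakly closed subgroup of G; for every subgroup L containing O_p(M), L ∩ M† contains a Sylow p-subgroup of L; and two elements of Y_M conjugate in G are conjugate in M. -/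
theorem result {G : Type*} [Group G] [Finite G] {p : ℕ} [Fact p.Prime] (S : Sylow p G) (Q : Subgroup G) (hQp : IsPGroup p ↥Q) (hQ1 : Q ≠ ⊥) (hQS : Q ≤ (S : Subgroup G)) (hQ : Cfsg.IsLarge Q) (M : Subgroup G) (hSM : (S : Subgroup G) ≤ M) (hM : Cfsg.IsInFrakM p M) (hasym : ¬ Cfsg.IsSymmetricIn (Cfsg.largestPReducedOf p M)) : (∀ L : Subgroup G, IsPGroup p ↥L → (Cfsg.pCoreOf p M) ≤ L → Subgroup.normalizer ((L : Subgroup G) : Set G) ≤ Subgroup.normalizer (((Cfsg.pCoreOf p M) : Subgroup G) : Set G) ∧ Subgroup.normalizer (((Cfsg.pCoreOf p M) : Subgroup G) : Set G) ≤ (M ⊔ Subgroup.centralizer (((Cfsg.largestPReducedOf p M) : Subgroup G) : Set G))) ∧ Cfsg.IsWeaklyClosedSubgroup p (Cfsg.pCoreOf p M) ∧ (∀ L : Subgroup G, (Cfsg.pCoreOf p M) ≤ L → Cfsg.IsParabolic p ((L ⊓ (M ⊔ Subgroup.centralizer (((Cfsg.largestPReducedOf p M) : Subgroup G) : Set G))).subgroupOf L)) ∧ (∀ x ∈ (Cfsg.largestPReducedOf p M), ∀ g : G, g * x * g⁻¹ ∈ (Cfsg.largestPReducedOf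 p M) → ∃ m ∈ M, m * x * m⁻¹ = g * x * g⁻¹) := by
    have h := FM.of_large S hQp hQ1 hQ hSM hM
    have hw := h.wc hasym
    rw [← h.dag_eq]
    refine ⟨fun L hL hle => ⟨hw.norm_le hL hle, h.norm_Q_le⟩, wc_iff.2 hw, fun L hL =>
      isParabolic_subgroupOf_iff.2 (hw.not_dvd_relIndex hL (inf_le_inf_left L h.norm_Q_le)), fun x hx g hg => ?_⟩
    obtain ⟨k, hk, e⟩ := hw.exists_conj (K := centralizer {g * x * g⁻¹}) (g := g)
      (h.Q_le_cent.trans (cent_le_cent1 hg))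
      (by rw [← conj_cent1]; exact conj_mono g (h.Q_le_cent.trans (cent_le_cent1 hx)))
    rw [eq_comm, conj_eq_iff_eq_inv_conj, conj_conj, eq_comm] at e
    have h1 := h.norm_Q_le (norm_of_conj_eq e)
    rw [h.dag_eq] at h1
    obtain ⟨m, hm, c, hc, e1⟩ := (mem_sup_right_norm (norm_cent (le_normalizer_Y p M))).1 h1
    refine ⟨m, hm, ?_⟩
    have e2 := mem_cent1.1 hk
    have e3 := mem_cent.1 hc x hx
    calc m * x * m⁻¹ = m * (x * c) * (m * c)⁻¹ := by group
      _ = k⁻¹ * (g * x * g⁻¹ * k) := by rw [e3, ← mul_assoc, e1]; group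
      _ = g * x * g⁻¹ := by rw [← e2]; group

end Cfsg.Agent.S2850
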