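import Cfsg.Statements.S2859
import Cfsg.Agent.Lib.Loc.YMin
-- import your own Cfsg.Agent.* helpers here

set_option autoImplicit false
open Cfsg

namespace Cfsg.Agent.S2859

open Cfsg.Lib.Loc Cfsg.Lib.BG Cfsg.Lib.Core Cfsg.Lib.Transfer Cfsg.Lib.Comp Subgroup

section
variable {G : Type*} [Group G] [Finite G] {p : ℕ} [Fact p.Prime] {A D P Q X H₁ H₂ : Subgroup G}

theorem aux1 (hD : D ≤ A) (h : ⁅D, A⁆ ≤ pCoreOf p A) (hP : IsPGroup p P) (hPA : P ≤ A) (hX : X ≤ A)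
    (hc : ⁅X, P⁆ ≤ D) : ⁅X, P⁆ ≤ pCoreOf p A := by
  set W := pCoreOf p A
  have hW := core_nml p A
  have h1 : ⁅D ⊔ W, A⁆ ≤ W := comm_sup_le (hD.trans hW.norm) (le_norm W) h (comm_le_left hW.norm)
  have h2 : ∀ Z : Subgroup G, Z ≤ D ⊔ W → IsPGroup p Z → Z ≤ W := fun Z a b => by
    have c : Z ≤ A := a.trans (sup_le hD hW.le)
    refine le_sup_right.trans (le_core (sup_le hW.le c) (comm_le_of_norm_sup ?_ hW.norm)
      (pgroup_sup (core_pgroup p A) b (c.trans hW.norm)))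
    rw [commutator_comm]; exact (commutator_mono a le_rfl).trans h1
  have h3 : D ⊔ W ⊔ P ≤ normalizer ((W ⊔ P : Subgroup G) : Set G) := sup_le (comm_le_of_norm_sup
    ((commutator_mono le_rfl hPA).trans h1) ((sup_le hD hW.le).trans hW.norm)) (le_norm_of_le le_sup_right)
  have hWP := pgroup_sup (core_pgroup p A) hP (hPA.trans hW.norm)
  have h4 : ncl P X ≤ W ⊔ P := ncl_le_iff.2 fun x hx => by
    have a : x ⋆ P ≤ D ⊔ W ⊔ P := (conj_le_ncl P hx).trans (by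
      rw [ncl_eq_sup, commutator_comm]; exact sup_le le_sup_right (hc.trans (le_sup_left.trans le_sup_left)))
    have b := pgroup_sup hWP (isPGroup_conj hP x) (a.trans h3)
    have c := modular_right (N := D ⊔ W) (le_sup_right.trans (le_sup_left : W ⊔ P ≤ W ⊔ P ⊔ x ⋆ P))
      (hPA.trans (norm_of_comm_le (h1.trans le_sup_right)))
    exact ((le_inf a le_sup_right).trans c.le).trans
      (sup_le_sup_right (h2 _ inf_le_left (pgroup_of_le b inf_le_right)) _)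
  refine h2 _ (hc.trans le_sup_left) (pgroup_of_le hWP (le_trans ?_ h4))
  rw [ncl_eq_sup, commutator_comm]; exact le_sup_right

theorem aux2 (hw : WC p Q) (hA : A = weakClosure Q ⊤) (h₁ : Nml H₁ A) (h₂ : Nml H₂ A) (hs : H₁ ⊔ H₂ = A)
    (hc : ⁅H₁, H₂⁆ ≤ normalizer (Q : Set G)) : ⁅H₁, H₂⁆ ≤ pCoreOf p A := by
  set W := pCoreOf p A
  have hW := core_nml p A
  have hQ : Q ≤ A := hA ▸ le_wcl le_top
  have hA' : ncl Q A = A := by rw [hA, hw.wcl_eq le_top, hw.ncl_ncl le_top]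
  have key : ∀ X : Subgroup G, A ≤ normalizer (X : Set G) → ⁅Q, X⁆ ≤ W → ⁅X, A⁆ ≤ W := fun X a b => by
    rw [← hA', commutator_comm]; exact comm_ncl_le a hW.norm (hQ.trans hW.norm) b
  have hD := h₁.comm h₂
  have h1 := key _ hD.norm (comm_le_core_of_norm hw.pgroup hQ hD.norm hc)
  have hI := h₁.inf h₂
  have h2 : ⁅H₁ ⊓ H₂, A⁆ ≤ ⁅H₁, H₂⁆ := by
    rw [← hs]
    exact comm_sup_le' (left_norm_comm _ _) (right_norm_comm _ _)
      (by rw [commutator_comm]; exact commutator_mono le_rfl inf_le_right) (commutator_mono inf_le_left le_rfl)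
  have h3 := key _ hI.norm (by
    rw [commutator_comm]
    exact aux1 hD.le h1 hw.pgroup hQ hI.le ((commutator_mono le_rfl hQ).trans h2))
  have h4 : pElementClosure p H₁ ≤ relCent H₂ W := pel_le_iff.2 fun P a b => le_relCent.2
    ⟨(a.trans h₁.le).trans hW.norm, by
      rw [commutator_comm]
      exact aux1 hD.le h1 b (a.trans h₁.le) h₂.le (by rw [commutator_comm]; exact commutator_mono a le_rfl)⟩
  have h5 : Nml (pElementClosure p H₁ ⊔ H₂) A :=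
    (⟨(pel_le p H₁).trans h₁.le, h₁.norm.trans (normalizer_le_normalizer_pel H₁)⟩ : Nml _ A).sup h₂
  have h6 : A ≤ pElementClosure p H₁ ⊔ H₂ := by
    refine hA'.ge.trans (ncl_le ((le_pel hQ hw.pgroup).trans (pel_le_of_subnormal h5.normal.isSubnormal
      fun hd => not_dvd_relIndex_pel (p := p) H₁ ?_)) h5.norm)
    have e : H₁ ⊔ (pElementClosure p H₁ ⊔ H₂) = A := by
      rw [← sup_assoc, sup_eq_left.2 (pel_le p H₁), hs]
    rw [← e, relIndex_sup_of_le_normalizer (h₁.le.trans h5.norm)] at hd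
    exact hd.trans (relIndex_dvd_left le_sup_left H₁)
  have h7 := modular_left (pel_le p H₁) (h₂.le.trans (h₁.norm.trans (normalizer_le_normalizer_pel (p := p) H₁)))
  refine (le_relCent.1 (((le_inf (h₁.le.trans h6) le_rfl).trans h7.le).trans (sup_le h4 (le_relCent.2
    ⟨(inf_le_left.trans h₂.le).trans hW.norm, ?_⟩)))).2
  rw [inf_comm]; exact (commutator_mono le_rfl h₂.le).trans h3

theorem aux3 (hw : WC p Q) (hQ : Q ≤ A) (h₁ : Nml H₁ A) (h₂ : Nml H₂ A) (hs : H₁ ⊔ H₂ = A)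
    (hc : ⁅H₁, H₂⁆ ≤ pCoreOf p A) {K : Subgroup G} (hK : K = pResidualOf p (weakClosure Q (H₁ ⊔ Q))) :
    (⁅K, Q⁆ = K ∧ ⁅K, H₁⁆ = K ∧ K ≤ ⁅H₁, H₁⁆ ∧ A ≤ normalizer (K : Set G)) ∧ ncl Q H₁ ≤ K ⊔ Q := by
  set W := pCoreOf p A
  have hW := core_nml p A
  rw [hw.wcl_eq le_sup_right] at hK
  have e1 := hw.comm_res (le_sup_right : Q ≤ H₁ ⊔ Q)
  have e2 := hw.res_sup (le_sup_right : Q ≤ H₁ ⊔ Q)
  rw [← hK] at e1 e2
  have e3 : ncl Q (H₁ ⊔ Q) = Q ⊔ ⁅Q, H₁⁆ := by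
    rw [← ncl_eq_sup]
    exact le_antisymm (ncl_le (le_ncl _ _) (sup_le (norm_ncl _ _) (le_norm_of_le (le_ncl _ _))))
      (ncl_mono le_rfl le_sup_left)
  set C := ⁅Q, H₁⁆
  have hC : C ≤ H₁ := h₁.comm_le' hQ
  rw [e3, res_sup_of_isPGroup hw.pgroup (left_norm_comm Q H₁)] at hK
  have h1 : pResidualOf p (C ⊔ W) = K := hK ▸ res_sup_of_subnormal (core_pgroup p A)
    ((hC.trans h₁.le).trans hW.norm) (((SubnormalIn.of_le_normalizer hC (right_norm_comm Q H₁)).tail h₁.le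
      h₁.norm).mono le_sup_left (sup_le (hC.trans h₁.le) hW.le)).isSubnormal_subgroupOf
  have h2 : A ≤ normalizer (K : Set G) := by
    rw [← h1]
    refine le_trans ?_ (normalizer_le_normalizer_res p _)
    nth_rewrite 1 [← hs]
    refine sup_le (norm_sup (right_norm_comm Q H₁) (h₁.le.trans hW.norm)) ?_
    rw [sup_comm]
    refine comm_le_of_norm_sup ?_ (h₂.le.trans hW.norm)
    rw [commutator_comm]; exact (commutator_mono hC le_rfl).trans hc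
  have h3 : K ≤ H₁ := hK ▸ (res_le p C).trans hC
  have h4 : ⁅K, H₁⁆ = K := by
    refine le_antisymm (comm_le_left (h₁.le.trans h2)) ?_
    have hn : A ≤ normalizer ((⁅K, H₁⁆ : Subgroup G) : Set G) := norm_comm h2 h₁.norm
    have : K ≤ W ⊔ ⁅K, H₁⁆ := by
      refine e1.ge.trans ((commutator_mono le_rfl (hQ.trans hs.ge)).trans ?_)
      exact comm_sup_le' (h₁.le.trans (norm_sup hW.norm hn)) (h₂.le.trans (norm_sup hW.norm hn)) le_sup_right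
        (((commutator_mono h3 le_rfl).trans hc).trans le_sup_left)
    have h5 := res_le_of_le_sup (core_pgroup p A) (hW.le.trans hn) this
    rwa [show pResidualOf p K = K by rw [hK, res_res]] at h5
  exact ⟨⟨e1, h4, h4.ge.trans (commutator_mono h3 le_rfl), h2⟩, (ncl_mono le_rfl le_sup_left).trans e2.ge⟩

end

/-- Let Q be a nontrivial p-subgroup of the finite group H that is a weakly closed subgroup, H° the weak closure of Q in H (generated by the conjugates of Q) and H_∘ = O^p(H°). Suppose H₁, H₂ are normal subgroups of H° with H° = H₁H₂ and [H₁, H₂] ≤ N_H(Q), and put Kᵢ = O^p of the weak closure of Q in HᵢQ. Then for i = 1, 2: Kᵢ = [Kᵢ, Q] = [Kᵢ, Hᵢ] ≤ Hᵢ′ and Kᵢ is normal in H°; H_∘ = K₁K₂; and [K₁, K₂] ≤ O_p(H°). -/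
theorem result {G : Type*} [Group G] [Finite G] {p : ℕ} [Fact p.Prime] (Q : Subgroup G) (hQp : IsPGroup p ↥Q) (hQ1 : Q ≠ ⊥) (hwc : Cfsg.IsWeaklyClosedSubgroup p Q) (Hc : Subgroup G) (hHc : Hc = Cfsg.weakClosure Q ⊤) (H₁ H₂ : Subgroup G) (hn₁ : H₁ ≤ Hc ∧ Hc ≤ Subgroup.normalizer ((H₁ : Subgroup G) : Set G)) (hn₂ : H₂ ≤ Hc ∧ Hc ≤ Subgroup.normalizer ((H₂ : Subgroup G) : Set G)) (hprod : H₁ ⊔ H₂ = Hc) (hcomm : ⁅H₁, H₂⁆ ≤ Subgroup.normalizer ((Q : Subgroup G) : Set G)) (K₁ K₂ : Subgroup G) (hK₁ : K₁ = ((Cfsg.pResidual p ↥(Cfsg.weakClosure Q (H₁ ⊔ Q))).map ((Cfsg.weakClosure Q (H₁ ⊔ Q))).subtype)) (hK₂ : K₂ = ((Cfsg.pResidual p ↥(Cfsg.weakClosure Q (H₂ ⊔ Q))).map ((Cfsg.weakClosure Q (H₂ ⊔ Q))).subtype)) : (⁅K₁, Q⁆ = K₁ ∧ ⁅K₁, H₁⁆ = K₁ ∧ K₁ ≤ ⁅H₁, H₁⁆ ∧ Hc ≤ Subgroup.normalizer ((K₁ : Subgroup G) : Set G)) ∧ (⁅K₂, Q⁆ = K₂ ∧ ⁅K₂, H₂⁆ = K₂ ∧ K₂ ≤ ⁅H₂, H₂⁆ ∧ Hc ≤ Subgroup.normalizer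 ((K₂ : Subgroup G) : Set G)) ∧ K₁ ⊔ K₂ = ((Cfsg.pResidual p ↥Hc).map (Hc).subtype) ∧ ⁅K₁, K₂⁆ ≤ (Cfsg.pCoreOf p Hc) := by
    have hw := wc_iff.1 hwc
    have h₁ : Nml H₁ Hc := ⟨hn₁.1, hn₁.2⟩
    have h₂ : Nml H₂ Hc := ⟨hn₂.1, hn₂.2⟩
    have hQ : Q ≤ Hc := hHc ▸ le_wcl le_top
    have hc := aux2 hw hHc h₁ h₂ hprod hcomm
    obtain ⟨a, a'⟩ := aux3 hw hQ h₁ h₂ hprod hc hK₁
    obtain ⟨b, b'⟩ := aux3 hw hQ h₂ h₁ (sup_comm H₁ H₂ ▸ hprod) (commutator_comm H₁ H₂ ▸ hc) hK₂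
    refine ⟨a, b, le_antisymm (sup_le (hK₁ ▸ res_mono ((wcl_le _ _).trans (sup_le h₁.le hQ)))
      (hK₂ ▸ res_mono ((wcl_le _ _).trans (sup_le h₂.le hQ)))) ?_,
      (commutator_mono (a.2.2.1.trans (der_le _)) (b.2.2.1.trans (der_le _))).trans hc⟩
    have hn := norm_sup a.2.2.2 b.2.2.2
    refine res_le_of_le_sup hQp (hQ.trans hn) ?_
    have hA' : ncl Q Hc = Hc := by rw [hHc, hw.wcl_eq le_top, hw.ncl_ncl le_top]
    refine hA'.ge.trans (ncl_le le_sup_left (norm_of_comm_le (comm_sup_le (le_norm_of_le le_sup_left)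
      (le_norm_of_le le_sup_right) ?_ ((comm_le_left hn).trans le_sup_right))))
    rw [← hprod]
    have key : ∀ X K : Subgroup G, X ≤ Hc → ncl Q X ≤ K ⊔ Q → K ≤ K₁ ⊔ K₂ → ⁅Q, X⁆ ≤ Q ⊔ (K₁ ⊔ K₂) :=
      fun X K _ h2 h3 => (le_sup_right.trans (ncl_eq_sup Q X).ge).trans
        (h2.trans (sup_le (h3.trans le_sup_right) le_sup_left))
    have key2 : ∀ X : Subgroup G, X ≤ Hc → ⁅Q, X⁆ ≤ Q ⊔ (K₁ ⊔ K₂) →
        X ≤ normalizer ((Q ⊔ (K₁ ⊔ K₂) : Subgroup G) : Set G) := fun X h1 h2 =>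
      norm_of_comm_le (comm_sup_le (le_norm_of_le le_sup_left) (le_norm_of_le le_sup_right) h2
        ((comm_le_left (h1.trans hn)).trans le_sup_right))
    have c1 := key H₁ K₁ h₁.le a' le_sup_left
    have c2 := key H₂ K₂ h₂.le b' le_sup_right
    exact comm_sup_le' (key2 _ h₁.le c1) (key2 _ h₂.le c2) c1 c2

end Cfsg.Agent.S2859
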