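import Cfsg.Statements.S2855
import Cfsg.Agent.Lib.Loc.YMin
import Cfsg.Agent.S2859
-- import your own Cfsg.Agent.* helpers here

set_option autoImplicit false
open Cfsg

namespace Cfsg.Agent.S2855

open Cfsg.Lib.Loc Cfsg.Lib.BG Cfsg.Lib.Core Cfsg.Lib.Transfer Cfsg.Lib.Comp Subgroup

section
variable {G : Type*} [Group G] [Finite G] {p : ℕ} [Fact p.Prime] {D E L O S T Y : Subgroup G}

theorem yMin_of (hY : Y ≤ L) (h : IsMinimalOver (Y.subgroupOf L)) : ∃ D, YMin Y D L := by
  obtain ⟨M, hM, -⟩ := h.2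
  have h1 := YMin.of_top h hM.1 hM.2
  refine ⟨M.map L.subtype, by rw [← subOf_map hY]; exact map_mono hM.2, lt_of_le_of_ne (map_subtype_le _)
    fun e => hM.1.1 (map_injective L.subtype_injective (by rw [e, ← MonoidHom.range_eq_map, range_subtype])),
    ?_, fun X a b => ?_⟩
  · rw [← map_normalClosure_eq_ncl hY, h.1, ← MonoidHom.range_eq_map, range_subtype]
  · rw [← subOf_map b.le]
    exact map_mono (h1.uniq _ (comap_mono a) (lt_top_iff_ne_top.2 fun e => b.not_ge (subgroupOf_eq_top.1 e)))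

theorem yMin_top (h : YMin Y D ⊤) : IsMinimalOver Y :=
  ⟨by rw [← ncl_top]; exact h.ncl_eq, D, ⟨⟨h.lt.ne, fun M hM => by
    by_contra hne
    exact hM.not_ge (h.uniq M (h.le.trans hM.le) (lt_top_iff_ne_top.2 hne))⟩, h.le⟩,
    fun M hM => ((hM.1.le_iff_eq h.lt.ne).1 (h.uniq M hM.2 hM.1.lt_top)).symm⟩

theorem yMin_sup (h : YMin S D E) (hO : E ≤ normalizer (O : Set G)) (h1 : O ⊓ E ≤ S) (h2 : S ⊔ O ≤ Y)
    (h3 : Y < E ⊔ O) : YMin Y (sSup {X | Y ≤ X ∧ X < E ⊔ O}) (E ⊔ O) := by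
  have key : ∀ X : Subgroup G, O ≤ X → X ≤ E ⊔ O → X = (E ⊓ X) ⊔ O := fun X a b => by
    rw [sup_comm, ← modular_left a hO, sup_comm, inf_eq_right.2 b]
  refine ⟨le_sSup ⟨le_rfl, h3⟩, lt_of_le_of_lt (sSup_le fun X hX => ?_) (show D ⊔ O < E ⊔ O from ?_), ?_,
    fun X a b => le_sSup ⟨a, b⟩⟩
  · rw [key X (le_sup_right.trans (h2.trans hX.1)) hX.2.le]
    refine sup_le_sup_right (h.uniq _ (le_inf h.Y_le (le_sup_left.trans (h2.trans hX.1)))
      (lt_of_le_of_ne inf_le_left fun e => hX.2.not_ge (sup_le (inf_eq_left.1 e)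
        (le_sup_right.trans (h2.trans hX.1))))) O
  · refine lt_of_le_of_ne (sup_le_sup_right h.lt.le O) fun e => h.lt.not_ge ?_
    have := modular_right (N := O) h.lt.le (h.lt.le.trans hO)
    rw [sup_comm, e, inf_eq_right.2 le_sup_left] at this
    exact this.le.trans (sup_le (h1.trans h.le) le_rfl)
  · refine le_antisymm (ncl_le_self h3.le) (sup_le ?_ ((le_sup_right.trans h2).trans (le_ncl _ _)))
    exact h.ncl_eq.ge.trans (ncl_mono (le_sup_left.trans h2) le_sup_left)

theorem closed_of_comm (h : ⁅pResidualOf p E, E⁆ ≤ D) (hD : D ≤ E) (h' : ⁅D, E⁆ ≤ pCoreOf p E) : IsPClosed p E := by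
  obtain ⟨T, hT⟩ := Syl.exists p E
  have h1 := S2859.aux1 hD h' hT.pgroup hT.le (res_le p E) ((commutator_mono le_rfl hT.le).trans h)
  refine isPClosed_of_le_normalizer hT.pgroup hT.not_dvd' ?_
  rw [inf_eq_left.2 hT.le]
  refine (res_sup_sylowIn hT.le hT.not_dvd').ge.trans (sup_le (norm_of_comm_le ?_) (le_norm T))
  rw [commutator_comm]; exact h1.trans (Syl.core_le hT)

end

/-- Let H be a finite group, p a prime, and 𝒦 a nonempty set of subgroups of H permuted transitively by conjugation, with R the subgroup generated by the members of 𝒦. Suppose O^p(H) ≤ R, each E ∈ 𝒦 has E·O_p(H) normal in R·O_p(H), and each E ∈ 𝒦 is p-minimal (generated by the conjugates of a Sylow p-subgroup T_E of E, with T_E in exactly one maximal subgroup of E). Then H is p-minimal in the same sense. If instead each E ∈ 𝒦 is strongly p-irreducible, then H is p-irreducible and, for E, K ∈ 𝒦, either O^p(E·O_p(H)) = O^p(K·O_p(H)) or [E, K] ≤ O_p(H). -/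
theorem result {H : Type*} [Group H] [Finite H] {p : ℕ} [Fact p.Prime] (𝒦 : Set (Subgroup H)) (hne : 𝒦.Nonempty) (hinv : ∀ h : H, ∀ E ∈ 𝒦, E.map (MulAut.conj h).toMonoidHom ∈ 𝒦) (htr : ∀ E ∈ 𝒦, ∀ K ∈ 𝒦, ∃ h : H, K = E.map (MulAut.conj h).toMonoidHom) (hres : Cfsg.pResidual p H ≤ sSup 𝒦) (hnorm : ∀ E ∈ 𝒦, sSup 𝒦 ⊔ Cfsg.pCore p H ≤ Subgroup.normalizer ((E ⊔ Cfsg.pCore p H : Subgroup H) : Set H)) : ((∀ E ∈ 𝒦, ∀ T : Sylow p ↥E, Cfsg.IsMinimalOver (T : Subgroup ↥E)) → ∀ T : Sylow p H, Cfsg.IsMinimalOver (T : Subgroup H)) ∧ ((∀ E ∈ 𝒦, Cfsg.IsStronglyPIrreducible p ↥E) → Cfsg.IsPIrreducible p H ∧ ∀ E ∈ 𝒦, ∀ K ∈ 𝒦, (Cfsg.pResidual p ↥(E ⊔ Cfsg.pCore p H)).map (E ⊔ Cfsg.pCore p H).subtype = (Cfsg.pResidual p ↥(K ⊔ Cfsg.pCore p H)).map (K ⊔ Cfsg.pCore p H).subtype ∨ ⁅E, K⁆ ≤ Cfsg.pCore p H) := by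
    set O := pCore p H with hO
    set G₀ := sSup 𝒦
    have hOn : ∀ X : Subgroup H, X ≤ normalizer (O : Set H) := fun X => by rw [normalizer_eq_top]; exact le_top
    have hOp : IsPGroup p O := pCore_isPGroup p H
    have hG₀ : ∀ X : Subgroup H, X ≤ normalizer (G₀ : Set H) := fun X x _ => mem_normalizer_of_conj_le (by
      rw [conj_le_iff_le_inv_conj]
      exact sSup_le fun E hE => conj_le_iff_le_inv_conj.1 (le_sSup (hinv x E hE)))
    have hB : ∀ E ∈ 𝒦, Nml (E ⊔ O) (G₀ ⊔ O) := fun E hE => ⟨sup_le_sup_right (le_sSup hE) O, hnorm E hE⟩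
    have hsn : ∀ X : Subgroup H, Nml X (G₀ ⊔ O) → SubnormalIn X ⊤ := fun X hX =>
      (SubnormalIn.of_le_normalizer hX.le hX.norm).tail le_top (norm_sup (hG₀ _) (hOn _))
    have hcore : ∀ X : Subgroup H, Nml X (G₀ ⊔ O) → pCoreOf p X ≤ O := fun X hX =>
      (core_le_core_of_subnormal (hsn X hX)).trans core_top.le
    have hconj : ∀ (x : H) (E : Subgroup H), x ⋆ (E ⊔ O) = x ⋆ E ⊔ O := fun x E => by
      rw [conj_sup, conj_eq_of_norm (hOn ⊤ trivial)]
    refine ⟨fun hmin T => ?_, fun hirr => ?_⟩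
    · have hT := syl_of_sylow T
      have hOT : O ≤ T := core_top.ge.trans (Syl.core_le hT)
      have htop : ∀ X : Subgroup H, (T : Subgroup H) ≤ X → (∀ E ∈ 𝒦, E ≤ X) → X = ⊤ := fun X a b =>
        eq_top_iff.2 ((res_sup_sylowIn hT.le hT.not_dvd').ge.trans
          (sup_le (res_top.le.trans (hres.trans (sSup_le b))) a))
      let f : Subgroup H → Subgroup H := fun L => sSup {X | (T : Subgroup H) ⊓ L ≤ X ∧ X < L}
      have hf : ∀ E ∈ 𝒦, YMin (T ⊓ (E ⊔ O)) (f (E ⊔ O)) (E ⊔ O) := fun E hE => by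
        have h1 := Syl.inf_subnormal hT (hsn _ (hB E hE))
        obtain ⟨S₀, hS₀⟩ := Syl.exists p E
        obtain ⟨x, hx, hle⟩ := h1.exists_conj_le hS₀.pgroup (hS₀.le.trans le_sup_left)
        rw [sup_comm] at hx
        obtain ⟨o, ho, e, he, rfl⟩ := (mem_sup_left_norm (hOn E)).1 hx
        rw [← conj_conj, conj_le_iff_le_inv_conj, conj_eq_of_mem (Subgroup.inv_mem _ (mem_inf.2 ⟨hOT ho, mem_sup_right ho⟩))] at hle
        have hS : Syl p (e ⋆ S₀) E := by have := Hall.conj hS₀ e; rwa [conj_eq_of_mem he] at this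
        obtain ⟨S, hS'⟩ := Syl.iff_sylow.1 hS
        obtain ⟨D, hD⟩ := yMin_of hS.le (by
          have := hmin E hE S
          rwa [← comap_map_eq_self_of_injective E.subtype_injective (S : Subgroup E), hS'] at this)
        have h2 : O ⊓ E ≤ e ⋆ S₀ := hS.ge_of_norm_p inf_le_right (pgroup_of_le hOp inf_le_left)
          (norm_inf (hOn _) (le_norm_of_le hS.le))
        refine yMin_sup hD (hOn E) h2 (sup_le hle (le_inf hOT le_sup_right)) (lt_of_le_of_ne inf_le_right
          fun e' => hD.lt.not_ge ?_)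
        rw [← hS.eq_of_le_pgroup hS.le le_rfl (pgroup_of_le hT.pgroup (le_sup_left.trans (inf_eq_right.1 e')))]
        exact hD.le
      let M : Subgroup H :=
        { carrier := {h | ∀ E ∈ 𝒦, h ⋆ f (E ⊔ O) = f (h ⋆ E ⊔ O)}
          one_mem' := fun E _ => by rw [conj_one, conj_one]
          mul_mem' := fun {a b} ha hb E hE => by rw [← conj_conj, hb E hE, ha _ (hinv b E hE), conj_conj]
          inv_mem' := fun {a} ha E hE => by
            have := ha _ (hinv a⁻¹ E hE)
            rw [conj_inv_conj] at this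
            rw [← this, inv_conj_conj] }
      have hM : ∀ X : Subgroup H, (T : Subgroup H) ≤ X → X < ⊤ → X ≤ M := fun X a b => by
        have h1 : ∀ E ∈ 𝒦, X ⊓ (E ⊔ O) < E ⊔ O := fun E hE => lt_of_le_of_ne inf_le_right fun e =>
          b.ne (htop X a fun K hK => by
            obtain ⟨h, rfl⟩ := htr E hE K hK
            have : h ∈ (T : Subgroup H) ⊔ G₀ := by
              rw [htop _ le_sup_left fun E hE => (le_sSup hE).trans le_sup_right]; trivial
            obtain ⟨t, ht, g, hg, rfl⟩ := (mem_sup_right_norm (hG₀ _)).1 this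
            refine (conj_mono _ (le_sup_left : E ≤ E ⊔ O)).trans ?_
            rw [← conj_conj, (hB E hE).conj_eq (mem_sup_left hg)]
            exact conj_le_of_mem (inf_eq_right.1 e) (a ht))
        have h2 : ∀ x ∈ X, ∀ E ∈ 𝒦, x ⋆ f (E ⊔ O) ≤ f (x ⋆ E ⊔ O) := fun x hx E hE => by
          refine (hf _ (hinv x E hE)).uniq _ ?_ (hconj x E ▸ conj_lt_conj_iff.2 (hf E hE).lt)
          refine le_trans ?_ (conj_mono x ((hf E hE).uniq _ (inf_le_inf_right _ a) (h1 E hE)))
          rw [conj_inf, conj_eq_of_mem hx, hconj]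
          exact inf_le_inf_right _ a
        refine fun x hx E hE => le_antisymm (h2 x hx E hE) ?_
        have := h2 _ (X.inv_mem hx) _ (hinv x E hE)
        rwa [inv_conj_conj, ← le_conj_iff_inv_conj_le] at this
      obtain ⟨E, hE⟩ := hne
      have hlt : (T : Subgroup H) < ⊤ := lt_top_iff_ne_top.2 fun e => ((hf E hE).le.trans_lt (hf E hE).lt).ne
        (by rw [e, top_inf_eq])
      refine yMin_top ⟨hM _ le_rfl hlt, lt_top_iff_ne_top.2 fun e => (hf E hE).lt.ne ((hf E hE).eq_of_norm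
        (hf E hE).le (hf E hE).lt.le (le_norm_of_conj fun x hx => ?_)), htop _ (le_ncl _ _) fun K hK => ?_, hM⟩
      · have : x ∈ M := e ▸ mem_top x
        rw [this E hE, ← hconj, conj_eq_of_mem hx]
      · exact le_sup_left.trans ((hf K hK).ncl_eq.ge.trans (ncl_mono inf_le_left le_top))
    have hirr' := fun E hE => isStronglyPIrreducible_iff.1 (hirr E hE)
    have g0 : ∀ E ∈ 𝒦, pCoreOf p E ≤ O := fun E hE => le_sup_left.trans ((le_core (sup_le_sup_right (core_le p E) O)
      (sup_le (norm_sup (le_normalizer_core p E) (hOn _)) (le_norm_of_le le_sup_right))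
      (by rw [sup_comm]; exact pgroup_sup hOp (core_pgroup p E) (hOn _))).trans (hcore _ (hB E hE)))
    have g1 : ∀ E : Subgroup H, pResidualOf p (E ⊔ O) ≤ pResidualOf p E ⊔ O := fun E =>
      res_sup_le (hOn E) (norm_sup (le_normalizer_res p E) (hOn E)) (le_norm_of_le le_sup_right) le_sup_left
        ((res_le p O).trans le_sup_right)
    have g2 : ∀ E ∈ 𝒦, ∀ X : Subgroup H, E ≤ normalizer (X : Set H) → O ≤ X → ¬ pResidualOf p E ≤ X →
        ⁅X ⊓ (E ⊔ O), E⁆ ≤ O := fun E hE X a b c => by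
      rw [inf_comm, sup_comm, modular_left b (hOn E)]
      refine comm_sup_le (hOn _) (hOn _) (comm_le_left (hOn _)) (le_trans ?_ (g0 E hE))
      by_contra hn
      exact c (((hirr' E hE).2 _ inf_le_left (norm_inf (le_norm E) a) hn).trans inf_le_right)
    have g2' : ∀ E ∈ 𝒦, pResidualOf p E ≤ ⁅pResidualOf p E, E⁆ := fun E hE =>
      (hirr' E hE).2 _ (comm_le_of_le (res_le p E) le_rfl) (right_norm_comm _ _) fun e =>
        (hirr' E hE).1 (closed_of_comm le_rfl (comm_le_of_le (res_le p E) le_rfl) e)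
    have g2'' : ∀ E ∈ 𝒦, ∀ X : Subgroup H, ⁅⁅X, E⁆, E⁆ ≤ O → ⁅pResidualOf p E, X⁆ ≤ O := fun E hE X a =>
      (commutator_mono ((g2' E hE).trans (commutator_mono (res_le p E) le_rfl)) le_rfl).trans
        (three_subgroups_normal O (by rwa [commutator_comm E X]) a)
    have g3 : ∀ E ∈ 𝒦, ∀ K ∈ 𝒦, pResidualOf p E ≤ K ⊔ O → pResidualOf p (E ⊔ O) = pResidualOf p (K ⊔ O) :=
      fun E hE K hK a => by
        obtain ⟨h, rfl⟩ := htr E hE K hK
        refine eq_of_le_of_card_le ((res_res _).ge.trans (res_mono ((g1 E).trans (sup_le a le_sup_right)))) ?_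
        rw [← hconj, ← conj_res, card_conj]
    have g4 : ∀ E ∈ 𝒦, ∀ K ∈ 𝒦, pResidualOf p (E ⊔ O) = pResidualOf p (K ⊔ O) ∨ ⁅E, K⁆ ≤ O := fun E hE K hK => by
      refine or_iff_not_imp_left.2 fun hne => ?_
      have hEK : E ≤ normalizer ((K ⊔ O : Subgroup H) : Set H) :=
        (le_sup_left.trans (hB E hE).le).trans (hB K hK).norm
      have hKE : K ≤ normalizer ((E ⊔ O : Subgroup H) : Set H) :=
        (le_sup_left.trans (hB K hK).le).trans (hB E hE).norm
      have h1 := g2 E hE _ hEK le_sup_right fun e => hne (g3 E hE K hK e)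
      have h2 := g2 K hK _ hKE le_sup_right fun e => hne (g3 K hK E hE e).symm
      rw [inf_comm] at h1
      have h3 : ⁅E, K⁆ ≤ (E ⊔ O) ⊓ (K ⊔ O) := le_inf ((commutator_mono le_sup_left le_rfl).trans (comm_le_left hKE))
        ((commutator_mono le_rfl le_sup_left).trans (comm_le_right hEK))
      have h4 := g2'' K hK E ((commutator_mono h3 le_rfl).trans h2)
      obtain ⟨T, hT⟩ := Syl.exists p K
      have hA := (hB E hE).sup (hB K hK)
      have h5 : ⁅(E ⊔ O) ⊓ (K ⊔ O), (E ⊔ O) ⊔ (K ⊔ O)⁆ ≤ O := comm_sup_le' (hOn _) (hOn _)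
        (comm_sup_le' (hOn _) (hOn _) h1 (comm_le_right (hOn _))) (comm_sup_le' (hOn _) (hOn _) h2 (comm_le_right (hOn _)))
      have h6 := (S2859.aux1 (inf_le_left.trans le_sup_left) (h5.trans (le_core (le_sup_right.trans le_sup_left)
        (hOn _) hOp)) hT.pgroup (hT.le.trans (le_sup_left.trans le_sup_right)) (le_sup_left.trans le_sup_left)
        ((commutator_mono le_rfl hT.le).trans h3)).trans (hcore _ hA)
      nth_rewrite 1 [← res_sup_sylowIn hT.le hT.not_dvd']
      exact comm_sup_le' (hOn _) (hOn _) (by rwa [commutator_comm]) h6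
    have g5 : ∀ N : Subgroup H, N.Normal → O ≤ N → (∀ E ∈ 𝒦, pResidualOf p E ≤ N) → pResidualOf p ⊤ ≤ N :=
      fun N hN a b => by
        refine (res_res _).ge.trans ((res_mono (res_top.le.trans hres)).trans (res_le_iff_isPGroup_map.2
          (pgroup_of_le (core_pgroup p ⊤) ?_)))
        rw [map_le_iff_le_comap]
        refine sSup_le fun E hE => map_le_iff_le_comap.1 ((map_mono (le_sup_left : E ≤ E ⊔ O)).trans ?_)
        have h1 := (hsn _ (hB E hE)).map (QuotientGroup.mk' N)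
        rw [map_top_of_surjective _ (QuotientGroup.mk'_surjective N)] at h1
        exact le_core_of_subnormal le_top h1.isSubnormal_subgroupOf
          (res_le_iff_isPGroup_map.1 ((g1 E).trans (sup_le (b E hE) a)))
    refine ⟨⟨fun hc => ?_, fun N hN hc => ?_⟩, g4⟩
    · obtain ⟨E, hE⟩ := hne
      exact (hirr' E hE).1 (isPClosed_of_le (isPClosed_top_iff.2 hc) le_top)
    rw [← res_top]
    have hNn : ∀ X : Subgroup H, X ≤ normalizer (N : Set H) := fun X => by rw [normalizer_eq_top]; exact le_top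
    by_cases h1 : ∃ E ∈ 𝒦, pResidualOf p E ≤ O ⊔ N
    · obtain ⟨E, hE, h1⟩ := h1
      refine res_le_of_res_le_sup hOp (hNn _) (g5 _ inferInstance le_sup_left fun K hK => ?_)
      obtain ⟨h, rfl⟩ := htr E hE K hK
      rw [← conj_res]
      exact conj_le_of_norm h1 (norm_sup (hOn ⊤) (hNn ⊤) trivial)
    push Not at h1
    refine (hc ?_).elim
    have h2 : ∀ E ∈ 𝒦, ⁅N ⊓ (E ⊔ O), E⁆ ≤ O := fun E hE => (commutator_mono (inf_le_inf_right _ le_sup_right)
      le_rfl).trans (g2 E hE _ (norm_sup (hOn _) (hNn _)) le_sup_left (h1 E hE))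
    have h3 : ∀ E ∈ 𝒦, ⁅pResidualOf p E, N ⊓ G₀⁆ ≤ O := fun E hE => g2'' E hE _ ((commutator_mono (le_inf
      ((commutator_mono inf_le_left le_rfl).trans (comm_le_left (hNn _))) ((commutator_mono le_rfl le_sup_left).trans
        (comm_le_right ((inf_le_right.trans le_sup_left).trans (hB E hE).norm)))) le_rfl).trans (h2 E hE))
    have h4 : ∀ E ∈ 𝒦, N ≤ normalizer (pResidualOf p (E ⊔ O) : Set H) := fun E hE => le_norm_of_conj fun n hn => by
      rw [conj_res, hconj]
      refine ((g4 E hE _ (hinv n E hE)).resolve_right fun a => h1 E hE ?_).symm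
      refine ((g2' E hE).trans ?_).trans le_sup_left
      rw [commutator_comm]
      refine (le_relCent.1 fun e he => ?_).2
      have b : N ⊓ G₀ ≤ relCent (pResidualOf p E) O := le_relCent.2 ⟨hOn _, by rw [commutator_comm]; exact h3 E hE⟩
      have c : n ⋆ E ≤ relCent (pResidualOf p E) O := le_relCent.2 ⟨hOn _, by
        rw [commutator_comm]; exact (commutator_mono (res_le p E) le_rfl).trans a⟩
      have d : n * e * n⁻¹ * e⁻¹ ∈ N ⊓ G₀ := ⟨comm_le_left (hNn E) (comm_mem_comm hn he),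
        comm_le_right (hG₀ N) (comm_mem_comm hn (le_sSup hE he))⟩
      simpa [mul_assoc] using mul_mem (inv_mem (b d)) (c (conj_mem_conj.2 he))
    have h5 : pResidualOf p ⊤ ≤ relCent N O := g5 _ (normalizer_eq_top_iff.1 (eq_top_iff.2
      (le_normalizer_relCent (hNn _) (hOn _)))) (le_relCent.2 ⟨hOn _, comm_le_left (hOn _)⟩) fun E hE =>
      le_relCent.2 ⟨hOn _, by
        refine (commutator_mono ((g2' E hE).trans (commutator_mono (res_mono (le_sup_left : E ≤ E ⊔ O)) le_rfl))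
          le_rfl).trans (three_subgroups_normal O ?_ ?_)
        · rw [commutator_comm]
          refine (commutator_mono (g1 E) (le_inf (comm_le_right (hNn _)) ((commutator_mono (le_sSup hE) le_rfl).trans
            (comm_le_left (hG₀ _))))).trans (comm_sup_le (hOn _) (hOn _) (h3 E hE) (comm_le_left (hOn _)))
        · exact (commutator_mono (le_inf (comm_le_left (hNn _)) ((comm_le_right (h4 E hE)).trans (res_le p _)))
            le_rfl).trans (h2 E hE)⟩
    have h6 : ⁅pResidualOf p N, N⁆ ≤ pCoreOf p N := (le_inf ((commutator_mono (res_mono le_top) le_rfl).trans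
      ((le_relCent.1 h5).2.trans core_top.ge)) (comm_le_right (hNn _))).trans (core_inf_le le_top)
    exact closed_of_comm h6 (core_le p N) (comm_le_left (le_normalizer_core p N))

end Cfsg.Agent.S2855
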