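import Cfsg.Statements.S2860
import Cfsg.Agent.Lib.Loc.FrakM
-- import your own Cfsg.Agent.* helpers here

set_option autoImplicit false
open Cfsg

namespace Cfsg.Agent.S2860

open Cfsg.Lib.Loc Cfsg.Lib.BG Cfsg.Lib.Core Cfsg.Lib.Transfer Cfsg.Lib.Comp Subgroup

/-- Let Q be a nontrivial large p-subgroup of the finite group H, U a nontrivial elementary abelian p-subgroup of H, and Q ≤ E ≤ N_H(U) with Q not normal in E. Suppose O_p(E/C_E(U)) = 1 and O^p(E)·C_E(U)/C_E(U) is quasisimple. Let E° be the weak closure of Q in E (generated by the conjugates of Q inside E) and E_∘ = O^p(E°). Then O^p(E)·C_E(U) = E_∘·C_E(U); E_∘ is perfect and equals O^p(E_∘); E_∘/C_{E_∘}(U) and E_∘/O_p(E_∘) are quasisimple; and E_∘ = [E_∘, Y] for every p-subgroup Y of E not centralizing U. -/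
theorem result {G : Type*} [Group G] [Finite G] {p : ℕ} [Fact p.Prime] (Q : Subgroup G) (hQp : IsPGroup p ↥Q) (hQ1 : Q ≠ ⊥) (hQ : Cfsg.IsLarge Q) (U : Subgroup G) (hU : Cfsg.IsElementaryAbelian p U) (hU1 : U ≠ ⊥) (E : Subgroup G) (hQE : Q ≤ E) (hEU : E ≤ Subgroup.normalizer ((U : Subgroup G) : Set G)) (hQn : ¬ E ≤ Subgroup.normalizer ((Q : Subgroup G) : Set G)) [hn : ((Subgroup.centralizer ((U : Subgroup G) : Set G)).subgroupOf E).Normal] (hred : Cfsg.pCore p (↥E ⧸ (Subgroup.centralizer ((U : Subgroup G) : Set G)).subgroupOf E) = ⊥) (hqs : Cfsg.IsQuasisimple ↥(((Cfsg.pResidual p ↥E) ⊔ (Subgroup.centralizer ((U : Subgroup G) : Set G)).subgroupOf E).map (QuotientGroup.mk' ((Subgroup.centralizer ((U : Subgroup G) : Set G)).subgroupOf E)))) (Er : Subgroup G) (hEr : Er = ((Cfsg.pResidual p ↥(Cfsg.weakClosure Q E)).map ((Cfsg.weakClosure Q E)).subtype)) [hn2 : ((Subgroup.centralizer ((U : Subgroup G) : Set G)).subgroupOf Er).Normal] : ((Cfsg.pResidual p ↥E).map (E).subtype) ⊔ (E ⊓ Subgroup.centralizer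 ((U : Subgroup G) : Set G)) = Er ⊔ (E ⊓ Subgroup.centralizer ((U : Subgroup G) : Set G)) ∧ ⁅Er, Er⁆ = Er ∧ ((Cfsg.pResidual p ↥Er).map (Er).subtype) = Er ∧ Cfsg.IsQuasisimple (↥Er ⧸ (Subgroup.centralizer ((U : Subgroup G) : Set G)).subgroupOf Er) ∧ Cfsg.IsQuasisimple (↥Er ⧸ Cfsg.pCore p ↥Er) ∧ ∀ Y : Subgroup G, Y ≤ E → IsPGroup p ↥Y → ¬ Y ≤ Subgroup.centralizer ((U : Subgroup G) : Set G) → ⁅Er, Y⁆ = Er := by
    set D := centralizer (U : Set G)
    set f := QuotientGroup.mk' (D.subgroupOf E)
    have hw := large_wc hQ hQp hQ1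
    let φ : Subgroup G → Subgroup (E ⧸ D.subgroupOf E) := fun X => (X.subgroupOf E).map f
    have φmono : ∀ {X Y : Subgroup G}, X ≤ Y → φ X ≤ φ Y := fun h => map_mono (comap_mono h)
    have φle : ∀ {X Y : Subgroup G}, X ≤ E → Y ≤ E → φ X ≤ φ Y → X ≤ Y ⊔ (E ⊓ D) := fun {X Y} h1 h2 h => by
      rw [Subgroup.map_le_map_iff, QuotientGroup.ker_mk', ← inf_subgroupOf_left D, ← subOf_sup h2 inf_le_left,
        subOf_le_iff h1] at h
      exact h
    have φcomm : ∀ {X Y : Subgroup G}, X ≤ E → Y ≤ E → φ ⁅X, Y⁆ = ⁅φ X, φ Y⁆ := fun h1 h2 => by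
      simp only [φ]; rw [subOf_comm h1 h2, Subgroup.map_commutator]
    have φres : ∀ {X : Subgroup G}, X ≤ E → φ (pResidualOf p X) = pResidualOf p (φ X) := fun h => by
      simp only [φ]; rw [← res_subgroupOf h, map_res]
    have φp : ∀ {X : Subgroup G}, IsPGroup p X → IsPGroup p (φ X) := fun h =>
      (h.comap_of_injective _ E.subtype_injective).map f
    have φbot : ∀ {X : Subgroup G}, X ≤ E → φ X = ⊥ → X ≤ D := fun h e => by
      rwa [Subgroup.map_eq_bot_iff, QuotientGroup.ker_mk', subOf_le_iff h] at e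
    have φtop : φ E = ⊤ := by
      simp only [φ]; rw [subgroupOf_self, map_top_of_surjective _ (QuotientGroup.mk'_surjective _)]
    set K := φ (pResidualOf p E) with hK
    have hK' : K = pResidualOf p ⊤ := by rw [hK, φres le_rfl, φtop]
    have hKq : IsQuasisimple K := by
      rwa [Subgroup.map_sup, (Subgroup.map_eq_bot_iff _).2 (QuotientGroup.ker_mk' _).ge, sup_bot_eq,
        ← res_subgroupOf_self] at hqs
    have hKn : ∀ X, X ≤ normalizer (K : Set (E ⧸ D.subgroupOf E)) := fun X =>
      le_top.trans (hK' ▸ le_normalizer_res p ⊤)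
    have key : ∀ Y : Subgroup G, Y ≤ E → IsPGroup p Y → ¬ Y ≤ D → ⁅K, φ Y⁆ = K := fun Y h1 h2 h3 => by
      refine (qs_commutator_eq_self_or hKq (hKn _)).resolve_right fun e => h3 (φbot h1 ?_)
      refine eq_bot_of_le_centralizer_genFitting hred (φp h2) ((comm_eq_bot_iff'.1 e).trans (cent_anti ?_))
      rw [hK', ← res_eq_of_genFitting_eq_top genFitting_genFitting (core_eq_bot_of_subnormal
        (SubnormalIn.of_normal le_top) (core_top.trans hred))]
      exact res_mono le_top
    set E₀ := weakClosure Q E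
    have hE₀ := wcl_nml Q E
    have hEr' : Er = pResidualOf p E₀ := hEr
    have hErE₀ : Er ≤ E₀ := hEr' ▸ res_le p E₀
    have hErE : Er ≤ E := hErE₀.trans hE₀.le
    have hEn : E ≤ normalizer (Er : Set G) := hEr' ▸ hE₀.norm.trans (normalizer_le_normalizer_res p E₀)
    have hres : pResidualOf p Er = Er := by rw [hEr', res_res]
    have h1 : φ Er = K := by
      refine le_antisymm (φmono (hEr' ▸ res_mono hE₀.le)) ?_
      have h2 := key Q hQE hQp fun e => hQn (hEU.trans (hQ.2 U (cent_symm e) hU1))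
      have h3 : K ≤ φ E₀ := by
        rw [← h2, ← φcomm (res_le p E) hQE]
        exact φmono ((commutator_mono (res_le p E) (le_wcl hQE)).trans (comm_le_right hE₀.norm))
      rw [hEr', φres hE₀.le, ← res_eq_of_perfect (p := p) (qs_commutator_self hKq)]
      exact res_mono h3
    have hc : ⁅E₀, D⁆ ≤ pCoreOf p E₀ := large_comm_wcl hQ hQp (elab_pgroup hU) hU1 hEU
    have hO : E ≤ normalizer (pCoreOf p E₀ : Set G) := hE₀.norm.trans (normalizer_le_normalizer_core p E₀)
    have gen : ∀ N : Subgroup G, N ≤ Er → Er ≤ normalizer (N : Set G) → K ≤ φ N → Er ≤ N ⊔ (Er ⊓ D) :=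
      fun N a b c => by
        have := φle hErE (a.trans hErE) (h1.le.trans c)
        have h2 := modular_right (N := E ⊓ D) a ((a.trans hErE).trans (norm_inf (le_norm E) (norm_cent hEU)))
        rw [sup_comm] at this
        exact ((le_inf this le_rfl).trans h2.le).trans (sup_le ((le_inf inf_le_right
          (inf_le_left.trans inf_le_right)).trans le_sup_right) le_sup_left)
    have fin : ∀ N X : Subgroup G, N ≤ Er → Er ≤ normalizer (N : Set G) → X ≤ normalizer (N : Set G) → X ≤ E₀ →
        ⁅Er, X⁆ = Er → K ≤ φ N → N = Er := fun N X a b c d e f => by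
      refine le_antisymm a ?_
      have hn : Er ≤ normalizer ((N ⊔ pCoreOf p E₀ : Subgroup G) : Set G) := norm_sup b (hErE.trans hO)
      have h2 : Er ≤ N ⊔ pCoreOf p E₀ := by
        rw [← e]
        refine (commutator_mono (gen N a b f) le_rfl).trans (comm_sup_le (a.trans hn) (inf_le_left.trans hn)
          ((comm_le_left c).trans le_sup_left) ?_)
        rw [commutator_comm]
        exact ((commutator_mono d inf_le_right).trans hc).trans le_sup_right
      have h3 : Er ≤ N ⊔ pCoreOf p Er := by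
        rw [core_eq_inf_of_le_normalizer hErE₀ (hE₀.le.trans hEn), sup_comm,
          ← modular_right a ((a.trans hErE).trans hO), sup_comm]
        exact le_inf h2 le_rfl
      rw [← hres]
      exact res_le_of_le_sup (core_pgroup p Er) ((core_le p Er).trans b) (by rwa [sup_comm])
    have hperf : ⁅Er, Er⁆ = Er := fin _ Q (der_le Er) (left_norm_comm _ _) (hQE.trans (norm_der hEn)) (le_wcl hQE)
      (by rw [hEr', show E₀ = ncl Q E from hw.wcl_eq hQE]; exact hw.comm_res hQE)
      (by rw [φcomm hErE hErE, h1, qs_commutator_self hKq])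
    have hq1 : IsQuasisimple (Er ⧸ D.subgroupOf Er) := by
      let ψ : Er →* E ⧸ D.subgroupOf E := f.comp (inclusion hErE)
      have e1 : ψ.ker = D.subgroupOf Er := by
        ext x; simp [ψ, f, mem_subgroupOf]
      have e2 : ψ.range = K := by
        rw [← h1, MonoidHom.range_comp, inclusion_range]
      exact isQuasisimple_of_mulEquiv (e2 ▸ hKq) ((QuotientGroup.quotientMulEquivOfEq e1.symm).trans
        (QuotientGroup.quotientKerEquivRange ψ)).symm
    refine ⟨le_antisymm (sup_le (φle (res_le p E) hErE h1.ge) le_sup_right)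
      (sup_le_sup_right (hEr' ▸ res_mono hE₀.le) _), hperf, hres, hq1, ?_, fun Y a b c => ?_⟩
    · have h2 : pCoreOf p Er ≤ D := φbot ((core_le p Er).trans hErE) (eq_bot_mono (core_top.trans hred)
        (le_core le_top (φtop ▸ map_norm f (subOf_le_norm (hEn.trans (normalizer_le_normalizer_core p Er)) E))
          (φp (core_pgroup p Er))))
      have h3 : pCore p Er ≤ D.subgroupOf Er := by rw [← core_subgroupOf_self]; exact comap_mono h2
      have h4 : _root_.commutator Er = ⊤ := by
        rw [_root_.commutator_def, ← subgroupOf_self, ← subOf_comm le_rfl le_rfl, hperf]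
      refine isQuasisimple_of_ker_le_center (f := QuotientGroup.map _ (D.subgroupOf Er) (MonoidHom.id Er) h3) ?_ ?_ ?_ hq1
      · rw [_root_.commutator_def, ← map_top_of_surjective _ (QuotientGroup.mk'_surjective (pCore p Er)),
          ← Subgroup.map_commutator, ← _root_.commutator_def, h4]
      · intro x
        obtain ⟨x, rfl⟩ := QuotientGroup.mk_surjective x
        exact ⟨x, rfl⟩
      · intro x hx
        obtain ⟨x, rfl⟩ := QuotientGroup.mk_surjective x
        have hx' : (x : G) ∈ D := (QuotientGroup.eq_one_iff (N := D.subgroupOf Er) x).1 hx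
        refine mem_center_iff.2 fun y => ?_
        obtain ⟨y, rfl⟩ := QuotientGroup.mk_surjective y
        rw [← QuotientGroup.mk_mul, ← QuotientGroup.mk_mul, eq_comm, QuotientGroup.eq, ← core_subgroupOf_self,
          mem_subgroupOf, core_eq_inf_of_le_normalizer hErE₀ (hE₀.le.trans hEn)]
        refine ⟨?_, Subtype.prop _⟩
        have := hc (comm_mem_comm (E₀.inv_mem (hErE₀ y.2)) (D.inv_mem hx'))
        simpa [mul_assoc] using this
    · exact fin _ Er (comm_le_left (a.trans hEn)) (left_norm_comm _ _) (left_norm_comm _ _) hErE₀ hperf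
        (by rw [φcomm hErE a, h1, key Y a b c])

end Cfsg.Agent.S2860
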