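import Cfsg.Statements.S2861
import Cfsg.Agent.Lib.Loc.FrakL3

set_option autoImplicit false
open Cfsg

namespace Cfsg.Agent.S2861

open Subgroup Cfsg.Lib.FrakL in

/-- Standing hypotheses: G a finite group, S a Sylow p-subgroup, Q a nontrivial large p-subgroup of G contained in S, M a subgroup containing S with the basic property (M ∈ 𝔐_G(S)); Y_M the largest p-reduced normal subgroup of M and M† = M·C_G(Y_M). Let L ∈ 𝔏_G(Y_M) (L ∈ 𝔏_G(Y_M): Y_M ≤ L; O_p(L) is the normal closure in L of Y_M ∩ O_p(L) and normalizes Y_M; L is Y_M-minimal of characteristic p with N_L(Y_M) its unique maximal subgroup over Y_M; and L/O_p(L) ≅ SL₂(q) with q = |Y_M : Y_M ∩ O_p(L)|, or p = 2 and L/O_p(L) is a Suzuki group Sz(q) or dihedral of order 2r, r an odd prime) and A = O_p(L). Then Y_M·A/A is the unique nontrivial elementary abelian normal p-subgroup of N_L(Y_M)/A. -/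
theorem result {G : Type*} [Group G] [Finite G] {p : ℕ} [Fact p.Prime] (S : Sylow p G) (Q : Subgroup G) (hQp : IsPGroup p ↥Q) (hQ1 : Q ≠ ⊥) (hQS : Q ≤ (S : Subgroup G)) (hQ : Cfsg.IsLarge Q) (M : Subgroup G) (hSM : (S : Subgroup G) ≤ M) (hM : Cfsg.IsInFrakM p M) (L : Subgroup G) (hL : Cfsg.IsInFrakL p M L) (NL : Subgroup G) (hNL : NL = L ⊓ Subgroup.normalizer (((Cfsg.largestPReducedOf p M) : Subgroup G) : Set G)) [hn : (((Cfsg.pCoreOf p L)).subgroupOf NL).Normal] : let Ybar : Subgroup (↥NL ⧸ ((Cfsg.pCoreOf p L)).subgroupOf NL) := (((Cfsg.largestPReducedOf p M)).subgroupOf NL).map (QuotientGroup.mk' (((Cfsg.pCoreOf p L)).subgroupOf NL)); Ybar ≠ ⊥ ∧ Ybar.Normal ∧ Cfsg.IsElementaryAbelian p Ybar ∧ ∀ (V : Subgroup (↥NL ⧸ ((Cfsg.pCoreOf p L)).subgroupOf NL)), V.Normal → Cfsg.IsElementaryAbelian p V → V ≠ ⊥ → V = Ybar := by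
  intro Ybar
  obtain ⟨h1, h2, h3⟩ := setup hL
  have hle : NL ≤ L := hNL ▸ inf_le_left
  have hNY : NL ≤ normalizer (Cfsg.largestPReducedOf p M : Set G) := hNL ▸ inf_le_right
  have hYN : Cfsg.largestPReducedOf p M ≤ NL := hNL ▸ le_inf hL.1 le_normalizer
  set π := QuotientGroup.mk' (Cfsg.pCore p L) with hπ
  let φ : NL →* L ⧸ Cfsg.pCore p L := π.comp (inclusion hle)
  have hk : (Cfsg.pCoreOf p L).subgroupOf NL = φ.ker := by
    ext x
    refine Iff.trans ?_ (QuotientGroup.eq_one_iff (inclusion hle x)).symm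
    exact ⟨fun ⟨y, hy, e⟩ => by rwa [← show y = inclusion hle x from Subtype.ext e],
      fun h => ⟨_, h, rfl⟩⟩
  let ψ := QuotientGroup.lift _ φ hk.le
  have hψ : Function.Injective ψ := (QuotientGroup.injective_lift_iff _ _ _).2 hk
  have hY : Ybar.map ψ = ((Cfsg.largestPReducedOf p M).subgroupOf L).map π := by
    refine le_antisymm ?_ ?_
    · rintro _ ⟨_, ⟨y, hy, rfl⟩, rfl⟩
      exact ⟨inclusion hle y, hy, rfl⟩
    · rintro _ ⟨y, hy, rfl⟩
      exact ⟨_, ⟨⟨y, hYN hy⟩, hy, rfl⟩, rfl⟩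
  haveI : ((Cfsg.largestPReducedOf p M).subgroupOf NL).Normal :=
    (normal_subgroupOf_iff_le_normalizer hYN).2 hNY
  have hYn : Ybar.Normal := Normal.map inferInstance _ (QuotientGroup.mk'_surjective _)
  have nm : ∀ V : Subgroup (NL ⧸ (Cfsg.pCoreOf p L).subgroupOf NL), V.Normal → ∀ x,
      ψ x ∈ normalizer ((V.map ψ : Subgroup _) : Set (L ⧸ Cfsg.pCore p L)) := fun V hV x =>
    le_normalizer_map ψ ⟨x, normalizer_eq_top_iff.2 hV ▸ mem_top x, rfl⟩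
  refine ⟨fun e => ?_, hYn, ⟨⟨⟨?_⟩⟩, ?_⟩, fun V hV hE hV1 => map_injective hψ ?_⟩
  · obtain ⟨y, hy, hyA⟩ := h1.exy
    rw [e, Subgroup.map_bot, eq_comm, Subgroup.map_eq_bot_iff, hπ, QuotientGroup.ker_mk'] at hY
    exact hyA (hY hy)
  · rintro ⟨_, x, hx, rfl⟩ ⟨_, y, hy, rfl⟩
    refine Subtype.ext ?_
    simp only [coe_mul, ← map_mul]
    rw [show x * y = y * x from Subtype.ext (Y_comm M _ hx _ hy)]
  · rintro _ ⟨x, hx, rfl⟩
    rw [← map_pow, show x ^ p = 1 from Subtype.ext ((Cfsg.Lib.Loc.pRed_Y p M).elemAb.2 _ hx), map_one]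
  · rw [hY]
    refine h2.uniq _ ?_ (fun g hg => ?_) ?_ ?_
    · rintro _ ⟨v, -, rfl⟩
      exact hY ▸ nm _ hYn v
    · obtain ⟨g, rfl⟩ := QuotientGroup.mk'_surjective _ g
      exact nm V hV (QuotientGroup.mk ⟨g, hNL ▸ ⟨g.2, h3 g hg⟩⟩)
    · rintro _ ⟨v, hv, rfl⟩
      rw [← map_pow, hE.2 v hv, map_one]
    · rwa [Ne, map_eq_bot_iff_of_injective _ hψ]

end Cfsg.Agent.S2861
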