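import Cfsg.Statements.S2862
import Cfsg.Agent.Lib.Loc.YMin
-- import your own Cfsg.Agent.* helpers here

set_option autoImplicit false
open Cfsg

namespace Cfsg.Agent.S2862

open Cfsg.Lib.Loc Cfsg.Lib.BG Cfsg.Lib.Core Cfsg.Lib.Transfer Subgroup

/-- Standing hypotheses: G a finite group, S a Sylow p-subgroup, Q a nontrivial large p-subgroup of G contained in S, M a subgroup containing S with the basic property (M ∈ 𝔐_G(S)); Y_M the largest p-reduced normal subgroup of M and M† = M·C_G(Y_M). Suppose Y_M is char-p-tall and asymmetric in G, H ∈ ℌ_G(O_p(M)), and L is minimal among the subgroups of H containing Y_M with Y_M ≰ O_p(L). Then H = ⟨L, O_p(M)⟩ = ⟨hY_Mh⁻¹, O_p(M)⟩ for every h ∈ L outside N_L(Y_M); L is Y_M-minimal and of characteristic p, with N_L(Y_M) the unique maximal subgroup of L containing Y_M; [V, O^p(L)] ≠ 1 for every noncentral chief factor V/W of H inside O_p(H) (that is, O^p(L) does not act trivially on V/W); and the normal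 closure of O_p(L) ∩ Y_M in L lies in O_p(H). -/
theorem result {G : Type*} [Group G] [Finite G] {p : ℕ} [Fact p.Prime] (S : Sylow p G) (Q : Subgroup G) (hQp : IsPGroup p ↥Q) (hQ1 : Q ≠ ⊥) (hQS : Q ≤ (S : Subgroup G)) (hQ : Cfsg.IsLarge Q) (M : Subgroup G) (hSM : (S : Subgroup G) ≤ M) (hM : Cfsg.IsInFrakM p M) (htall : Cfsg.IsCharPTall p (Cfsg.largestPReducedOf p M)) (hasym : ¬ Cfsg.IsSymmetricIn (Cfsg.largestPReducedOf p M)) (H : Subgroup G) (hH : Cfsg.IsInFrakH p M H) (L : Subgroup G) (hLH : L ≤ H) (hYL : (Cfsg.largestPReducedOf p M) ≤ L) (hYO : ¬ (Cfsg.largestPReducedOf p M) ≤ (Cfsg.pCoreOf p L)) (hmin : ∀ L' : Subgroup G, L' ≤ L → (Cfsg.largestPReducedOf p M) ≤ L' → ¬ (Cfsg.largestPReducedOf p M) ≤ (Cfsg.pCoreOf p L') → L' = L) : (L ⊔ (Cfsg.pCoreOf p M) = H ∧ ∀ h ∈ L, h ∉ Subgroup.normalizer (((Cfsg.largestPReducedOf p M) : Subgroup G) : Set G) → (((Cfsg.largestPReducedOf p M) : Subgroup G).map (MulAut.conj (h : G)).toMonoidHom) ⊔ (Cfsg.pCoreOf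 p M) = H) ∧ (Cfsg.IsMinimalOver (((Cfsg.largestPReducedOf p M)).subgroupOf L) ∧ Subgroup.centralizer (Cfsg.pCore p ↥L : Set ↥L) ≤ Cfsg.pCore p ↥L ∧ L ⊓ Subgroup.normalizer (((Cfsg.largestPReducedOf p M) : Subgroup G) : Set G) < L ∧ ∀ X : Subgroup G, (Cfsg.largestPReducedOf p M) ≤ X → X < L → X ≤ L ⊓ Subgroup.normalizer (((Cfsg.largestPReducedOf p M) : Subgroup G) : Set G)) ∧ (∀ V W' : Subgroup G, V ≤ (Cfsg.pCoreOf p H) → H ≤ Subgroup.normalizer ((V : Subgroup G) : Set G) → H ≤ Subgroup.normalizer ((W' : Subgroup G) : Set G) → W' < V → (∀ Z' : Subgroup G, H ≤ Subgroup.normalizer ((Z' : Subgroup G) : Set G) → W' ≤ Z' → Z' ≤ V → Z' = W' ∨ Z' = V) → ¬ ⁅V, H⁆ ≤ W' → ¬ ⁅V, ((Cfsg.pResidual p ↥L).map (L).subtype)⁆ ≤ W') ∧ (Subgroup.normalClosure (((((Cfsg.pCoreOf p L) ⊓ (Cfsg.largestPReducedOf p M)).subgroupOf L : Subgroup ↥L)) : Set ↥L)).map L.subtype ≤ (Cfsg.pCoreOf p H) := by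
    have h := FM.of_large S hQp hQ1 hQ hSM hM
    have hh : FH p S M H := ⟨h, hasym, hH⟩
    obtain ⟨D, hD, key⟩ := yMin_of_min h.Yp hYL hYO hmin
    have h1 := hh.le_norm_Y hD hLH hYO (key D hD.le hD.lt)
    have h2 : L ⊓ normalizer (largestPReducedOf p M : Set G) < L := lt_of_le_of_ne inf_le_left fun e =>
      hYO (le_core hYL (inf_eq_left.1 e) h.Yp)
    have h3 : L ⊓ normalizer (largestPReducedOf p M : Set G) = D :=
      le_antisymm (hD.uniq _ (le_inf hYL (le_norm _)) h2) (le_inf hD.lt.le h1)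
    have hA := hLH.trans (le_normalizer_core p H)
    have h4 : pCoreOf p H ≤ normalizer (L : Set G) := by
      refine norm_of_comm_le ?_
      rw [commutator_comm]
      exact (hD.comm_L_le h.Y_cent hh.core_norm_Y hA).trans (ncl_le_self (inf_le_left.trans hYL))
    have h5 : pResidualOf p L ⊔ largestPReducedOf p M = L := hmin _ (sup_le (res_le p L) hYL) le_sup_right
      fun e => hYO (e.trans (core_le_core_of_subnormal (subnormal_of_res_le le_sup_left
        (sup_le (res_le p L) hYL))))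
    refine ⟨⟨hh.L_sup hD hLH hYO, fun g hg hn => hh.conj_sup hD hLH hYO hg fun e => hn (h1 e)⟩,
      ⟨hD.isMinimalOver, isChP_iff.1 (hh.chp.of_core_le_normalizer hLH h4), h2, h3 ▸ hD.uniq⟩,
      fun V W hV hHV hHW hlt hc hn hle => hn ?_, ?_⟩
    · have hVH := hV.trans (core_le p H)
      refine comm_le_of_chief (pgroup_of_le (core_pgroup p H) hV) hHV hHW ⟨hlt.le, hVH.trans hHW⟩ hc ?_
      have h6 := norm_inf (le_norm H) (le_normalizer_relCent hHV hHW)
      have h7 : pResidualOf p L ≤ H ⊓ relCent V W := le_inf ((res_le p L).trans hLH)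
        (le_relCent.2 ⟨((res_le p L).trans hLH).trans hHW, by rwa [commutator_comm]⟩)
      have h8 := hh.eq_of_le le_sup_left (sup_le hh.Q_le (inf_le_left : H ⊓ relCent V W ≤ H))
        (h5.ge.trans (sup_le (h7.trans le_sup_right) (h.Y_le_Q.trans le_sup_left))) hYL hYO
      rw [commutator_comm]
      exact (le_relCent.1 ((res_le_of_le_sup (core_pgroup p M) (hh.Q_le.trans h6) h8.ge).trans inf_le_right)).2
    · rw [map_normalClosure_eq_ncl (inf_le_left.trans (core_le p L))]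
      refine ncl_le (hh.core_inf_le hD hLH hYO h1 ?_) hA
      refine le_sup_right.trans (hD.uniq _ le_sup_left (lt_of_le_of_ne (sup_le hYL (core_le p L)) fun e => hYO ?_))
      have : IsPGroup p L := by
        rw [← e, sup_comm]; exact pgroup_sup (core_pgroup p L) h.Yp (hYL.trans (le_normalizer_core p L))
      exact hYL.trans (core_eq_self_iff.2 this).ge

end Cfsg.Agent.S2862
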