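import Cfsg.Statements.S2863
import Cfsg.Agent.Lib.Loc.FrakL3

set_option autoImplicit false
open Cfsg

namespace Cfsg.Agent.S2863

open Subgroup Cfsg.Lib.FrakL in

/-- Standing hypotheses: G a finite group, S a Sylow p-subgroup, Q a nontrivial large p-subgroup of G contained in S, M a subgroup containing S with the basic property (M ∈ 𝔐_G(S)); Y_M the largest p-reduced normal subgroup of M and M† = M·C_G(Y_M). Let L ∈ 𝔏_G(Y_M) (L ∈ 𝔏_G(Y_M): Y_M ≤ L; O_p(L) is the normal closure in L of Y_M ∩ O_p(L) and normalizes Y_M; L is Y_M-minimal of characteristic p with N_L(Y_M) its unique maximal subgroup over Y_M; and L/O_p(L) ≅ SL₂(q) with q = |Y_M : Y_M ∩ O_p(L)|, or p = 2 and L/O_p(L) is a Suzuki group Sz(q) or dihedral of order 2r, r an odd prime), A = O_p(L), and C = C_{Y_M}(L). Then every element h of L whose order is not a power of p acts without nontrivial fixed points on A/C: for a ∈ A, hah⁻¹a⁻¹ ∈ C implies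 a ∈ C. -/
theorem result {G : Type*} [Group G] [Finite G] {p : ℕ} [Fact p.Prime] (S : Sylow p G) (Q : Subgroup G) (hQp : IsPGroup p ↥Q) (hQ1 : Q ≠ ⊥) (hQS : Q ≤ (S : Subgroup G)) (hQ : Cfsg.IsLarge Q) (M : Subgroup G) (hSM : (S : Subgroup G) ≤ M) (hM : Cfsg.IsInFrakM p M) (L : Subgroup G) (hL : Cfsg.IsInFrakL p M L) (h : G) (hh : h ∈ L) (hnp : ¬ ∃ k : ℕ, orderOf h = p ^ k) : ∀ a ∈ (Cfsg.pCoreOf p L), h * a * h⁻¹ * a⁻¹ ∈ (Cfsg.largestPReducedOf p M) ⊓ Subgroup.centralizer ((L : Subgroup G) : Set G) → a ∈ (Cfsg.largestPReducedOf p M) ⊓ Subgroup.centralizer ((L : Subgroup G) : Set G) := by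
  intro a ha hs
  obtain ⟨h1, h2, -⟩ := setup hL
  obtain ⟨a, ha, rfl⟩ := ha
  have hC : ∀ x : L, x ∈ (Cfsg.largestPReducedOf p M).subgroupOf L ⊓ center L ↔
      (x : G) ∈ Cfsg.largestPReducedOf p M ⊓ centralizer (L : Set G) := fun x =>
    and_congr Iff.rfl ⟨fun h l hl => congrArg Subtype.val (mem_center_iff.1 h ⟨l, hl⟩),
      fun h => mem_center_iff.2 fun l => Subtype.ext (h l l.2)⟩
  refine (hC a).1 (fpf (x := ⟨h, hh⟩) h1
    (fun y hy => Subtype.ext ((Cfsg.Lib.Loc.pRed_Y p M).elemAb.2 _ hy))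
    (Cfsg.Lib.Core.pCore_isPGroup _ _) _ (QuotientGroup.mk'_surjective _) (QuotientGroup.ker_mk' _)
    h2 ?_ ha (mem_St.2 ((hC _).2 hs)))
  rintro ⟨k, e⟩
  obtain ⟨j, -, ej⟩ := (Nat.dvd_prime_pow Fact.out).1
    (orderOf_dvd_of_pow_eq_one (congrArg Subtype.val e : h ^ p ^ k = 1))
  exact hnp ⟨j, ej⟩

end Cfsg.Agent.S2863
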