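import Cfsg.Statements.S2872
import Cfsg.Agent.Lib.Transfer.Extremal
import Cfsg.Agent.Lib.PGroup.Frattini
import Cfsg.Agent.Lib.PGroup.Omega

set_option autoImplicit false
open Cfsg

set_option linter.unusedVariables false
open Cfsg.Lib

namespace Cfsg.Agent.S2872

/-- Let S be a Sylow 2-subgroup of the finite group G. Then G has a proper normal subgroup of 2-power index (O²(G) ≠ G), or Ω₁(Z(S)) is contained in the Frattini subgroup of S, or N_G(S) acts nontrivially on Ω₁(Z(S)) by conjugation. -/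
theorem result {G : Type*} [Group G] [Finite G] (S : Sylow 2 G) : Cfsg.pResidual 2 G ≠ ⊤ ∨ Cfsg.omegaOne 2 ((S : Subgroup G) ⊓ Subgroup.centralizer ((S : Subgroup G) : Set G)) ≤ (frattini ↥(S : Subgroup G)).map (S : Subgroup G).subtype ∨ ∃ g ∈ Subgroup.normalizer ((S : Subgroup G) : Set G), ∃ z ∈ Cfsg.omegaOne 2 ((S : Subgroup G) ⊓ Subgroup.centralizer ((S : Subgroup G) : Set G)), g * z * g⁻¹ ≠ z := by
  open Subgroup Transfer in
  have : Fact (Nat.Prime 2) := ⟨Nat.prime_two⟩
  by_contra hne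
  push Not at hne
  obtain ⟨h1, h2, h3⟩ := hne
  apply h2
  have hZ := PGroup.isMulCommutative_inf_centralizer (S : Subgroup G)
  intro z hz
  obtain ⟨⟨hzS, hzC⟩, hz2⟩ := (PGroup.mem_omegaOne_iff_of_isMulCommutative hZ).mp hz
  refine ⟨⟨z, hzS⟩, PGroup.mem_frattini_iff.mpr fun M hM => ?_, rfl⟩
  have hMn := PGroup.normal_of_isCoatom S.isPGroup' hM
  have hMi := PGroup.index_eq_of_isCoatom S.isPGroup' hM
  have hMn' : ((M.map (S : Subgroup G).subtype).subgroupOf (S : Subgroup G)).Normal := by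
    rwa [Core.subgroupOf_map_subtype_self]
  obtain ⟨g, hg1, hg2, hg3⟩ := exists_conj_mem_and_conj_le S (T := M.map (S : Subgroup G).subtype)
    (isCyclic_of_prime_card (p := 2) (by
      rw [← Subgroup.index_eq_card, Core.subgroupOf_map_subtype_self, hMi]))
    (y := z) (by rw [← pow_two, hz2]) (by rw [h1]; simp) S.isPGroup'
    (fun s hs => mem_centralizer_singleton_iff.mpr (mem_centralizer_iff.mp hzC s hs))
  rw [h3 g (mem_normalizer_of_conj_le hg3) z hz] at hg1
  obtain ⟨h, hh⟩ := Core.mem_map_subtype_iff.mp hg1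
  exact hh

end Cfsg.Agent.S2872
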