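import Cfsg.Statements.S2873
import Cfsg.Agent.Lib.Core.PCore

set_option autoImplicit false
set_option linter.style.haveILetI false
open Cfsg

namespace Cfsg.Agent.S2873

open Subgroup DihedralGroup

/-- the standing hypotheses -/
structure Hy {G : Type*} [Group G] (r : ℕ) [Fact r.Prime] (Q : Subgroup G) (φ : G →* DihedralGroup r)
    (R : Sylow r G) : Prop where
  r2 : r ≠ 2
  q2 : IsPGroup 2 Q
  ker : ∀ x, φ x = 1 ↔ x ∈ Q
  surj : Function.Surjective φ
  cq : Q ⊓ Subgroup.centralizer ((R : Subgroup G) : Set G) = ⊥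

section
variable {G : Type*} [Group G] [Finite G] {r : ℕ} [hp : Fact r.Prime] {Q : Subgroup G}
  {φ : G →* DihedralGroup r} {R : Sylow r G}

theorem two_ne (hr : r ≠ 2) : (2 : ZMod r) ≠ 0 := by
  intro h
  have h' : ((2 : ℕ) : ZMod r) = 0 := by exact_mod_cast h
  rw [ZMod.natCast_eq_zero_iff] at h'
  exact hr ((Nat.prime_dvd_prime_iff_eq hp.out Nat.prime_two).1 h')

theorem ord_r {i : ZMod r} (hi : i ≠ 0) : orderOf (DihedralGroup.r i : DihedralGroup r) = r := by
  haveI : NeZero r := ⟨hp.out.ne_zero⟩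
  refine orderOf_eq_prime ?_ ?_
  · rw [DihedralGroup.r_pow, ZMod.natCast_self, mul_zero, DihedralGroup.one_def]
  · intro h
    rw [DihedralGroup.one_def] at h
    exact hi (by injection h)

theorem inv_sr (hr : r ≠ 2) {d : DihedralGroup r} (h1 : d ≠ 1) (h2 : d * d = 1) :
    ∃ i, d = DihedralGroup.sr i := by
  cases d with
  | sr i => exact ⟨i, rfl⟩
  | r i =>
    exfalso
    rw [DihedralGroup.r_mul_r, DihedralGroup.one_def] at h2
    have h3 : i + i = 0 := by injection h2
    have h4 : (2 : ZMod r) * i = 0 := by rw [two_mul]; exact h3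
    rcases mul_eq_zero.1 h4 with h | h
    · exact two_ne hr h
    · exact h1 (by rw [h, DihedralGroup.one_def])

omit [Finite G] in
theorem Hy.nq (H : Hy r Q φ R) : Q.Normal := by
  refine ⟨fun x hx g => (H.ker _).1 ?_⟩
  rw [map_mul, map_mul, (H.ker _).2 hx, mul_one, ← map_mul, mul_inv_cancel, map_one]

omit [Finite G] in
theorem Hy.rq (H : Hy r Q φ R) {x : G} (h1 : x ∈ (R : Subgroup G)) (h2 : x ∈ Q) : x = 1 := by
  haveI : Fact (Nat.Prime 2) := ⟨Nat.prime_two⟩
  have := IsPGroup.disjoint_of_ne r 2 H.r2 (R : Subgroup G) Q R.isPGroup' H.q2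
  exact Subgroup.disjoint_def.1 this h1 h2

omit [Finite G] in
theorem Hy.nq1 (H : Hy r Q φ R) {x : G}
    (h1 : x ∈ Subgroup.normalizer ((R : Subgroup G) : Set G)) (h2 : x ∈ Q) : x = 1 := by
  have : x ∈ Q ⊓ Subgroup.centralizer ((R : Subgroup G) : Set G) := by
    refine Subgroup.mem_inf.2 ⟨h2, ?_⟩
    rw [Subgroup.mem_centralizer_iff]
    intro y hy
    have a1 : x * y * x⁻¹ ∈ (R : Subgroup G) := (Subgroup.mem_normalizer_iff.1 h1 y).1 hy
    have a2 : x * y * x⁻¹ * y⁻¹ ∈ (R : Subgroup G) := mul_mem a1 (inv_mem hy)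
    have a3 : x * y * x⁻¹ * y⁻¹ ∈ Q := by
      have := mul_mem h2 (H.nq.conj_mem _ (inv_mem h2) y)
      simpa [mul_assoc] using this
    have a4 := H.rq a2 a3
    calc y * x = (x * y * x⁻¹ * y⁻¹) * (y * x) := by rw [a4, one_mul]
      _ = x * y := by group
  rw [H.cq] at this
  exact this

theorem Hy.card_R (H : Hy r Q φ R) : Nat.card (R : Subgroup G) = r := by
  haveI : NeZero r := ⟨hp.out.ne_zero⟩
  obtain ⟨k, hk⟩ := IsPGroup.iff_card.1 R.isPGroup'
  have hinj : Function.Injective (φ.comp (R : Subgroup G).subtype) := by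
    rw [injective_iff_map_eq_one]
    intro x hx
    exact Subtype.ext (H.rq x.2 ((H.ker _).1 hx))
  have h1 : Nat.card (R : Subgroup G) ∣ 2 * r := by
    have := Subgroup.card_dvd_of_injective _ hinj
    rwa [DihedralGroup.nat_card] at this
  have h2 : r ∣ Nat.card G := by
    have := Subgroup.card_dvd_of_surjective _ H.surj
    rw [DihedralGroup.nat_card] at this
    exact (Dvd.intro_left 2 rfl).trans this
  have h3 : r ∣ Nat.card (R : Subgroup G) := R.dvd_card_of_dvd_card h2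
  rw [hk] at h1 h3 ⊢
  have hc : Nat.Coprime (r ^ k) 2 :=
    Nat.Coprime.pow_left _ ((Nat.coprime_primes hp.out Nat.prime_two).2 H.r2)
  have h4 : r ^ k ∣ r := hc.dvd_of_dvd_mul_left h1
  exact Nat.dvd_antisymm h4 h3

theorem Hy.conj (H : Hy r Q φ R) {w : G} (hw : orderOf (φ w) = r) :
    ∃ (m : ℕ) (g : G), ∀ x, x ∈ (R : Subgroup G) ↔ g⁻¹ * x * g ∈ zpowers (w ^ m) := by
  have h1 : r ∣ orderOf w := hw ▸ orderOf_map_dvd φ w
  have h0 : orderOf w ≠ 0 := (orderOf_pos w).ne'
  have h2 : orderOf (w ^ (orderOf w / r)) = r := orderOf_pow_orderOf_div h0 h1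
  have h3 : Nat.card (zpowers (w ^ (orderOf w / r))) = r := by rw [Nat.card_zpowers, h2]
  have h4 : IsPGroup r (zpowers (w ^ (orderOf w / r))) := IsPGroup.of_card (n := 1) (by rw [h3, pow_one])
  obtain ⟨P, hP⟩ := h4.exists_le_sylow
  obtain ⟨g, hg⟩ := MulAction.exists_smul_eq G P R
  have h5 : Nat.card (P : Subgroup G) = r := by
    exact (Nat.card_congr (Sylow.equiv P R).toEquiv).trans H.card_R
  have h6 : zpowers (w ^ (orderOf w / r)) = (P : Subgroup G) :=
    Subgroup.eq_of_le_of_card_ge hP (by rw [h3, h5])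
  refine ⟨orderOf w / r, g, fun x => ?_⟩
  rw [h6, ← hg, Sylow.coe_subgroup_smul, Subgroup.mem_pointwise_smul_iff_inv_smul_mem]
  simp [MulAut.smul_def]

theorem Hy.cw (H : Hy r Q φ R) {w : G} (hw : orderOf (φ w) = r) {u : G} (hu : u ∈ Q)
    (hc : u * w = w * u) : u = 1 := by
  obtain ⟨m, g, hg⟩ := H.conj hw
  have : g * u * g⁻¹ ∈ Q ⊓ Subgroup.centralizer ((R : Subgroup G) : Set G) := by
    refine Subgroup.mem_inf.2 ⟨H.nq.conj_mem _ hu g, ?_⟩
    rw [Subgroup.mem_centralizer_iff]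
    intro y hy
    obtain ⟨k, hk⟩ := Subgroup.mem_zpowers_iff.1 ((hg y).1 hy)
    have hc' : Commute u ((w ^ m) ^ k) := ((show Commute u w from hc).pow_right m).zpow_right k
    rw [hk] at hc'
    calc y * (g * u * g⁻¹) = g * ((g⁻¹ * y * g) * u) * g⁻¹ := by group
      _ = g * (u * (g⁻¹ * y * g)) * g⁻¹ := by rw [hc'.eq]
      _ = g * u * g⁻¹ * y := by group
  rw [H.cq] at this
  have h1 : g * u * g⁻¹ = 1 := this
  calc u = g⁻¹ * (g * u * g⁻¹) * g := by group
    _ = 1 := by rw [h1]; group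

theorem Hy.exx (H : Hy r Q φ R) : ∃ x ∈ (R : Subgroup G), ∃ i : ZMod r, i ≠ 0 ∧
    φ x = DihedralGroup.r i := by
  haveI : Nontrivial (R : Subgroup G) := by
    rw [← Finite.one_lt_card_iff_nontrivial, H.card_R]; exact hp.out.one_lt
  obtain ⟨x, hx⟩ := exists_ne (1 : (R : Subgroup G))
  have h1 : φ x ≠ 1 := fun h => hx (Subtype.ext (H.rq x.2 ((H.ker _).1 h)))
  have h2 : x ^ r = 1 := by
    have := pow_card_eq_one' (x := x)
    rwa [H.card_R] at this
  have h3 : φ x ^ r = 1 := by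
    rw [← map_pow, ← Subgroup.coe_pow, h2]; simp
  refine ⟨x, x.2, ?_⟩
  cases hd : φ x with
  | r i => exact ⟨i, fun h => h1 (by rw [hd, h, DihedralGroup.one_def]), rfl⟩
  | sr i =>
    exfalso
    have h4 : orderOf (φ x) ∣ r := orderOf_dvd_of_pow_eq_one h3
    rw [hd, DihedralGroup.orderOf_sr] at h4
    exact H.r2 ((Nat.prime_dvd_prime_iff_eq Nat.prime_two hp.out).1 h4).symm

theorem Hy.rot (H : Hy r Q φ R) (j : ZMod r) : ∃ y ∈ (R : Subgroup G), φ y = DihedralGroup.r j := by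
  haveI : NeZero r := ⟨hp.out.ne_zero⟩
  obtain ⟨x, hx, i, hi, hxi⟩ := H.exx
  refine ⟨x ^ (j * i⁻¹).val, pow_mem hx _, ?_⟩
  rw [map_pow, hxi, DihedralGroup.r_pow, ZMod.natCast_zmod_val]
  congr 1
  field_simp

theorem Hy.nsr (H : Hy r Q φ R) {b : G} (hb : b * b = 1) {i : ZMod r}
    (hi : φ b = DihedralGroup.sr i) :
    ∃ g : G, g * b * g⁻¹ ∈ Subgroup.normalizer ((R : Subgroup G) : Set G) := by
  obtain ⟨x, hx⟩ := H.surj (DihedralGroup.r 1)
  have hw : orderOf (φ (b * (x * b * x⁻¹))) = r := by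
    have : φ (b * (x * b * x⁻¹)) = DihedralGroup.r (-2) := by
      rw [map_mul, map_mul, map_mul, map_inv, hx, hi]
      simp only [DihedralGroup.inv_r, DihedralGroup.r_mul_sr, DihedralGroup.sr_mul_r,
        DihedralGroup.sr_mul_sr]
      congr 1; ring
    rw [this]; exact ord_r (neg_ne_zero.2 (two_ne H.r2))
  obtain ⟨m, g, hg⟩ := H.conj hw
  set w := b * (x * b * x⁻¹) with hwd
  have hbi : b⁻¹ = b := inv_eq_of_mul_eq_one_right hb
  have hinv : b * w * b⁻¹ = w⁻¹ := by
    rw [hwd, mul_inv_rev, mul_inv_rev, mul_inv_rev, inv_inv, hbi, ← mul_assoc b b, hb]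
    group
  have key : ∀ y, y ∈ zpowers (w ^ m) → b * y * b⁻¹ ∈ zpowers (w ^ m) := by
    intro y hy
    obtain ⟨k, rfl⟩ := Subgroup.mem_zpowers_iff.1 hy
    rw [← conj_zpow, ← conj_pow, hinv, inv_pow]
    exact zpow_mem (inv_mem (mem_zpowers _)) k
  refine ⟨g, ?_⟩
  rw [Subgroup.mem_normalizer_iff]
  intro y
  rw [hg, hg]
  constructor
  · intro h
    have := key _ h
    convert this using 1; group
  · intro h
    have := key _ h
    convert this using 1
    calc g⁻¹ * y * g = (b * b) * (g⁻¹ * y * g) * (b * b)⁻¹ := by rw [hb]; group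
      _ = _ := by group

theorem Hy.nsurj (H : Hy r Q φ R) (d : DihedralGroup r) :
    ∃ y ∈ Subgroup.normalizer ((R : Subgroup G) : Set G), φ y = d := by
  have hrot : ∀ j, ∃ y ∈ Subgroup.normalizer ((R : Subgroup G) : Set G), φ y = DihedralGroup.r j :=
    fun j => by
      obtain ⟨y, hy, h⟩ := H.rot j
      exact ⟨y, Subgroup.le_normalizer hy, h⟩
  cases d with
  | r j => exact hrot j
  | sr j =>
    obtain ⟨c, hc⟩ := H.surj (DihedralGroup.sr j)
    obtain ⟨x, hx, i, hi, hxi⟩ := H.exx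
    have hw : orderOf (φ (c * x * c⁻¹)) = r := by
      have : φ (c * x * c⁻¹) = DihedralGroup.r (-i) := by
        rw [map_mul, map_mul, map_inv, hc, hxi]
        simp only [DihedralGroup.inv_sr, DihedralGroup.sr_mul_r, DihedralGroup.sr_mul_sr]
        congr 1; ring
      rw [this]; exact ord_r (neg_ne_zero.2 hi)
    -- Frattini argument
    let K : Subgroup G := (R : Subgroup G) ⊔ Q
    have hK : ∀ y, y ∈ K ↔ ∃ k, φ y = DihedralGroup.r k := by
      haveI := H.nq
      intro y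
      constructor
      · intro hy
        have hy' : y ∈ ((K : Subgroup G) : Set G) := hy
        rw [Subgroup.mul_normal] at hy'
        obtain ⟨u, hu, v, hv, rfl⟩ := hy'
        have hv1 : φ v = 1 := (H.ker _).2 hv
        show ∃ k, φ (u * v) = _
        rw [map_mul, hv1, mul_one]
        cases hd : φ u with
        | r k => exact ⟨k, rfl⟩
        | sr k =>
          exfalso
          have h2 : (⟨u, hu⟩ : (R : Subgroup G)) ^ r = 1 := by
            have := pow_card_eq_one' (x := (⟨u, hu⟩ : (R : Subgroup G)))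
            rwa [H.card_R] at this
          have h3 : φ u ^ r = 1 := by
            rw [← map_pow]
            have : u ^ r = 1 := congrArg Subtype.val h2
            rw [this, map_one]
          have h4 : orderOf (φ u) ∣ r := orderOf_dvd_of_pow_eq_one h3
          rw [hd, DihedralGroup.orderOf_sr] at h4
          exact H.r2 ((Nat.prime_dvd_prime_iff_eq Nat.prime_two hp.out).1 h4).symm
      · rintro ⟨k, hk⟩
        obtain ⟨u, hu, huk⟩ := H.rot k
        have : u⁻¹ * y ∈ Q := (H.ker _).1 (by rw [map_mul, map_inv, hk, huk, inv_mul_cancel])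
        have h2 : y = u * (u⁻¹ * y) := by group
        rw [h2]
        exact Subgroup.mul_mem_sup hu this
    haveI hKn : K.Normal := by
      refine ⟨fun y hy g => ?_⟩
      obtain ⟨k, hk⟩ := (hK y).1 hy
      rw [hK, map_mul, map_mul, map_inv, hk]
      cases φ g with
      | r t => exact ⟨_, by simp only [DihedralGroup.inv_r, DihedralGroup.r_mul_r]; rfl⟩
      | sr t => exact ⟨_, by
          simp only [DihedralGroup.inv_sr, DihedralGroup.sr_mul_r, DihedralGroup.sr_mul_sr]; rfl⟩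
    have hF : Subgroup.normalizer ((R : Subgroup G) : Set G) ⊔ K = ⊤ :=
      Sylow.normalizer_sup_eq_top' (N := K) R le_sup_left
    have hc' : c ∈ ((Subgroup.normalizer ((R : Subgroup G) : Set G) ⊔ K : Subgroup G) : Set G) := by
      rw [hF]; trivial
    rw [Subgroup.mul_normal] at hc'
    obtain ⟨n, hn, v, hv, hnv⟩ := hc'
    obtain ⟨k, hk⟩ := (hK v).1 hv
    obtain ⟨y, hy, hyk⟩ := hrot k
    refine ⟨n * y, mul_mem hn hy, ?_⟩
    rw [← hc, ← hnv, map_mul, hyk]
    show _ = φ (n * v)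
    rw [map_mul, hk]

omit [Finite G] in
theorem Hy.ninj (H : Hy r Q φ R) {x y : G}
    (hx : x ∈ Subgroup.normalizer ((R : Subgroup G) : Set G))
    (hy : y ∈ Subgroup.normalizer ((R : Subgroup G) : Set G)) (h : φ x = φ y) : x = y := by
  have := H.nq1 (mul_mem (inv_mem hx) hy) ((H.ker _).1 (by rw [map_mul, map_inv, h, inv_mul_cancel]))
  exact (inv_mul_eq_one.1 this)

theorem Hy.fuse (H : Hy r Q φ R) {a b : G}
    (ha : a ∈ Subgroup.normalizer ((R : Subgroup G) : Set G)) {i j : ZMod r}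
    (hi : φ a = DihedralGroup.sr i) (hj : φ b = DihedralGroup.sr j) (hb : b * b = 1) :
    ∃ g : G, g * a * g⁻¹ = b := by
  obtain ⟨g, hg⟩ := H.nsr hb hj
  have h1 : φ (g * b * g⁻¹) ≠ 1 := by
    intro h
    have h' := H.nq.conj_mem _ ((H.ker _).1 h) g⁻¹
    have h'' : b ∈ Q := by simpa [mul_assoc] using h'
    have := (H.ker _).2 h''
    rw [hj, DihedralGroup.one_def] at this
    cases this
  obtain ⟨k, hk⟩ := inv_sr H.r2 h1 (by
    rw [← map_mul]
    have : g * b * g⁻¹ * (g * b * g⁻¹) = g * (b * b) * g⁻¹ := by group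
    rw [this, hb]; simp)
  obtain ⟨y, hy, hyk⟩ := H.rot ((i - k) / 2)
  have hy' : y ∈ Subgroup.normalizer ((R : Subgroup G) : Set G) := Subgroup.le_normalizer hy
  have h2 : y * a * y⁻¹ = g * b * g⁻¹ := by
    refine H.ninj (mul_mem (mul_mem hy' ha) (inv_mem hy')) hg ?_
    rw [hk, map_mul, map_mul, map_inv, hyk, hi]
    simp only [DihedralGroup.inv_r, DihedralGroup.r_mul_sr, DihedralGroup.sr_mul_r]
    congr 1
    have := two_ne (r := r) H.r2
    field_simp
    ring
  exact ⟨g⁻¹ * y, by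
    calc g⁻¹ * y * a * (g⁻¹ * y)⁻¹ = g⁻¹ * (y * a * y⁻¹) * g := by group
      _ = b := by rw [h2]; group⟩

theorem Hy.sq (H : Hy r Q φ R) {a : G} {i : ZMod r} (hi : φ a = DihedralGroup.sr i)
    (ha : a * a = 1) :
    Nat.card ↥(Q ⊓ Subgroup.centralizer ({a} : Set G)) ^ 2 = Nat.card Q := by
  haveI := H.nq
  obtain ⟨x, hx⟩ := H.surj (DihedralGroup.r 1)
  set A := Q ⊓ Subgroup.centralizer ({a} : Set G) with hA
  have hai : a⁻¹ = a := inv_eq_of_mul_eq_one_right ha
  have hmA : ∀ u, u ∈ A ↔ u ∈ Q ∧ a * u = u * a := fun u => by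
    rw [hA, Subgroup.mem_inf, Subgroup.mem_centralizer_singleton_iff]
    exact ⟨fun h => ⟨h.1, h.2.symm⟩, fun h => ⟨h.1, h.2.symm⟩⟩
  have hw : ∀ u v : G, u ∈ Q → v ∈ Q →
      orderOf (φ ((u * a * u⁻¹) * (x * (v * a * v⁻¹) * x⁻¹))) = r := by
    intro u v hu hv
    have : φ ((u * a * u⁻¹) * (x * (v * a * v⁻¹) * x⁻¹)) = DihedralGroup.r (-2) := by
      simp only [map_mul, map_inv, hx, hi, (H.ker _).2 hu, (H.ker _).2 hv, one_mul, mul_one, inv_one]
      simp only [DihedralGroup.inv_r, DihedralGroup.r_mul_sr, DihedralGroup.sr_mul_r,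
        DihedralGroup.sr_mul_sr]
      congr 1; ring
    rw [this]; exact ord_r (neg_ne_zero.2 (two_ne H.r2))
  apply le_antisymm
  · rw [pow_two, ← Nat.card_prod]
    refine Nat.card_le_card_of_injective (fun p : A × A => (⟨p.1 * (x * p.2 * x⁻¹),
      mul_mem p.1.2.1 (H.nq.conj_mem _ p.2.2.1 x)⟩ : Q)) ?_
    rintro ⟨⟨u, hu⟩, ⟨v, hv⟩⟩ ⟨⟨u', hu'⟩, ⟨v', hv'⟩⟩ h
    have h1 : u * (x * v * x⁻¹) = u' * (x * v' * x⁻¹) := congrArg Subtype.val h
    have h2 : u'⁻¹ * u = x * (v' * v⁻¹) * x⁻¹ := by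
      calc u'⁻¹ * u = u'⁻¹ * (u * (x * v * x⁻¹)) * (x * v⁻¹ * x⁻¹) := by group
        _ = _ := by rw [h1]; group
    have c1 := ((hmA _).1 (mul_mem (inv_mem hu') hu))
    have c2 := ((hmA _).1 (mul_mem hv' (inv_mem hv))).2
    have h3 : u'⁻¹ * u = 1 := by
      refine H.cw (hw 1 1 (one_mem _) (one_mem _)) c1.1 ?_
      simp only [one_mul, inv_one, mul_one]
      have c3 : (u'⁻¹ * u) * (x * a * x⁻¹) = (x * a * x⁻¹) * (u'⁻¹ * u) := by
        rw [h2]
        calc x * (v' * v⁻¹) * x⁻¹ * (x * a * x⁻¹) = x * ((v' * v⁻¹) * a) * x⁻¹ := by group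
          _ = x * (a * (v' * v⁻¹)) * x⁻¹ := by rw [c2]
          _ = _ := by group
      rw [← mul_assoc (u'⁻¹ * u), ← c1.2, mul_assoc a, c3, ← mul_assoc]
    have h4 : u' = u := inv_mul_eq_one.1 h3
    subst h4
    have h5 : v = v' := by simpa using h1
    subst h5
    rfl
  · let B := A.subgroupOf Q
    have hB : Nat.card B = Nat.card A := Nat.card_congr (Subgroup.subgroupOfEquivOfLe inf_le_left).toEquiv
    have hidx : Nat.card B * B.index = Nat.card Q := B.card_mul_index
    have hle : B.index * B.index ≤ Nat.card Q := by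
      rw [Subgroup.index, ← Nat.card_prod]
      refine Nat.card_le_card_of_injective (fun p : (Q ⧸ B) × (Q ⧸ B) =>
        (⟨((p.1.out : G) * a * (p.1.out : G)⁻¹) * (x * ((p.2.out : G) * a * (p.2.out : G)⁻¹) * x⁻¹)
          * (a * (x * a * x⁻¹))⁻¹, (H.ker _).1 (by
            simp only [map_mul, map_inv, (H.ker _).2 p.1.out.2, (H.ker _).2 p.2.out.2, one_mul,
              mul_one, inv_one, mul_inv_cancel])⟩ : Q)) ?_
      rintro ⟨p, q⟩ ⟨p', q'⟩ h
      have h1 := mul_right_cancel (congrArg Subtype.val h)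
      simp only at h1
      have inj : ∀ s t : Q ⧸ B, (s.out : G) * a * (s.out : G)⁻¹ = (t.out : G) * a * (t.out : G)⁻¹ →
          s = t := by
        intro s t hst
        rw [← s.out_eq', ← t.out_eq', QuotientGroup.eq, Subgroup.mem_subgroupOf, hmA]
        refine ⟨(s.out⁻¹ * t.out).2, ?_⟩
        show a * ((s.out : G)⁻¹ * t.out) = (s.out : G)⁻¹ * t.out * a
        calc a * ((s.out : G)⁻¹ * t.out)
            = (s.out : G)⁻¹ * ((s.out : G) * a * (s.out : G)⁻¹) * t.out := by group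
          _ = _ := by rw [hst]; group
      have hw' := hw _ _ p.out.2 q.out.2
      set u := (p.out : G) * a * (p.out : G)⁻¹ with hu
      set u' := (p'.out : G) * a * (p'.out : G)⁻¹ with hu'
      set v := x * ((q.out : G) * a * (q.out : G)⁻¹) * x⁻¹ with hv
      set v' := x * ((q'.out : G) * a * (q'.out : G)⁻¹) * x⁻¹ with hv'
      have sq1 : ∀ g : G, (g * a * g⁻¹) * (g * a * g⁻¹) = 1 := fun g => by
        calc (g * a * g⁻¹) * (g * a * g⁻¹) = g * (a * a) * g⁻¹ := by group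
          _ = 1 := by rw [ha]; group
      have sq2 : ∀ g : G, (x * (g * a * g⁻¹) * x⁻¹) * (x * (g * a * g⁻¹) * x⁻¹) = 1 := fun g => by
        have := sq1 (x * g)
        convert this using 1; group
      have uu : u * u = 1 := sq1 _
      have uu' : u' * u' = 1 := sq1 _
      have vv : v * v = 1 := sq2 _
      have vv' : v' * v' = 1 := sq2 _
      have hq : u' * u ∈ Q := (H.ker _).1 (by
        simp only [hu, hu', map_mul, map_inv, (H.ker _).2 p.out.2, (H.ker _).2 p'.out.2, one_mul,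
          mul_one, inv_one]
        rw [← map_mul, ha, map_one])
      have e1 : v * u = v' * u' := by
        have i1 : (u * v)⁻¹ = v * u := by
          rw [mul_inv_rev, inv_eq_of_mul_eq_one_right uu, inv_eq_of_mul_eq_one_right vv]
        have i2 : (u' * v')⁻¹ = v' * u' := by
          rw [mul_inv_rev, inv_eq_of_mul_eq_one_right uu', inv_eq_of_mul_eq_one_right vv']
        rw [← i1, ← i2, h1]
      have h3 : u' * u = 1 := by
        refine H.cw hw' hq ?_
        calc u' * u * (u * v) = u' * (u * u) * v := by group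
          _ = u' * (v * u) * u := by rw [uu, mul_assoc u' (v * u), mul_assoc v, uu]; group
          _ = (u' * v') * (u' * u) := by rw [e1]; group
          _ = u * v * (u' * u) := by rw [h1]
      have h4 : u = u' := by
        calc u = u' * (u' * u) := by rw [← mul_assoc, uu', one_mul]
          _ = u' := by rw [h3, mul_one]
      have h5 : v = v' := by rw [← h4] at h1; exact mul_left_cancel h1
      have h6 : p = p' := inj _ _ h4
      have h7 : q = q' := inj _ _ (by simpa [hv, hv'] using h5)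
      rw [h6, h7]
    rw [← hB]
    have hpos : 0 < B.index := Nat.pos_of_ne_zero Subgroup.index_ne_zero_of_finite
    have h1 : B.index ≤ Nat.card B := by
      rw [← hidx] at hle
      exact Nat.le_of_mul_le_mul_right hle hpos
    rw [← hidx, pow_two]
    exact Nat.mul_le_mul_left _ h1
end

/-- Let G be a finite group and r an odd prime such that G ⧸ O₂(G) is dihedral of order 2r, and let R be a Sylow r-subgroup of G with C_{O₂(G)}(R) = 1. Then N_G(R) is dihedral of order 2r; for any involution a of N_G(R), every involution of G outside O₂(G) is conjugate to a; and |C_{O₂(G)}(a)|² = |O₂(G)|. -/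
theorem result {G : Type*} [Group G] [Finite G] {r : ℕ} [Fact r.Prime] (hr : r ≠ 2) [hN : (Cfsg.pCore 2 G).Normal] (hquot : Nonempty (G ⧸ Cfsg.pCore 2 G ≃* DihedralGroup r)) (R : Sylow r G) (hC : Cfsg.pCore 2 G ⊓ Subgroup.centralizer ((R : Subgroup G) : Set G) = ⊥) : Nonempty (↥(Subgroup.normalizer ((R : Subgroup G) : Set G)) ≃* DihedralGroup r) ∧ ∀ a : G, a ∈ Subgroup.normalizer ((R : Subgroup G) : Set G) → orderOf a = 2 → (∀ b : G, orderOf b = 2 → b ∉ Cfsg.pCore 2 G → ∃ g : G, g * a * g⁻¹ = b) ∧ Nat.card ↥(Cfsg.pCore 2 G ⊓ Subgroup.centralizer ({a} : Set G)) ^ 2 = Nat.card ↥(Cfsg.pCore 2 G) := by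
  obtain ⟨e⟩ := hquot
  let φ : G →* DihedralGroup r := e.toMonoidHom.comp (QuotientGroup.mk' _)
  have H : Hy r (Cfsg.pCore 2 G) φ R :=
    ⟨hr, Cfsg.Lib.Core.pCore_isPGroup 2 G, fun x => by
      show e (x : G ⧸ Cfsg.pCore 2 G) = 1 ↔ _
      rw [MulEquiv.map_eq_one_iff, QuotientGroup.eq_one_iff],
     e.surjective.comp (QuotientGroup.mk'_surjective _), hC⟩
  refine ⟨⟨MulEquiv.ofBijective (φ.comp (Subgroup.subtype _)) ⟨fun x y h => Subtype.ext (H.ninj x.2 y.2 h), fun d => ?_⟩⟩, ?_⟩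
  · obtain ⟨y, hy, h⟩ := H.nsurj d
    exact ⟨⟨y, hy⟩, h⟩
  · intro a ha ho
    have sq : ∀ b : G, orderOf b = 2 → b * b = 1 := fun b hb => by
      rw [← pow_two, ← hb, pow_orderOf_eq_one]
    have h1 : φ a ≠ 1 := fun h => by
      have := H.nq1 ha ((H.ker _).1 h)
      rw [this, orderOf_one] at ho
      exact absurd ho (by norm_num)
    obtain ⟨i, hi⟩ := inv_sr hr h1 (by rw [← map_mul, sq a ho, map_one])
    refine ⟨fun b hb hbQ => ?_, H.sq hi (sq a ho)⟩
    obtain ⟨j, hj⟩ := inv_sr hr (d := φ b) (fun h => hbQ ((H.ker _).1 h))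
      (by rw [← map_mul, sq b hb, map_one])
    exact H.fuse ha hi hj (sq b hb)

end Cfsg.Agent.S2873
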