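import Cfsg.Statements.S2874
import Mathlib

set_option autoImplicit false
open Cfsg

namespace Cfsg.Agent.S2874

section
variable {R : Type*} [CommRing R] (φ : R →+* ZMod 2) (hφ : ∀ x, φ x ≠ 0 → IsUnit x)
include hφ

theorem cube_lemma (X : Matrix (Fin 2) (Fin 2) R) (h3 : X ^ 3 = 1) (h1 : X ≠ 1) :
    X * X + X + 1 = 0 := by
  have key : ∀ Y : Matrix (Fin 2) (Fin 2) (ZMod 2), Y * Y * Y = 1 →
      (Y - 1).det ≠ 0 ∨ (Y * Y + Y + 1).det ≠ 0 := by
    intro Y hY
    have e : Y = !![Y 0 0, Y 0 1; Y 1 0, Y 1 1] := Matrix.eta_fin_two Y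
    generalize Y 0 0 = a at e
    generalize Y 0 1 = b at e
    generalize Y 1 0 = c at e
    generalize Y 1 1 = d at e
    subst e
    have h00 := congrFun (congrFun hY 0) 0
    have h01 := congrFun (congrFun hY 0) 1
    have h10 := congrFun (congrFun hY 1) 0
    have h11 := congrFun (congrFun hY 1) 1
    simp only [Matrix.det_fin_two, Matrix.sub_apply, Matrix.add_apply, Matrix.mul_apply,
      Fin.sum_univ_two, Matrix.of_apply, Matrix.cons_val', Matrix.cons_val_zero,
      Matrix.cons_val_one, Matrix.cons_val_fin_one, Matrix.one_apply_eq,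
      Matrix.one_apply_ne (show (0 : Fin 2) ≠ 1 by decide),
      Matrix.one_apply_ne (show (1 : Fin 2) ≠ 0 by decide)] at h00 h01 h10 h11 ⊢
    clear hY
    revert a b c d
    decide
  have hfac : (X - 1) * (X * X + X + 1) = 0 := by
    have : (X - 1) * (X * X + X + 1) = X ^ 3 - 1 := by noncomm_ring
    rw [this, h3, sub_self]
  have hfac' : (X * X + X + 1) * (X - 1) = 0 := by
    have : (X * X + X + 1) * (X - 1) = X ^ 3 - 1 := by noncomm_ring
    rw [this, h3, sub_self]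
  have hY : φ.mapMatrix X * φ.mapMatrix X * φ.mapMatrix X = 1 := by
    rw [← map_mul, ← map_mul, ← pow_three', h3, map_one]
  rcases key _ hY with h | h
  · have hu : IsUnit (X - 1) := by
      rw [Matrix.isUnit_iff_isUnit_det]
      apply hφ
      rw [RingHom.map_det, map_sub, map_one]
      exact h
    exact (hu.mul_right_eq_zero).1 hfac
  · exfalso
    have hu : IsUnit (X * X + X + 1) := by
      rw [Matrix.isUnit_iff_isUnit_det]
      apply hφ
      rw [RingHom.map_det, map_add, map_add, map_mul, map_one]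
      exact h
    exact h1 (sub_eq_zero.1 ((hu.mul_right_eq_zero).1 hfac'))

theorem conj_companion (ρ : GL (Fin 2) R) (h3 : ρ ^ 3 = 1) (h1 : ρ ≠ 1) :
    ∃ g : GL (Fin 2) R, ((g * ρ * g⁻¹ : GL (Fin 2) R) : Matrix (Fin 2) (Fin 2) R) = !![0, -1; 1, -1] := by
  have hq := cube_lemma φ hφ (ρ : Matrix (Fin 2) (Fin 2) R)
    (by rw [← Units.val_pow_eq_pow_val, h3, Units.val_one]) (fun h => h1 (Units.ext h))
  set X : Matrix (Fin 2) (Fin 2) R := ρ.val with hX
  have h00 := congrFun (congrFun hq 0) 0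
  have h10 := congrFun (congrFun hq 1) 0
  simp only [Matrix.add_apply, Matrix.mul_apply, Fin.sum_univ_two, Matrix.one_apply_eq,
      Matrix.one_apply_ne (show (1 : Fin 2) ≠ 0 by decide), Matrix.zero_apply] at h00 h10
  have hc : IsUnit (X 1 0) := by
    apply hφ
    intro h0
    have := congrArg φ h00
    simp only [map_add, map_mul, map_one, map_zero, h0, mul_zero, add_zero] at this
    generalize φ (X 0 0) = a at this
    revert a
    decide
  have hg : IsUnit (!![1, X 0 0; 0, X 1 0] : Matrix (Fin 2) (Fin 2) R) := by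
    rw [Matrix.isUnit_iff_isUnit_det, Matrix.det_fin_two_of]
    simpa using hc
  obtain ⟨u, hu⟩ := hg
  refine ⟨u⁻¹, ?_⟩
  have : X * (u : Matrix (Fin 2) (Fin 2) R) = (u : Matrix (Fin 2) (Fin 2) R) * !![0, -1; 1, -1] := by
    rw [hu]
    ext i j
    fin_cases i <;> fin_cases j <;> simp [Matrix.mul_apply, Fin.sum_univ_two]
    · linear_combination h00
    · linear_combination h10
  rw [inv_inv, Units.val_mul, Units.val_mul, mul_assoc, ← hX, this, ← mul_assoc, Units.inv_mul,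
    one_mul]

variable (e : R) (h2 : ∀ x : R, 2 * x = 0 → x = 0 ∨ x = e) (he : 2 * e = 0) (hee : e * e = 0)
include h2 he hee

theorem inv_form (a : Matrix (Fin 2) (Fin 2) R) (ha : a * a = 1)
    (h3 : (a * !![0, -1; 1, -1]) ^ 3 = 1) (h1 : a * !![0, -1; 1, -1] ≠ 1) :
    ∃ m n : R, 2 * m = 0 ∧ 2 * n = 0 ∧ a = !![1 + m, n; m + n, 1 + m] := by
  have hq := cube_lemma φ hφ _ h3 h1
  have hd2 := congrArg Matrix.det ha
  have hd3 := congrArg Matrix.det h3
  rw [Matrix.det_mul, Matrix.det_one] at hd2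
  rw [Matrix.det_pow, Matrix.det_mul, Matrix.det_one, Matrix.det_fin_two_of] at hd3
  have hd : a.det = 1 := by linear_combination hd3 - a.det * hd2
  rw [Matrix.det_fin_two] at hd
  have e1 : a = !![a 0 0, a 0 1; a 1 0, a 1 1] := Matrix.eta_fin_two a
  generalize a 0 0 = p at e1 hd
  generalize a 0 1 = q at e1 hd
  generalize a 1 0 = r at e1 hd
  generalize a 1 1 = s at e1 hd
  subst e1
  have h00 := congrFun (congrFun ha 0) 0
  have h01 := congrFun (congrFun ha 0) 1
  have h10 := congrFun (congrFun ha 1) 0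
  have h11 := congrFun (congrFun ha 1) 1
  have k10 := congrFun (congrFun hq 1) 0
  simp [Matrix.mul_apply, Fin.sum_univ_two] at h00 h01 h10 h11 k10
  have hps : s = p := by linear_combination (-(p + s)) * h00 + p * (h00 + hd) + r * h01
  have hq2 : 2 * q = 0 := by linear_combination (-q) * (h00 + hd) + p * h01
  have hr2 : 2 * r = 0 := by linear_combination (-r) * (h00 + hd) + p * h10
  subst hps
  have hmul : ∀ x y : R, 2 * x = 0 → 2 * y = 0 → x * y = 0 := by
    intro x y hx hy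
    rcases h2 x hx with rfl | rfl <;> rcases h2 y hy with rfl | rfl <;> simp [hee]
  have hqr := hmul q r hq2 hr2
  have hss : s * s = 1 := by linear_combination h00 - hqr
  have hodd : ∀ x : R, 2 * x = 0 → s * x = x := by
    intro x hx
    rcases h2 x hx with rfl | rfl
    · simp
    · rcases h2 (s * x) (by linear_combination s * hx) with h | h
      · linear_combination h + s * h - x * hss - 2 * s * h + s * h - s * h + 2 * x * hss - x * hss + x * hss
      · exact h
  have hsq := hodd q hq2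
  have hsr := hodd r hr2
  refine ⟨r - q, q, by linear_combination hr2 - hq2, hq2, ?_⟩
  have hs : s = 1 + (r - q) := by linear_combination k10 - hsq + hsr + hss
  rw [← hs, sub_add_cancel]

omit hφ h2 he hee in
theorem conj_form (m n : R) (hm : 2 * m = 0) (hn : 2 * n = 0) :
    !![0, -1; 1, -1] * !![1 + m, n; m + n, 1 + m] =
      !![1 + n, m + n; n + (m + n), 1 + n] * (!![0, -1; 1, -1] : Matrix (Fin 2) (Fin 2) R) := by
  ext i j
  fin_cases i <;> fin_cases j <;> simp [Matrix.mul_apply, Fin.sum_univ_two]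
  · linear_combination -hm - hn
  · linear_combination hn
  · linear_combination -hn
  · linear_combination 2 * hn

theorem core (H : Subgroup (GL (Fin 2) R)) (h : Nonempty (↥H ≃* ↥(alternatingGroup (Fin 4)))) :
    ∃ g : GL (Fin 2) R, H.map (MulAut.conj g).toMonoidHom =
      Subgroup.closure {x : GL (Fin 2) R | (x : Matrix (Fin 2) (Fin 2) R) = !![0, -1; 1, -1] ∨
        ∃ m n : R, 2 * m = 0 ∧ 2 * n = 0 ∧ (x : Matrix (Fin 2) (Fin 2) R) = !![1 + m, n; m + n, 1 + m]} := by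
  obtain ⟨f⟩ := h
  let r0 : alternatingGroup (Fin 4) := ⟨Equiv.swap 0 1 * Equiv.swap 1 2, by
    rw [Equiv.Perm.mem_alternatingGroup]; decide⟩
  let a0 : alternatingGroup (Fin 4) := ⟨Equiv.swap 0 1 * Equiv.swap 2 3, by
    rw [Equiv.Perm.mem_alternatingGroup]; decide⟩
  have hgen : ∀ x : alternatingGroup (Fin 4), ∃ i j : Fin 3, x = r0 ^ (i : ℕ) ∨
      x = r0 ^ (i : ℕ) * a0 * r0 ^ (j : ℕ) := by
    rintro ⟨x, hx⟩
    rw [Equiv.Perm.mem_alternatingGroup] at hx
    have : ∀ x : Equiv.Perm (Fin 4), Equiv.Perm.sign x = 1 → ∃ i j : Fin 3,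
        x = (Equiv.swap 0 1 * Equiv.swap 1 2) ^ (i : ℕ) ∨
        x = (Equiv.swap 0 1 * Equiv.swap 1 2) ^ (i : ℕ) * (Equiv.swap 0 1 * Equiv.swap 2 3) *
          (Equiv.swap 0 1 * Equiv.swap 1 2) ^ (j : ℕ) := by decide
    obtain ⟨i, j, h | h⟩ := this x hx
    · exact ⟨i, j, Or.inl (Subtype.ext h)⟩
    · exact ⟨i, j, Or.inr (Subtype.ext h)⟩
  let ψ : alternatingGroup (Fin 4) →* GL (Fin 2) R := H.subtype.comp f.symm.toMonoidHom
  have hψ : Function.Injective ψ := Subtype.val_injective.comp f.symm.injective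
  have hr3 : r0 ^ 3 = 1 := Subtype.ext (by decide)
  have hr1 : r0 ≠ 1 := fun h => absurd (congrArg Subtype.val h) (by decide)
  have ha2 : a0 * a0 = 1 := Subtype.ext (by decide)
  have ha1 : a0 ≠ 1 := fun h => absurd (congrArg Subtype.val h) (by decide)
  have har3 : (a0 * r0) ^ 3 = 1 := Subtype.ext (by decide)
  have har1 : a0 * r0 ≠ 1 := fun h => absurd (congrArg Subtype.val h) (by decide)
  obtain ⟨g, hg⟩ := conj_companion φ hφ (ψ r0) (by rw [← map_pow, hr3, map_one])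
    (fun h => hr1 (hψ (by rw [h, map_one])))
  refine ⟨g, ?_⟩
  let θ : alternatingGroup (Fin 4) →* GL (Fin 2) R := (MulAut.conj g).toMonoidHom.comp ψ
  have hθ : Function.Injective θ := (MulAut.conj g).injective.comp hψ
  have hθr : (θ r0 : Matrix (Fin 2) (Fin 2) R) = !![0, -1; 1, -1] := hg
  have hrange : H.map (MulAut.conj g).toMonoidHom = θ.range := by
    ext x
    constructor
    · rintro ⟨y, hy, rfl⟩
      exact ⟨f ⟨y, hy⟩, by simp [θ, ψ]⟩
    · rintro ⟨y, rfl⟩
      exact ⟨_, (f.symm y).2, rfl⟩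
  rw [hrange]
  obtain ⟨m, n, hm, hn, hmn⟩ := inv_form φ hφ e h2 he hee (θ a0 : Matrix (Fin 2) (Fin 2) R)
    (by rw [← Units.val_mul, ← map_mul, ha2, map_one, Units.val_one])
    (by rw [← hθr, ← Units.val_mul, ← map_mul, ← Units.val_pow_eq_pow_val, ← map_pow, har3,
      map_one, Units.val_one])
    (by
      rw [← hθr, ← Units.val_mul, ← map_mul]
      intro h
      exact har1 (hθ (by rw [map_one]; exact Units.ext h)))
  apply le_antisymm
  · rintro _ ⟨x, rfl⟩
    have h1 : θ r0 ∈ Subgroup.closure {x : GL (Fin 2) R | (x : Matrix (Fin 2) (Fin 2) R) = !![0, -1; 1, -1] ∨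
        ∃ m n : R, 2 * m = 0 ∧ 2 * n = 0 ∧ (x : Matrix (Fin 2) (Fin 2) R) = !![1 + m, n; m + n, 1 + m]} :=
      Subgroup.subset_closure (Or.inl hθr)
    have h2 : θ a0 ∈ Subgroup.closure {x : GL (Fin 2) R | (x : Matrix (Fin 2) (Fin 2) R) = !![0, -1; 1, -1] ∨
        ∃ m n : R, 2 * m = 0 ∧ 2 * n = 0 ∧ (x : Matrix (Fin 2) (Fin 2) R) = !![1 + m, n; m + n, 1 + m]} :=
      Subgroup.subset_closure (Or.inr ⟨m, n, hm, hn, hmn⟩)
    obtain ⟨i, j, h | h⟩ := hgen x
    · rw [h, map_pow]; exact pow_mem h1 _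
    · rw [h, map_mul, map_mul, map_pow, map_pow]
      exact mul_mem (mul_mem (pow_mem h1 _) h2) (pow_mem h1 _)
  · have step : ∀ m n : R, 2 * m = 0 → 2 * n = 0 →
        (∃ y, (θ y : Matrix (Fin 2) (Fin 2) R) = !![1 + m, n; m + n, 1 + m]) →
        ∃ y, (θ y : Matrix (Fin 2) (Fin 2) R) = !![1 + n, m + n; n + (m + n), 1 + n] := by
      rintro m n hm hn ⟨y, hy⟩
      refine ⟨r0 * y * r0⁻¹, ?_⟩
      rw [map_mul, map_mul, map_inv, Units.val_mul, Units.val_mul, hy, hθr, conj_form m n hm hn,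
        ← hθr, Units.mul_inv_cancel_right]
    have s0 : ∃ y, (θ y : Matrix (Fin 2) (Fin 2) R) = !![1 + m, n; m + n, 1 + m] := ⟨a0, hmn⟩
    have s1 := step m n hm hn s0
    have s2 := step n (m + n) hn (by linear_combination hm + hn) s1
    have hne : ¬ (m = 0 ∧ n = 0) := by
      rintro ⟨rfl, rfl⟩
      apply ha1
      apply hθ
      rw [map_one]
      apply Units.ext
      rw [hmn, Units.val_one, Matrix.one_fin_two]
      simp
    have hee' : e + e = 0 := by linear_combination he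
    rw [Subgroup.closure_le]
    rintro x (hx | ⟨m', n', hm', hn', hx⟩)
    · exact ⟨r0, Units.ext (hθr.trans hx.symm)⟩
    · suffices ∃ y, (θ y : Matrix (Fin 2) (Fin 2) R) = !![1 + m', n'; m' + n', 1 + m'] by
        obtain ⟨y, hy⟩ := this
        exact ⟨y, Units.ext (hy.trans hx.symm)⟩
      have s3 : ∃ y, (θ y : Matrix (Fin 2) (Fin 2) R) = !![1, 0; 0, 1] :=
        ⟨1, by rw [map_one, Units.val_one, Matrix.one_fin_two]⟩
      rcases h2 m hm with h | h <;> rcases h2 n hn with h' | h' <;>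
        rcases h2 m' hm' with k | k <;> rcases h2 n' hn' with k' | k' <;>
        simp only [h, h', k, k', hee', add_zero, zero_add, and_self, not_true_eq_false] at s0 s1 s2 hne ⊢ <;>
        assumption
end

/-- For k ≥ 2, any two subgroups of GL₂(ℤ/2ᵏℤ) (the automorphism group of the homocyclic group ℤ/2ᵏ × ℤ/2ᵏ) that are isomorphic to the alternating group of degree 4 are conjugate. -/
theorem result (k : ℕ) (hk : 2 ≤ k) (H₁ H₂ : Subgroup (GL (Fin 2) (ZMod (2 ^ k)))) (h₁ : Nonempty (↥H₁ ≃* ↥(alternatingGroup (Fin 4)))) (h₂ : Nonempty (↥H₂ ≃* ↥(alternatingGroup (Fin 4)))) : ∃ g : GL (Fin 2) (ZMod (2 ^ k)), H₂ = H₁.map (MulAut.conj g).toMonoidHom := by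
  haveI : NeZero (2 ^ k) := ⟨by positivity⟩
  have hdvd : 2 ∣ 2 ^ k := dvd_pow_self 2 (by omega)
  let φ : ZMod (2 ^ k) →+* ZMod 2 := ZMod.castHom hdvd (ZMod 2)
  have hφ : ∀ x, φ x ≠ 0 → IsUnit x := by
    intro x hx
    obtain ⟨n, rfl⟩ := ZMod.natCast_zmod_surjective x
    rw [map_natCast, Ne, ZMod.natCast_eq_zero_iff] at hx
    rw [ZMod.isUnit_iff_coprime]
    exact Nat.Coprime.pow_right _ ((Nat.prime_two.coprime_iff_not_dvd.2 hx).symm)
  obtain ⟨j, rfl⟩ : ∃ j, k = j + 2 := ⟨k - 2, by omega⟩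
  have h0 : ((2 : ZMod (2 ^ (j + 2)))) ^ (j + 2) = 0 := by
    have := ZMod.natCast_self (2 ^ (j + 2))
    rwa [Nat.cast_pow, Nat.cast_ofNat] at this
  have he : 2 * (2 : ZMod (2 ^ (j + 2))) ^ (j + 1) = 0 := by rw [← h0]; ring
  have hee : (2 : ZMod (2 ^ (j + 2))) ^ (j + 1) * (2 : ZMod (2 ^ (j + 2))) ^ (j + 1) = 0 := by
    linear_combination (2 : ZMod (2 ^ (j + 2))) ^ j * h0
  have h2 : ∀ x : ZMod (2 ^ (j + 2)), 2 * x = 0 → x = 0 ∨ x = 2 ^ (j + 1) := by
    intro x hx
    obtain ⟨n, rfl⟩ := ZMod.natCast_zmod_surjective x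
    have : ((2 * n : ℕ) : ZMod (2 ^ (j + 2))) = 0 := by push_cast; exact hx
    rw [ZMod.natCast_eq_zero_iff, pow_succ', Nat.mul_dvd_mul_iff_left (by norm_num)] at this
    obtain ⟨c, rfl⟩ := this
    rcases Nat.even_or_odd' c with ⟨d, rfl | rfl⟩
    · left; push_cast; linear_combination (d : ZMod (2 ^ (j + 2))) * h0
    · right; push_cast; linear_combination (d : ZMod (2 ^ (j + 2))) * h0
  obtain ⟨g₁, hg₁⟩ := core φ hφ _ h2 he hee H₁ h₁
  obtain ⟨g₂, hg₂⟩ := core φ hφ _ h2 he hee H₂ h₂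
  refine ⟨g₂⁻¹ * g₁, ?_⟩
  have h := hg₁.trans hg₂.symm
  have h' := congrArg (Subgroup.map (MulAut.conj g₂⁻¹).toMonoidHom) h
  rw [Subgroup.map_map, Subgroup.map_map] at h'
  have e1 : (MulAut.conj g₂⁻¹).toMonoidHom.comp (MulAut.conj g₂).toMonoidHom = MonoidHom.id _ := by
    ext1 x; simp [mul_assoc]
  have e2 : (MulAut.conj g₂⁻¹).toMonoidHom.comp (MulAut.conj g₁).toMonoidHom =
      (MulAut.conj (g₂⁻¹ * g₁)).toMonoidHom := by
    ext1 x; simp [mul_assoc]
  rw [e1, e2, Subgroup.map_id] at h'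
  exact h'.symm

end Cfsg.Agent.S2874
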