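import Cfsg.Statements.S2879
import Cfsg.Agent.Lib.Frobenius.Compl
import Cfsg.Agent.Lib.Inv.SLTwoThree
import Cfsg.Agent.Lib.Inv.MaxClass
import Cfsg.Agent.Lib.Small.Four
import Cfsg.Agent.Lib.ZStar.Isolated

set_option autoImplicit false
open Cfsg

namespace Cfsg.Agent.S2879

open Subgroup Cfsg.Lib.Core Cfsg.Lib.Inv Cfsg.Lib.Frobenius

/-- Let G be a finite solvable group with O(G) = 1 whose Sylow 2-subgroup T is dihedral of order at least 8 or semidihedral, with G ≠ T and Z(T) normal in G. Then G has a normal subgroup isomorphic to SL₂(3). -/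
theorem result {G : Type*} [Group G] [Finite G] (hsol : IsSolvable G) (hO : Cfsg.oddCore G = ⊥) (T : Sylow 2 G) (hT : (∃ n : ℕ, 4 ≤ n ∧ Nonempty (↥(T : Subgroup G) ≃* DihedralGroup n)) ∨ Cfsg.IsQuasiDihedral ↥(T : Subgroup G)) (hne : (T : Subgroup G) ≠ ⊤) (hZ : ((T : Subgroup G) ⊓ Subgroup.centralizer ((T : Subgroup G) : Set G)).Normal) : ∃ U : Subgroup G, U.Normal ∧ Nonempty (↥U ≃* Matrix.SpecialLinearGroup (Fin 2) (ZMod 3)) := by
  obtain ⟨a, b, m, ε, δ, hm, h⟩ : ∃ (a b : G) (m : ℕ) (ε δ : ℤ), 1 ≤ m ∧ MC (T : Subgroup G) a b m ε δ := by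
    rcases hT with ⟨n, hn, ⟨e⟩⟩ | hT
    · obtain ⟨a, b, m, h1, h2⟩ := exists_mc_of_dihedral T.isPGroup' (by omega) e
      refine ⟨a, b, m, 0, 0, Nat.pos_of_ne_zero ?_, h2⟩
      rintro rfl
      omega
    · obtain ⟨a, b, n, h⟩ := exists_mc_of_quasiDihedral hT
      exact ⟨a, b, _, _, _, by omega, h⟩
  have : Group.IsSolvable G := hsol
  have hC := centralizer_pCore_le_of_isSolvable (p := 2) hO
  have hQT := pCore_le_sylow T
  set Q := pCore 2 G
  obtain ⟨g, ho, hg⟩ : ∃ g : G, Odd (orderOf g) ∧ g ∉ centralizer (Q : Set G) := by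
    obtain ⟨q, hq, hd⟩ := Nat.exists_prime_and_dvd (index_eq_one.not.2 hne)
    have := Fact.mk hq
    have h2 : q ≠ 2 := fun e => T.not_dvd_index (e ▸ hd)
    obtain ⟨g, hg⟩ := exists_prime_orderOf_dvd_card' q (hd.trans (index_dvd_card _))
    refine ⟨g, hg ▸ hq.odd_of_ne_two h2, fun e => ?_⟩
    obtain ⟨k, hk⟩ := pCore_isPGroup 2 G ⟨g, hC e⟩
    have := orderOf_dvd_of_pow_eq_one (congrArg Subtype.val hk)
    rw [hg] at this
    exact h2 ((Nat.prime_dvd_prime_iff_eq hq Nat.prime_two).1 (hq.dvd_of_dvd_pow this))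
  have hn : g ∈ normalizer (Q : Set G) := le_normalizer_of_normal (mem_top g)
  rcases h.odd_aut hQT hn ho hg with h4 | h8
  · exfalso
    set Z := (T : Subgroup G) ⊓ centralizer ((T : Subgroup G) : Set G)
    have hz : a ^ (2 : ℤ) ^ m ∈ Z := ⟨h.zpow_mem _, fun x hx => h.z_comm hx⟩
    have hZQ : Z ≤ Q := inf_le_right.trans ((centralizer_le hQT).trans hC)
    have hd : Nat.card Z ∣ 2 ^ 2 := (card_dvd_of_le hZQ).trans h4.card_four.dvd
    obtain ⟨k, hk, e⟩ := (Nat.dvd_prime_pow Nat.prime_two).1 hd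
    interval_cases k
    · exact h.z_ne_one (mem_bot.1 ((card_eq_one.1 e).le hz))
    · obtain ⟨y, -, hy⟩ := (Nat.card_eq_two_iff' (1 : Z)).1 e
      have e1 := hy ⟨_, hz⟩ fun e => h.z_ne_one (congrArg Subtype.val e)
      have e2 := hy ⟨_, hZ.conj_mem _ hz g⟩ fun e => h.z_ne_one (by
        simpa using congrArg Subtype.val e)
      exact hg (Lib.ZStar.mem_of_sq_mem_of_odd ho (Lib.Small.sq_mem_centralizer_of_commute h4 hn
        (hZQ hz) h.z_ne_one (mul_inv_eq_iff_eq_mul.1 (congrArg Subtype.val (e2.trans e1.symm)))))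
    · have e1 : Z = Q := eq_of_le_of_card_ge hZQ (by rw [e, h4.card_four]; rfl)
      have e2 : (T : Subgroup G) ≤ Q := (le_centralizer_iff.1 (e1.ge.trans inf_le_right)).trans hC
      have := card_le_of_le e2
      rw [h4.card_four, h.card_eq] at this
      have := Nat.pow_le_pow_right two_pos (show 3 ≤ m + 2 by omega)
      omega
  obtain ⟨H, hH, f, hf⟩ := exists_hom_sl_two_three h8 hn ho hg
  obtain ⟨π, hπ⟩ := exists_hom_perm_four h8
  obtain ⟨e⟩ := h8
  have c8 : Nat.card Q = 8 := by rw [Nat.card_congr e.toEquiv]; simp [QuaternionGroup.card]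
  have c2 : Nat.card (centralizer (Q : Set G)) ≤ 2 := by
    have h1 : Nat.card (center (QuaternionGroup 2)) = 2 := by
      rw [Nat.card_eq_fintype_card]; decide
    rw [← h1]
    refine Nat.card_le_card_of_injective (fun c => ⟨e ⟨c, hC c.2⟩, mem_center_iff.2 fun y => ?_⟩)
      fun c d hcd => Subtype.ext (by simpa using hcd)
    obtain ⟨y, rfl⟩ := e.surjective y
    rw [← map_mul, ← map_mul]
    exact congrArg e (Subtype.ext (c.2 y y.2))
  have c24 : (centralizer (Q : Set G)).index ≤ 24 := by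
    rw [← hπ, index_ker]
    exact (card_le_card_group _).trans (by simp [Fintype.card_perm, Nat.factorial])
  have c48 : Nat.card G ≤ 48 := by
    rw [← (centralizer (Q : Set G)).card_mul_index]
    exact Nat.mul_le_mul c2 c24
  have d1 : 24 ∣ Nat.card H := card_sl_two_three ▸ card_dvd_of_surjective f hf
  have d2 : Nat.card H ∣ orderOf g * 8 := by
    rw [hH, sup_comm, ← c8, ← Nat.card_zpowers]; exact card_sup_dvd_of_normal _ _
  have d3 := H.card_mul_index
  have d4 : Nat.card H = 24 := by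
    obtain ⟨k, hk⟩ := d1
    have := card_le_card_group H
    have := Nat.card_pos (α := H)
    obtain rfl | rfl : k = 1 ∨ k = 2 := by omega
    · exact hk
    · obtain ⟨j, hj⟩ := ho
      obtain ⟨l, hl⟩ := d2
      rw [hk, hj] at hl
      omega
  refine ⟨H, ?_, ⟨MulEquiv.ofBijective f ((Nat.bijective_iff_surjective_and_card f).2
    ⟨hf, d4.trans card_sl_two_three.symm⟩)⟩⟩
  have := Nat.card_pos (α := G)
  obtain e | e : H.index = 1 ∨ H.index = 2 := by rw [d4] at d3; omega
  · rw [index_eq_one.1 e]; infer_instance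
  · exact normal_of_index_eq_two e

end Cfsg.Agent.S2879
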