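import Cfsg.Statements.S2881
import Cfsg.Agent.Lib.Extraspecial.Two

set_option autoImplicit false
open Cfsg

namespace Cfsg.Agent.S2881

/-- Let E be an extraspecial 2-group of order 2^(2m+1) of plus type (containing an elementary abelian subgroup of order 2^(m+1)), and let ω be an automorphism of E of order 5 whose fixed points are exactly the centre of E. Then m is divisible by 4. -/
theorem result {E : Type*} [Group E] [Finite E] (m : ℕ) (hm : 1 ≤ m) (hE : Cfsg.IsExtraspecial 2 E) (hcard : Nat.card E = 2 ^ (2 * m + 1)) (hplus : ∃ A : Subgroup E, Cfsg.IsElementaryAbelian 2 A ∧ Nat.card A = 2 ^ (m + 1)) (ω : E ≃* E) (hω : orderOf ω = 5) (hfix : ∀ x : E, ω x = x ↔ x ∈ Subgroup.center E) : 4 ∣ m := by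
  have h1 := Cfsg.Lib.ES.card_orderOf_eq_four_of_plus hE hcard hplus
  have : Fact (Nat.Prime 5) := ⟨by norm_num⟩
  let f : Function.End {x : E // orderOf x = 4} := fun x => ⟨ω x.1, by rw [ω.orderOf_eq, x.2]⟩
  have hf : ∀ (k : ℕ) (x : {x : E // orderOf x = 4}), ((f ^ k) x).1 = (ω ^ k) x.1 := by
    intro k
    induction k with
    | zero => intro x; rfl
    | succ k ih => intro x; rw [pow_succ, pow_succ]; exact ih _
  have hf5 : f ^ 5 ^ 1 = 1 := by
    funext x
    apply Subtype.ext
    rw [hf, pow_one, ← hω, pow_orderOf_eq_one]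
    rfl
  classical
  have := Fintype.ofFinite {x : E // orderOf x = 4}
  have h2 := Equiv.Perm.card_fixedPoints_modEq hf5
  have h3 : IsEmpty (Function.fixedPoints f) := ⟨fun x => by
    have h4 : ω x.1.1 = x.1.1 := congrArg Subtype.val x.2
    have h5 := orderOf_dvd_of_pow_eq_one
      (Cfsg.Lib.ES.pow_eq_one_of_mem_center hE ((hfix _).1 h4))
    rw [x.1.2] at h5
    omega⟩
  rw [Fintype.card_eq_zero (α := Function.fixedPoints f), ← Nat.card_eq_fintype_card] at h2
  have h6 : 2 ^ m ≡ 2 ^ (2 * m) [MOD 5] := by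
    rw [← h1]
    simpa using (h2.add_right (2 ^ m)).symm
  have h7 : ∀ k : ℕ, 2 ^ k % 5 = 2 ^ (k % 4) % 5 := fun k => by
    conv_lhs => rw [← Nat.div_add_mod k 4, pow_add, pow_mul, Nat.mul_mod, Nat.pow_mod]
    simp
  rw [Nat.ModEq, h7 m, h7 (2 * m), Nat.mul_mod] at h6
  have h8 : m % 4 < 4 := Nat.mod_lt _ (by norm_num)
  apply Nat.dvd_of_mod_eq_zero
  generalize m % 4 = r at h6 h8
  interval_cases r <;> simp_all

end Cfsg.Agent.S2881
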