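import Cfsg.Statements.S2911
import Cfsg.Agent.Lib.Transfer.Fusion
import Cfsg.Agent.Lib.Transfer.SylowIn
import Cfsg.Agent.S2872

set_option autoImplicit false
open Cfsg

set_option linter.unusedVariables false
open Cfsg.Lib

namespace Cfsg.Agent.S2911

theorem aut_sq (ψ : Multiplicative (ZMod 2) × DihedralGroup 4 ≃*
    Multiplicative (ZMod 2) × DihedralGroup 4) (w) (hw : ∀ x, w * x = x * w) : ψ (ψ w) = w := by
  let z : Multiplicative (ZMod 2) × DihedralGroup 4 := (1, DihedralGroup.r 2)
  have h1 : ∀ x : Multiplicative (ZMod 2) × DihedralGroup 4, x * x = 1 ∨ x * x = z := by decide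
  have h2 : z = (1, DihedralGroup.r 1) * (1, DihedralGroup.r 1) := by decide
  have h3 : z ≠ 1 := by decide
  have h4 : z * z = 1 := by decide
  have hz : ψ z = z := by
    rcases h1 (ψ (1, DihedralGroup.r 1)) with h | h
    · rw [← map_mul, ← h2, map_eq_one_iff _ ψ.injective] at h
      exact absurd h h3
    · rwa [← map_mul, ← h2] at h
  have h5 : ∀ w w' : Multiplicative (ZMod 2) × DihedralGroup 4, (∀ x, w * x = x * w) →
      (∀ x, w' * x = x * w') → w' = w ∨ w' = w * z ∨ w = 1 ∨ w = z ∨ w' = 1 ∨ w' = z := by decide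
  have h6 : ∀ x, ψ w * x = x * ψ w := fun x => by
    obtain ⟨y, rfl⟩ := ψ.surjective x
    rw [← map_mul, ← map_mul, hw]
  rcases h5 w _ hw h6 with h | h | h | h | h | h
  · rw [h, h]
  · rw [h, map_mul, h, hz, mul_assoc, h4, mul_one]
  · simp [h]
  · rw [h, hz, hz]
  · rw [map_eq_one_iff _ ψ.injective] at h; simp [h]
  · rw [← hz, ψ.injective.eq_iff] at h; rw [h, hz, hz]

/-- A finite group whose Sylow 2-subgroups are isomorphic to the direct product of a group of order 2 and a dihedral group of order 8 has a subgroup of index two. -/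
theorem result {G : Type*} [Group G] [Finite G] (S : Sylow 2 G) (hS : Nonempty (↥(S : Subgroup G) ≃* Multiplicative (ZMod 2) × DihedralGroup 4)) : ∃ H : Subgroup G, H.index = 2 := by
  open Subgroup Transfer in
  obtain ⟨e⟩ := hS
  by_contra! hne
  rcases S2872.result S with h | h | ⟨g, hg, w, hw, h⟩
  · exact h (pResidual_two_eq_top_iff.2 hne)
  · let c := e.symm (Multiplicative.ofAdd 1, 1)
    have hc : ∀ x : Multiplicative (ZMod 2) × DihedralGroup 4,
        x * (Multiplicative.ofAdd 1, 1) = (Multiplicative.ofAdd 1, 1) * x := by decide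
    have h1 : (c : G) ∈ omegaOne 2 ((S : Subgroup G) ⊓ centralizer ((S : Subgroup G) : Set G)) := by
      refine Subgroup.subset_closure ⟨⟨c.2, mem_centralizer_iff.2 fun x hx => ?_⟩, ?_⟩
      · have : (⟨x, hx⟩ : S) * c = c * ⟨x, hx⟩ := e.injective (by simp [c, hc])
        exact congrArg Subtype.val this
      · have : c ^ 2 = 1 := e.injective (by simp only [c, map_pow, e.apply_symm_apply, map_one]; decide)
        exact congrArg Subtype.val this
    obtain ⟨c', h2, h3⟩ := h h1
    obtain rfl : c' = c := Subtype.ext h3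
    have h4 := frattini_le_comap_frattini_of_surjective
      (φ := (MonoidHom.fst _ _).comp e.toMonoidHom) (Prod.fst_surjective.comp e.surjective) h2
    have : Fact (Nat.card (Multiplicative (ZMod 2))).Prime := ⟨by simpa using Nat.prime_two⟩
    have h5 : IsCoatom (⊥ : Subgroup (Multiplicative (ZMod 2))) :=
      ⟨bot_ne_top, fun b hb => (eq_bot_or_eq_top_of_prime_card b).resolve_left hb.ne'⟩
    have h6 := frattini_le_coatom h5 h4
    simp only [c, mem_bot] at h6
    simp at h6
  · have hw' : w ∈ (S : Subgroup G) ⊓ centralizer ((S : Subgroup G) : Set G) :=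
      (Subgroup.closure_le _).2 (fun x hx => hx.1) hw
    obtain ⟨a, ha, b, hb, ⟨k, hk⟩, hbo, rfl⟩ := exists_p_part_mul_p'_part (p := 2) g
    have ha' := (zpowers_le.2 hg) ha
    have hb' := (zpowers_le.2 hg) hb
    have haS : a ∈ (S : Subgroup G) := by
      have hp : IsPGroup 2 (zpowers a) := by
        rintro ⟨_, n, rfl⟩
        refine ⟨k, Subtype.ext ?_⟩
        change (a ^ n) ^ 2 ^ k = 1
        rw [← zpow_natCast, ← zpow_mul, mul_comm, zpow_mul, zpow_natCast, hk, one_zpow]
      have := S.is_maximal' (S.isPGroup'.to_sup_of_normal_left' hp (zpowers_le.2 ha')) le_sup_left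
      exact this ▸ mem_sup_right (mem_zpowers a)
    have h1 : b ^ 2 ∈ centralizer ({w} : Set G) := by
      let ψ := (S : Subgroup G).normalizerMonoidHom ⟨b, hb'⟩
      have := aut_sq (e.symm.trans (ψ.trans e)) (e ⟨w, hw'.1⟩) fun x => by
        obtain ⟨y, rfl⟩ := e.surjective x
        rw [← map_mul, ← map_mul]
        exact congrArg e (Subtype.ext (mem_centralizer_iff.1 hw'.2 y y.2).symm)
      simp only [MulEquiv.trans_apply, MulEquiv.symm_apply_apply, EmbeddingLike.apply_eq_iff_eq] at this
      have h2 : b * (b * w * b⁻¹) * b⁻¹ = w := congrArg Subtype.val this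
      rw [mem_centralizer_singleton_iff]
      conv_rhs => rw [← h2]
      rw [pow_two]; group
    have h2 := mem_centralizer_singleton_iff.1 (mem_of_pow_mem_of_coprime h1 hbo)
    have h3 := mem_centralizer_iff.1 hw'.2 a haS
    apply h
    rw [mul_assoc a, h2, ← mul_assoc a, h3]; group

end Cfsg.Agent.S2911
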