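import Cfsg.Statements.S2931
import Cfsg.Agent.Lib.IA.U4C
import Cfsg.Agent.Lib.GH.U4
import Cfsg.Agent.Lib.Fi.Cox
import Cfsg.Agent.Lib.Calc.VecPM
import Cfsg.Agent.Lib.Mult.Fam

set_option autoImplicit false
set_option maxRecDepth 100000
open Cfsg Cfsg.Lib Cfsg.Lib.Calc Cfsg.Lib.T2 Subgroup

namespace Cfsg.Agent.S2931

def q1_L0 : List (ℕ × List ℕ) := [((nat_lit 0), [(nat_lit 0x9e69648e28607de75c6da6585d65544d24503ce34c2ca2481c61440c2040), (nat_lit 0x8080d55cb0a779f2815074ce8cc91b6501923583d689d166691240961704), (nat_lit 0x5a69258d95d87c82c929a8a086755351230714611175b71e40e3cd0c2001), (nat_lit 0x9b4d129282158c5cd98e0c775f18896290b05a71e4230146151056673c9), (nat_lit 0x61e0d585d09621f6c04d05068d194a88739212016764b3e668c70191724d), (nat_lit 0x8546467509c23168cf21895a29e4660cb56270705f49711b3a40094e0345), (nat_lit 0x3085435d38ce7a68857472e70a09196d059a25100629405f49834f96111c), (nat_lit 0x7db4532837475944008ce4a18021a52227981151645e634c2da05c66724f)]),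
  ((nat_lit 1), [(nat_lit 0x9e69648e28607de75c6da6585d65544d24503ce34c2ca2481c61440c2040), (nat_lit 0x90c19980829551b0c140b5df9c74d28d808e35e3da9a52568a114445d700), (nat_lit 0x99960b89550719d40f0a76a13235a520a7917030645df2604d21446ce340), (nat_lit 0x2e449a1e07d69426cd45730699320a8a138305d7276582635541447903c0)]),
  ((nat_lit 2), [(nat_lit 0x9e69648e28607de75c6da6585d65544d24503ce34c2ca2481c61440c2040), (nat_lit 0x65a85755695349045c3a69d49228d881f75e3db34b30624720a144083040)])]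

def q1_D0 : List ℕ := [(nat_lit 0), (nat_lit 513), (nat_lit 1025), (nat_lit 1537), (nat_lit 41986), (nat_lit 47618), (nat_lit 61954), (nat_lit 69122), (nat_lit 0), (nat_lit 3491587), (nat_lit 4061443), (nat_lit 184370436), (nat_lit 0), (nat_lit 267564804)]

def q1 : PM :=
  ⟨(nat_lit 40), (nat_lit 6), [(nat_lit 0x8080d55cb0a779f2815074ce8cc91b6501923583d689d166691240961704), (nat_lit 0x5a69258d95d87c82c929a8a086755351230714611175b71e40e3cd0c2001), (nat_lit 0x9b4d129282158c5cd98e0c775f18896290b05a71e4230146151056673c9)],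
    [[.l 1, .l 2, .l 3]],
    [q1_L0], [q1_D0]⟩

instance q1_ne : NeZero q1.n := ⟨by decide⟩

theorem q1_ok0 : q1.ok0 = true := by decide +kernel

theorem q1_k0 : allFrom (nat_lit 0) (nat_lit 1) q1.okK = true := by decide +kernel

theorem q1_ok : q1.OK := PM.OK.of_check q1_ok0
  (of_allFrom_append of_lt_zero q1_k0)

theorem q1_card0 : Nat.card (genW q1.gam (q1.ws 0)) = 64 := (q1_ok.card 0).trans (by decide +kernel)

def r1_L0 : List (ℕ × List ℕ) := [((nat_lit 2), [(nat_lit 0xbeeb6caeaa689e69648e28607de75c6da6585d65544d24503ce34c2ca2481c61440c2040), (nat_lit 0xa102dd7d32af9a748970f6d6ad4b2385839a5605deaa536e899448b6990c0c21441c6040), (nat_lit 0x2a36d949aa297947d5b962cf967390b6ab1326292662b21c81d30d86f5d1187105083001), (nat_lit 0xa5c84e958bca51ead7420b624a666e2d376a90f26769f3235ac2116e854d083105187001), (nat_lit 0x2927148da81fbd9a4cb8e2d84e75a6b21b652224503eb25ba1d557a9e364185107081003), (nat_lit 0x7dba964cf78a66facd9a8b228d052e2e57614582276a95523ad264720317081107185003),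 (nat_lit 0xbeb426baa3e52aca0d8dd85361e89464b6df45621c8125eda4e9096a73151c41460c0042), (nat_lit 0x96d6a26209efb0a48c529656b9c9a385f38b21345eaa892b75b5d540f3490c01461c4042)]),
  ((nat_lit 1), [(nat_lit 0xbeeb6caeaa689e69648e28607de75c6da6585d65544d24503ce34c2ca2481c61440c2040), (nat_lit 0x7aeb2dae17e09d04d14a2aa8a6f75b71a50f34e3199639266165d52ca2091461c40420c0), (nat_lit 0x7182abb592ea3da588a26812765a4e7908e731b361bd45e2b939097ec4551460c00421c4), (nat_lit 0x6cf2abb142e161a389810a237537d6be64a755c5ea799362ba5448a6d90c1c60400c2144)]),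
  ((nat_lit 0), [(nat_lit 0xbeeb6caeaa689e69648e28607de75c6da6585d65544d24503ce34c2ca2481c61440c2040), (nat_lit 0x958acab607523e2bd752666a2dca5e39086e9132635a821a9db30d7ec5510c61401c2044)])]

def r1_D0 : List ℕ := [(nat_lit 0), (nat_lit 513), (nat_lit 1537), (nat_lit 37378), (nat_lit 50178), (nat_lit 65538), (nat_lit 83458), (nat_lit 102914), (nat_lit 0), (nat_lit 1025), (nat_lit 149342468), (nat_lit 216066), (nat_lit 0), (nat_lit 4756739)]

def r1 : PM :=
  ⟨(nat_lit 48), (nat_lit 6), [(nat_lit 0xa102dd7d32af9a748970f6d6ad4b2385839a5605deaa536e899448b6990c0c21441c6040), (nat_lit 0x7aeb2dae17e09d04d14a2aa8a6f75b71a50f34e3199639266165d52ca2091461c40420c0), (nat_lit 0x2a36d949aa297947d5b962cf967390b6ab1326292662b21c81d30d86f5d1187105083001)],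
    [[.l 1, .l 2, .l 3]],
    [r1_L0], [r1_D0]⟩

instance r1_ne : NeZero r1.n := ⟨by decide⟩

theorem r1_ok0 : r1.ok0 = true := by decide +kernel

theorem r1_k0 : allFrom (nat_lit 0) (nat_lit 1) r1.okK = true := by decide +kernel

theorem r1_ok : r1.OK := PM.OK.of_check r1_ok0
  (of_allFrom_append of_lt_zero r1_k0)

theorem r1_card0 : Nat.card (genW r1.gam (r1.ws 0)) = 64 := (r1_ok.card 0).trans (by decide +kernel)

def e6_L0 : List (ℕ × List ℕ) := [((nat_lit 0), [(nat_lit 0x6b38bdab49ca307b9ac5a928398a418820), (nat_lit 0x6b38bda9594e116b9ea5b128398a418801), (nat_lit 0x6b38ace97959d15c1e86b12a398a418402), (nat_lit 0x6b37ac698859d34c9e66b16a3a0a410403), (nat_lit 0x6b369c65885dd53d1e56b16a4a0c310404), (nat_lit 0x6b17abe996d9734ca24831ca3a06610405), (nat_lit 0x6b169be596dd753d223831ca4a08510406), (nat_lit 0x6717ab29a5591334a2483dcd2ac6910407), (nat_lit 0x6af68be196e1353d262931ca5988518408), (nat_lit 0x67169b25a55d152d22383dcd32c8710409), (nat_lit 0x6ab38bdd95e1373d2c193208698851880a),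 (nat_lit 0x66f68b21a560d52d26293dcd424871840b), (nat_lit 0x6a92835d95e1373d6c09aa28798851882c), (nat_lit 0x66b38b1da460d72d2c193e0b524871880d), (nat_lit 0x62f67b1ba564951d26294570424c72840e), (nat_lit 0x6692829da460d72d6c09b62b624871882f), (nat_lit 0x62b37b17a464971d2c1945ae524c728810), (nat_lit 0x62926a97a464971d6c09c1ee624c728831), (nat_lit 0x5eb17b13a36498152c184dae52d0728c12), (nat_lit 0x5e906a93a36498156c08c9ee62d0728c33), (nat_lit 0x5a717b0fa2e47814ae1855ae52d0931014), (nat_lit 0x5a506a8fa2e47814ee08d1ee62d0931035), (nat_lit 0x568e5a13a364980de608c9f06354728c56), (nat_lit 0x4e4e5a0fa2e4780daa08d1f06354931057), (nat_lit 0x460e498fa2e4570daa09d1f26354b41078), (nat_lit 0x3dab490fa1e0570daa09d2326414e418b9), (nat_lit 0x3148310b91e0570daa09d2327c1ae5a4fa)]),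
  ((nat_lit 3), [(nat_lit 0x6b38bdab49ca307b9ac5a928398a418820), (nat_lit 0x6b38b5e72ad2307b9ac5a8e8494c320820), (nat_lit 0x6b37c5ab48c2727b9ac4a9663a0a410c20), (nat_lit 0x6b19bdab49c9ed8ae0c729283906628820), (nat_lit 0x6b19b5e72ad1ed8ae0c728e848c8530820), (nat_lit 0x6b35c4ef48bad27c16c4a1a63a8a408c40), (nat_lit 0x671abdab49c98a8a20f734cb2906938820), (nat_lit 0x6af9b6230ad1ed9a64c728e65888540c20), (nat_lit 0x671ab5e72ad18a8a20f734ab30c8748820), (nat_lit 0x6ab99e22ebd1ebb264c820e66848550c40), (nat_lit 0x66fab6230ad18a99a4f734a94088758c20), (nat_lit 0x66ba9e22ebd188b1a4f82ca95048768c40), (nat_lit 0x62fab65edad18a992515c069408c771420), (nat_lit 0x62ba9e5ebbd188b12516b869504c781440), (nat_lit 0x5eba8e5e9c5186b12136b84b5050791460), (nat_lit 0x5a7a8e5e7c4985b8e156b84b50509a1880)]),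
  ((nat_lit 1), [(nat_lit 0x6b38bdab49ca307b9ac5a928398a418820), (nat_lit 0x6b38acef4b4a2e7c16c6a12a398a418440), (nat_lit 0x6b368cef0c4aae7d0ec6952a5990218480), (nat_lit 0x6af8abf34b36299c16c911ca39848184a0), (nat_lit 0x6af68bf30c36a99d0ec909ca5988518500), (nat_lit 0x66f8ab354b2a269c10f911cd2a44b184e0), (nat_lit 0x6ab38bf2ec2ee9b50ec906086988518940), (nat_lit 0x66f68b350c2aa69d0af909cd4248718560), (nat_lit 0x66b38b34ec22e6b50af9060b52487189a0), (nat_lit 0x5eaf8b349c1326b50536860b5390719640)]),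
  ((nat_lit 5), [(nat_lit 0x6b38bdab49ca307b9ac5a928398a418820), (nat_lit 0x6758bdab49ca306394f434cb2a4e418820), (nat_lit 0x6af8cdab47b6309a64c5a9c43984819420), (nat_lit 0x6b36be2309cab47b9ac3a9255990219020), (nat_lit 0x6756be2309cab46394f2b4c74256219020), (nat_lit 0x6af6ce2307b6b49a64c3a9c2598851a020)]),
  ((nat_lit 2), [(nat_lit 0x6b38bdab49ca307b9ac5a928398a418820), (nat_lit 0x5f38d5ab462a30799b324928138ab19c20)])]

def e6_D0 : List ℕ := [(nat_lit 0), (nat_lit 513), (nat_lit 75266), (nat_lit 94210), (nat_lit 113666), (nat_lit 125442), (nat_lit 148994), (nat_lit 175106), (nat_lit 201730), (nat_lit 216066), (nat_lit 262658), (nat_lit 279554), (nat_lit 331266), (nat_lit 351234), (nat_lit 389634), (nat_lit 431106), (nat_lit 473602), (nat_lit 543234), (nat_lit 590850), (nat_lit 641026), (nat_lit 692226), (nat_lit 746498), (nat_lit 773634), (nat_lit 861698), (nat_lit 954370), (nat_lit 1018370), (nat_lit 1084418), (nat_lit 0), (nat_lit 1025), (nat_lit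 2049), (nat_lit 2561), (nat_lit 1364482), (nat_lit 1439234), (nat_lit 1518594), (nat_lit 1597442), (nat_lit 1637378), (nat_lit 1806850), (nat_lit 1850370), (nat_lit 1984514), (nat_lit 2075138), (nat_lit 2168322), (nat_lit 2312194), (nat_lit 2409474), (nat_lit 0), (nat_lit 1537), (nat_lit 29566502660), (nat_lit 31307201796), (nat_lit 33753858308), (nat_lit 2988034), (nat_lit 3098114), (nat_lit 3154946), (nat_lit 3329026), (nat_lit 49048446212), (nat_lit 0), (nat_lit 3073), (nat_lit 283746563), (nat_lit 284774147), (nat_lit 65792132868), (nat_lit 70044700420), (nat_lit 0), (nat_lit 570438915)]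

def e6_L1 : List (ℕ × List ℕ) := [((nat_lit 0), [(nat_lit 0x6b38bdab49ca307b9ac5a928398a418820), (nat_lit 0x6b38bda9594e116b9ea5b128398a418801), (nat_lit 0x6b35a3b179c6505d928799ac3a8a408062), (nat_lit 0x4e581d968d64e57b98daa83488204b8926), (nat_lit 0x6b35a3af88ce124d9667a1ac3a8a408043), (nat_lit 0x4e581d90bce8a7639eaab43488204b88c9), (nat_lit 0x4e350b9ecd64e55d909c187790a04a01aa), (nat_lit 0x4e4b438783e8b90daa07d18d8aa0449857), (nat_lit 0x4e350b98fce8a745966c247790a04a014d), (nat_lit 0x4a14039aad64e55d909c187798a24a85ec), (nat_lit 0x4e2f658353e8b91bb025dd0991a046a814), (nat_lit 0x4a140394dce8a745966c247798a24a858f), (nat_lit 0x461715926d64e57b98daa83498244c0d68), (nat_lit 0x4a0d558143e8b91bb025dd0999a247b035), (nat_lit 0x4617158c9ce8a7639eaab43498244c0d0b), (nat_lit 0x4609338573e8b90daa07d18d9aa445a078)]),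
  ((nat_lit 1), [(nat_lit 0x6b38bdab49ca307b9ac5a928398a418820), (nat_lit 0x4e2f65aa1d1f25c38775890991a046aa80)]),
  ((nat_lit 2), [(nat_lit 0x6b38bdab49ca307b9ac5a928398a418820), (nat_lit 0x6b37c5ab48c2727b9ac4a9663a0a410c20)]),
  ((nat_lit 5), [(nat_lit 0x6b38bdab49ca307b9ac5a928398a418820), (nat_lit 0x6758bdab49ca306394f434cb2a4e418820)])]

def e6_D1 : List ℕ := [(nat_lit 0), (nat_lit 513), (nat_lit 1025), (nat_lit 1537), (nat_lit 41986), (nat_lit 47618), (nat_lit 72706), (nat_lit 91650), (nat_lit 111618), (nat_lit 133634), (nat_lit 158722), (nat_lit 184834), (nat_lit 214018), (nat_lit 244226), (nat_lit 277506), (nat_lit 331778), (nat_lit 0), (nat_lit 5486851), (nat_lit 0), (nat_lit 6527235), (nat_lit 0), (nat_lit 67585457413)]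

def e6 : PM :=
  ⟨(nat_lit 27), (nat_lit 5), [(nat_lit 0x6b38bda9594e116b9ea5b128398a418801), (nat_lit 0x6b35a3b179c6505d928799ac3a8a408062), (nat_lit 0x4e581d968d64e57b98daa83488204b8926), (nat_lit 0x6b38bda9594e116b9ea5b128398a418801), (nat_lit 0x6b38b5e72ad2307b9ac5a8e8494c320820), (nat_lit 0x6b38acef4b4a2e7c16c6a12a398a418440), (nat_lit 0x6b37c5ab48c2727b9ac4a9663a0a410c20), (nat_lit 0x6b19bdab49c9ed8ae0c729283906628820), (nat_lit 0x6758bdab49ca306394f434cb2a4e418820)],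
    [[.l 4, .l 5, .l 6, .l 7, .l 8, .l 9],
    [.l 1, .l 2, .l 3]],
    [e6_L0, e6_L1], [e6_D0, e6_D1]⟩

instance e6_ne : NeZero e6.n := ⟨by decide⟩

theorem e6_ok0 : e6.ok0 = true := by decide +kernel

theorem e6_k0 : allFrom (nat_lit 0) (nat_lit 1) e6.okK = true := by decide +kernel

theorem e6_k1 : allFrom (nat_lit 1) (nat_lit 1) e6.okK = true := by decide +kernel

theorem e6_ok : e6.OK := PM.OK.of_check e6_ok0
  (of_allFrom_append (of_allFrom_append of_lt_zero e6_k0) e6_k1)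

theorem e6_card0 : Nat.card (genW e6.gam (e6.ws 0)) = 51840 := (e6_ok.card 0).trans (by decide +kernel)

theorem e6_card1 : Nat.card (genW e6.gam (e6.ws 1)) = 128 := (e6_ok.card 1).trans (by decide +kernel)

def q2_L0 : List (ℕ × List ℕ) := [((nat_lit 0), [(nat_lit 16434824), (nat_lit 16434817), (nat_lit 16433690), (nat_lit 6852524), (nat_lit 16433683), (nat_lit 6852517), (nat_lit 6851390), (nat_lit 6851383)]),
  ((nat_lit 2), [(nat_lit 16434824), (nat_lit 16434376)]),
  ((nat_lit 4), [(nat_lit 16434824), (nat_lit 16406152), (nat_lit 11789960), (nat_lit 11761288)]),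
  ((nat_lit 6), [(nat_lit 16434824), (nat_lit 14599816)])]

def q2_D0 : List ℕ := [(nat_lit 0), (nat_lit 513), (nat_lit 1025), (nat_lit 1537), (nat_lit 41986), (nat_lit 47618), (nat_lit 62978), (nat_lit 91650), (nat_lit 0), (nat_lit 2093315), (nat_lit 0), (nat_lit 3244803), (nat_lit 3706627), (nat_lit 306036484), (nat_lit 0), (nat_lit 17278989061)]

def q2 : PM :=
  ⟨(nat_lit 8), (nat_lit 3), [(nat_lit 16434817), (nat_lit 16433690), (nat_lit 6852524)],
    [[.l 1, .l 2, .l 3]],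
    [q2_L0], [q2_D0]⟩

instance q2_ne : NeZero q2.n := ⟨by decide⟩

theorem q2_ok0 : q2.ok0 = true := by decide +kernel

theorem q2_k0 : allFrom (nat_lit 0) (nat_lit 1) q2.okK = true := by decide +kernel

theorem q2_ok : q2.OK := PM.OK.of_check q2_ok0
  (of_allFrom_append of_lt_zero q2_k0)

theorem q2_card0 : Nat.card (genW q2.gam (q2.ws 0)) = 128 := (q2_ok.card 0).trans (by decide +kernel)

def r2_L0 : List (ℕ × List ℕ) := [((nat_lit 0), [(nat_lit 0x228607de75c6da6585d65544d24503ce34c2ca2481c61440c2040), (nat_lit 0x228607de75b71a6585d651549341134e3ca2cc2481c61440c2001), (nat_lit 0x228607dc6de75a65550e6174d14902d62483c634c1ca1440400c2), (nat_lit 0x1e75c6e28607d34980d62c86991c53ce30d54a0544404045c2246), (nat_lit 0x228607dc6dd79a65550e5d84534122562c63c834c1ca144040083), (nat_lit 0x1e75c6e285f8134980d620b65a14730e3ca54d0544404045c2189), (nat_lit 0x1c6de7628607d345504e3cc6991c52d62096060d748240450034a), (nat_lit 0x1e75c6e07e189348b20e0d81da1590565403d430d44a404246097),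 (nat_lit 0x1c6de76285f81345504e30f65a1472162c66090d748240450028d), (nat_lit 0x1b71e7628607d241400e34a6991c52d62096060d74c24445413cc), (nat_lit 0x1c6de7607e189344f3160551da1590ce6022d720948640434a014), (nat_lit 0x1b71e76285f81241400e28d65a1472162c66090d74c244454130f), (nat_lit 0x1d79c6e28607d14170962466991c53ce30d54a0544c04846032c8), (nat_lit 0x1b71e7607e189240d2960141da1590ce6022d72094c64443cc055), (nat_lit 0x1d79c6e285f81141709618965a14730e3ca54d0544c048460320b), (nat_lit 0x1d79c6e07e189140918e0971da1590565403d430d4ca4842c80d8)]),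
  ((nat_lit 1), [(nat_lit 0x228607de75c6da6585d65544d24503ce34c2ca2481c61440c2040), (nat_lit 0x1c6de7607e285344f31654168764560e0d72c220948640434a500)]),
  ((nat_lit 2), [(nat_lit 0x228607de75c6da6585d65544d24503ce34c2ca2481c61440c2040), (nat_lit 0x228607dd79c6da6576165544504d23ce34c24a2c61c8144083040)]),
  ((nat_lit 5), [(nat_lit 0x228607de75c6da6585d65544d24503ce34c2ca2481c61440c2040), (nat_lit 0x2285f81e75c6d96985d65544d245030e28f20d18b1491c40c2040)])]

def r2_D0 : List ℕ := [(nat_lit 0), (nat_lit 513), (nat_lit 1025), (nat_lit 1537), (nat_lit 41986), (nat_lit 47618), (nat_lit 72706), (nat_lit 91650), (nat_lit 111618), (nat_lit 133634), (nat_lit 158722), (nat_lit 184834), (nat_lit 214018), (nat_lit 244226), (nat_lit 277506), (nat_lit 331778), (nat_lit 0), (nat_lit 5486851), (nat_lit 0), (nat_lit 6527235), (nat_lit 0), (nat_lit 67585457413)]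

def r2 : PM :=
  ⟨(nat_lit 35), (nat_lit 6), [(nat_lit 0x228607de75b71a6585d651549341134e3ca2cc2481c61440c2001), (nat_lit 0x228607dc6de75a65550e6174d14902d62483c634c1ca1440400c2), (nat_lit 0x1e75c6e28607d34980d62c86991c53ce30d54a0544404045c2246)],
    [[.l 1, .l 2, .l 3]],
    [r2_L0], [r2_D0]⟩

instance r2_ne : NeZero r2.n := ⟨by decide⟩

theorem r2_ok0 : r2.ok0 = true := by decide +kernel

theorem r2_k0 : allFrom (nat_lit 0) (nat_lit 1) r2.okK = true := by decide +kernel

theorem r2_ok : r2.OK := PM.OK.of_check r2_ok0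
  (of_allFrom_append of_lt_zero r2_k0)

theorem r2_card0 : Nat.card (genW r2.gam (r2.ws 0)) = 128 := (r2_ok.card 0).trans (by decide +kernel)

theorem i1 : IsoW (newLet GH.u4.gam [.l 0, .l 1, .l 2, .l 3]) q1.gam :=
  isoW_of_pair (k := 0) (N := 3) r1_ok GH.u4_ok q1_ok rfl rfl rfl (by decide +kernel)

theorem i2 : IsoW (newLet e6.gam [.l 0, .l 1, .l 2, .l 3]) q2.gam :=
  isoW_of_pair (k := 1) (N := 3) r2_ok e6_ok q2_ok rfl rfl rfl (by decide +kernel)

theorem syl {G H : Type*} [Group G] [Group H] [Finite G] (P : Sylow 2 G) {L M : Subgroup H} (e : G ≃* M) (h : L ≤ M) {k m : ℕ}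
    (h1 : Nat.card L = 2 ^ k) (h2 : Nat.card M = 2 ^ k * m) (hm : Odd m) : Nonempty ((P : Subgroup G) ≃* L) :=
  have f := (e.symm.subgroupMap (L.subgroupOf M)).symm.trans (subgroupOfEquivOfLe h)
  ⟨(GH.nonempty_equiv_of_card P ((Nat.card_congr f.toEquiv).trans h1) ((Nat.card_congr e.toEquiv).trans h2) hm).some.trans f⟩

theorem e6_eq : Nonempty (CoxeterMatrix.E₆.Group ≃* e6.K 0) := by
  obtain ⟨φ, e⟩ := Fi.cox_hom (M := CoxeterMatrix.E₆) (x := fun i => e6.gam (i + 4)) fun i j =>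
    e6_ok.holds (φ := .one (.pow (.mul (.l (i + 4)) (.l (j + 4))) (CoxeterMatrix.E₆ i j))) (by revert i j; decide +kernel)
  have r : φ.range = e6.K 0 := e.trans (le_antisymm ((closure_le _).2 (by rintro _ ⟨i, rfl⟩; exact e6_ok.mem _)) (genW_le.2 fun t h => by
    simp only [PM.ws, e6, List.getD_cons_zero, List.mem_cons, List.not_mem_nil, or_false] at h
    rcases h with rfl | rfl | rfl | rfl | rfl | rfl
    exacts [subset_closure ⟨0, rfl⟩, subset_closure ⟨1, rfl⟩, subset_closure ⟨2, rfl⟩, subset_closure ⟨3, rfl⟩, subset_closure ⟨4, rfl⟩,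
      subset_closure ⟨5, rfl⟩]))
  exact ⟨(MulEquiv.ofBijective φ.rangeRestrict (φ.rangeRestrict_surjective.bijective_of_nat_card_le
    (by rw [r, Fi.card_E6]; exact e6_card0.ge))).trans (.subgroupCongr r)⟩

/-- The Sylow 2-subgroups of the alternating group of degree 8 and of PSp₄(3) are isomorphic, and so are the Sylow 2-subgroups of the symmetric group of degree 8 and of the full isometry group of a non-degenerate quadratic form of minus type in dimension 6 over the field with 2 elements. -/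
theorem result (F : Type) [Field F] [Fintype F] (hF : Fintype.card F = 3) (K : Type) [Field K] [Fintype K] (hK : Fintype.card K = 2) (a b : K) (hab : ∀ z₁ z₂ : K, z₁ ^ 2 + a * z₁ * z₂ + b * z₂ ^ 2 = 0 → z₁ = 0 ∧ z₂ = 0) (P : Sylow 2 ↥(alternatingGroup (Fin 8))) (Q : Sylow 2 (Cfsg.PSp 2 F)) (P' : Sylow 2 (Equiv.Perm (Fin 8))) (Q' : Sylow 2 ↥(Cfsg.isometryGroup K (Cfsg.quadFormMinus 2 K a b))) : Nonempty (↥(P : Subgroup ↥(alternatingGroup (Fin 8))) ≃* ↥(Q : Subgroup (Cfsg.PSp 2 F))) ∧ Nonempty (↥(P' : Subgroup (Equiv.Perm (Fin 8))) ≃* ↥(Q' : Subgroup ↥(Cfsg.isometryGroup K (Cfsg.quadFormMinus 2 K a b)))) := by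
  obtain ⟨a1, -⟩ := i1.exists_equiv (q1.ws 0)
  obtain ⟨a2, -⟩ := i2.exists_equiv (q2.ws 0)
  rw [genW_fix (by decide)] at a1 a2
  have f := FiniteField.ringEquivOfCardEq (hK.trans (ZMod.card 2).symm)
  have z : ∀ x y : ZMod 2, y ≠ 0 → 1 + x + y ≠ 0 → x = 1 ∧ y = 1 := by decide
  obtain ⟨b1, b2⟩ := z (f a) (f b) (fun e => one_ne_zero (hab 0 1 (by simpa using e)).2)
    fun e => one_ne_zero (hab 1 1 (f.injective (by simpa using e))).2
  have e : ∀ v, quadFormMinus 2 (ZMod 2) 1 1 (f ∘ v) = f (quadFormMinus 2 K a b v) := fun v => by simp [quadFormMinus, b1, b2]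
  have g := Mult.glCongr f (Mult.mem_isom_map f e) (Mult.mem_isom_map f.symm (Mult.forall_comp f fun v => by
    rw [e, f.symm_apply_apply]; congr 1; ext; simp))
  obtain ⟨c1⟩ : Nonempty ((P : Subgroup (alternatingGroup (Fin 8))) ≃* GH.u4.K 0) := GH.nonempty_equiv_a8 P GH.u4_even GH.u4_card0
  obtain ⟨c2⟩ : Nonempty ((P' : Subgroup (Equiv.Perm (Fin 8))) ≃* q2.K 0) :=
    GH.nonempty_equiv_of_card P' (k := 7) (m := 315) q2_card0 (by rw [Nat.card_perm, Nat.card_fin]; rfl) (by decide)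
  refine ⟨⟨(c1.trans a1).trans (syl Q (IA.psp43_iso hF).some (genW_le.2 fun t h => ?_)
    (k := 6) (m := 405) q1_card0 IA.u4_card0 (by decide)).some.symm⟩, ⟨(c2.trans a2.symm).trans
      (syl Q' ((g.trans Fi.e6_iso.some.symm).trans e6_eq.some) (e6_ok.le 1) (k := 7) (m := 405) e6_card1 e6_card0 (by decide)).some.symm⟩⟩
  simp only [PM.ws, q1, List.getD_cons_zero, List.mem_cons, List.not_mem_nil, or_false] at h
  rcases h with rfl | rfl | rfl
  exacts [IA.u4_ok.mem 2, IA.u4_ok.mem 7, IA.u4_ok.mem 4]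

end Cfsg.Agent.S2931
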