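import Cfsg.Statements.S2932
import Cfsg.Agent.Lib.CharDeg.NatSL
import Cfsg.Agent.S2553
import Cfsg.Agent.Lib.PGroup.AutGL
import Cfsg.Agent.Lib.PF.Main
import Cfsg.Agent.Lib.PSL2.SmallIso
import Cfsg.Agent.Lib.PSL2.BaseChange
import Cfsg.Agent.Lib.Core.PCore

set_option autoImplicit false
open Cfsg

namespace Cfsg.Agent.S2932

open Subgroup Cfsg.Lib Cfsg.Lib.PSL2 Cfsg.Lib.CharDeg.NatSL
open scoped MatrixGroups

section

variable {F : Type*} [Field F] [Fintype F] {G : Type*} [Group G] [Finite G]
  [DistribMulAction G (F × F)] {ι : SL(2, F) →* G} {S : Subgroup G}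

omit [Fintype F] [Finite G] in
theorem inj {p : ℕ} (h : Ctx p ι S) : Function.Injective ι :=
  (injective_iff_map_eq_one ι).2 fun A hA => by
    have h1 := h.act A (1, 0)
    have h2 := h.act A (0, 1)
    rw [hA, one_smul, Prod.ext_iff] at h1 h2
    simp only [mul_one, mul_zero, add_zero, zero_add] at h1 h2
    exact sl_ext h1.1.symm h2.1.symm h1.2.symm h2.2.symm

theorem exists_hom [CharP F 2] (h : Ctx 2 ι S) (h4 : Fintype.card F = 4) :
    ∃ f : G →* GL (Fin 4) (ZMod 2), Function.Injective f := by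
  haveI : Fact (Nat.Prime 2) := ⟨Nat.prime_two⟩
  obtain ⟨f, hf⟩ := PGroup.exists_aut_hom_GL' (V := Multiplicative (F × F)) (p := 2) (n := 4)
    (fun x => by
      change (2 : ℕ) • Multiplicative.toAdd x = 0
      ext <;> simp [CharTwo.two_eq_zero])
    (by rw [Nat.card_congr Multiplicative.toAdd, Nat.card_prod, Nat.card_eq_fintype_card, h4]; decide)
  let φ : G →* MulAut (Multiplicative (F × F)) := MonoidHom.mk' (fun g =>
    { toFun := fun v => Multiplicative.ofAdd (g • Multiplicative.toAdd v)
      invFun := fun v => Multiplicative.ofAdd (g⁻¹ • Multiplicative.toAdd v)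
      left_inv := fun v => inv_smul_smul g (Multiplicative.toAdd v)
      right_inv := fun v => smul_inv_smul g (Multiplicative.toAdd v)
      map_mul' := fun a b => smul_add g (Multiplicative.toAdd a) (Multiplicative.toAdd b) })
    fun a b => MulEquiv.ext fun v => mul_smul a b (Multiplicative.toAdd v)
  exact ⟨f.comp φ, hf.comp ((injective_iff_map_eq_one φ).2 fun g hg =>
    h.faith g fun v => MulEquiv.congr_fun hg (Multiplicative.ofAdd v))⟩

theorem odd_bot [CharP F 2] (h : Ctx 2 ι S) (h4 : Fintype.card F = 4) (hd : Nat.card G ∣ 20160)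
    {g : G} {a : F} (hs : g * ι (upper a) * g⁻¹ ∈ S) (hU : g * ι (upper a) * g⁻¹ ∉ U ι) :
    pPrimeCore 2 G = ⊥ := by
  classical
  haveI : Fact (Nat.Prime 2) := ⟨Nat.prime_two⟩
  have hL : Nat.card SL(2, F) = 60 := by rw [card_SL2, Nat.card_eq_fintype_card, h4]; rfl
  haveI : IsSimpleGroup SL(2, F) := by
    obtain ⟨e⟩ := equiv_sl_psl_of_even (F := F) (by rw [Nat.card_eq_fintype_card, h4]; decide)
    haveI := Linear.isSimpleGroup_PSL_fin (F := F) (n := 2) le_rfl fun _ => h4.ge
    exact e.isSimpleGroup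
  by_contra hO
  obtain ⟨N, hN, hNO⟩ := Core.exists_isMinNormal_le (inferInstance : (pPrimeCore 2 G).Normal) hO
  haveI := hN.normal
  have hodd : Odd (Nat.card N) :=
    (Nat.coprime_two_right.1 (Core.pPrimeCore_coprime 2 G)).of_dvd_nat (card_dvd_of_le hNO)
  obtain ⟨r, hr, hP⟩ := hN.exists_isPGroup (PF.isSolvable_of_odd _ hodd)
  haveI := Fact.mk hr
  have nofix : ∀ v : F × F, (∀ n ∈ N, n • v = v) → v = 0 := fun v hv => by
    by_contra h0
    exact hN.ne_bot (h.eq_bot_of_fix hN.normal h0 hv)
  have h15 : r ∣ 15 := by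
    have h1 := hP.card_modEq_card_fixedPoints (F × F)
    have h2 : Nat.card (MulAction.fixedPoints N (F × F)) = 1 :=
      Nat.card_eq_one_iff_exists.2 ⟨⟨0, fun n => smul_zero n⟩, fun v =>
        Subtype.ext (nofix v fun n hn => v.2 ⟨n, hn⟩)⟩
    rw [h2, Nat.card_prod, Nat.card_eq_fintype_card, h4] at h1
    exact (Nat.modEq_iff_dvd' (by norm_num)).1 h1.symm
  have hNL : ι.range ⊓ N = ⊥ := by
    rcases (inferInstance : (N.comap ι).Normal).eq_bot_or_eq_top with e | e
    · refine eq_bot_iff.2 ?_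
      rintro _ ⟨⟨A, rfl⟩, hA⟩
      rw [mem_bot.1 (e.le (hA : A ∈ N.comap ι)), map_one]
      exact one_mem _
    · have := hodd.of_dvd_nat ((card_dvd_of_injective (ι.codRestrict N fun A =>
        (e ▸ mem_top A : A ∈ N.comap ι)) fun A B e => inj h (congrArg Subtype.val e)))
      rw [hL] at this
      exact absurd this (by decide)
  have h3 : Nat.card N = 3 := by
    have h1 := (card_subgroup_dvd_card (ι.range ⊔ N)).trans hd
    rw [Core.card_sup_of_disjoint le_normalizer_of_normal hNL,
      ← Nat.card_congr (MonoidHom.ofInjective (inj h)).toEquiv, hL] at h1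
    have h2 : Nat.card N ∣ 336 := Nat.dvd_of_mul_dvd_mul_left (by norm_num : 0 < 60) h1
    obtain ⟨k, hk⟩ := hP.exists_card_eq
    have hk0 : k ≠ 0 := fun e => hN.ne_bot (card_eq_one.1 (by rw [hk, e, pow_zero]))
    have h5 : r ∣ 3 := (Nat.dvd_gcd h15 ((dvd_pow_self r hk0).trans (hk ▸ h2)) :)
    obtain rfl := (Nat.prime_dvd_prime_iff_eq hr Nat.prime_three).1 h5
    have h6 : k = 1 := by
      by_contra hk1
      have := (pow_dvd_pow 3 (show 2 ≤ k by omega)).trans (hk ▸ h2)
      omega
    rw [hk, h6, pow_one]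
  have hsq : ∀ x : G, x ^ 2 ∈ centralizer (N : Set G) := fun x n hn => by
    haveI : Fact (Nat.Prime 3) := ⟨Nat.prime_three⟩
    haveI := isCyclic_of_prime_card h3
    have h1 : Nat.card (MulAut N) = 2 := by rw [IsCyclic.card_mulAut, h3]; decide
    have h2 : (MulAut.conjNormal x : MulAut N) ^ 2 = 1 := h1 ▸ pow_card_eq_one'
    rw [← map_pow] at h2
    have h3 := congrArg Subtype.val (MulEquiv.congr_fun h2 ⟨n, hn⟩)
    exact (mul_inv_eq_iff_eq_mul.1 h3).symm
  have hLC : ∀ A, ι A ∈ centralizer (N : Set G) := fun A => by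
    rcases (inferInstance : ((centralizer (N : Set G)).comap ι).Normal).eq_bot_or_eq_top with e | e
    · haveI : Fact (Nat.Prime 3) := ⟨Nat.prime_three⟩
      obtain ⟨x, hx⟩ := exists_prime_orderOf_dvd_card' (G := SL(2, F)) 3 (by rw [hL]; norm_num)
      have h1 : x ^ 2 = 1 := mem_bot.1 (e ▸ (by
        rw [mem_comap, map_pow]; exact hsq _ : x ^ 2 ∈ (centralizer (N : Set G)).comap ι))
      have := orderOf_dvd_of_pow_eq_one h1
      rw [hx] at this
      omega
    · exact (e ▸ mem_top A : A ∈ (centralizer (N : Set G)).comap ι)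
  have hsC := (inferInstance : (centralizer (N : Set G)).Normal).conj_mem _ (hLC (upper a)) g
  have hss : g * ι (upper a) * g⁻¹ * (g * ι (upper a) * g⁻¹) = 1 := by
    rw [conj_mul, ← pow_two, h.u_pow, mul_one, mul_inv_cancel]
  generalize g * ι (upper a) * g⁻¹ = s at hs hU hsC hss
  obtain ⟨τ, c, d, hc, hT, -, b, hb⟩ := h.exists_T' hs hU
  have h2 : (2 : F) = 0 := CharTwo.two_eq_zero
  have fx : ∀ y, τ y = y → y = 0 ∨ y = 1 := fun y hy => by
    by_contra hne
    push Not at hne
    have h11 : y + 1 ≠ 0 := fun e => hne.2 (by linear_combination e - h2)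
    have hu : ({0, 1, y, y + 1} : Finset F) = Finset.univ := Finset.eq_univ_of_card _ (by
      rw [h4, Finset.card_insert_of_notMem, Finset.card_insert_of_notMem,
        Finset.card_pair (by simp)]
      · simp [hne.1, hne.2.symm]
      · simp [hne.1.symm, h11.symm])
    have := hu ▸ Finset.mem_univ b
    simp only [Finset.mem_insert, Finset.mem_singleton] at this
    rcases this with rfl | rfl | rfl | rfl <;> simp [hy] at hb
  obtain ⟨x, hx⟩ : ∃ x, c * τ x ≠ x := not_forall.1 fun e =>
    hb (hT.id_of_fix (fun x => by rw [hT.1, e]) b)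
  have hxx : c * τ (c * τ x) = x := by
    have := hT.1 (c * τ x)
    rw [← hT.1, ← mul_smul, hss, one_smul] at this
    exact (congrArg Prod.fst this).symm
  have hw0 : x + c * τ x ≠ 0 := fun e => hx (by linear_combination e - x * h2)
  have hw : c * τ (x + c * τ x) = x + c * τ x := by rw [map_add, mul_add, hxx, add_comm]
  generalize x + c * τ x = w at hw0 hw
  refine hw0 (congrArg Prod.fst (nofix (w, 0) fun n hn => ?_))
  have h5 : (n • ((w, 0) : F × F)).2 = 0 := (h.fix_iff one_ne_zero _).1 (by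
    rw [← mul_smul, ← hLC _ n hn, mul_smul, (h.fix_iff one_ne_zero _).2 rfl])
  have h6 : s • n • ((w, 0) : F × F) = n • (w, 0) := by
    rw [← mul_smul, ← hsC n hn, mul_smul, hT.1, hw]
  have h7 : n • ((w, 0) : F × F) ≠ 0 := fun e => hw0 (by
    simpa using (smul_eq_zero_iff_eq n).1 e)
  generalize n • ((w, 0) : F × F) = v at h5 h6 h7
  obtain ⟨v, v'⟩ := v
  obtain rfl : v' = 0 := h5
  rw [hT.1] at h6
  have h8 : c * τ v = v := congrArg Prod.fst h6
  rcases fx (v / w) (by
    rw [map_div₀, ← mul_div_mul_left _ _ hc, h8, hw]) with e | e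
  · exact absurd (by rw [(div_eq_zero_iff.1 e).resolve_right hw0]; rfl) h7
  · rw [(div_eq_one_iff_eq hw0).1 e]

theorem four {p : ℕ} [hp : Fact p.Prime] [CharP F p] (h : Ctx p ι S) (h4 : Fintype.card F = 4) :
    ι.range.Normal ∨ Nonempty (G ≃* alternatingGroup (Fin 7)) := by
  obtain rfl : p = 2 := (Nat.prime_dvd_prime_iff_eq hp.out Nat.prime_two).1
    (hp.out.dvd_of_dvd_pow (n := 2) (by have := h.p_dvd; rwa [h4] at this))
  by_cases hsc : ∀ (g : G) (a : F), g * ι (upper a) * g⁻¹ ∈ S → g * ι (upper a) * g⁻¹ ∈ U ι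
  · exact Or.inl (h.normal hsc)
  push Not at hsc
  obtain ⟨g, a, hs, hU⟩ := hsc
  obtain ⟨f, hf⟩ := exists_hom h h4
  have hd : Nat.card G ∣ 20160 := by
    obtain ⟨f', hf'⟩ := S3103.exists_gl_hom
    exact S2553.card_a8 ▸ card_dvd_of_injective (f'.comp f) (hf'.comp hf)
  have hL : Nat.card ι.range = 60 := by
    rw [← Nat.card_congr (MonoidHom.ofInjective (inj h)).toEquiv, card_SL2,
      Nat.card_eq_fintype_card, h4]; rfl
  have hO := odd_bot h h4 hd hs hU
  have hO2 : pCore 2 G = ⊥ := by
    obtain ⟨v, hv, hf⟩ := h.exists_fix (Core.pCore_isPGroup 2 G) h.p_dvd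
    exact h.eq_bot_of_fix inferInstance hv hf
  have h16 : ¬ 16 ∣ Nat.card G := fun hc => by
    have h1 : (U ι).relIndex S ∣ 2 := index_dvd_two_iff.2 ⟨⟨_, hs⟩, fun b => by
      by_cases hb : (b : G) ∈ U ι
      · exact Or.inr hb
      · exact Or.inl (h.mul_mem_U b.2 hs hb hU (Or.inr h4))⟩
    have h2 : Nat.card (U ι) = 4 := by
      rw [← h4, ← Nat.card_eq_fintype_card]
      exact (Nat.card_eq_of_bijective (fun a : F => (⟨_, u_mem ι a⟩ : U ι))
        ⟨fun a b e => h.u_inj (congrArg Subtype.val e), fun ⟨_, a, e⟩ => ⟨a, Subtype.ext e.symm⟩⟩).symm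
    have h3 := Transfer.card_mul_relIndex h.uS
    rw [← S.card_mul_index, ← h3, h2] at hc
    have h5 := ((Nat.coprime_two_left.2 (Nat.odd_iff.2 (Nat.two_dvd_ne_zero.1 h.idx))).pow_left
      4).dvd_of_dvd_mul_right hc
    have := Nat.le_of_dvd two_pos h1
    have := Nat.le_of_dvd (Nat.mul_pos (by norm_num) (Nat.pos_of_dvd_of_pos h1 two_pos)) h5
    omega
  have hi := ι.range.card_mul_index
  rw [hL] at hi
  let e := MonoidHom.ofInjective hf
  rcases S2553.result f.range (fun e' => by
      have := Nat.card_congr e.toEquiv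
      rw [e', card_bot] at this
      omega) ((Core.pPrimeCore_eq_bot_congr e).1 hO) ((Core.pCore_eq_bot_congr e).1 hO2) with
    ⟨n, h5, h8, ⟨e'⟩⟩ | ⟨⟨e'⟩⟩ | ⟨⟨e'⟩⟩ | ⟨⟨e'⟩⟩
  · have hc := Nat.card_congr (e.trans e').toEquiv
    have hn := Alt.two_mul_card_alt_fin (n := n) (by omega)
    rw [← hc] at hn
    interval_cases n
    · left
      rw [index_eq_one.1 (show ι.range.index = 1 by simp only [Nat.factorial] at hn; omega)]
      infer_instance
    · left
      have h360 : Nat.card G = 360 := by simp only [Nat.factorial] at hn; omega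
      by_contra hne
      haveI : IsSimpleGroup (alternatingGroup (Fin 6)) := alternatingGroup.isSimpleGroup (by simp)
      haveI := (e.trans e').isSimpleGroup
      have h1 := Small.two_mul_card_dvd_factorial (H := normalizer (ι.range : Set G))
        (Small.not_isMulCommutative_of_simple (by rw [h360]; norm_num))
        fun e => hne (normalizer_eq_top_iff.1 e)
      have h2 := index_dvd_of_le (le_normalizer : ι.range ≤ _)
      have h3 : ¬ 2 ∣ (normalizer (ι.range : Set G)).index := fun e =>
        h.idx (e.trans (index_dvd_of_le h.nS))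
      rw [show ι.range.index = 6 by omega] at h2
      have h6 := Nat.le_of_dvd (by norm_num) h2
      have h7 : (normalizer (ι.range : Set G)).index ≤ 5 := by omega
      have := h1.trans (Nat.factorial_dvd_factorial h7)
      rw [h360] at this
      revert this; decide
    · exact Or.inr ⟨e.trans e'⟩
    · exact absurd (by simp only [Nat.factorial] at hn; omega) h16
  · have hc := Nat.card_congr (e.trans e').toEquiv
    rw [Nat.card_perm, Nat.card_fin] at hc
    exact Or.inl (normal_of_index_eq_two (by simp only [Nat.factorial] at hc; omega))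
  · have hc := Nat.card_congr (e.trans e').toEquiv
    rw [Nat.card_perm, Nat.card_fin] at hc
    exact absurd (by simp only [Nat.factorial] at hc; omega) h16
  · have hc := Nat.card_congr (e.trans e').toEquiv
    rw [Matrix.card_GL_field] at hc
    simp only [Fin.prod_univ_three, ZMod.card] at hc
    norm_num at hc
    omega

end

/-- Let p be a prime. Inside a finite ambient group let V be an elementary abelian p-subgroup and G a subgroup normalizing V and acting faithfully on it (G ∩ C(V) = 1), and let L ≤ G act on V as SL₂(F) on its natural module, F a finite field of characteristic p, with L ≅ SL₂(F). If every Sylow p-subgroup of N_G(L) is a Sylow p-subgroup of G, then either L is normal in G, or F has 4 elements and G is isomorphic to the alternating group of degree 7. -/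
theorem result {X : Type*} [Group X] [Finite X] {p : ℕ} [Fact p.Prime] (F : Type) [Field F] [Fintype F] [CharP F p] (V G L : Subgroup X) (hV : Cfsg.IsElementaryAbelian p V) (hGV : G ≤ Subgroup.normalizer (V : Set X)) (hfaith : G ⊓ Subgroup.centralizer (V : Set X) = ⊥) (hLG : L ≤ G) (hnat : Cfsg.IsNaturalSL2Module F V L) (hLiso : Nonempty (↥L ≃* Matrix.SpecialLinearGroup (Fin 2) F)) (hSyl : ∀ S : Sylow p ↥(G ⊓ Subgroup.normalizer (L : Set X)), ∀ P : Sylow p ↥G, Nat.card S = Nat.card P) : (L.subgroupOf G).Normal ∨ (Fintype.card F = 4 ∧ Nonempty (↥G ≃* ↥(alternatingGroup (Fin 7)))) := by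
  obtain ⟨-, ρ, ψ, hρ, hker, hact⟩ := hnat
  have hp : p.Prime := Fact.out
  have hρi : Function.Injective ρ := (MonoidHom.ker_eq_bot_iff ρ).1 (by
    rw [hker]
    exact eq_bot_iff.2 fun l hl => Subtype.ext (mem_bot.1 (hfaith.le ⟨hLG l.2, hl⟩)))
  let e : L ≃* SL(2, F) := MulEquiv.ofBijective ρ ⟨hρi, hρ⟩
  let ι : SL(2, F) →* G := (inclusion hLG).comp e.symm.toMonoidHom
  let φ : G →* MulAut V := (normalizerMonoidHom V).comp (inclusion hGV)
  let ψ' : Additive V ≃+ F × F := ψ.trans (LinearEquiv.finTwoArrow F F).toAddEquiv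
  letI : DistribMulAction G (F × F) :=
    { smul := fun g v => ψ' (Additive.ofMul (φ g (Additive.toMul (ψ'.symm v))))
      one_smul := fun v => by
        change ψ' (Additive.ofMul (φ 1 (Additive.toMul (ψ'.symm v)))) = v
        rw [map_one]; exact ψ'.apply_symm_apply v
      mul_smul := fun a b v => by
        change ψ' (Additive.ofMul (φ (a * b) (Additive.toMul (ψ'.symm v)))) = ψ' (Additive.ofMul
          (φ a (Additive.toMul (ψ'.symm (ψ' (Additive.ofMul (φ b (Additive.toMul (ψ'.symm v)))))))))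
        rw [map_mul, ψ'.symm_apply_apply]; rfl
      smul_zero := fun g => by
        change ψ' (Additive.ofMul (φ g (Additive.toMul (ψ'.symm 0)))) = 0
        rw [map_zero, toMul_zero, map_one, ofMul_one, map_zero]
      smul_add := fun g v w => by
        change ψ' (Additive.ofMul (φ g (Additive.toMul (ψ'.symm (v + w))))) =
          ψ' (Additive.ofMul (φ g (Additive.toMul (ψ'.symm v)))) +
            ψ' (Additive.ofMul (φ g (Additive.toMul (ψ'.symm w))))
        rw [map_add, toMul_add, map_mul, ofMul_mul, map_add] }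
  have hr : ι.range = L.subgroupOf G := by
    ext g
    exact ⟨fun ⟨A, hA⟩ => hA ▸ (e.symm A).2, fun hg => ⟨e ⟨g, hg⟩,
      Subtype.ext (congrArg Subtype.val (e.symm_apply_apply ⟨g, hg⟩) :)⟩⟩
  have hUp : IsPGroup p (U ι) := by
    rintro ⟨_, a, rfl⟩
    refine ⟨1, Subtype.ext ?_⟩
    change ι (upper a) ^ p ^ 1 = 1
    rw [pow_one, ← map_pow, upper_pow, CharP.cast_eq_zero, zero_mul, upper_zero, map_one]
  obtain ⟨S, hUS, hSN, hSp, hSi⟩ := Transfer.exists_sylowIn_ge
    (H := normalizer (ι.range : Set G)) hUp (by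
      rintro _ ⟨a, rfl⟩
      exact le_normalizer ⟨_, rfl⟩)
  have hN : ¬ p ∣ (normalizer (ι.range : Set G)).index := by
    obtain ⟨S₁⟩ : Nonempty (Sylow p ↥(G ⊓ normalizer (L : Set X))) := inferInstance
    obtain ⟨P⟩ : Nonempty (Sylow p G) := inferInstance
    have h1 := hSyl S₁ P
    rw [S₁.card_eq_multiplicity, P.card_eq_multiplicity] at h1
    have h2 : Nat.card (normalizer (ι.range : Set G)) = Nat.card ↥(G ⊓ normalizer (L : Set X)) := by
      rw [hr, ← subgroupOf_normalizer_eq hLG, ← inf_subgroupOf_left]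
      exact Nat.card_congr (subgroupOfEquivOfLe inf_le_left).toEquiv
    have h3 := Nat.pow_right_injective hp.two_le h1
    rw [← h2, ← (normalizer (ι.range : Set G)).card_mul_index,
      Nat.factorization_mul Nat.card_pos.ne' index_ne_zero_of_finite, Finsupp.add_apply] at h3
    intro hd
    have := (hp.dvd_iff_one_le_factorization index_ne_zero_of_finite).1 hd
    omega
  have h : Ctx p ι S :=
    { act := fun A v => by
        obtain ⟨w, hw, hw'⟩ := hact (e.symm A) (Additive.toMul (ψ'.symm v))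
        have h1 : φ (ι A) (Additive.toMul (ψ'.symm v)) = w := Subtype.ext hw.symm
        have h2 : ψ (ψ'.symm v) = ![v.1, v.2] :=
          (LinearEquiv.finTwoArrow F F).injective (ψ'.apply_symm_apply v)
        change ψ' (Additive.ofMul (φ (ι A) (Additive.toMul (ψ'.symm v)))) = _
        rw [h1]
        change ((ψ (Additive.ofMul w)) 0, (ψ (Additive.ofMul w)) 1) = _
        rw [hw', show ρ (e.symm A) = A from e.apply_symm_apply A, ofMul_toMul, h2]
        simp [Matrix.mulVec, dotProduct, Fin.sum_univ_two]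
      faith := fun g hg => Subtype.ext (mem_bot.1 (hfaith.le ⟨g.2, fun v hv => by
        have h1 := hg (ψ' (Additive.ofMul ⟨v, hv⟩))
        change ψ' (Additive.ofMul (φ g (Additive.toMul (ψ'.symm _)))) = _ at h1
        rw [ψ'.symm_apply_apply] at h1
        have h2 : (g : X) * v * (g : X)⁻¹ = v :=
          congrArg Subtype.val (Additive.ofMul.injective (ψ'.injective h1))
        exact (mul_inv_eq_iff_eq_mul.1 h2).symm⟩))
      pS := hSp
      idx := by
        rw [← relIndex_mul_index hSN]
        exact fun hd => (hp.dvd_mul.1 hd).elim hSi hN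
      uS := hUS
      nS := hSN }
  rw [← hr]
  by_cases h4 : Fintype.card F = 4
  · exact (four h h4).imp_right fun h' => ⟨h4, h'⟩
  · exact Or.inl (h.normal (h.sc h4))

end Cfsg.Agent.S2932
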