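import Cfsg.Statements.S2933
import Cfsg.Agent.Lib.U3.Singer

set_option autoImplicit false
open Cfsg

namespace Cfsg.Agent.S2933

open Cfsg.Lib.U3 Cfsg.Lib.Unitary Subgroup

/-- Let T be a 2-subgroup of a finite group G, V ≤ Z(T) a four-group, and t, ρ ∈ N_G(V) ∩ N_G(T) elements of order 2 and 3 with t commuting with ρ and with V. If [V, ρ] = V and C_T(t) = V, then T is elementary abelian of order 16, or homocyclic of rank 2 (ℤ/2ⁿ × ℤ/2ⁿ for some n ≥ 1), or isomorphic to a Sylow 2-subgroup of PSL₃(4) or of PSU₃(4). -/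
theorem result {G : Type*} [Group G] [Finite G] (T V : Subgroup G) (hT : IsPGroup 2 ↥T) (hVT : V ≤ T ⊓ Subgroup.centralizer (T : Set G)) (hV : Nat.card ↥V = 4 ∧ ∀ v ∈ V, v ^ 2 = 1) (t ρ : G) (ht : orderOf t = 2) (hρ : orderOf ρ = 3) (htn : t ∈ Subgroup.normalizer (V : Set G) ⊓ Subgroup.normalizer (T : Set G)) (hρn : ρ ∈ Subgroup.normalizer (V : Set G) ⊓ Subgroup.normalizer (T : Set G)) (htρ : t * ρ = ρ * t) (htV : t ∈ Subgroup.centralizer (V : Set G)) (hVρ : ⁅V, Subgroup.zpowers ρ⁆ = V) (hCt : T ⊓ Subgroup.centralizer ({t} : Set G) = V) : (Nat.card ↥T = 16 ∧ ∀ x ∈ T, x ^ 2 = 1) ∨ (∃ n : ℕ, 1 ≤ n ∧ Nonempty (↥T ≃* Multiplicative (ZMod (2 ^ n)) × Multiplicative (ZMod (2 ^ n)))) ∨ (∃ (F : Type) (_ : Field F) (_ : Fintype F), Fintype.card F = 4 ∧ ∀ P : Sylow 2 (Matrix.ProjectiveSpecialLinearGroup (Fin 3) F), Nonempty (↥T ≃* ↥(P : Subgroup (Matrix.ProjectiveSpecialLinearGroup (Fin 3) F)))) ∨ (∃ (F : Type)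 (_ : Field F) (_ : Fintype F), Fintype.card F = 16 ∧ ∀ P : Sylow 2 (Cfsg.PSU 3 F 4), Nonempty (↥T ≃* ↥(P : Subgroup (Cfsg.PSU 3 F 4)))) := by
  let α := T.normalizerMonoidHom ⟨t, htn.2⟩
  let β := T.normalizerMonoidHom ⟨ρ, hρn.2⟩
  have hV4 : Nat.card (V.subgroupOf T) = 4 := by
    rw [Nat.card_congr (subgroupOfEquivOfLe (hVT.trans inf_le_left)).toEquiv, hV.1]
  have hsq : ∀ w ∈ V.subgroupOf T, w * w = 1 := fun w hw => Subtype.ext (by
    simpa [sq] using hV.2 w hw)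
  have hβ : ∀ w ∈ V.subgroupOf T, β w ∈ V.subgroupOf T := fun w hw =>
    (mem_normalizer_iff.1 hρn.1 _).1 hw
  have h3 : β ^ 3 = 1 := by
    rw [← map_pow, show (⟨ρ, hρn.2⟩ : normalizer (T : Set G)) ^ 3 = 1 from
      Subtype.ext (hρ ▸ pow_orderOf_eq_one ρ), map_one]
  obtain ⟨v, hv, hv1⟩ : ∃ v ∈ V.subgroupOf T, β v ≠ v := by
    by_contra! e
    have : V = ⊥ := hVρ ▸ commutator_eq_bot_iff_le_centralizer.2 fun v hv => by
      rw [zpowers_eq_closure, centralizer_closure, mem_centralizer_singleton_iff]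
      exact (mul_inv_eq_iff_eq_mul.1 (congrArg Subtype.val (e ⟨v, (hVT hv).1⟩ hv))).symm
    simp [this] at hV
  have hf := fpf_of_four hV4 hsq hβ h3 hv hv1
  obtain ⟨F, _, _, f, l, hF, h⟩ := exists_AR (α := α) (ρ := β) (C := V.subgroupOf T) hT
    (fun u => by
      rw [← MulAut.mul_apply, ← map_mul, ← sq, show (⟨t, htn.2⟩ : normalizer (T : Set G)) ^ 2 = 1 from
        Subtype.ext (ht ▸ pow_orderOf_eq_one t), map_one, MulAut.one_apply])
    (fun u => by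
      rw [← MulAut.mul_apply, ← MulAut.mul_apply, ← map_mul, ← map_mul]
      congr 2
      exact Subtype.ext htρ)
    (fun u => by
      rw [mem_subgroupOf, ← hCt, mem_inf, and_iff_right u.2, mem_centralizer_singleton_iff,
        Subtype.ext_iff, eq_comm]
      exact mul_inv_eq_iff_eq_mul.symm)
    ⟨⟨fun u v => Subtype.ext (Subtype.ext ((hVT v.2).2 _ u.1.2))⟩⟩ hsq (by omega) (by rw [hV4]; exact h3)
    (trans_of_four hV4 hsq hβ hf)
  rw [hV4] at hF
  rcases AR.main _ T rfl h with hc | ⟨x, y, A, B, c, q, -⟩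
  · by_cases hΩ : ∀ u : T, u * u = 1 → u ∈ V.subgroupOf T
    · exact Or.inr (Or.inl (homocyclic hT hc (fun u => ⟨hsq u, hΩ u⟩) hV4 hf))
    push Not at hΩ
    obtain ⟨u, h1, h2⟩ := hΩ
    have h4 := fun v => h.elem (D := ⊤) inferInstance (by simp) (by simp) (mem_top u) h2 h1 (mem_top v)
    exact Or.inl ⟨by rw [h.card_of_elem hc h4 h2, hF]; rfl, fun x hx => by
      simpa [sq] using congrArg Subtype.val (h4 ⟨x, hx⟩)⟩
  refine Or.inr (Or.inr ?_)
  by_cases han : ∀ s t, A * s ^ 2 + c * s * t + B * t ^ 2 = 0 → s = 0 ∧ t = 0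
  · have := Fintype.ofFinite (GaloisField 2 4)
    have h1 : Fintype.card (GaloisField 2 4) = 4 ^ 2 := by
      rw [← Nat.card_eq_fintype_card, GaloisField.card _ _ (by omega)]; rfl
    obtain ⟨σ, b⟩ := exists_isBar h1
    obtain ⟨e⟩ := q.heis han b hF
    exact Or.inr ⟨_, _, _, h1, fun P => (b.nonempty_sylow_PSU_equiv 2 P).map fun e' => e.trans e'.symm⟩
  · exact Or.inl ⟨F, _, _, Nat.card_eq_fintype_card.symm.trans hF, q.psl han⟩

end Cfsg.Agent.S2933
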