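import Cfsg.Statements.S2934
import Cfsg.Agent.Lib.Perm.Sharp3Grp
import Cfsg.Agent.Lib.PGroup.Holomorph
import Cfsg.Agent.Lib.Extraspecial.Basic
import Cfsg.Agent.S0119

set_option autoImplicit false
open Cfsg

namespace Cfsg.Agent.S2934

open Cfsg.Lib Cfsg.Lib.BG Cfsg.Lib.Inv Cfsg.Lib.PGroup Subgroup

theorem card_sup_le {G : Type*} [Group G] [Finite G] {W Z : Subgroup G} (hZ : Nat.card Z = 2) (hZW : Z ≤ W)
    (hc : ⁅W, W⁆ ≤ Z) (s : Finset (Subgroup G)) (h : ∀ T ∈ s, Z ≤ T ∧ T ≤ W ∧ Nat.card T ≤ 8) :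
    Nat.card (Z ⊔ s.sup id : Subgroup G) ≤ 2 * 4 ^ s.card := by
  classical
  induction s using Finset.induction_on with
  | empty => simp [hZ]
  | insert T s hT ih =>
    obtain ⟨h1, h2, h3⟩ := h T (Finset.mem_insert_self _ _)
    have h4 := ih fun T hT => h T (Finset.mem_insert_of_mem hT)
    have h5 : Z ⊔ s.sup id ≤ W := sup_le hZW (Finset.sup_le fun T hT => (h T (Finset.mem_insert_of_mem hT)).2.1)
    have h6 := Coprime.card_sup_mul_card_inf (N := T) (A := Z ⊔ s.sup id)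
      (norm_of_comm_le ((commutator_mono h2 h5).trans (hc.trans h1)))
    have h7 : 2 ≤ Nat.card (T ⊓ (Z ⊔ s.sup id) : Subgroup G) := hZ ▸ card_le_of_le (le_inf h1 le_sup_left)
    rw [Finset.sup_insert, Finset.card_insert_of_notMem hT, id, sup_left_comm, pow_succ]
    nlinarith [Nat.mul_le_mul h3 h4]

theorem amb {G : Type*} [Group G] [Finite G] {W E : Subgroup G} {p : ℕ} [hp : Fact p.Prime] (hp2 : p ≠ 2)
    (hW : IsPGroup 2 W) (hE : IsPGroup p E) (hab : IsMulCommutative E) (hnc : ¬ IsCyclic E)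
    (hn : E ≤ 𝐍(W)) (hf : E ⊓ 𝐂(W) = ⊥)
    (hfix : ∀ e ∈ E, e ≠ 1 → ∀ x ∈ W ⊓ 𝐂[e], ∀ y ∈ W ⊓ 𝐂[e], orderOf x = 2 → orderOf y = 2 → x = y) :
    Nat.card E = 9 ∧ Nat.card (W ⊓ 𝐂(E) : Subgroup G) = 2 ∧ ⁅W, E⁆ = W ∧
      (∀ A ≤ W, E ≤ 𝐍(A) → IsMulCommutative A → A ≤ 𝐂(E)) ∧ 8 < Nat.card W ∧
      (⁅W, W⁆ ≤ 𝐂(E) → Nat.card W ≤ 2 ^ 9) := by
  classical
  have : Fact (Nat.Prime 2) := ⟨Nat.prime_two⟩
  have hc := coprime_pgroups hE hW hp2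
  have hEo : Odd (Nat.card E) := by
    obtain ⟨n, e⟩ := IsPGroup.iff_card.1 hE
    exact e ▸ (hp.1.odd_of_ne_two hp2).pow
  have ho : ∀ g ∈ E, Odd (orderOf g) := fun g hg => hEo.of_dvd_nat (E.orderOf_dvd_natCard hg)
  have hEe : ∀ e ∈ E, E ≤ 𝐂[e] := fun e he g hg => mem_cent1.2 (setLike_mul_comm hg he)
  have hnT : ∀ e ∈ E, ∀ A, E ≤ 𝐍(A) → E ≤ 𝐍(A ⊓ 𝐂[e]) := fun e he A hA =>
    norm_inf hA ((hEe e he).trans (le_norm _))
  have hq : ∀ e ∈ E, e ≠ 1 → ∀ A ≤ W, E ≤ 𝐍(A) → A ⊓ 𝐂[e] ≤ 𝐂(E) ∨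
      (Nonempty ((A ⊓ 𝐂[e] : Subgroup G) ≃* QuaternionGroup 2) ∧ p = 3 ∧ ¬ E ≤ 𝐂(A ⊓ 𝐂[e])) :=
    fun e he h1 A hA hAn => or_iff_not_imp_left.2 fun h => by
      obtain ⟨g, hg, h2⟩ := SetLike.not_le_iff_exists.1 (mt cent_symm h)
      obtain ⟨z, hz⟩ : ∃ z, ∀ t ∈ A ⊓ 𝐂[e], t * t = 1 → t = 1 ∨ t = z := by
        by_cases h3 : ∃ z ∈ A ⊓ 𝐂[e], orderOf z = 2
        · obtain ⟨z, hz, h3⟩ := h3
          exact ⟨z, fun t ht h4 => or_iff_not_imp_left.2 fun h5 => hfix e he h1 t ⟨hA ht.1, ht.2⟩ z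
            ⟨hA hz.1, hz.2⟩ (orderOf_eq_two_iff.2 ⟨h5, h4⟩) h3⟩
        · exact ⟨1, fun t ht h4 => Or.inl (by_contra fun h5 => h3 ⟨t, ht, orderOf_eq_two_iff.2 ⟨h5, h4⟩⟩)⟩
      obtain ⟨h3, h4⟩ := Perm.q8_of_odd_aut (hW.to_le (inf_le_left.trans hA)) hz (hnT e he A hAn hg)
        (ho g hg) h2
      obtain ⟨n, e⟩ := IsPGroup.iff_card.1 hE
      exact ⟨h3, ((Nat.prime_dvd_prime_iff_eq Nat.prime_three hp.1).1 (Nat.prime_three.dvd_of_dvd_pow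
        (e ▸ h4.trans (E.orderOf_dvd_natCard hg)))).symm, mt cent_symm h⟩
  have hgen : ∀ H : Subgroup G, W ⊓ 𝐂(E) ≤ H → (∀ e ∈ E, e ≠ 1 → ¬ E ≤ 𝐂(W ⊓ 𝐂[e]) →
      W ⊓ 𝐂[e] ≤ H) → W ≤ H := fun H h0 h => coprime_abelian_gen_cent1 hab hnc hn hc fun e he h1 =>
    (hq e he h1 W le_rfl hn).elim (fun h2 => (le_inf inf_le_left h2).trans h0) fun h2 => h e he h1 h2.2.2
  have hq' : ∀ e ∈ E, e ≠ 1 → ¬ E ≤ 𝐂(W ⊓ 𝐂[e]) →
      Nonempty ((W ⊓ 𝐂[e] : Subgroup G) ≃* QuaternionGroup 2) ∧ p = 3 := fun e he h1 h2 =>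
    ((hq e he h1 W le_rfl hn).resolve_left (mt cent_symm h2)).imp_right And.left
  have hE1 : ∀ e ∈ E, W ≤ 𝐂[e] → e = 1 := fun e he h => mem_bot.1 (hf ▸ ⟨he, le_cent1_iff.1 h⟩)
  obtain ⟨a, ha, ha1, hac⟩ : ∃ a ∈ E, a ≠ 1 ∧ ¬ E ≤ 𝐂(W ⊓ 𝐂[a]) := by
    by_contra! h
    have : E = ⊥ := hf ▸ (inf_eq_left.2 (cent_symm (hgen _ inf_le_right
      fun e he h1 h2 => absurd (h e he h1) h2))).symm
    exact hnc (this ▸ inferInstance)
  obtain ⟨hQ, rfl⟩ := hq' a ha ha1 hac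
  have hCT : ∀ e ∈ E, W ⊓ 𝐂(E) ≤ W ⊓ 𝐂[e] := fun e he => inf_le_inf_left _ (cent_le_cent1 he)
  obtain ⟨b, hb, hb1, hbc, hba⟩ : ∃ b ∈ E, b ≠ 1 ∧ ¬ E ≤ 𝐂(W ⊓ 𝐂[b]) ∧ ¬ W ⊓ 𝐂[b] ≤ W ⊓ 𝐂[a] := by
    by_contra! h
    exact ha1 (hE1 a ha ((hgen _ (hCT a ha) h).trans inf_le_right))
  have hQ' := (hq' b hb hb1 hbc).1
  obtain ⟨z, hz, hz2⟩ := exists_involution_mem_of_even (H := W ⊓ 𝐂[a]) (by rw [q8_card hQ]; decide)
  have hz3 : ∀ x ∈ W ⊓ 𝐂[a], orderOf x = 2 → x = z := fun x hx h => hfix a ha ha1 x hx z hz h hz2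
  have hC : W ⊓ 𝐂(E) = zpowers z := le_antisymm (fun c hc => by
      obtain ⟨g, hg, h2⟩ := SetLike.not_le_iff_exists.1 hac
      by_cases h1 : c = 1
      · exact h1 ▸ one_mem _
      refine hz3 c (hCT a ha hc) (orderOf_eq_two_iff.2 ⟨h1, by_contra fun h3 => h2
        (q8_mem_centralizer_of_odd hQ (hnT a ha W hn hg) (ho g hg) (hCT a ha hc) h3 (Or.inl ?_))⟩) ▸
        mem_zpowers _
      rw [mem_cent.1 hc.2 g hg, mul_inv_cancel_right])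
    (zpowers_le.2 ⟨hz.1, mem_cent.2 fun g hg => mul_inv_eq_iff_eq_mul.1 (hz3 _
      (conj_mem_of_norm (hnT a ha W hn hg) hz) (by rw [← hz2]; exact (MulAut.conj g).orderOf_eq z))⟩)
  have hC2 : Nat.card (W ⊓ 𝐂(E) : Subgroup G) = 2 := by rw [hC, Nat.card_zpowers, hz2]
  have h8 : ∀ e ∈ E, e ≠ 1 → Nat.card (W ⊓ 𝐂[e] : Subgroup G) ≤ 8 := fun e he h1 =>
    (hq e he h1 W le_rfl hn).elim (fun h => (card_le_of_le (le_inf inf_le_left h)).trans (by omega))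
      fun h => (q8_card h.1).le
  have h9 : ∀ H : Subgroup G, W ⊓ 𝐂[a] ≤ H → W ⊓ 𝐂[b] ≤ H → 8 < Nat.card H := fun H h1 h2 =>
    not_le.1 fun h => hba (h2.trans (eq_of_le_of_card_le h1 (by rwa [q8_card hQ])).ge)
  have hi : ∀ e ∈ E, Nonempty ((W ⊓ 𝐂[e] : Subgroup G) ≃* QuaternionGroup 2) →
      (𝐂(W ⊓ 𝐂[e])).relIndex E ≤ 3 := fun e he h => by
    have h1 := (relIndex_dvd_of_norm (hnT e he W hn) (norm_sup le_rfl (norm_cent le_rfl))).trans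
      (q8_relIndex_dvd_six h)
    have h2 := hEo.of_dvd_nat (BG.relIndex_dvd_card ((W ⊓ 𝐂[e]) ⊔ 𝐂(W ⊓ 𝐂[e])) E)
    rw [← inf_relIndex_left, show E ⊓ 𝐂(W ⊓ 𝐂[e]) = E ⊓ ((W ⊓ 𝐂[e]) ⊔ 𝐂(W ⊓ 𝐂[e])) from le_antisymm
      (inf_le_inf_left _ le_sup_right) fun g hg => ⟨hg.1, q8_mem_centralizer_of_odd_of_mem_sup h
        (ho g hg.1) hg.2⟩, inf_relIndex_left]
    exact Nat.le_of_dvd three_pos ((Nat.Coprime.dvd_of_dvd_mul_left (k := _) (n := 3) (m := 2)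
      (Nat.coprime_two_right.2 h2)) h1)
  have hE9 : Nat.card E = 9 := by
    have h1 := (relIndex_inf_le (H := 𝐂(W ⊓ 𝐂[a])) (K := 𝐂(W ⊓ 𝐂[b])) (L := E)).trans
      (Nat.mul_le_mul (hi a ha hQ) (hi b hb hQ'))
    rw [← inf_relIndex_left, show E ⊓ (𝐂(W ⊓ 𝐂[a]) ⊓ 𝐂(W ⊓ 𝐂[b])) = ⊥ from eq_bot_iff.2 fun k hk =>
      by_contra fun h => (h9 _ (le_inf inf_le_left (le_cent1_iff.2 hk.2.1)) (le_inf inf_le_left
        (le_cent1_iff.2 hk.2.2))).not_ge (h8 k hk.1 h), relIndex_bot_left] at h1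
    obtain ⟨n, e⟩ := IsPGroup.iff_card.1 hE
    have h2 : n ≤ 2 := (Nat.pow_le_pow_iff_right (by norm_num)).1 (e ▸ h1 : 3 ^ n ≤ 3 ^ 2)
    interval_cases n
    · exact absurd (isCyclic_of_card_dvd_prime (p := 3) (by rw [e]; norm_num)) hnc
    · exact absurd (isCyclic_of_card_dvd_prime (p := 3) (by rw [e]; norm_num)) hnc
    · exact e
  refine ⟨hE9, hC2, le_antisymm (comm_le_left hn) ?_, fun A hA hAn hAc => coprime_abelian_gen_cent1 hab hnc hAn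
    (coprime_mono hc le_rfl hA) fun e he h1 => (hq e he h1 A hA hAn).resolve_right fun h => ?_,
    h9 W inf_le_left inf_le_left, fun h => ?_⟩
  · refine (coprime_cent_prod hn hc (Or.inr (nil_sol (pgroup_nil hW)))).ge.trans (sup_le le_rfl ?_)
    have h1 := comm_le_left (hnT a ha W hn)
    obtain ⟨t, ht, h2⟩ := exists_involution_mem_of_even (H := ⁅W ⊓ 𝐂[a], E⁆) (even_iff_two_dvd.2
      (((hW.to_le (h1.trans inf_le_left)).card_eq_or_dvd).resolve_left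
        fun e => hac (comm_eq_bot_iff'.1 (card_eq_one.1 e))))
    rw [hC, ← hz3 t (h1 ht) h2, zpowers_le]
    exact commutator_mono inf_le_left le_rfl ht
  · obtain ⟨x, hx, h1⟩ := q8_exists h.1
    obtain ⟨y, hy, h2⟩ := q8_exists_conj_inv h.1 hx
    obtain ⟨_, -, h3, -⟩ := h1
    rw [setLike_mul_comm hy.1 hx.1, mul_inv_cancel_right] at h2
    exact h3 (mul_eq_one_iff_eq_inv.2 h2)
  · have := Fintype.ofFinite G
    let s := (E : Set G).toFinset.erase 1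
    have hs : ∀ e, e ∈ s ↔ e ≠ 1 ∧ e ∈ E := fun e => by simp [s]
    have h1 : 2 * (s.image fun e => W ⊓ 𝐂[e]).card ≤ s.card := Finset.mul_card_image_le_card _ _ fun T hT => by
      obtain ⟨e, he, rfl⟩ := Finset.mem_image.1 hT
      rw [hs] at he
      have h2 : e ≠ e⁻¹ := fun e' => by
        have := ho e he.2
        rw [orderOf_eq_two_iff.2 ⟨he.1, mul_eq_one_iff_eq_inv.2 e'⟩] at this
        exact absurd this (by decide)
      rw [← Finset.card_pair h2]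
      refine Finset.card_le_card fun x hx => ?_
      rcases Finset.mem_insert.1 hx with rfl | hx
      · simp [hs, he]
      · rw [Finset.mem_singleton.1 hx, Finset.mem_filter, hs, ← cent_zpowers, zpowers_inv, cent_zpowers]
        simp [he]
    have h2 : s.card = 8 := by
      rw [Finset.card_erase_of_mem (by simp), ← Set.ncard_eq_toFinset_card', ← Nat.card_coe_set_eq,
        SetLike.coe_sort_coe, hE9]
    have h3 := card_sup_le hC2 inf_le_left (le_inf (der_le W) h) (s.image fun e => W ⊓ 𝐂[e]) fun T hT => by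
      obtain ⟨e, he, rfl⟩ := Finset.mem_image.1 hT
      rw [hs] at he
      exact ⟨hCT e he.2, inf_le_left, h8 e he.2 he.1⟩
    have h4 : W ≤ (W ⊓ 𝐂(E)) ⊔ (s.image fun e => W ⊓ 𝐂[e]).sup id :=
      hgen _ le_sup_left fun e he h4 _ => le_sup_of_le_right (Finset.le_sup (f := id)
        (Finset.mem_image.2 ⟨e, (hs e).2 ⟨h4, he⟩, rfl⟩))
    refine (card_le_of_le h4).trans (h3.trans ?_)
    rw [h2] at h1
    exact (Nat.mul_le_mul_left 2 (Nat.pow_le_pow_right (by norm_num) (show _ ≤ 4 by omega))).trans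
      (by norm_num)

/-- Let p be an odd prime, W a finite 2-group and E a non-cyclic abelian p-subgroup of Aut(W) such that, for every nontrivial e ∈ E, the fixed points of e in W contain at most one involution. Then E has order 9, W is extraspecial of order 2⁵, 2⁷ or 2⁹, and the common fixed points of E in W form exactly the centre Z(W). -/
theorem result {W : Type*} [Group W] [Finite W] (hW : IsPGroup 2 W) {p : ℕ} [Fact p.Prime] (hp : p ≠ 2) (E : Subgroup (MulAut W)) (hE : IsPGroup p ↥E) (hab : IsMulCommutative ↥E) (hnc : ¬ IsCyclic ↥E) (hfix : ∀ e ∈ E, e ≠ 1 → ∀ x y : W, orderOf x = 2 → orderOf y = 2 → e x = x → e y = y → x = y) : Nat.card ↥E = 9 ∧ Cfsg.IsExtraspecial 2 W ∧ (Nat.card W = 2 ^ 5 ∨ Nat.card W = 2 ^ 7 ∨ Nat.card W = 2 ^ 9) ∧ {x : W | ∀ e ∈ E, e x = x} = (Subgroup.center W : Set W) := by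
  have hL := holL_injective (G := W)
  obtain ⟨h1, h2, h3, h4, h5, h6⟩ := amb (W := (⊤ : Subgroup W).map (holL W)) (E := E.map (holR W)) hp
    ((hW.to_subgroup ⊤).map _) (hE.map _) (map_isMulCommutative _ _)
    (fun h => hnc (isCyclic_of_surjective _ (E.equivMapOfInjective _ holR_injective).symm.surjective))
    (map_holR_le_normalizer_top E) (map_holR_inf_centralizer_top E) (by
      rintro _ ⟨e, he, rfl⟩ h1 _ ⟨⟨x, -, rfl⟩, hx⟩ _ ⟨⟨y, -, rfl⟩, hy⟩ h2 h3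
      rw [orderOf_injective _ hL] at h2 h3
      rw [hfix e he (fun h => h1 (by rw [h, map_one])) x y h2 h3 (hol_comm_iff.1 (mem_cent1.1 hx).symm)
        (hol_comm_iff.1 (mem_cent1.1 hy).symm)])
  rw [card_map_holR] at h1
  rw [card_map_holL, card_top] at h5 h6
  have : Fact (Nat.Prime 2) := ⟨Nat.prime_two⟩
  obtain ⟨h7, h8⟩ := S0119.result hW E (by rw [h1]; norm_num) (by
    rw [commutator_map_holL_map_holR] at h3
    simpa using map_injective hL h3) fun H hH hc => map_holR_le_centralizer_iff.1 (cent_symm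
      (h4 _ (Subgroup.map_mono le_top) (map_holR_le_normalizer_iff.2 fun a _ x hx =>
        (characteristic_iff_le_comap.1 hH a) hx) (map_isMulCommutative _ _)))
  have h9 : (⊤ : Subgroup W).map (holL W) ⊓ 𝐂(E.map (holR W)) = (center W).map (holL W) := by
    ext x
    constructor
    · rintro ⟨⟨x, -, rfl⟩, hx⟩
      exact ⟨x, (h8 x).2 (holL_mem_centralizer_iff.1 hx), rfl⟩
    · rintro ⟨x, hx, rfl⟩
      exact ⟨⟨x, trivial, rfl⟩, holL_mem_centralizer_iff.2 ((h8 x).1 hx)⟩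
  have h10 : IsExtraspecial 2 W := ⟨h7, by rwa [h9, card_map_holL] at h2⟩
  refine ⟨h1, h10, ?_, Set.ext fun x => (h8 x).symm⟩
  obtain ⟨n, -, hn⟩ := ES.exists_card_eq_of_isExtraspecial h10
  have h11 := h6 (by
    rw [← Subgroup.map_commutator]
    exact ((Subgroup.map_mono h7.2.2.le).trans h9.ge).trans inf_le_right)
  rw [hn] at h5 h11 ⊢
  have h12 := (Nat.pow_lt_pow_iff_right one_lt_two).1 (show 2 ^ 3 < 2 ^ (2 * n + 1) from h5)
  have h13 := (Nat.pow_le_pow_iff_right one_lt_two).1 h11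
  obtain rfl | rfl | rfl : n = 2 ∨ n = 3 ∨ n = 4 := by omega
  all_goals simp

end Cfsg.Agent.S2934
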