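import Cfsg.Statements.S2968
import Cfsg.Agent.Lib.PLocal.Isolated

set_option autoImplicit false
open Cfsg

set_option linter.unusedVariables false
open Cfsg.Lib

namespace Cfsg.Agent.S2968

/-- Let G be a finite group, p a prime, P a Sylow p-subgroup of G and x ∈ P an element of p-power order which is isolated in G (the only conjugate of x commuting with x is x itself). Then x lies in the centre of P, and the subgroup generated by x is both strongly closed and weakly closed in P with respect to G. -/
theorem result {G : Type*} [Group G] [Finite G] {p : ℕ} [Fact p.Prime] (P : Sylow p G) (x : G) (hxP : x ∈ (P : Subgroup G)) (hx : ∃ k : ℕ, orderOf x = p ^ k) (hiso : Cfsg.IsIsolated x) : x ∈ (P : Subgroup G) ⊓ Subgroup.centralizer ((P : Subgroup G) : Set G) ∧ Cfsg.IsStronglyClosed (Subgroup.zpowers x) (P : Subgroup G) ∧ Cfsg.IsWeaklyClosed (Subgroup.zpowers x) (P : Subgroup G) := by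
  open Subgroup Transfer PLocal in
  have hP := isolated_le_centralizer hiso P.isPGroup' hxP
  refine ⟨⟨hxP, mem_centralizer_iff.mpr fun y hy => mem_centralizer_singleton_iff.mp (hP hy)⟩,
    ⟨zpowers_le.mpr hxP, ?_⟩, zpowers_le.mpr hxP, ?_⟩
  · intro y hy g hg
    -- `g⁻¹ P g` is a `p`-group containing `y`; both `x` and a conjugate lie in `C(y)`
    have hyx : y ∈ zpowers x := hy
    have h1 : x ∈ centralizer ({g * y * g⁻¹} : Set G) :=
      mem_centralizer_singleton_iff.mpr (mem_centralizer_singleton_iff.mp (hP hg)).symm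
    have h2 : g * x * g⁻¹ ∈ centralizer ({g * y * g⁻¹} : Set G) := by
      obtain ⟨k, rfl⟩ := hy
      refine mem_centralizer_singleton_iff.mpr ?_
      have : x * x ^ k = x ^ k * x := (Commute.self_zpow x k).eq
      calc g * x * g⁻¹ * (g * x ^ k * g⁻¹) = g * (x * x ^ k) * g⁻¹ := by group
        _ = g * x ^ k * g⁻¹ * (g * x * g⁻¹) := by rw [this]; group
    obtain ⟨h, hh, hc⟩ := isolated_exists_conj hx hiso h1 h2
    have h3 : h * g ∈ centralizer (zpowers x : Set G) := by rwa [Core.centralizer_zpowers]
    have h4 := mem_centralizer_iff.mp h3 y hyx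
    have h5 := mem_centralizer_singleton_iff.mp hh
    have : g * y * g⁻¹ = y := by
      have h6 : h * (g * y * g⁻¹) * h⁻¹ = y := by
        calc h * (g * y * g⁻¹) * h⁻¹ = (h * g * y) * (h * g)⁻¹ := by group
          _ = y := by rw [← h4]; group
      rw [h5] at h6
      simpa using h6
    rwa [this]
  · intro g hg
    rw [conj_zpowers] at hg ⊢
    rw [isolated_conj_eq hiso P.isPGroup' hxP (hg (mem_zpowers _))]

end Cfsg.Agent.S2968
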