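import Cfsg.Statements.S2969
import Cfsg.Agent.Lib.PLocal.Isolated

set_option autoImplicit false
open Cfsg

set_option linter.unusedVariables false
open Cfsg.Lib

namespace Cfsg.Agent.S2969

/-- Let G be a finite group, p a prime and x ∈ G an element of p-power order which is isolated in G. If R is a p-subgroup of G containing x, then N_G(R) ≤ C_G(x); in particular x lies in the centre of R. Moreover, if x lies in a normal subgroup N of a subgroup H of G, then H = N·C_H(x). -/
theorem result {G : Type*} [Group G] [Finite G] {p : ℕ} [Fact p.Prime] (x : G) (hx : ∃ k : ℕ, orderOf x = p ^ k) (hiso : Cfsg.IsIsolated x) : (∀ R : Subgroup G, IsPGroup p ↥R → x ∈ R → Subgroup.normalizer (R : Set G) ≤ Subgroup.centralizer ({x} : Set G)) ∧ (∀ H N : Subgroup G, N ≤ H → H ≤ Subgroup.normalizer (N : Set G) → x ∈ N → N ⊔ (H ⊓ Subgroup.centralizer ({x} : Set G)) = H) := by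
  open Subgroup Transfer PLocal in
  refine ⟨fun R hR hxR => isolated_normalizer_le hiso hR hxR, fun H N hNH hH hxN => ?_⟩
  refine le_antisymm (sup_le hNH inf_le_left) fun g hg => ?_
  obtain ⟨h, hh, hc⟩ := isolated_exists_conj hx hiso hxN
    (Coprime.conj_mem_of_mem_normalizer (hH hg) hxN)
  have := mul_mem (mem_sup_left (T := H ⊓ centralizer ({x} : Set G)) (inv_mem hh))
    (mem_sup_right ⟨mul_mem (hNH hh) hg, hc⟩)
  simpa using this

end Cfsg.Agent.S2969
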