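import Cfsg.Statements.S3043
import Cfsg.Agent.Lib.Perm.Zass7
import Cfsg.Agent.S2202
import Cfsg.Agent.Lib.Frobenius.Compl
import Cfsg.Agent.Lib.Inv.SylowTwo
import Cfsg.Agent.Lib.PGroup.RankOne
import Cfsg.Agent.Lib.Alt.RealSylow
import Cfsg.Agent.Lib.Small.Basic
import Cfsg.Agent.Lib.PSL2.BaseChange
import Cfsg.Agent.Lib.Linear.Basic

set_option autoImplicit false
open Cfsg

namespace Cfsg.Agent.S3043

open Subgroup Cfsg.Lib

variable {G : Type*} [Group G]

abbrev NN (M : Subgroup G) : Subgroup G := normalizer (M : Set G)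

theorem conjN {M : Subgroup G} {n x : G} (hn : n ∈ NN M) (hx : x ∈ M) : n * x * n⁻¹ ∈ M :=
  (mem_normalizer_iff.1 hn x).1 hx

theorem MN {M : Subgroup G} {x : G} (hx : x ∈ M) : x ∈ NN M := le_normalizer hx

theorem inv_self {u : G} (hu : u * u = 1) : u⁻¹ = u := inv_eq_of_mul_eq_one_right hu

structure Base (M : Subgroup G) (z : G) : Prop where
  ex : ∃ x ∈ M, x ≠ 1
  ti : ∀ x ∈ M, x ≠ 1 → ∀ g, g * x * g⁻¹ ∈ M → g ∈ NN M
  zz : z * z = 1
  z1 : z ≠ 1
  zN : z ∈ NN M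
  fac : ∀ n ∈ NN M, ∃ x ∈ M, ∃ c, c * z = z * c ∧ n = x * c
  nov : ∀ x ∈ M, x ≠ 1 → ∀ g, g * x = x * g → g * g = 1 → g = 1

namespace Base

variable {M : Subgroup G} {z : G} (h : Base M z)
include h

theorem sq1 {x : G} (hx : x ∈ M) (h2 : x * x = 1) : x = 1 :=
  by_contra fun h1 => h1 (h.nov x hx h1 x rfl h2)

theorem pow2 {x : G} (hx : x ∈ M) (k : ℕ) (h2 : x ^ 2 ^ k = 1) : x = 1 := by
  induction k with
  | zero => simpa using h2
  | succ k ih =>
    rw [pow_succ, pow_mul, pow_two] at h2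
    exact ih (h.sq1 (pow_mem hx _) h2)

theorem cz {x t : G} (hx : x ∈ M) (ht : t * t = 1) (h1 : t ≠ 1) (e : t * x = x * t) : x = 1 :=
  by_contra fun hx1 => h1 (h.nov x hx hx1 t e ht)

theorem zM : z ∉ M := fun hz => h.z1 (h.sq1 hz h.zz)

theorem of_conj {y : G} (hy : y ∈ M) : Base M (y * z * y⁻¹) where
  ex := h.ex
  ti := h.ti
  zz := by rw [conj_mul, h.zz]; simp
  z1 := by simpa using h.z1
  zN := mul_mem (mul_mem (MN hy) h.zN) (inv_mem (MN hy))
  fac := fun n hn => by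
    obtain ⟨x, hx, c, h1, h2⟩ := h.fac (y⁻¹ * n * y)
      (mul_mem (mul_mem (inv_mem (MN hy)) hn) (MN hy))
    refine ⟨y * x * y⁻¹, conjN (MN hy) hx, y * c * y⁻¹, by rw [conj_mul, conj_mul, h1], ?_⟩
    rw [conj_mul, ← h2]; group
  nov := h.nov

theorem modM {n : G} (hn : n ∈ NN M) : z * n * z⁻¹ * n⁻¹ ∈ M := by
  obtain ⟨x, hx, c, h1, rfl⟩ := h.fac n hn
  have : z * (x * c) * z⁻¹ * (x * c)⁻¹ = z * x * z⁻¹ * (z * c) * (c * z)⁻¹ * x⁻¹ := by group
  rw [this, h1, mul_inv_cancel_right]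
  exact mul_mem (conjN h.zN hx) (inv_mem hx)

theorem F5 {u v : G} (hu : u * u = 1) (hv : v * v = 1) (huN : u ∉ NN M) (e : u * v ∈ M) :
    u = v := by
  by_cases h1 : u * v = 1
  · rw [← inv_self hu]; exact inv_eq_of_mul_eq_one_right h1
  refine absurd (h.ti _ e h1 u ?_) huN
  have : u * (u * v) * u⁻¹ = (u * v)⁻¹ := by
    rw [← mul_assoc, hu, one_mul, mul_inv_rev, inv_self hv]
  rw [this]; exact inv_mem e

variable [Finite G]

theorem inv {u : G} (hu : u * u = 1) (h1 : u ≠ 1) (hN : u ∈ NN M) :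
    ∀ x ∈ M, u * x * u⁻¹ = x⁻¹ :=
  Perm.inv_of_fpf_involution hu hN fun _ hk e => h.cz hk hu h1 e

theorem zinv {x : G} (hx : x ∈ M) : z * x * z⁻¹ = x⁻¹ := h.inv h.zz h.z1 h.zN x hx

theorem comm {x y : G} (hx : x ∈ M) (hy : y ∈ M) : x * y = y * x :=
  Perm.comm_of_inverted (fun _ => h.zinv) hx hy

theorem zu {u : G} (hu : u * u = 1) (h1 : u ≠ 1) (hN : u ∈ NN M) : z * u ∈ M := by
  obtain ⟨x, hx, c, hc, e⟩ := h.fac u hN
  have hc' : c = x⁻¹ * u := by rw [e]; group
  have hcc : c * c = 1 := by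
    have := h.inv hu h1 hN _ (inv_mem hx)
    rw [hc']
    calc x⁻¹ * u * (x⁻¹ * u) = x⁻¹ * (u * x⁻¹ * u⁻¹) * (u * u) := by group
      _ = 1 := by rw [this, hu]; group
  have hc1 : c ≠ 1 := fun e1 => h1 (h.sq1 (by rw [e, e1, mul_one]; exact hx) hu)
  have hcN : c ∈ NN M := hc' ▸ mul_mem (inv_mem (MN hx)) hN
  obtain ⟨x0, hx0, h01⟩ := h.ex
  have e1 : c * z = 1 := h.nov x0 hx0 h01 _ (by
    have a1 := h.zinv hx0
    have a2 := h.inv hcc hc1 hcN _ (inv_mem hx0)
    calc c * z * x0 = c * (z * x0 * z⁻¹) * c⁻¹ * (c * z) := by group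
      _ = x0 * (c * z) := by rw [a1, a2, inv_inv]) (by
    calc c * z * (c * z) = c * (z * c) * z := by group
      _ = c * c * (z * z) := by rw [← hc]; group
      _ = 1 := by rw [hcc, h.zz, one_mul])
  have e2 : c = z⁻¹ := eq_inv_of_mul_eq_one_left e1
  rw [e, e2, ← mul_assoc, h.zinv hx]
  exact inv_mem hx

theorem sqrt {x : G} (hx : x ∈ M) : ∃ y ∈ M, y * y = x := by
  have hinj : Function.Injective fun y : M => y * y := fun a b e => by
    have e' : (a : G) * a = b * b := congrArg Subtype.val e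
    have : (a : G) * (b : G)⁻¹ = 1 := h.sq1 (mul_mem a.2 (inv_mem b.2)) (by
      calc (a : G) * (b : G)⁻¹ * (a * (b : G)⁻¹) = a * ((b : G)⁻¹ * a) * (b : G)⁻¹ := by group
        _ = a * a * (b * b : G)⁻¹ := by rw [h.comm (inv_mem b.2) a.2]; group
        _ = 1 := by rw [e']; group)
    exact Subtype.ext (mul_inv_eq_one.1 this)
  obtain ⟨y, hy⟩ := Finite.injective_iff_surjective.1 hinj ⟨x, hx⟩
  exact ⟨y, y.2, congrArg Subtype.val hy⟩

theorem conj_z {u : G} (hu : u * u = 1) (h1 : u ≠ 1) (hN : u ∈ NN M) :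
    ∃ y ∈ M, u = y * z * y⁻¹ := by
  obtain ⟨y, hy, e⟩ := h.sqrt (h.zu hu h1 hN)
  refine ⟨y⁻¹, inv_mem hy, ?_⟩
  have a1 := h.zinv hy
  calc u = z⁻¹ * (z * u) := by group
    _ = z * (y * y) := by rw [e, inv_self h.zz]
    _ = z * y * z⁻¹ * z * y := by group
    _ = y⁻¹ * z * y⁻¹⁻¹ := by rw [a1, inv_inv]

theorem no2 {E : Subgroup G} (hE : E.Normal) (h2 : IsPGroup 2 E) {t : G} (ht : t ∈ E)
    (htt : t * t = 1) (h1 : t ≠ 1) (hN : t ∈ NN M) : False := by
  obtain ⟨x, hx, hx1⟩ := h.ex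
  have a1 := h.inv htt h1 hN x hx
  have a2 : x⁻¹ * x⁻¹ ∈ E := by
    have : x⁻¹ * x⁻¹ = t * (x * t⁻¹ * x⁻¹) := by rw [← a1]; group
    rw [this]; exact mul_mem ht (hE.conj_mem _ (inv_mem ht) x)
  obtain ⟨k, hk⟩ := h2 ⟨_, a2⟩
  have a3 := h.pow2 (mul_mem (inv_mem hx) (inv_mem hx)) k (congrArg Subtype.val hk)
  exact hx1 (inv_eq_one.1 (h.sq1 (inv_mem hx) a3))

theorem exK (hc : M.index < Nat.card {g : G // orderOf g = 2}) :
    ∀ g ∉ NN M, ∃ x ∈ M, g * x * (g * x) = 1 := by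
  classical
  intro g hg
  by_contra hne
  push Not at hne
  have h2 : ∀ u : {g : G // orderOf g = 2}, (u : G) * u = 1 := fun u => Inv.mul_self_of_orderOf u.2
  have h1 : ∀ u : {g : G // orderOf g = 2}, (u : G) ≠ 1 := fun u => Inv.ne_one_of_orderOf u.2
  have mixed : ∀ u v : {g : G // orderOf g = 2}, (u : G) ∈ NN M →
      ((z * u * g : G) : G ⧸ M) ≠ ((v : G) : G ⧸ M) := fun u v hu e => by
    have a1 := QuotientGroup.eq.1 e
    have a2 := h.zu (h2 u) (h1 u) hu
    refine hne _ (mul_mem a1 a2) ?_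
    calc _ = (z * u)⁻¹ * ((v : G) * v) * (z * u) := by group
      _ = 1 := by rw [h2 v]; group
  let φ : {g : G // orderOf g = 2} → G ⧸ M := fun u =>
    if (u : G) ∈ NN M then ((z * u * g : G) : G ⧸ M) else ((u : G) : G ⧸ M)
  have hφ : Function.Injective φ := fun u v e => by
    by_cases hu : (u : G) ∈ NN M <;> by_cases hv : (v : G) ∈ NN M <;>
      simp only [φ, hu, hv, if_true, if_false] at e
    · have a1 := QuotientGroup.eq.1 e
      have a2 : (u : G)⁻¹ * v ∈ M := by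
        have := mul_mem (inv_mem (h.zu (h2 u) (h1 u) hu)) (h.zu (h2 v) (h1 v) hv)
        convert this using 1; group
      by_contra huv
      refine hg (inv_mem_iff.1 (h.ti _ a2 (fun e1 => huv (Subtype.ext (inv_mul_eq_one.1 e1))) g⁻¹ ?_))
      convert a1 using 1; group
    · exact absurd e (mixed u v hu)
    · exact absurd e.symm (mixed v u hv)
    · refine Subtype.ext (h.F5 (h2 u) (h2 v) hu ?_)
      have := QuotientGroup.eq.1 e
      rwa [inv_self (h2 u)] at this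
  exact absurd (Nat.card_le_card_of_injective φ hφ) (not_le.2 hc)

variable (hK : ∀ g ∉ NN M, ∃ x ∈ M, g * x * (g * x) = 1)
include hK

omit h [Finite G] in
theorem exists_h {u : G} (huN : u ∉ NN M) {n : G} (hn : n ∈ NN M) :
    ∃ x ∈ M, u * (n * x) * u = (n * x)⁻¹ := by
  obtain ⟨x, hx, e⟩ := hK (u * n) fun e => huN ((mul_mem_cancel_right hn).1 e)
  refine ⟨x, hx, eq_inv_of_mul_eq_one_left ?_⟩
  rw [← e]; group

theorem exists_t {u : G} (hu : u * u = 1) (huN : u ∉ NN M) :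
    ∃ y ∈ M, u * (y * z * y⁻¹) = (y * z * y⁻¹) * u := by
  obtain ⟨x, hx, e⟩ := exists_h hK huN h.zN
  have a1 : z * x * (z * x) = 1 := by
    calc z * x * (z * x) = z * x * z⁻¹ * (z * z) * x := by group
      _ = 1 := by rw [h.zinv hx, h.zz]; group
  have a2 : z * x ≠ 1 := fun e1 => h.zM (by rw [eq_inv_of_mul_eq_one_left e1]; exact inv_mem hx)
  obtain ⟨y, hy, e2⟩ := h.conj_z a1 a2 (mul_mem h.zN (MN hx))
  refine ⟨y, hy, ?_⟩
  rw [← e2]
  rw [inv_self a1] at e
  calc u * (z * x) = u * (z * x) * u * u := by rw [mul_assoc _ u u, hu, mul_one]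
    _ = z * x * u := by rw [e]

theorem HM {u : G} (hu : u * u = 1) (huN : u ∉ NN M) {a : G} (ha : a ∈ M)
    (hb : u * a * u ∈ NN M) : a = 1 := by
  obtain ⟨y, hy, e⟩ := h.exists_t hK hu huN
  have ht := h.of_conj hy
  generalize y * z * y⁻¹ = t at e ht
  have a1 := ht.modM hb
  have a2 : t * (u * a * u) * t⁻¹ = u * a⁻¹ * u := by
    rw [← ht.zinv ha]
    calc t * (u * a * u) * t⁻¹ = (t * u) * a * t⁻¹ * (t * u) * t⁻¹ := by group
      _ = u * (t * a * t⁻¹) * u := by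
        rw [← e]
        calc u * t * a * t⁻¹ * (u * t) * t⁻¹ = u * (t * a * t⁻¹) * u := by group
          _ = _ := rfl
  rw [a2] at a1
  by_contra h1
  refine huN (h.ti (a⁻¹ * a⁻¹) (mul_mem (inv_mem ha) (inv_mem ha))
    (fun e1 => h1 (inv_eq_one.1 (h.sq1 (inv_mem ha) e1))) u ?_)
  convert a1 using 1
  rw [mul_inv_rev, mul_inv_rev, inv_self hu]
  calc u * (a⁻¹ * a⁻¹) * u = u * a⁻¹ * (u * u) * a⁻¹ * u := by rw [hu]; group
    _ = _ := by group

theorem HB {u : G} (hu : u * u = 1) (huN : u ∉ NN M) {k : G} (hk : k ∈ NN M)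
    (hb : u * k * u ∈ NN M) : u * k * u = k⁻¹ := by
  obtain ⟨x, hx, e⟩ := exists_h hK huN hk
  have : x = 1 := h.HM hK hu huN hx (by
    have a1 : u * x * u = (u * k * u)⁻¹ * (u * (k * x) * u) := by
      rw [mul_inv_rev, mul_inv_rev, inv_self hu]
      calc u * x * u = u * k⁻¹ * (1 * k * x) * u := by group
        _ = _ := by rw [← hu]; group
    rw [a1, e]
    exact mul_mem (inv_mem hb) (inv_mem (mul_mem hk (MN hx))))
  simpa [this] using e

/-- The involution in the coset `gM` inverts what `g` centralises. -/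
theorem HG {g : G} (hg : g ∉ NN M) : ∃ x ∈ M, g * x * (g * x) = 1 ∧
    ∀ k ∈ NN M, g * k = k * g → x * k * x⁻¹ = k⁻¹ := by
  obtain ⟨x, hx, e⟩ := hK g hg
  refine ⟨x, hx, e, fun k hk hc => ?_⟩
  have a0 : g⁻¹ * k * g = k := by rw [mul_assoc, ← hc]; group
  have a1 := h.HB hK e (fun e => hg ((mul_mem_cancel_right (MN hx)).1 e)) hk (by
    have : g * x * k * (g * x) = x⁻¹ * (g⁻¹ * k * g) * x := by
      calc g * x * k * (g * x) = (g * x)⁻¹ * k * (g * x) := by rw [inv_self e]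
        _ = _ := by group
    rw [this, a0]
    exact mul_mem (mul_mem (inv_mem (MN hx)) hk) (MN hx))
  have a2 : g * x * k * (g * x)⁻¹ = k⁻¹ := by rw [inv_self e]; exact a1
  calc x * k * x⁻¹ = g⁻¹ * (g * x * k * (g * x)⁻¹) * g := by group
    _ = (g⁻¹ * k * g)⁻¹ := by rw [a2]; group
    _ = k⁻¹ := by rw [a0]

theorem HC {u : G} (hu : u * u = 1) (huN : u ∉ NN M) {k : G} (hk : k ∈ NN M)
    (hb : u * k * u ∈ NN M) {x : G} (hx : x ∈ M) (h1 : x ≠ 1) (hc : k * x = x * k) : k = 1 := by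
  have a1 := h.HB hK hu huN hk hb
  have a2 : u * k⁻¹ * u = k := by
    have := congrArg (·⁻¹) a1
    simpa [mul_inv_rev, inv_self hu, mul_assoc] using this
  obtain ⟨y, hy, -, e⟩ := h.HG hK (g := u * x * u) fun e => h1 (h.HM hK hu huN hx e)
  have a3 := e k hk (by
    calc u * x * u * k = u * x * (u * k * u) * u := by
          calc u * x * u * k = u * x * u * k * (u * u) := by rw [hu, mul_one]
            _ = _ := by group
      _ = u * (x * k⁻¹) * u := by rw [a1]; group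
      _ = u * (k⁻¹ * x) * u := by
        congr 2
        calc x * k⁻¹ = k⁻¹ * (k * x) * k⁻¹ := by group
          _ = k⁻¹ * x := by rw [hc]; group
      _ = u * k⁻¹ * (u * u) * x * u := by rw [hu]; group
      _ = (u * k⁻¹ * u) * (u * x * u) := by group
      _ = _ := by rw [a2])
  have a4 : k⁻¹ * k⁻¹ ∈ M := by
    have : k⁻¹ * k⁻¹ = y * (k * y⁻¹ * k⁻¹) := by rw [← a3]; group
    rw [this]; exact mul_mem hy (conjN hk (inv_mem hy))
  have a5 : k⁻¹ * k⁻¹ = 1 := h.HM hK hu huN a4 (by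
    have : u * (k⁻¹ * k⁻¹) * u = (u * k⁻¹ * u) * (u * k⁻¹ * u) := by
      calc u * (k⁻¹ * k⁻¹) * u = u * k⁻¹ * (u * u) * k⁻¹ * u := by rw [hu]; group
        _ = _ := by group
    rw [this, a2]; exact mul_mem hk hk)
  refine h.nov x hx h1 k hc ?_
  rw [← inv_eq_one, mul_inv_rev, a5]

theorem Hz {u : G} (hu : u * u = 1) (huN : u ∉ NN M) (huz : u * z = z * u) {k : G}
    (hk : k ∈ NN M) (hb : u * k * u ∈ NN M) : k * z = z * k := by
  have a0 : u * z * u = z := by rw [huz, mul_assoc, hu, mul_one]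
  have a1 := h.HB hK hu huN hk hb
  have a3 : u * (k * z) * u = k⁻¹ * z := by
    calc u * (k * z) * u = u * k * (u * u) * z * u := by rw [hu]; group
      _ = (u * k * u) * (u * z * u) := by group
      _ = _ := by rw [a1, a0]
  have a2 := h.HB hK hu huN (mul_mem hk h.zN) (by rw [a3]; exact mul_mem (inv_mem hk) h.zN)
  rw [a3, mul_inv_rev, inv_self h.zz] at a2
  calc k * z = k * (z * k⁻¹) * k := by group
    _ = z * k := by rw [← a2]; group

theorem zH {u : G} (hu : u * u = 1) (huN : u ∉ NN M) (huz : u * z = z * u) {k : G}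
    (hk : k ∈ NN M) (hc : k * z = z * k) : u * k * u = k⁻¹ := by
  obtain ⟨x, hx, e⟩ := exists_h hK huN hk
  have a1 := h.Hz hK hu huN huz (mul_mem hk (MN hx)) (by rw [e]; exact inv_mem (mul_mem hk (MN hx)))
  have : x = 1 := h.cz hx h.zz h.z1 (by
    calc z * x = k⁻¹ * (k * z) * x := by group
      _ = k⁻¹ * (z * (k * x)) := by rw [hc]; group
      _ = x * z := by rw [← a1]; group)
  simpa [this] using e

theorem decompA {v : G} (hv : v * v = 1) (hvN : v ∉ NN M) :
    ∃ y ∈ M, ∃ w, w * w = 1 ∧ w ∉ NN M ∧ w * z = z * w ∧ v = y * w * y⁻¹ := by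
  obtain ⟨y, hy, e⟩ := h.exists_t hK hv hvN
  refine ⟨y, hy, y⁻¹ * v * y, ?_, fun e1 => hvN ?_, ?_, by group⟩
  · calc y⁻¹ * v * y * (y⁻¹ * v * y) = y⁻¹ * (v * v) * y := by group
      _ = 1 := by rw [hv]; group
  · have := mul_mem (mul_mem (MN hy) e1) (inv_mem (MN hy))
    convert this using 1; group
  · calc y⁻¹ * v * y * z = y⁻¹ * (v * (y * z * y⁻¹)) * y := by group
      _ = _ := by rw [e]; group

theorem decomp {g : G} (hg : g ∉ NN M) : ∃ y ∈ M, ∃ w, ∃ x ∈ M, w * w = 1 ∧ w ∉ NN M ∧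
    w * z = z * w ∧ g = y * w * x := by
  obtain ⟨x, hx, e⟩ := hK g hg
  obtain ⟨y, hy, w, h1, h2, h3, h4⟩ := h.decompA hK e
    fun e => hg ((mul_mem_cancel_right (MN hx)).1 e)
  refine ⟨y, hy, w, y⁻¹ * x⁻¹, mul_mem (inv_mem hy) (inv_mem hx), h1, h2, h3, ?_⟩
  rw [← mul_assoc, ← h4]; group

section One

open MulAction

omit h hK [Finite G] in
theorem smul_q {g a b : G} :
    g • ((a : G) : G ⧸ NN M) = ((b : G) : G ⧸ NN M) ↔ (g * a)⁻¹ * b ∈ NN M := by
  rw [MulAction.Quotient.smul_coe, smul_eq_mul, QuotientGroup.eq]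

omit h hK [Finite G] in
theorem fixA {g : G} : g • (((1 : G) : G) : G ⧸ NN M) = ((1 : G) : G ⧸ NN M) ↔ g ∈ NN M := by
  rw [smul_q]; simp

omit h hK [Finite G] in
theorem fixB {g u : G} (hu : u * u = 1) :
    g • ((u : G) : G ⧸ NN M) = ((u : G) : G ⧸ NN M) ↔ u * g * u ∈ NN M := by
  rw [smul_q, ← inv_mem_iff]
  simp [mul_inv_rev, inv_self hu, mul_assoc]

theorem case1 {u : G} (hu : u * u = 1) (huN : u ∉ NN M) (huz : u * z = z * u)
    (h1 : ∀ w, w * w = 1 → w ∉ NN M → w * z = z * w → u * w ∈ NN M) :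
    ∃ (F : Type) (_ : Field F) (_ : Fintype F) (p : ℕ) (_ : Fact p.Prime) (_ : CharP F p),
      Fintype.card F = Nat.card M ∧ IsElementaryAbelian p M ∧
        (Nonempty (G ≃* (GL (Fin 2) F ⧸ Subgroup.center (GL (Fin 2) F))) ∨
         (Fintype.card F % 4 = 1 ∧
           Nonempty (G ≃* Matrix.ProjectiveSpecialLinearGroup (Fin 2) F))) := by
  set α : G ⧸ NN M := ((1 : G) : G ⧸ NN M) with hα
  set β : G ⧸ NN M := ((u : G) : G ⧸ NN M) with hβ
  have hab : α ≠ β := fun e => huN (by simpa using QuotientGroup.eq.1 e)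
  have tr1 : ∀ b : G ⧸ NN M, b ≠ α → ∃ y ∈ M, y • β = b := fun b hb => by
    obtain ⟨b, rfl⟩ := QuotientGroup.mk_surjective b
    obtain ⟨y, hy, w, x, hx, a1, a2, a3, rfl⟩ := h.decomp hK (g := b) fun e =>
      hb (QuotientGroup.eq.2 (by simpa using e))
    refine ⟨y, hy, smul_q.2 ?_⟩
    have := mul_mem (h1 w a1 a2 a3) (MN hx)
    convert this using 1
    rw [mul_inv_rev, inv_self hu]; group
  have tr : ∀ a b : G ⧸ NN M, a ≠ b → ∃ g : G, g • α = a ∧ g • β = b := fun a b hne => by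
    obtain ⟨a, rfl⟩ := QuotientGroup.mk_surjective a
    have e1 : a • α = ((a : G) : G ⧸ NN M) := smul_q.2 (by simp)
    obtain ⟨y, hy, e⟩ := tr1 (a⁻¹ • b) fun e => hne (by rw [← e1, ← e, smul_inv_smul])
    refine ⟨a * y, ?_, by rw [mul_smul, e, smul_inv_smul]⟩
    rw [mul_smul, fixA.2 (MN hy), e1]
  have semi : ∀ x ∈ M, x • β = β → x = 1 := fun x hx e => h.HM hK hu huN hx ((fixB hu).1 e)
  have hZ : Perm.ZT G (G ⧸ NN M) := by
    refine ⟨fun a b c d h1 h2 => ?_, fun g a b c h1 h2 h3 ea eb ec => ?_, ?_⟩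
    · obtain ⟨g, a1, a2⟩ := tr a b h1
      obtain ⟨k, b1, b2⟩ := tr c d h2
      exact ⟨k * g⁻¹, by rw [mul_smul, ← a1, inv_smul_smul, b1],
        by rw [mul_smul, ← a2, inv_smul_smul, b2]⟩
    · obtain ⟨k, rfl, rfl⟩ := tr a b h1
      obtain ⟨y, hy, e⟩ := tr1 (k⁻¹ • c) fun e => h3 (by rw [← e, smul_inv_smul])
      have hy1 : y ≠ 1 := fun e1 => h2 (by rw [e1, one_smul] at e; rw [e, smul_inv_smul])
      have b1 : (k⁻¹ * g * k) • α = α := by rw [mul_smul, mul_smul, ea, inv_smul_smul]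
      have b2 : (k⁻¹ * g * k) • β = β := by rw [mul_smul, mul_smul, eb, inv_smul_smul]
      have b3 : (y⁻¹ * (k⁻¹ * g * k) * y) • α = α := by
        rw [mul_smul, mul_smul, fixA.2 (MN hy), b1, fixA.2 (inv_mem (MN hy))]
      have b4 : (y⁻¹ * (k⁻¹ * g * k) * y) • β = β := by
        rw [mul_smul, mul_smul, e, mul_smul, mul_smul, smul_inv_smul, ec, ← e, inv_smul_smul]
      have c1 := h.Hz hK hu huN huz (fixA.1 b1) ((fixB hu).1 b2)
      have c2 := h.Hz hK hu huN huz (fixA.1 b3) ((fixB hu).1 b4)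
      have c3 : k⁻¹ * g * k = 1 := by
        refine h.HC hK hu huN (fixA.1 b1) ((fixB hu).1 b2) (mul_mem hy hy)
          (fun e => hy1 (h.sq1 hy e)) ?_
        generalize k⁻¹ * g * k = s at c1 c2
        have d1 : y * y = y * z * y⁻¹ * z⁻¹ := by
          have := h.zinv (inv_mem hy)
          calc y * y = y * (z * y⁻¹ * z⁻¹) := by rw [this, inv_inv]
            _ = _ := by group
        rw [d1]
        calc s * (y * z * y⁻¹ * z⁻¹) = y * (y⁻¹ * s * y * z) * y⁻¹ * z⁻¹ := by group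
          _ = y * z * y⁻¹ * z⁻¹ * (z * s) * z⁻¹ := by rw [c2]; group
          _ = _ := by rw [← c1]; group
      calc g = k * (k⁻¹ * g * k) * k⁻¹ := by group
        _ = 1 := by rw [c3]; group
    · obtain ⟨x, hx, hx1⟩ := h.ex
      have a1 : x • β ≠ β := fun e => hx1 (semi x hx e)
      have a2 : x • β ≠ α := fun e => hab (by
        rw [← inv_smul_smul x β, e, fixA.2 (inv_mem (MN hx))])
      have a3 : ({α, β, x • β} : Set (G ⧸ NN M)).ncard = 3 :=
        Set.ncard_eq_three.2 ⟨_, _, _, hab, a2.symm, a1.symm, rfl⟩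
      exact a3 ▸ Set.ncard_le_card _
  have hM : M = Perm.zker G α := by
    refine hZ.eq_zker_of_reg (fun x hx => fixA.2 (MN hx)) fun b c hb hc => ?_
    obtain ⟨y1, hy1, rfl⟩ := tr1 b hb
    obtain ⟨y2, hy2, rfl⟩ := tr1 c hc
    refine ⟨⟨y2 * y1⁻¹, mul_mem hy2 (inv_mem hy1)⟩, by simp [mul_smul], fun x hx => Subtype.ext ?_⟩
    have := semi (y2⁻¹ * x * y1) (mul_mem (mul_mem (inv_mem hy2) x.2) hy1) (by
      rw [mul_smul, mul_smul, hx, inv_smul_smul])
    change (x : G) = y2 * y1⁻¹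
    calc (x : G) = y2 * (y2⁻¹ * x * y1) * y1⁻¹ := by group
      _ = _ := by rw [this]; group
  have hzs : z ∈ Perm.stab2 G α β := ⟨fixA.2 h.zN, (fixB hu).2 (by
    rw [huz, mul_assoc, hu, mul_one]; exact h.zN)⟩
  have hev : Even (Nat.card (Perm.stab2 G α β)) := by
    rw [even_iff_two_dvd, ← orderOf_eq_prime (p := 2) (by rw [pow_two, h.zz]) h.z1]
    exact Subgroup.orderOf_dvd_natCard _ hzs
  have hle := hZ.large_of_even hab hev
  obtain ⟨p, hp, hE⟩ := hZ.elab_of_large hab hle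
  haveI := Fact.mk hp
  obtain ⟨f, hf⟩ := (Lib.PGroup.elemAb_isPGroup hE).exists_card_eq
  have h2 := hZ.two_le_card_zker α
  have hf0 : f ≠ 0 := by rintro rfl; simp [hf] at h2
  letI := Fintype.ofFinite (GaloisField p f)
  have hKc : Nat.card (GaloisField p f) = Nat.card (Perm.zker G α) := by
    rw [GaloisField.card p f hf0, hf]
  have s1 : u • α = β := smul_q.2 (by simp)
  have s2 : u • β = α := smul_q.2 (by simp [hu])
  have s3 : ∀ k ∈ Perm.stab2 G α β, u * k * u⁻¹ = k⁻¹ := fun k hk => by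
    rw [inv_self hu]; exact h.HB hK hu huN (fixA.1 hk.1) ((fixB hu).1 hk.2)
  refine ⟨GaloisField p f, inferInstance, inferInstance, p, inferInstance, inferInstance,
    by rw [← Nat.card_eq_fintype_card, hKc, ← hM], by rwa [← hM] at hE, ?_⟩
  rcases hZ.card_of_large hab hle with hd | hd
  · exact Or.inl (hZ.nonempty_equiv_PGL hab s1 s2 hu s3 hd _ hKc)
  · refine Or.inr ⟨?_, hZ.nonempty_equiv_PSL hab s1 s2 hu s3 hd _ hKc⟩
    rw [← Nat.card_eq_fintype_card, hKc, ← hd]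
    obtain ⟨c, hc⟩ := hev
    omega

end One

theorem case2_T {u v : G} (hu : u * u = 1) (huN : u ∉ NN M) (huz : u * z = z * u)
    (hv : v * v = 1) (hvN : v ∉ NN M) (hvz : v * z = z * v) (huv : u * v ∉ NN M) :
    (∀ k ∈ NN M, k * z = z * k → k = 1 ∨ k = z) ∧ ∀ g, g * z = z * g → g * g = 1 := by
  have key : ∀ g ∉ NN M, g * z = z * g → g * g = 1 ∧
      ∀ k ∈ NN M, g * k = k * g → k = k⁻¹ := fun g hg hgz => by
    obtain ⟨x, hx, e1, e2⟩ := h.HG hK hg
    have a1 := e2 z h.zN hgz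
    have : x = 1 := h.cz hx h.zz h.z1 (by
      rw [inv_self h.zz] at a1
      calc z * x = x * z * x⁻¹ * x := by rw [a1]
        _ = _ := by group)
    subst this
    exact ⟨by simpa using e1, fun k hk hc => by simpa using e2 k hk hc⟩
  have a1 : ∀ k ∈ NN M, k * z = z * k → k = 1 ∨ k = z := fun k hk hc => by
    have b1 := h.zH hK hu huN huz hk hc
    have b2 := h.zH hK hv hvN hvz hk hc
    have b3 : u * k⁻¹ * u = k := by
      have := congrArg (·⁻¹) b1
      simpa [mul_inv_rev, inv_self hu, mul_assoc] using this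
    have b4 := (key (u * v) huv (by rw [mul_assoc, hvz, ← mul_assoc, huz, mul_assoc])).2 k hk (by
      calc u * v * k = u * (v * k * v) * v⁻¹ := by group
        _ = u * k⁻¹ * (u * u) * v := by rw [b2, inv_self hv, hu]; group
        _ = (u * k⁻¹ * u) * (u * v) := by group
        _ = _ := by rw [b3])
    have b5 : k * k = 1 := by nth_rewrite 2 [b4]; exact mul_inv_cancel k
    by_cases hk1 : k = 1
    · exact Or.inl hk1
    have b6 := h.cz (h.zu b5 hk1 hk) h.zz h.z1 (by rw [mul_assoc z k z, hc])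
    exact Or.inr (by rw [eq_inv_of_mul_eq_one_right b6, inv_self h.zz])
  refine ⟨a1, fun g hg => ?_⟩
  by_cases hgN : g ∈ NN M
  · rcases a1 g hgN hg with rfl | rfl
    · simp
    · exact h.zz
  · exact (key g hgN hg).1

omit hK in
theorem N_eq (hH : ∀ k ∈ NN M, k * z = z * k → k = 1 ∨ k = z) {n : G} (hn : n ∈ NN M) :
    n ∈ M ∨ ∃ x ∈ M, n = x * z := by
  obtain ⟨x, hx, c, hc, e⟩ := h.fac n hn
  have hcN : c ∈ NN M := by
    have : c = x⁻¹ * n := by rw [e]; group
    rw [this]; exact mul_mem (inv_mem (MN hx)) hn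
  rcases hH c hcN hc with rfl | rfl
  · exact Or.inl (by rw [e, mul_one]; exact hx)
  · exact Or.inr ⟨x, hx, e⟩

omit hK in
theorem xz_sq {x : G} (hx : x ∈ M) : x * z * (x * z) = 1 := by
  calc x * z * (x * z) = x * (z * x * z⁻¹) * (z * z) := by group
    _ = 1 := by rw [h.zinv hx, h.zz]; group

omit hK [Finite G] in
theorem xz_ne {x : G} (hx : x ∈ M) : x * z ≠ 1 := fun e =>
  h.zM (by rw [eq_inv_of_mul_eq_one_right e]; exact inv_mem hx)

omit hK in
theorem N_sup (hH : ∀ k ∈ NN M, k * z = z * k → k = 1 ∨ k = z) : M ⊔ zpowers z = NN M := by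
  refine le_antisymm (sup_le le_normalizer (zpowers_le.2 h.zN)) fun n hn => ?_
  rcases h.N_eq hH hn with h1 | ⟨x, hx, rfl⟩
  · exact mem_sup_left h1
  · exact mul_mem_sup hx (mem_zpowers z)

omit hK in
theorem card_N (hH : ∀ k ∈ NN M, k * z = z * k → k = 1 ∨ k = z) :
    Nat.card (NN M) = 2 * Nat.card M := by
  have ho : orderOf z = 2 := orderOf_eq_prime (by rw [pow_two, h.zz]) h.z1
  rw [← h.N_sup hH, sup_comm, Core.card_sup_of_disjoint (zpowers_le.2 h.zN), Nat.card_zpowers, ho]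
  rw [eq_bot_iff]
  rintro _ ⟨⟨k, rfl⟩, hk⟩
  have hk' : z ^ k ∈ M := hk
  exact h.cz hk' h.zz h.z1 (by group)

/-- The counting in the second case. -/
theorem counts (hH : ∀ k ∈ NN M, k * z = z * k → k = 1 ∨ k = z) :
    ∃ tn : ℕ, Nat.card (centralizer ({z} : Set G)) = tn + 2 ∧
      Nat.card G = 2 * Nat.card M + Nat.card M * tn * Nat.card M ∧
      {g : G | g * g = 1 ∧ g ≠ 1}.ncard = Nat.card M * tn + Nat.card M := by
  classical
  let A : Set G := {u | u * u = 1 ∧ u ∉ NN M}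
  let Tn : Set G := {w | w * w = 1 ∧ w ∉ NN M ∧ w * z = z * w}
  have hT : ∀ g ∉ NN M, g * z = z * g → g * g = 1 := fun g hg hgz => by
    obtain ⟨x, hx, e1, e2⟩ := h.HG hK hg
    have a1 := e2 z h.zN hgz
    have : x = 1 := h.cz hx h.zz h.z1 (by
      rw [inv_self h.zz] at a1
      calc z * x = x * z * x⁻¹ * x := by rw [a1]
        _ = _ := by group)
    subst this
    simpa using e1
  have e1 : Nat.card (A × M) = Nat.card {g // g ∉ NN M} := by
    refine Nat.card_eq_of_bijective (fun p => ⟨p.1 * p.2, fun e =>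
      p.1.2.2 ((mul_mem_cancel_right (MN p.2.2)).1 e)⟩) ⟨fun p q e => ?_, fun g => ?_⟩
    · have e' : (p.1 : G) * p.2 = q.1 * q.2 := congrArg Subtype.val e
      have : (p.1 : G) = q.1 := h.F5 p.1.2.1 q.1.2.1 p.1.2.2 (by
        have : (p.1 : G) * q.1 = p.2 * (q.2 : G)⁻¹ := by
          calc (p.1 : G) * q.1 = (p.1 : G) * (q.1 * q.2) * (q.2 : G)⁻¹ := by group
            _ = (p.1 : G) * p.1 * p.2 * (q.2 : G)⁻¹ := by rw [← e']; group
            _ = _ := by rw [p.1.2.1, one_mul]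
        rw [this]; exact mul_mem p.2.2 (inv_mem q.2.2))
      refine Prod.ext (Subtype.ext this) (Subtype.ext ?_)
      rw [this] at e'
      exact mul_left_cancel e'
    · obtain ⟨x, hx, e⟩ := hK g g.2
      exact ⟨(⟨g * x, e, fun e => g.2 ((mul_mem_cancel_right (MN hx)).1 e)⟩, ⟨x⁻¹, inv_mem hx⟩),
        Subtype.ext (by simp)⟩
  have e2 : Nat.card (M × Tn) = Nat.card A := by
    refine Nat.card_eq_of_bijective (fun p => ⟨p.1 * p.2 * (p.1 : G)⁻¹, by
      rw [conj_mul, p.2.2.1]; simp, fun e => p.2.2.2.1 (by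
        have := mul_mem (mul_mem (inv_mem (MN p.1.2)) e) (MN p.1.2)
        convert this using 1; group)⟩) ⟨fun p q e => ?_, fun u => ?_⟩
    · have e' : (p.1 : G) * p.2 * (p.1 : G)⁻¹ = q.1 * q.2 * (q.1 : G)⁻¹ := congrArg Subtype.val e
      obtain ⟨⟨y, hy⟩, ⟨w, hw1, hw2, hw3⟩⟩ := p
      obtain ⟨⟨y', hy'⟩, ⟨w', hw1', hw2', hw3'⟩⟩ := q
      simp only at e'
      have ha : y'⁻¹ * y ∈ M := mul_mem (inv_mem hy') hy
      have b1 : y'⁻¹ * y * w * (y'⁻¹ * y)⁻¹ = w' := by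
        calc _ = y'⁻¹ * (y * w * y⁻¹) * y' := by group
          _ = w' := by rw [e']; group
      have b0 : y'⁻¹ * y = 1 := by
        generalize y'⁻¹ * y = a at ha b1
        have b2 : a⁻¹ * w * a = w' := by
          have c1 := h.zinv ha
          have c2 := h.zinv (inv_mem ha)
          calc a⁻¹ * w * a = (z * a * z⁻¹) * w * (z * a⁻¹ * z⁻¹) := by rw [c1, c2, inv_inv]
            _ = z * (a * (z⁻¹ * (w * z)) * a⁻¹) * z⁻¹ := by group
            _ = z * (a * w * a⁻¹) * z⁻¹ := by rw [hw3]; group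
            _ = w' := by rw [b1, ← hw3']; group
        refine h.sq1 ha (h.cz (mul_mem ha ha) hw1 (fun e => hw2 (e ▸ one_mem _)) ?_)
        calc w * (a * a) = a * (a⁻¹ * w * a) * a := by group
          _ = a * (a * w * a⁻¹) * a := by rw [b2, b1]
          _ = _ := by group
      have b3 : y = y' := (inv_mul_eq_one.1 b0).symm
      subst b3
      have : w = w' := by simpa using b1
      subst this
      rfl
    · obtain ⟨y, hy, w, a1, a2, a3, a4⟩ := h.decompA hK u.2.1 u.2.2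
      exact ⟨(⟨y, hy⟩, ⟨w, a1, a2, a3⟩), Subtype.ext a4.symm⟩
  rw [Nat.card_prod] at e1 e2
  refine ⟨Tn.ncard, ?_, ?_, ?_⟩
  · have : (centralizer ({z} : Set G) : Set G) = insert 1 (insert z Tn) := by
      ext g
      simp only [SetLike.mem_coe, mem_centralizer_singleton_iff, Set.mem_insert_iff]
      refine ⟨fun hg => ?_, ?_⟩
      · by_cases hgN : g ∈ NN M
        · rcases hH g hgN hg with e | e
          · exact Or.inl e
          · exact Or.inr (Or.inl e)
        · exact Or.inr (Or.inr ⟨hT g hgN hg, hgN, hg⟩)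
      · rintro (rfl | rfl | hg)
        · simp
        · rfl
        · exact hg.2.2
    change (centralizer ({z} : Set G) : Set G).ncard = _
    rw [this, Set.ncard_insert_of_notMem, Set.ncard_insert_of_notMem]
    · exact fun e => e.2.1 h.zN
    · rintro (e | e)
      · exact h.z1 e.symm
      · exact e.2.1 (one_mem _)
  · have := Nat.card_congr (Equiv.sumCompl (· ∈ NN M))
    rw [Nat.card_sum, ← e1, ← e2] at this
    rw [← this, ← h.card_N hH]
    rfl
  · have : {g : G | g * g = 1 ∧ g ≠ 1} = A ∪ (fun x => x * z) '' (M : Set G) := by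
      ext g
      refine ⟨fun hg => ?_, ?_⟩
      · by_cases hgN : g ∈ NN M
        · rcases h.N_eq hH hgN with e | ⟨x, hx, e⟩
          · exact absurd (h.sq1 e hg.1) hg.2
          · exact Or.inr ⟨x, hx, e.symm⟩
        · exact Or.inl ⟨hg.1, hgN⟩
      · rintro (hg | ⟨x, hx, rfl⟩)
        · exact ⟨hg.1, fun e => hg.2 (e ▸ one_mem _)⟩
        · exact ⟨h.xz_sq hx, h.xz_ne hx⟩
    rw [this, Set.ncard_union_eq, Set.ncard_image_of_injective _ (mul_left_injective z)]
    · exact congrArg₂ (· + ·) e2.symm rfl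
    · rw [Set.disjoint_left]
      rintro _ hg ⟨x, hx, rfl⟩
      exact hg.2 (mul_mem (MN hx) h.zN)

omit hK in
theorem odd_M : Odd (Nat.card M) := by
  rw [← Nat.not_even_iff_odd, even_iff_two_dvd]
  intro h2
  obtain ⟨x, hx⟩ := exists_prime_orderOf_dvd_card' 2 h2
  exact Inv.ne_one_of_orderOf hx
    (Subtype.ext (h.sq1 x.2 (congrArg Subtype.val (Inv.mul_self_of_orderOf hx))))

omit h hK [Finite G] in
theorem arith {m tn k j : ℕ} (hm : Odd m) (h1 : 1 < m) (ht : tn + 2 = 2 ^ j) (ht0 : 0 < tn)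
    (e : k * (tn + 2) = 2 * m + m * tn * m) (hk : k ≤ m * tn + m) :
    (m = tn + 3 ∧ k = m * tn + m) ∨
      ∃ s, m = s + 1 ∧ tn + 2 = 2 * s ∧ k = m * s ∧ 2 * m + m * tn * m = 2 * m * s ^ 2 := by
  have hc : (tn + 2).Coprime m := by
    rw [ht]; exact Nat.Coprime.pow_left _ (Nat.coprime_two_left.2 hm)
  have d1 : tn + 2 ∣ 2 + m * tn := hc.dvd_of_dvd_mul_left ⟨k, by rw [mul_comm _ k, e]; ring⟩
  obtain ⟨m, rfl⟩ : ∃ n, m = n + 1 := ⟨m - 1, by omega⟩
  have d2 : tn + 2 ∣ 2 * m := by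
    have : (tn + 2) * (m + 1) = (2 + (m + 1) * tn) + 2 * m := by ring
    exact (Nat.dvd_add_right d1).1 (this ▸ dvd_mul_right _ _)
  obtain ⟨i, hi⟩ := d2
  have b1 : (m + 1) * (2 + (m + 1) * tn) ≤ (m + 1) * ((tn + 1) * (tn + 2)) := by nlinarith
  have b2 := Nat.le_of_mul_le_mul_left b1 (by omega)
  have b3 : m ≤ tn + 2 := by nlinarith
  have b4 : i ≤ 2 := by nlinarith
  have b5 : 0 < i := by
    rcases i with _ | i
    · omega
    · omega
  have hpos : 0 < tn + 2 := by omega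
  interval_cases i
  · refine Or.inr ⟨m, rfl, by omega, ?_, ?_⟩
    · obtain rfl : tn = 2 * m - 2 := by omega
      obtain ⟨m, rfl⟩ : ∃ n, m = n + 1 := ⟨m - 1, by omega⟩
      have : 2 * (m + 1) - 2 = 2 * m := by omega
      rw [this] at e
      refine Nat.eq_of_mul_eq_mul_right (m := 2 * m + 2) (by omega) ?_
      rw [e]; ring
    · obtain rfl : tn = 2 * m - 2 := by omega
      obtain ⟨m, rfl⟩ : ∃ n, m = n + 1 := ⟨m - 1, by omega⟩
      have : 2 * (m + 1) - 2 = 2 * m := by omega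
      rw [this]; ring
  · obtain rfl : m = tn + 2 := by omega
    refine Or.inl ⟨rfl, Nat.eq_of_mul_eq_mul_right hpos ?_⟩
    rw [e]; ring

omit h hK [Finite G] in
theorem sl_sq {F : Type*} [Field F] [CharP F 2] (A : Matrix.SpecialLinearGroup (Fin 2) F)
    (v : Fin 2 → F) (hv : v ≠ 0) (e : (A : Matrix (Fin 2) (Fin 2) F).mulVec v = v) : A * A = 1 := by
  have h2 : (2 : F) = 0 := by exact_mod_cast CharP.cast_eq_zero F 2
  have hd := A.det_coe
  rw [Matrix.det_fin_two] at hd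
  have e0 := congrFun e 0
  have e1 := congrFun e 1
  simp only [Matrix.mulVec, dotProduct, Fin.sum_univ_two] at e0 e1
  have htr : A.1 0 0 + A.1 1 1 = 0 := by
    by_contra hne
    refine hv (funext fun i => ?_)
    fin_cases i
    · refine mul_left_cancel₀ hne ?_
      simp only [Fin.zero_eta, Pi.zero_apply, mul_zero]
      linear_combination (-(A.1 1 1 - 1)) * e0 + A.1 0 1 * e1 + v 0 * hd + v 0 * h2
    · refine mul_left_cancel₀ hne ?_
      simp only [Fin.mk_one, Pi.zero_apply, mul_zero]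
      linear_combination (-(A.1 0 0 - 1)) * e1 + A.1 1 0 * e0 + v 1 * hd + v 1 * h2
  ext i j
  rw [Matrix.SpecialLinearGroup.coe_mul, Matrix.mul_apply, Fin.sum_univ_two]
  fin_cases i <;> fin_cases j <;> simp
  · linear_combination A.1 0 0 * htr - hd - h2
  · linear_combination A.1 0 1 * htr
  · linear_combination A.1 1 0 * htr
  · linear_combination A.1 1 1 * htr - hd - h2

omit hK in
theorem case2a {u : G} (hu : u * u = 1) (huN : u ∉ NN M) (huz : u * z = z * u)
    (hT : ∀ g, g * z = z * g → g * g = 1) (hall : ∀ t, t * t = 1 → t ≠ 1 → IsConj z t) {τ : ℕ}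
    (hτ : 2 < τ) (hm : Nat.card M = τ + 1) (hG : Nat.card G = τ * (τ ^ 2 - 1)) :
    ∃ (F : Type) (_ : Field F) (_ : Fintype F) (e : ℕ), 1 < e ∧ Fintype.card F = 2 ^ e ∧
      IsCyclic M ∧ Nat.card M = 2 ^ e + 1 ∧
        Nonempty (G ≃* Matrix.ProjectiveSpecialLinearGroup (Fin 2) F) := by
  have ho : orderOf z = 2 := orderOf_eq_prime (by rw [pow_two, h.zz]) h.z1
  have hu1 : u ≠ 1 := fun e => huN (e ▸ one_mem _)
  have hT2 : IsPGroup 2 (centralizer ({z} : Set G)) := fun g =>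
    ⟨1, Subtype.ext (by simpa [pow_two] using hT g (mem_centralizer_singleton_iff.1 g.2))⟩
  obtain ⟨P, hP⟩ := hT2.exists_le_sylow
  have hzP : z ∈ (P : Subgroup G) := hP (mem_centralizer_singleton_iff.2 rfl)
  rcases S2202.result (G := G) (even_iff_two_dvd.2 (ho ▸ orderOf_dvd_natCard z)) (fun t ht => by
    obtain ⟨g, rfl⟩ := isConj_iff.1 (hall t (Inv.mul_self_of_orderOf ht) (Inv.ne_one_of_orderOf ht))
    have hs : ∀ c : centralizer ({g * z * g⁻¹} : Set G), c * c = 1 := fun c => by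
      have a1 := mem_centralizer_singleton_iff.1 c.2
      have a2 := hT (g⁻¹ * c * g) (by
        calc g⁻¹ * c * g * z = g⁻¹ * (c * (g * z * g⁻¹)) * g := by group
          _ = _ := by rw [a1]; group)
      refine Subtype.ext ?_
      calc (c : G) * c = g * (g⁻¹ * c * g * (g⁻¹ * c * g)) * g⁻¹ := by group
        _ = 1 := by rw [a2]; group
    exact ⟨⟨fun a b => by
      rw [← inv_self (hs (a * b)), mul_inv_rev, inv_self (hs a), inv_self (hs b)]⟩⟩) with
    hc | hn | ⟨F, _, _, A, _, _, hF, hA, ⟨e⟩⟩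
  · have := Inv.eq_of_isCyclic_of_orderOf_two (hc P) hzP
      (hP (mem_centralizer_singleton_iff.2 huz)) ho (orderOf_eq_prime (by rw [pow_two, hu]) hu1)
    exact absurd (this ▸ h.zN) huN
  · exact (h.no2 (hn P) P.isPGroup' hzP h.zz h.z1 h.zN).elim
  have hA1 : ∀ a : A, a = 1 := fun a => by
    have a1 := hT (e.symm (1, a)) (e.injective (by
      simp only [map_mul, MulEquiv.apply_symm_apply]
      exact Prod.ext (by simp) (mul_comm _ _)))
    have a2 : a * a = 1 := by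
      have := congrArg (fun g => (e g).2) a1
      simpa using this
    exact Inv.eq_one_of_odd_of_mul_self (hA.of_dvd_nat (orderOf_dvd_natCard a)) a2
  letI : Unique A := ⟨⟨1⟩, hA1⟩
  let e' := e.trans MulEquiv.prodUnique
  obtain ⟨n, -, hn⟩ := FiniteField.card F 2
  have hq : Fintype.card F = τ := by
    have a1 := Nat.card_congr e'.toEquiv
    rw [hG, PSL2.card_SL2, Nat.card_eq_fintype_card] at a1
    have mono : ∀ a b : ℕ, a < b → a * (a ^ 2 - 1) < b * (b ^ 2 - 1) ∨ b ≤ 1 := fun a b hab => by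
      by_cases hb : b ≤ 1
      · exact Or.inr hb
      left
      have c1 : a ^ 2 ≤ b ^ 2 := Nat.pow_le_pow_left hab.le 2
      have c2 : 0 < b ^ 2 - 1 := by
        have : 2 ^ 2 ≤ b ^ 2 := Nat.pow_le_pow_left (by omega) 2
        omega
      calc a * (a ^ 2 - 1) ≤ a * (b ^ 2 - 1) := Nat.mul_le_mul_left _ (by omega)
        _ < _ := Nat.mul_lt_mul_of_pos_right hab c2
    have := Fintype.one_lt_card (α := F)
    rcases lt_trichotomy (Fintype.card F) τ with hl | hl | hl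
    · rcases mono _ _ hl with c | c <;> omega
    · exact hl
    · rcases mono _ _ hl with c | c <;> omega
  refine ⟨F, inferInstance, inferInstance, n, ?_, hn, ?_, by rw [hm, ← hq, hn], ?_⟩
  · by_contra hlt
    have : (n : ℕ) = 1 := by have := n.pos; omega
    rw [this, hq] at hn; omega
  · let φ : M →* AddMonoid.End (Fin 2 → F) :=
      { toFun := fun x => (Matrix.mulVecLin (e' x : Matrix (Fin 2) (Fin 2) F)).toAddMonoidHom
        map_one' := AddMonoidHom.ext fun v => by simp; rfl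
        map_mul' := fun a b => AddMonoidHom.ext fun v => by
          change (e' ((a : G) * b) : Matrix (Fin 2) (Fin 2) F).mulVec v =
            (e' a : Matrix (Fin 2) (Fin 2) F).mulVec ((e' b : Matrix (Fin 2) (Fin 2) F).mulVec v)
          rw [map_mul, Matrix.mulVec_mulVec]; rfl }
    have hf := Frobenius.fpf_of_add φ fun x v ev => by
      by_cases hv : v = 0
      · exact Or.inr hv
      have := sl_sq (e' x) v hv ev
      rw [← map_mul, map_eq_one_iff _ e'.injective] at this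
      exact Or.inl (Subtype.ext (h.sq1 x.2 this))
    have := hf.isCyclic_of_comm (A := ⊤) ⟨⟨fun a b => Subtype.ext (Subtype.ext
      (h.comm a.1.2 b.1.2))⟩⟩
    exact isCyclic_of_surjective _ topEquiv.surjective
  · have hc : Nat.card (center (Matrix.SpecialLinearGroup (Fin 2) F)) = 1 := by
      rw [Linear.card_center_SL, hn, Fintype.card_fin]
      have : Even (2 ^ (n : ℕ)) := Nat.even_pow.2 ⟨by decide, n.ne_zero⟩
      refine Nat.coprime_two_left.2 (Nat.Even.sub_odd (Nat.one_le_two_pow) this odd_one)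
    exact ⟨e'.trans ((QuotientGroup.quotientMulEquivOfEq (card_eq_one.1 hc)).trans
      QuotientGroup.quotientBot).symm⟩

omit hK in
theorem case2b (hH : ∀ k ∈ NN M, k * z = z * k → k = 1 ∨ k = z) {d : ℕ} (hd : 1 ≤ d)
    (hm : Nat.card M = 2 ^ d + 1) (hG : Nat.card G = 2 * Nat.card M * (2 ^ d) ^ 2)
    (hW : ({g : G | g * g = 1 ∧ g ≠ 1} \ {g | IsConj z g}).ncard + 1 = (2 ^ d) ^ 2) :
    ∃ (d : ℕ) (E : Subgroup G), 1 ≤ d ∧ E.Normal ∧ IsElementaryAbelian 2 E ∧
      Nat.card E = 2 ^ (2 * d) ∧ E ⊓ NN M = ⊥ ∧ E ⊔ NN M = ⊤ ∧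
        Nonempty (NN M ≃* DihedralGroup (2 ^ d + 1)) := by
  set W := {g : G | g * g = 1 ∧ g ≠ 1} \ {g | IsConj z g} with hWdef
  set E := pCore 2 G
  have hE : IsPGroup 2 E := Core.pCore_isPGroup 2 G
  have hEn : E.Normal := inferInstance
  have hi : M.index = 2 ^ (2 * d + 1) := by
    have := M.card_mul_index
    refine Nat.eq_of_mul_eq_mul_left (Nat.card_pos (α := M)) ?_
    rw [this, hG]; ring
  have hWE : W ⊆ E := fun w hw => by
    by_contra hwE
    obtain ⟨y, hy1, hyo, hy⟩ := Inv.exists_odd_inverted_of_not_mem_pCore hw.1.1 hwE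
    obtain ⟨p, hp, hpd⟩ := Nat.exists_prime_and_dvd (n := orderOf y) (by simpa using hy1)
    haveI := Fact.mk hp
    have hp2 : p ≠ 2 := by rintro rfl; exact (Nat.not_even_iff_odd.2 hyo) (even_iff_two_dvd.2 hpd)
    have hx : orderOf (y ^ (orderOf y / p)) = p := orderOf_pow_orderOf_div (orderOf_pos y).ne' hpd
    have hxi : w * y ^ (orderOf y / p) * w⁻¹ = (y ^ (orderOf y / p))⁻¹ := by
      rw [← conj_pow, hy, inv_pow]
    generalize y ^ (orderOf y / p) = x at hx hxi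
    obtain ⟨Q⟩ : Nonempty (Sylow p M) := inferInstance
    have hQ : ¬ p ∣ ((Q : Subgroup M).map M.subtype).index := by
      rw [index_map_subtype, hi]
      intro e
      rcases (Nat.Prime.dvd_mul hp).1 e with e | e
      · exact Q.not_dvd_index e
      · exact hp2 ((Nat.prime_dvd_prime_iff_eq hp Nat.prime_two).1 (hp.dvd_of_dvd_pow e))
    obtain ⟨g, hg⟩ := Alt.exists_conj_mem_sylow ((Q.isPGroup'.map M.subtype).toSylow hQ) (x := x)
      (k := 1) (by rw [pow_one, ← hx, pow_orderOf_eq_one])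
    have hgM : g * x * g⁻¹ ∈ M := map_subtype_le _ hg
    have hx1 : x ≠ 1 := by rintro rfl; rw [orderOf_one] at hx; exact hp.one_lt.ne hx
    have a1 := h.ti _ hgM (by simpa using hx1) (g * w * g⁻¹) (by
      have : g * w * g⁻¹ * (g * x * g⁻¹) * (g * w * g⁻¹)⁻¹ = (g * x * g⁻¹)⁻¹ := by
        calc _ = g * (w * x * w⁻¹) * g⁻¹ := by group
          _ = _ := by rw [hxi]; group
      rw [this]; exact inv_mem hgM)
    obtain ⟨y', -, e⟩ := h.conj_z (by rw [conj_mul, hw.1.1]; simp) (by simpa using hw.1.2) a1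
    refine hw.2 (isConj_iff.2 ⟨g⁻¹ * y', ?_⟩)
    calc g⁻¹ * y' * z * (g⁻¹ * y')⁻¹ = g⁻¹ * (y' * z * y'⁻¹) * g := by group
      _ = w := by rw [← e]; group
  have hEN : E ⊓ NN M = ⊥ := by
    rw [eq_bot_iff]
    rintro e ⟨he, hn⟩
    rcases h.N_eq hH hn with h1 | ⟨x, hx, rfl⟩
    · obtain ⟨k, hk⟩ := hE ⟨e, he⟩
      exact h.pow2 h1 k (congrArg Subtype.val hk)
    · exact (h.no2 hEn hE he (h.xz_sq hx) (h.xz_ne hx) hn).elim
  have c1 := Core.card_sup_of_disjoint (H := NN M) (N := E) le_normalizer_of_normal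
    (by rw [inf_comm, hEN])
  have c2 := card_le_card_group (NN M ⊔ E)
  rw [c1, h.card_N hH, hG] at c2
  have c3 : Nat.card E ≤ (2 ^ d) ^ 2 :=
    Nat.le_of_mul_le_mul_left c2 (by have := Nat.card_pos (α := M); omega)
  have c4 : (insert 1 W).ncard = (2 ^ d) ^ 2 := by
    rw [Set.ncard_insert_of_notMem (fun e => e.1.2 rfl), hW]
  have c5 : insert 1 W = (E : Set G) :=
    Set.eq_of_subset_of_ncard_le (Set.insert_subset (one_mem E) hWE) (by rw [c4]; exact c3)
  have c6 : Nat.card E = (2 ^ d) ^ 2 := by rw [← c4, c5]; rfl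
  have hsq : ∀ e ∈ E, e * e = 1 := fun e he => by
    have : e ∈ insert 1 W := c5 ▸ he
    rcases this with rfl | h1
    · simp
    · exact h1.1.1
  have hE0 : E ≠ ⊥ := fun e => by
    rw [e, card_bot] at c6
    have : 2 ≤ 2 ^ d := by
      calc 2 = 2 ^ 1 := rfl
        _ ≤ 2 ^ d := Nat.pow_le_pow_right (by norm_num) hd
    nlinarith
  have hcyc : IsCyclic M := BG.regular_abelian_cyclic (H := E)
    ⟨⟨fun a b => Subtype.ext (h.comm a.2 b.2)⟩⟩ hE0 le_normalizer_of_normal fun x hx hx1 => by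
      rw [eq_bot_iff]
      rintro e ⟨he, hc⟩
      exact h.nov x hx hx1 e (mem_centralizer_singleton_iff.1 hc) (hsq e he)
  refine ⟨d, E, hd, hEn, ⟨⟨⟨fun a b => Subtype.ext ?_⟩⟩, fun a ha => by rw [pow_two, hsq a ha]⟩,
    by rw [c6]; ring, hEN, ?_, ?_⟩
  · change (a : G) * b = b * a
    rw [← inv_self (hsq _ (mul_mem a.2 b.2)), mul_inv_rev, inv_self (hsq _ a.2),
      inv_self (hsq _ b.2)]
  · rw [sup_comm]
    exact eq_top_of_le_card _ (by rw [c1, h.card_N hH, hG, c6])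
  · obtain ⟨r, hr⟩ := hcyc.exists_generator
    have hr' : zpowers (r : G) = M := by
      refine le_antisymm (zpowers_le.2 r.2) fun x hx => ?_
      obtain ⟨k, hk⟩ := hr ⟨x, hx⟩
      exact ⟨k, congrArg Subtype.val hk⟩
    obtain ⟨e⟩ := PGroup.nonempty_sup_mulEquiv_dihedral (a := (r : G)) (b := z) (n := 2 ^ d + 1)
      (by rw [← Nat.card_zpowers, hr', hm]) (by rw [pow_two, h.zz]) (h.zinv r.2)
      (by rw [hr']; exact h.zM)
    exact ⟨(MulEquiv.subgroupCongr (by rw [hr', h.N_sup hH])).trans e⟩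

end Base

/-- Let M be a nontrivial subgroup of a finite group G meeting each of its other conjugates trivially, with N_G(M) = M · C_{N_G(M)}(z) for some involution z ∈ N_G(M), and with C_G(x) of odd order for every nontrivial x ∈ M. Then one of the following holds: M is normal in G; the number of involutions of G is at most |G : M|; G is isomorphic to PGL₂(F) or to PSL₂(F) for a finite field F with |F| = |M|, M is an elementary abelian p-group for the characteristic p of F, and |F| ≡ 1 (mod 4) in the PSL₂ case; G is isomorphic to PSL₂(F) with |F| = 2^e, e > 1, and M is cyclic of order 2^e + 1; or for some d ≥ 1, G has an elementary abelian normal subgroup of order 2^{2d} complemented by N_G(M), and N_G(M) is dihedral of order 2(2^d + 1). -/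
theorem result {G : Type*} [Group G] [Finite G] (M : Subgroup G) (hM1 : M ≠ ⊥)
    (hTI : ∀ g : G, M ⊓ M.map (MulAut.conj g).toMonoidHom ≠ ⊥ → M.map (MulAut.conj g).toMonoidHom = M)
    (z : G) (hz : orderOf z = 2) (hzN : z ∈ Subgroup.normalizer (M : Set G))
    (hfac : M ⊔ (Subgroup.normalizer (M : Set G) ⊓ Subgroup.centralizer ({z} : Set G)) = Subgroup.normalizer (M : Set G))
    (hodd : ∀ x ∈ M, x ≠ 1 → Odd (Nat.card ↥(Subgroup.centralizer ({x} : Set G)))) :
    M.Normal ∨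
    Nat.card {g : G // orderOf g = 2} ≤ M.index ∨
    (∃ (F : Type) (_ : Field F) (_ : Fintype F) (p : ℕ) (_ : Fact p.Prime) (_ : CharP F p), Fintype.card F = Nat.card M ∧ Cfsg.IsElementaryAbelian p M ∧
        (Nonempty (G ≃* (GL (Fin 2) F ⧸ Subgroup.center (GL (Fin 2) F))) ∨
         (Fintype.card F % 4 = 1 ∧ Nonempty (G ≃* Matrix.ProjectiveSpecialLinearGroup (Fin 2) F)))) ∨
    (∃ (F : Type) (_ : Field F) (_ : Fintype F) (e : ℕ), 1 < e ∧ Fintype.card F = 2 ^ e ∧ IsCyclic ↥M ∧ Nat.card M = 2 ^ e + 1 ∧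
        Nonempty (G ≃* Matrix.ProjectiveSpecialLinearGroup (Fin 2) F)) ∨
    (∃ (d : ℕ) (E : Subgroup G), 1 ≤ d ∧ E.Normal ∧ Cfsg.IsElementaryAbelian 2 E ∧ Nat.card E = 2 ^ (2 * d) ∧
        E ⊓ Subgroup.normalizer (M : Set G) = ⊥ ∧ E ⊔ Subgroup.normalizer (M : Set G) = ⊤ ∧
        Nonempty (↥(Subgroup.normalizer (M : Set G)) ≃* DihedralGroup (2 ^ d + 1))) := by
  have h : Base M z := by
    refine ⟨(ne_bot_iff_exists_ne_one.1 hM1).elim fun x hx => ⟨x, x.2, fun e => hx (Subtype.ext e)⟩,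
      fun x hx h1 g hg => ?_, Inv.mul_self_of_orderOf hz, Inv.ne_one_of_orderOf hz, hzN,
      fun n hn => ?_, fun x hx h1 g hg h2 => ?_⟩
    · have := hTI g fun e => h1 (by
        have : g * x * g⁻¹ ∈ M ⊓ M.map (MulAut.conj g).toMonoidHom := ⟨hg, x, hx, rfl⟩
        rw [e, mem_bot] at this
        simpa using this)
      refine mem_normalizer_iff.2 fun y => ⟨fun hy => this ▸ ⟨y, hy, rfl⟩, fun hy => ?_⟩
      rw [← this] at hy
      obtain ⟨y', hy', e⟩ := hy
      have e' : g * y' * g⁻¹ = g * y * g⁻¹ := e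
      have : y' = y := by simpa using e'
      exact this ▸ hy'
    · have hn' : n ∈ ((M ⊔ (normalizer (M : Set G) ⊓ centralizer ({z} : Set G)) : Subgroup G) :
          Set G) := by rw [hfac]; exact hn
      rw [coe_mul_of_right_le_normalizer_left _ _ inf_le_left] at hn'
      obtain ⟨x, hx, c, hc, e⟩ := hn'
      exact ⟨x, hx, c, mem_centralizer_singleton_iff.1 hc.2, e.symm⟩
    · exact Inv.eq_one_of_odd_of_mul_self ((hodd x hx h1).of_dvd_nat
        (Subgroup.orderOf_dvd_natCard _ (mem_centralizer_singleton_iff.2 hg))) h2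
  by_cases hn : M.Normal
  · exact Or.inl hn
  by_cases hc : Nat.card {g : G // orderOf g = 2} ≤ M.index
  · exact Or.inr (Or.inl hc)
  have hK := h.exK (not_le.1 hc)
  obtain ⟨g, hg⟩ : ∃ g, g ∉ NN M := by
    by_contra h0
    push Not at h0
    exact hn (normalizer_eq_top_iff.1 (eq_top_iff.2 fun g _ => h0 g))
  obtain ⟨-, -, u, -, -, hu, huN, huz, -⟩ := h.decomp hK hg
  by_cases h1 : ∀ w, w * w = 1 → w ∉ NN M → w * z = z * w → u * w ∈ NN M
  · exact Or.inr (Or.inr (Or.inl (h.case1 hK hu huN huz h1)))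
  push Not at h1
  obtain ⟨v, hv, hvN, hvz, huv⟩ := h1
  obtain ⟨hH, hT⟩ := h.case2_T hK hu huN huz hv hvN hvz huv
  obtain ⟨tn, c1, c2, c3⟩ := h.counts hK hH
  have hT2 : IsPGroup 2 (centralizer ({z} : Set G)) := fun g =>
    ⟨1, Subtype.ext (by simpa [pow_two] using hT g (mem_centralizer_singleton_iff.1 g.2))⟩
  obtain ⟨j, hj⟩ := IsPGroup.iff_card.1 hT2
  have c4 := Small.card_isConj_mul_card_centralizer z
  have hsub : {g : G | IsConj z g} ⊆ {g : G | g * g = 1 ∧ g ≠ 1} := fun g hg => by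
    obtain ⟨c, rfl⟩ := isConj_iff.1 hg
    exact ⟨by rw [conj_mul, h.zz]; simp, by simpa using h.z1⟩
  have c5 := Set.ncard_le_ncard hsub
  have hm1 : 1 < Nat.card M := (one_lt_card_iff_ne_bot M).2 hM1
  have ht0 : 0 < tn := by
    by_contra h0
    have h0 : tn = 0 := by omega
    have := card_mul_index (NN M)
    rw [h.card_N hH, c2, h0] at this
    have a2 : (NN M).index = 1 := by nlinarith
    rw [index_eq_one] at a2
    exact hg (a2 ▸ mem_top g)
  change {g : G | IsConj z g}.ncard * _ = _ at c4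
  rw [c1, c2] at c4
  rw [c3] at c5
  rcases Base.arith h.odd_M hm1 (c1.symm.trans hj) ht0 c4 c5 with ⟨a1, a2⟩ | ⟨s, a1, a2, a3, a4⟩
  · have a3 := Set.eq_of_subset_of_ncard_le hsub (by rw [c3, a2])
    refine Or.inr (Or.inr (Or.inr (Or.inl (h.case2a hu huN huz hT
      (fun t h1 h2 => (a3 ▸ (⟨h1, h2⟩ : t ∈ {g : G | g * g = 1 ∧ g ≠ 1}) :
        t ∈ {g : G | IsConj z g})) (τ := tn + 2) (by omega) a1 ?_))))
    rw [c2, a1]
    have : (tn + 2) ^ 2 - 1 = (tn + 1) * (tn + 3) := Nat.sub_eq_of_eq_add (by ring)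
    rw [this]; ring
  · obtain ⟨d, rfl⟩ : ∃ d, j = d + 1 := ⟨j - 1, by
      rcases j with _ | j
      · rw [c1] at hj; omega
      · rfl⟩
    have hs : s = 2 ^ d := by rw [c1, a2, pow_succ] at hj; omega
    have hd : 1 ≤ d := by
      rcases d with _ | d
      · omega
      · omega
    refine Or.inr (Or.inr (Or.inr (Or.inr (h.case2b hH hd (hs ▸ a1) (by rw [c2, a4, hs]) ?_))))
    rw [Set.ncard_diff hsub, c3, a3, ← hs, a1]
    obtain ⟨s, rfl⟩ : ∃ n, s = n + 1 := ⟨s - 1, by omega⟩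
    obtain rfl : tn = 2 * s := by omega
    have : (s + 1 + 1) * (2 * s) + (s + 1 + 1) - (s + 1 + 1) * (s + 1) = (s + 2) * s :=
      Nat.sub_eq_of_eq_add (by ring)
    rw [this]; ring

end Cfsg.Agent.S3043
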