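import Cfsg.Statements.S3121
import Cfsg.Agent.Lib.ZD.Cor2
import Cfsg.Agent.Lib.Comp.GenFitting
import Cfsg.Agent.Lib.Sig.AbSyl
-- import your own Cfsg.Agent.* helpers here

set_option autoImplicit false
open Cfsg

namespace Cfsg.Agent.S3121

open Cfsg.Lib.ZD Cfsg.Lib.BG Cfsg.Lib.Inv Cfsg.Lib.Comp Subgroup in
/-- Let G be a finite group whose generalized Fitting subgroup F*(G) is a non-abelian simple group, let H be a tightly embedded subgroup of G and N its normalizer. If H^g ∩ N has odd order for every element g of G outside N, then either H is normal in G or F*(G) has a strongly embedded subgroup. -/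
theorem result {G : Type*} [Group G] [Finite G]
    (hF : IsSimpleGroup ↥(Cfsg.generalizedFittingSubgroup G)) (hF' : ¬ IsMulCommutative ↥(Cfsg.generalizedFittingSubgroup G))
    (H : Subgroup G) (hH : Cfsg.IsTightlyEmbedded H)
    (hodd : ∀ g : G, g ∉ Subgroup.normalizer (H : Set G) →
      Odd (Nat.card ↥(H.map (MulAut.conj g).toMonoidHom ⊓ Subgroup.normalizer (H : Set G)))) :
    H.Normal ∨ ∃ M : Subgroup ↥(Cfsg.generalizedFittingSubgroup G), Cfsg.IsStronglyEmbedded M := by
  refine (em _).imp_right fun hn => ⟨𝐍(H).subgroupOf _, ?_⟩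
  have hse := se_tight hH.1 hodd hn
  have hFK : generalizedFittingSubgroup G ≤ normalClosure (H : Set G) := by
    rcases (normal_subgroupOf (N := normalClosure (H : Set G))
      (H := generalizedFittingSubgroup G)).eq_bot_or_eq_top with e | e
    · have e' := subgroupOf_eq_bot.1 e
      have : normalClosure (H : Set G) ≤ generalizedFittingSubgroup G :=
        le_trans (fun x hx => mem_centralizer_iff.2 fun y hy =>
          (commute_of_normal_of_disjoint _ _ inferInstance inferInstance e' x y hx hy).symm)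
          centralizer_genFitting_le
      exact absurd (subgroupOf_eq_top.2 ((e'.eq_bot_of_le this).trans_le bot_le)) hse.1
    · exact subgroupOf_eq_top.1 e
  obtain ⟨s, hs, hso⟩ := exists_involution_mem_of_even (Lib.Sig.even_of_simple hF')
  obtain ⟨-, he, h⟩ := se_iff.1 hse
  obtain ⟨t, ht, hto⟩ := exists_involution_mem_of_even he
  obtain ⟨c, hc⟩ := isConj_iff.1 (se_isConj hse (s := ⟨s, hFK hs⟩) (by rwa [orderOf_mk]) hto)
  have htF : (t : G) ∈ generalizedFittingSubgroup G := hc ▸ genFitting_normal.conj_mem s hs c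
  refine se_iff.2 ⟨fun e => hse.1 (top_le_iff.1 fun g _ => h t g hto ht
    (subgroupOf_eq_top.1 e (genFitting_normal.conj_mem _ htF g))),
    even_card_of_involution_mem (t := ⟨t, htF⟩) (by rwa [orderOf_mk, orderOf_coe]) ht,
    fun u g hu e1 e2 => h ⟨u, hFK u.2⟩ ⟨g, hFK g.2⟩ (by rwa [orderOf_mk, orderOf_coe]) e1 e2⟩

end Cfsg.Agent.S3121
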