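import Cfsg.Statements.S3206
import Cfsg.Agent.Lib.JR.Setup

set_option autoImplicit false
open Cfsg

namespace Cfsg.Agent.S3206

open Subgroup Cfsg.Lib.BG Cfsg.Lib.JR Cfsg.Lib.Transfer

/-- Let G be a non-abelian finite simple group with abelian Sylow 2-subgroups, and let t be an involution of G whose centralizer is a maximal subgroup of G and is the direct product of the subgroup generated by t with a subgroup E having a normal subgroup isomorphic to PSL(2, q), q odd and greater than 3, with trivial centralizer in E. Then every finite perfect group having a central 2-subgroup with quotient isomorphic to G has that central subgroup trivial (G has no nontrivial perfect central extension by a 2-group), and every automorphism of G of 2-power order that fixes every element of some Sylow 2-subgroup of G is inner. -/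
theorem result {G : Type*} [Group G] [Finite G] [IsSimpleGroup G]
    (hG : ¬ IsMulCommutative G) (hab : ∀ S : Sylow 2 G, IsMulCommutative ↥(S : Subgroup G))
    (t : G) (ht : orderOf t = 2) (hmax : IsCoatom (Subgroup.centralizer ({t} : Set G)))
    (E : Subgroup G) (hE : Cfsg.IsInternalDirectProduct (Subgroup.zpowers t) E (Subgroup.centralizer ({t} : Set G)))
    {F : Type*} [Field F] [Fintype F] (hFo : Odd (Fintype.card F)) (hF3 : 3 < Fintype.card F)
    (N : Subgroup ↥E) [N.Normal] (hN : Nonempty (↥N ≃* Matrix.ProjectiveSpecialLinearGroup (Fin 2) F))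
    (hNc : Subgroup.centralizer (N : Set ↥E) = ⊥) :
    (∀ (L : Type) (_ : Group L) (_ : Finite L) (Z : Subgroup L) (_ : Z.Normal), commutator L = ⊤ → Z ≤ Subgroup.center L →
        IsPGroup 2 ↥Z → Nonempty (L ⧸ Z ≃* G) → Z = ⊥) ∧
    (∀ (φ : G ≃* G) (k : ℕ), φ ^ (2 ^ k) = 1 → (∃ S : Sylow 2 G, ∀ s ∈ (S : Subgroup G), φ s = s) →
        ∃ g : G, ∀ x : G, φ x = g * x * g⁻¹) := by
  obtain ⟨S₀⟩ : Nonempty (Sylow 2 G) := inferInstance
  have ab : Ab2 G := ab2_of_sylow S₀ (hab S₀)
  have h : JRS F t E (N.map E.subtype) :=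
    ⟨ab, ht, hE, map_subtype_le N, by
      rintro x hx
      refine mem_normalizer_fintype ?_
      rintro _ ⟨y, hy, rfl⟩
      exact ⟨_, (inferInstance : N.Normal).conj_mem y hy ⟨x, hx⟩, rfl⟩, by
      rw [eq_bot_iff]
      rintro x ⟨h1, h2⟩
      have : (⟨x, h1⟩ : E) ∈ centralizer (N : Set E) := mem_centralizer_iff.2 fun y hy =>
        Subtype.ext (mem_centralizer_iff.1 h2 y (mem_map_of_mem E.subtype hy))
      rw [hNc] at this
      exact congrArg Subtype.val (mem_bot.1 this), by rwa [Nat.card_eq_fintype_card],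
      ⟨(equivMapOfInjective N E.subtype E.subtype_injective).symm.trans hN.some⟩⟩
  refine ⟨fun L _ _ Z _ hL hZ h2 ⟨e⟩ => ?_, fun φ k hk ⟨S, hS⟩ => ?_⟩
  · obtain ⟨S, hS⟩ := h.exists_syl
    have hk : (e.toMonoidHom.comp (QuotientGroup.mk' Z)).ker = Z := by
      rw [← MonoidHom.comap_ker, (MonoidHom.ker_eq_bot_iff _).2 e.injective, MonoidHom.comap_bot,
        QuotientGroup.ker_mk']
    rw [← hk]
    exact cover_eight hL _ (e.surjective.comp (QuotientGroup.mk'_surjective Z)) (hk.symm ▸ hZ)
      (hk.symm ▸ h2) S (h.syl_elem (Syl.of_sylow_top S) hS) (h.syl_card (Syl.of_sylow_top S) hS)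
      (pRes_of_simple hG)
  · obtain ⟨j, -, hj⟩ := (Nat.dvd_prime_pow Nat.prime_two).1
      (orderOf_dvd_of_pow_eq_one (x := (φ : MulAut G)) hk)
    exact Cfsg.Agent.S4593.result (center_of_simple hG) (core_of_simple (ht ▸ orderOf_dvd_natCard t))
      S (hab S) φ ⟨j, hj⟩ hS

end Cfsg.Agent.S3206
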