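import Cfsg.Statements.S3218
import Cfsg.Agent.Lib.Kon.Main

set_option autoImplicit false
open Cfsg

namespace Cfsg.Agent.S3218

/-- Let m ≥ 7 with m ≡ 2 or 3 (mod 4), and let z̃ be any involution of the alternating group A_m. If G is a finite group that has no subgroup of index 2 and contains an involution z whose centralizer C_G(z) is isomorphic to C_{A_m}(z̃), then G is isomorphic to A_m. -/
theorem result {G : Type*} [Group G] [Finite G]
    (hG : ∀ H : Subgroup G, H.index ≠ 2) (m : ℕ) (hm : 7 ≤ m) (hmod : m % 4 = 2 ∨ m % 4 = 3)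
    (zt : ↥(alternatingGroup (Fin m))) (hzt : orderOf zt = 2) (z : G) (hz : orderOf z = 2)
    (e : ↥(Subgroup.centralizer ({z} : Set G)) ≃* ↥(Subgroup.centralizer ({zt} : Set ↥(alternatingGroup (Fin m))))) :
    Nonempty (G ≃* ↥(alternatingGroup (Fin m))) :=
  (Cfsg.Lib.AltRec.good m (by omega) hmod G hG zt hzt z hz e).2 (by simpa using hm)

end Cfsg.Agent.S3218
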