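import Cfsg.Statements.S3226
import Cfsg.Agent.Lib.TwoF.Exc
import Cfsg.Agent.Lib.TwoF.Small

set_option autoImplicit false
open Cfsg

namespace Cfsg.Agent.S3226

open Cfsg.Lib Cfsg.Lib.TwoF Cfsg.Lib.BG Cfsg.Lib.Orth
open scoped Cfsg.Lib.Transfer

/-- Let G be a finite group with an involution t lying in the centre of a Sylow 2-subgroup of G and such that C_G(t) = ⟨t⟩ × F (internal direct product) where F is isomorphic to an alternating group A_n (n ≥ 5) or to a simple group of Lie type over a field of odd characteristic. Then G has a subgroup of index 2 not containing t, unless F ≅ A₅ or F ≅ PSL₂(3^(2k+1)) for some k ≥ 1. -/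
theorem result {G : Type*} [Group G] [Finite G]
    (t : G) (ht : orderOf t = 2) (S : Sylow 2 G) (htS : t ∈ (S : Subgroup G)) (htc : ∀ s ∈ (S : Subgroup G), s * t = t * s)
    (F : Subgroup G) (hF : Cfsg.IsInternalDirectProduct (Subgroup.zpowers t) F (Subgroup.centralizer ({t} : Set G)))
    (hFs : IsSimpleGroup ↥F) (hFna : ¬ IsMulCommutative ↥F)
    (hFiso : (∃ n : ℕ, 5 ≤ n ∧ Nonempty (↥F ≃* ↥(alternatingGroup (Fin n)))) ∨
      (∃ p : ℕ, p.Prime ∧ p ≠ 2 ∧ Cfsg.IsLieTypeChar p ↥F)) :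
    (∃ H : Subgroup G, H.index = 2 ∧ t ∉ H) ∨ Nonempty (↥F ≃* ↥(alternatingGroup (Fin 5))) ∨
      (∃ (K : Type) (_ : Field K) (_ : Fintype K) (n : ℕ), 1 ≤ n ∧ Fintype.card K = 3 ^ (2 * n + 1) ∧
        Nonempty (↥F ≃* Matrix.ProjectiveSpecialLinearGroup (Fin 2) K)) := by
  by_contra c
  simp only [not_or] at c
  obtain ⟨c1, c2, c3⟩ := c
  have := Fact.mk Nat.prime_two
  have h : Hyp t F := ⟨ht, fun d => S.not_dvd_index (d.trans (Subgroup.index_dvd_of_le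
      fun s hs => Subgroup.mem_centralizer_singleton_iff.2 (htc s hs))),
    ⟨le_cent_iff.2 hF.2.2.1, hF.2.2.2.1, hF.2.2.2.2⟩, hFs, hFna, fun H hH => by
      by_contra d; exact c1 ⟨H, hH, d⟩⟩
  have k : ∀ {Y : Type} [Group Y], KP Y → (F ≃* Y) → False := fun hY e => h.not_kp (hY.of_equiv e.symm)
  rcases hFiso with ⟨n, hn, ⟨e⟩⟩ | ⟨p, hp, h2, hL⟩
  · rcases hn.eq_or_lt with rfl | hn
    exacts [c2 ⟨e⟩, k (kp_alt hn) e]
  have := Fact.mk hp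
  rcases hL with ⟨K, _, _, _, n, hn, h4, ⟨e⟩⟩ | ⟨K, _, _, _, m, hm, -, ⟨e⟩⟩ |
    ⟨K, _, _, _, n, q, hq, hn, -, ⟨e⟩⟩ | ⟨K, _, _, _, m, hm, -, ⟨e⟩⟩ | ⟨K, _, _, _, m, hm, ⟨e⟩⟩ |
    ⟨K, _, _, _, m, a, b, hm, hab, ⟨e⟩⟩ |
    ⟨K, _, _, _, ⟨-, ⟨e⟩⟩ | ⟨⟨e⟩⟩ | ⟨⟨e⟩⟩ | ⟨⟨e⟩⟩ | ⟨⟨e⟩⟩⟩ |
    ⟨K, _, _, _, q, hq, ⟨hK, ⟨e⟩⟩ | ⟨hK, ⟨e⟩⟩⟩ | ⟨c, -⟩ | ⟨c, -⟩ | ⟨-, c⟩
  · rcases hn.eq_or_lt with rfl | hn
    · have h5 := h4 rfl
      rw [← Nat.card_eq_fintype_card] at h5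
      rcases h.l2 (by omega) e with ⟨f, h6, h7⟩ | h6
      · exact c3 ⟨K, _, _, f, h6, Nat.card_eq_fintype_card.symm.trans h7, ⟨e⟩⟩
      · exact c2 ((PSL2.equiv_psl_alt_five h6).map e.trans)
    · exact k (kp_psl' h2 hn) e
  · exact k (kp_psp (two_ne h2) hm) e
  · exact k (kp_psu' h2 hq hn) e
  · exact k (kp_pomega (nd_qOdd (two_ne h2) m) (two_ne h2) (by simp; omega)) e
  · exact k (kp_pomega (nd_qPlus m) (two_ne h2) (by simp; omega)) e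
  · exact k (kp_pomega (nd_qMinus (m - 1) hab) (two_ne h2) (by simp; omega)) e
  · exact k (kp_G2 h2) e
  · exact k (kp_F4 h2) e
  · exact k (kp_E6 h2) e
  · exact k (kp_E7 h2) e
  · exact k (kp_E8 h2) e
  · exact k (kp_2E6 h2 hq hK) e
  · exact k (kp_3D4 h2 hq hK) e
  exacts [h2 c, h2 c, h.not_ree c]

end Cfsg.Agent.S3226
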