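import Cfsg.Statements.S3244
import Cfsg.Agent.Lib.BS.Cor
import Cfsg.Agent.Lib.BG.Hall
import Cfsg.Agent.Lib.Coprime.FT
import Cfsg.Agent.Lib.Sig.AbSyl
import Cfsg.Agent.S0502
import Cfsg.Agent.S0504

set_option autoImplicit false
open Cfsg

namespace Cfsg.Agent.S3244

open Subgroup Cfsg.Lib Cfsg.Lib.BG Cfsg.Lib.Transfer

theorem aux {G : Type*} [Group G] [Finite G] [IsSimpleGroup G] (hG : ¬ IsMulCommutative G)
    (h1 : ∀ M M' : Subgroup G, IsMaximalTwoLocal M → IsMaximalTwoLocal M' → ∃ g : G, M' = g ⋆ M) :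
    ∃ M : Subgroup G, IsMaximalTwoLocal M ∧ IsStronglyEmbedded M := by
  have hmax : ∀ T : Subgroup G, IsPGroup 2 T → T ≠ ⊥ → ∃ M, IsMaximalTwoLocal M ∧ 𝐍(T) ≤ M :=
    fun T a b => let ⟨M, c, d⟩ := Finite.exists_le_maximal (p := IsTwoLocal) ⟨T, a, b, rfl⟩
      ⟨M, ⟨d.prop, fun N e f => le_antisymm (d.le_of_ge e f) f⟩, c⟩
  have h2 : 2 ∣ Nat.card (⊤ : Subgroup G) := by
    by_contra e
    rw [card_top] at e
    haveI := Coprime.isSolvable_of_not_two_dvd e
    exact hG ⟨⟨IsSimpleGroup.comm_iff_isSolvable.2 this⟩⟩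
  obtain ⟨S, hS⟩ := Syl.exists 2 (⊤ : Subgroup G)
  obtain ⟨M, hM, hSM⟩ := hmax S hS.pgroup (hS.ne_bot' h2)
  have hS' := hS.of_le ((le_norm S).trans hSM) le_top
  have huniq : ∀ g : G, S ≤ g ⋆ M → g ∈ M := fun g hg => by
    obtain ⟨m, hm, e⟩ := Syl.exists_conj_eq hS' ((hS.conj_top g⁻¹).of_le (le_conj_iff_inv_conj_le.1 hg) le_top)
    have := hSM (norm_of_conj_eq (g := g * m) (by rw [← conj_conj, ← e, conj_inv_conj]))
    exact (mul_mem_cancel_right hm).1 this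
  have key : ∀ (T : Subgroup G) (a b : G), IsPGroup 2 T → T ≠ ⊥ →
      T ≤ a ⋆ M → T ≤ b ⋆ M → a ⋆ M = b ⋆ M := by
    intro T
    induction T using WellFoundedGT.induction with
    | _ T ih => ?_
    intro a b hT h0 ha hb
    by_cases hs : Syl 2 T ⊤
    · obtain ⟨g, -, rfl⟩ := hS.exists_conj_eq hs
      have e : ∀ a : G, g ⋆ S ≤ a ⋆ M → a ⋆ M = g ⋆ M := fun a ha => by
        have := conj_eq_of_mem (huniq (g⁻¹ * a) (by rwa [← conj_conj, ← conj_le_iff_le_inv_conj]))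
        rw [← mul_inv_cancel_left g a, ← conj_conj, this]
      rw [e a ha, e b hb]
    obtain ⟨M', hM', hTM⟩ := hmax T hT h0
    obtain ⟨c, rfl⟩ := h1 M M' hM hM'
    have e : ∀ a : G, T ≤ a ⋆ M → a ⋆ M = c ⋆ M := fun a ha => by
      obtain ⟨P, hP, hTP⟩ := Syl.exists_ge hT ha
      have hlt := nil_norm_grow hP.nil (lt_of_le_of_ne hTP fun e => hs
        (Syl.of_card_le' hS hT le_top (by
          rw [e, ← card_conj a S, (hS'.conj a).card_eq hP])))
      exact ih _ hlt a c (pgroup_of_le hP.pgroup inf_le_left)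
        (ne_bot_mono h0 hlt.le) (inf_le_left.trans hP.le) (inf_le_right.trans hTM)
    rw [e a ha, e b hb]
  refine ⟨M, hM, Inv.se_iff.2 ⟨?_, even_iff_two_dvd.2 ((pgroup_dvd_card hS.pgroup (hS.ne_bot' h2)).trans
    (card_dvd hS'.le)), fun t g ht h3 h4 => ?_⟩⟩
  · obtain ⟨T, a, b, e⟩ := hM.1
    rintro rfl
    haveI := normalizer_eq_top_iff.1 e.symm
    have := (IsSimpleGroup.eq_bot_or_eq_top_of_normal T this).resolve_left b
    haveI : Group.IsNilpotent G := (a.of_equiv ((MulEquiv.subgroupCongr this).trans topEquiv)).isNilpotent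
    exact hG ⟨⟨IsSimpleGroup.comm_iff_isSolvable.2 inferInstance⟩⟩
  · have := key (zpowers (g * t * g⁻¹)) 1 g
      (Inv.isPGroup_zpowers_of_mul_self (Inv.mul_self_of_orderOf (by rw [Inv.orderOf_conj', ht])))
      (by simpa using Inv.ne_one_of_orderOf ht) (by rw [conj_one]; simpa using h4) (zpowers_le.2 (conj_mem_conj.2 h3))
    exact huniq g (by rw [← this, conj_one]; exact hS'.le)


theorem cyc_uniq {X : Type*} [Group X] [Finite X] (h : IsCyclic X) {a b : X} (ha : orderOf a = 2)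
    (hb : orderOf b = 2) : a = b := by
  classical
  haveI := Fintype.ofFinite X
  have := IsCyclic.card_orderOf_eq_totient (α := X) (d := 2) (ha ▸ orderOf_dvd_card)
  rw [Nat.totient_two, Finset.card_eq_one] at this
  obtain ⟨c, hc⟩ := this
  have h1 : a ∈ ({c} : Finset X) := hc ▸ by simp [ha]
  have h2 : b ∈ ({c} : Finset X) := hc ▸ by simp [hb]
  rw [Finset.mem_singleton] at h1 h2
  rw [h1, h2]

theorem cent_eq {G : Type*} [Group G] {t : G} (ht : orderOf t = 2) : 𝐍(zpowers t) = 𝐂[t] := by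
  refine le_antisymm (fun g hg => mem_cent1.2 ?_) (cent_zpowers t ▸ cent_le_norm _)
  obtain ⟨k, hk⟩ := mem_zpowers_iff.1 (conj_mem_of_norm hg (mem_zpowers t))
  have h2 := Inv.mul_self_of_orderOf ht
  rcases Int.even_or_odd' k with ⟨m, rfl | rfl⟩
  · rw [zpow_mul, zpow_two, h2, one_zpow] at hk
    exact absurd (by simpa using hk.symm) (Inv.ne_one_of_orderOf ht)
  · rw [zpow_add, zpow_mul, zpow_two, h2, one_zpow, one_mul, zpow_one] at hk
    rw [← mul_inv_eq_iff_eq_mul]; exact hk.symm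

theorem loc {G : Type*} [Group G] [Finite G] (hc : IsCharacteristicTwoType G) {M : Subgroup G}
    (hM : IsMaximalTwoLocal M) (hz : IsCyclic ↥(center ↥(pCore 2 ↥M))) :
    ∃ (t : G) (P : Subgroup G), orderOf t = 2 ∧ M = 𝐂[t] ∧ Syl 2 P ⊤ ∧ t ∈ 𝐙(P) ∧
      ∀ s ∈ 𝐙(P), orderOf s = 2 → s = t := by
  obtain ⟨T, hT, h0, e⟩ := hM.1
  have h2 : IsOfCharacteristicTwo M := e ▸ hc.2 T hT h0
  set Q := (pCore 2 M).map M.subtype with hQ
  have hQM : Q ≤ M := Core.pCoreOf_le 2 M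
  have hQn : M ≤ 𝐍(Q) := Core.le_normalizer_pCoreOf 2 M
  have hQ2 : IsPGroup 2 Q := Core.pCoreOf_isPGroup 2 M
  have hTQ : T ≤ Q := Core.le_pCoreOf (e ▸ le_norm T) e.le hT
  have u : ∀ a ∈ M ⊓ 𝐂(Q), ∀ b ∈ M ⊓ 𝐂(Q), orderOf a = 2 → orderOf b = 2 → a = b := by
    have k : ∀ a ∈ M ⊓ 𝐂(Q), ∃ x : center ↥(pCore 2 ↥M), ((x : pCore 2 ↥M) : M) = a := fun a ha => by
      have h3 : (⟨a, ha.1⟩ : M) ∈ centralizer (pCore 2 M : Set M) := fun y hy =>
        Subtype.ext (mem_cent.1 ha.2 y ⟨y, hy, rfl⟩)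
      exact ⟨⟨⟨_, h2 h3⟩, mem_center_iff.2 fun y => Subtype.ext (h3 y y.2)⟩, rfl⟩
    intro a ha b hb h3 h4
    obtain ⟨x, rfl⟩ := k a ha
    obtain ⟨y, rfl⟩ := k b hb
    rw [cyc_uniq hz (a := x) (b := y) (by simpa only [orderOf_coe] using h3) (by simpa only [orderOf_coe] using h4)]
  obtain ⟨P, hP, hQP⟩ := Syl.exists_ge hQ2 hQM
  have hZ : 𝐙(P) ≤ M ⊓ 𝐂(Q) := inf_le_inf hP.le (cent_anti hQP)
  have hP0 : P ≠ ⊥ := ne_bot_mono h0 (hTQ.trans hQP)
  obtain ⟨t, ht, ht2⟩ := Inv.exists_involution_mem_of_even (H := 𝐙(P)) (even_iff_two_dvd.2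
    (pgroup_dvd_card (pgroup_of_le hP.pgroup inf_le_left) (center_ne_bot_of_nil hP.nil hP0)))
  have hMt : M ≤ 𝐂[t] := fun m hm => mem_cent1.2 (by
    rw [← mul_inv_eq_iff_eq_mul]
    exact u _ (conj_mem_of_norm (norm_inf (le_norm M) (norm_cent hQn) hm) (hZ ht)) _ (hZ ht)
      (by rw [Inv.orderOf_conj', ht2]) ht2)
  have hE : M = 𝐂[t] := (hM.2 _ ⟨zpowers t, Inv.isPGroup_zpowers_of_mul_self (Inv.mul_self_of_orderOf ht2),
    by simpa using Inv.ne_one_of_orderOf ht2, (cent_eq ht2).symm⟩ hMt).symm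
  have hu : ∀ s ∈ 𝐙(P), orderOf s = 2 → s = t := fun s hs h => u _ (hZ hs) _ (hZ ht) h ht2
  refine ⟨t, P, ht2, hE, hP.of_norm_le le_top fun g hg => ?_, ht, hu⟩
  rw [hE, mem_cent1, ← mul_inv_eq_iff_eq_mul]
  exact hu _ (conj_mem_of_norm (norm_center (le_refl _) hg.2) ht) (by rw [Inv.orderOf_conj', ht2])

/-- Say that a finite group G is of characteristic 2 type in the early sense when a Sylow 2-subgroup S of G has a self-centralizing normal subgroup of rank at least 3, S normalizes no nontrivial subgroup of odd order, and every 2-local subgroup of G is 2-constrained. If G is a non-abelian simple group of characteristic 2 type in this sense, then for some maximal 2-local subgroup M of G the centre of O₂(M) is not cyclic. -/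
theorem result {G : Type*} [Group G] [Finite G] [IsSimpleGroup G]
    (hG : ¬ IsMulCommutative G) (S : Sylow 2 G) (A : Subgroup G) (hA : Cfsg.IsSCN (S : Subgroup G) A) (hA3 : ¬ Cfsg.PRankLE 2 2 ↥A)
    (hinv : ∀ X : Subgroup G, Odd (Nat.card ↥X) → (S : Subgroup G) ≤ Subgroup.normalizer (X : Set G) → X = ⊥)
    (hcon : ∀ T : Subgroup G, IsPGroup 2 ↥T → T ≠ ⊥ → Cfsg.IsPConstrained 2 ↥(Subgroup.normalizer (T : Set G))) :
    ∃ M : Subgroup G, Cfsg.IsMaximalTwoLocal M ∧ ¬ IsCyclic ↥(Subgroup.center ↥(Cfsg.pCore 2 ↥M)) := by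
  by_contra hcon'
  push Not at hcon'
  have hA3' := hA3
  simp only [PRankLE, not_forall, not_le] at hA3'
  obtain ⟨E₀, hE₀, hE₀2, hE₀c⟩ := hA3'
  have hAab : A ≤ 𝐂(A) := hA.2.2.ge.trans inf_le_right
  let E : Subgroup (S : Subgroup G) :=
    { carrier := {s | (s : G) ∈ A ∧ (s : G) ^ 2 = 1}
      one_mem' := ⟨A.one_mem, by simp⟩
      mul_mem' := fun {a b} ha hb => ⟨A.mul_mem ha.1 hb.1, by
        rw [coe_mul, Commute.mul_pow (le_cent_iff.1 hAab _ ha.1 _ hb.1), ha.2, hb.2, one_mul]⟩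
      inv_mem' := fun {a} ha => ⟨A.inv_mem ha.1, by rw [coe_inv, inv_pow, ha.2, inv_one]⟩ }
  haveI : E.Normal := ⟨fun a ha g => ⟨conj_mem_of_norm (hA.2.1 g.2) ha.1, by
    simp only [coe_mul, coe_inv, conj_pow, ha.2, mul_one, mul_inv_cancel]⟩⟩
  have hE4 : 2 ^ 2 < Nat.card E := hE₀c.trans_le (Nat.card_le_card_of_injective
    (fun x : E₀ => (⟨⟨((x : A) : G), hA.1 (x : A).2⟩, (x : A).2, by
      simpa using congrArg Subtype.val (hE₀2 _ x.2)⟩ : E)) fun x y h => by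
        apply Subtype.ext; apply Subtype.ext; simpa using h)
  have hE8 : 8 ≤ Nat.card E := by
    obtain ⟨k, hk⟩ := (S.isPGroup'.to_subgroup E).exists_card_eq
    rw [hk] at hE4 ⊢
    exact Nat.pow_le_pow_right (n := 2) (by norm_num) (show 3 ≤ k from
      (Nat.pow_lt_pow_iff_right (by norm_num)).1 hE4)
  have hEab : IsMulCommutative E :=
    ⟨⟨fun a b => Subtype.ext (Subtype.ext (le_cent_iff.1 hAab _ a.2.1 _ b.2.1))⟩⟩
  have h4 := S0502.result S.isPGroup' E hEab (fun e he => Subtype.ext he.2) hE8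
  have h3 : ¬ PRankLE 2 2 G := fun h => by
    have := h (E.map (S : Subgroup G).subtype) (abelian_map _ hEab) (by
      rintro _ ⟨e, he, rfl⟩; exact he.2)
    rw [card_map_of_injective (subtype_injective _)] at this
    omega
  have hc := S0504.result h3 (Sig.oddCore_eq_bot_of_simple hG) (by
    rintro ⟨t, ht, h⟩
    have := hcon _ (Inv.isPGroup_zpowers_of_mul_self (Inv.mul_self_of_orderOf ht))
      (by simpa using Inv.ne_one_of_orderOf ht)
    rw [cent_eq ht] at this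
    exact Comp.pLayer_eq_bot_iff_not_hasComponent.1 (Comp.isPConstrained_iff_pLayer_eq_bot.1 this) h) S h4
  obtain ⟨M, hM, hse⟩ := aux hG fun M M' hM hM' => by
    obtain ⟨t, P, ht, rfl, hP, htP, hu⟩ := loc hc hM (hcon' M hM)
    obtain ⟨t', P', ht', rfl, hP', htP', hu'⟩ := loc hc hM' (hcon' M' hM')
    obtain ⟨g, -, rfl⟩ := hP.exists_conj_eq hP'
    refine ⟨g, ?_⟩
    rw [conj_cent1, hu' (g * t * g⁻¹) _ (by rw [Inv.orderOf_conj', ht])]
    rw [← conj_centralizer, ← conj_inf]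
    exact conj_mem_conj.2 htP
  obtain ⟨t, P, ht, rfl, hP, htP, -⟩ := loc hc hM (hcon' M hM)
  have huniq : ∀ s ∈ P, orderOf s = 2 → s = t := fun s hs h => by
    obtain ⟨c, hc1, hc2⟩ := Inv.se_exists_conj_mem hse ht h (self_mem_cent1 t)
      (le_cent1_iff.2 htP.2 hs)
    rw [← hc2, mem_cent1.1 hc1, mul_inv_cancel_right]
  obtain ⟨g, -, hg⟩ := hP.exists_conj_le S.isPGroup' le_top
  have : Nat.card E ≤ Nat.card Bool := by
    classical
    refine Nat.card_le_card_of_injective (fun x : E => decide (x = 1)) fun x y h => ?_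
    by_cases hx : x = 1
    · simpa [hx, eq_comm] using h
    have hy : y ≠ 1 := by simpa [hx] using h
    have k : ∀ x : E, x ≠ 1 → g * ((x : (S : Subgroup G)) : G) * g⁻¹ = t := fun x hx =>
      huniq _ (hg (conj_mem_conj.2 (x : (S : Subgroup G)).2)) (by
        rw [Inv.orderOf_conj']
        exact Inv.orderOf_eq_two_iff.2 ⟨by simpa using hx, by rw [← sq]; exact x.2.2⟩)
    have := (k x hx).trans (k y hy).symm
    apply Subtype.ext; apply Subtype.ext; simpa using this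
  simp at this
  omega

end Cfsg.Agent.S3244
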