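import Cfsg.Statements.S3254
import Cfsg.Agent.Lib.Cyc.PTwo2
import Cfsg.Agent.Lib.CharDeg.Rank3
import Cfsg.Agent.Lib.OddChar.SelfFour
import Cfsg.Agent.Lib.PSL2.Maximal
import Cfsg.Agent.Lib.Unitary.U3
import Cfsg.Agent.Lib.Small.Fix2
import Cfsg.Agent.S0222
import Cfsg.Agent.S0254
import Cfsg.Agent.S0992

set_option autoImplicit false
open Cfsg

namespace Cfsg.Agent.S3254

open Cfsg.Lib.Cyc Cfsg.Lib.Char Cfsg.Lib.Small Cfsg.Lib.PermChar Cfsg.Lib.Transfer Subgroup Finset
open MulAction Cfsg.Lib.CharDeg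
open scoped MatrixGroups ComplexConjugate

variable {G Ω : Type*} [Group G] [Finite G] [MulAction G Ω] {p : ℕ} {s x : G}

theorem exists_invol {g : G} (h1 : g ≠ 1) {T : Sylow 2 G} (hg : g ∈ (T : Subgroup G)) :
    ∃ k : ℕ, orderOf (g ^ k) = 2 := by
  obtain ⟨n, hn⟩ := T.isPGroup'.exists_card_eq
  obtain ⟨_ | j, -, hj⟩ := (Nat.dvd_prime_pow Nat.prime_two).1 (hn ▸ orderOf_dvd_natCard _ hg)
  · exact (h1 (orderOf_eq_one_iff.1 hj)).elim
  refine ⟨2 ^ j, ?_⟩
  rw [orderOf_pow_of_dvd (by positivity) (hj ▸ pow_dvd_pow 2 j.le_succ), hj, pow_succ',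
    Nat.mul_div_cancel _ (by positivity)]

theorem syl [Fintype Ω] [IsSimpleGroup G] (hG : ¬ IsMulCommutative G) (h2 : 2 ∣ Nat.card G)
    (hΩ : Odd (Nat.card Ω)) (h3 : ∀ s : G, orderOf s = 2 → (fixedBy Ω s).ncard = 3)
    (hc : ∀ s u : G, orderOf s = 2 → orderOf u = 2 → IsConj s u) (T : Sylow 2 G) :
    (Nat.card T : ℤ) ∣ 2 * (Nat.card Ω - 3) ∧ ((Nat.card T : ℤ) ∣ Nat.card Ω - 3 ∨
      (∃ a b m, Lib.Inv.MC (T : Subgroup G) a b m 0 0) ∨ 16 ∣ Nat.card T ∧ ∃ a b : Ω,
        (∀ c, c ≠ a → c ∈ orbit (stabilizer G a) b) ∨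
          b ≠ a ∧ Nat.card T ∣ Nat.card (orbit (stabilizer G a) b)) := by
  classical
  have hπ : IsCharacter G (pc G Ω) := isCharacter_card_fixedBy Ω
  have hd : charDegree (pc G Ω) = Nat.card Ω := Nat.cast_injective (R := ℂ) (by
    rw [← hπ.apply_one_eq, pc, fixedBy_one_eq_univ, Nat.card_univ])
  obtain ⟨α, hα⟩ := T.isPGroup'.nonempty_fixed_point_of_prime_not_dvd_card Ω
    (Nat.two_dvd_ne_zero.2 (Nat.odd_iff.1 hΩ))
  replace hα : ∀ g ∈ (T : Subgroup G), g • α = α := fun g hg => hα ⟨g, hg⟩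
  have := (T : Subgroup G).nontrivial_iff_ne_bot.2 (T.ne_bot_of_dvd_card h2)
  have := T.isPGroup'.center_nontrivial
  obtain ⟨⟨s₀, hs₀⟩, h4⟩ := exists_ne (1 : center T)
  obtain ⟨k, hs⟩ := exists_invol (g := (s₀ : G)) (by simpa using h4) s₀.2
  have h5 : ∀ g ∈ (T : Subgroup G), g * (s₀ : G) ^ k = s₀ ^ k * g := fun g hg =>
    congrArg Subtype.val (mem_center_iff.1 (pow_mem hs₀ k) ⟨g, hg⟩)
  have hsT : (s₀ : G) ^ k ∈ (T : Subgroup G) := pow_mem s₀.2 k
  generalize (s₀ : G) ^ k = s at hs h5 hsT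
  have two : ∀ u : G, orderOf u = 2 → ∀ a b c d : Ω, u • a = a → u • b = b → u • c = c → u • d = d →
      a ≠ b → a ≠ c → b ≠ c → d ≠ a → d = b ∨ d = c := fun u hu a b c d ha hb hc hd h1 h2 h4 h5 => by
    have := Set.eq_of_subset_of_ncard_le (s := {a, b, c}) (t := fixedBy Ω u) (by
      simp [Set.insert_subset_iff, *]) (by
        rw [h3 u hu, Set.ncard_eq_three.2 ⟨a, b, c, h1, h2, h4, rfl⟩])
    simpa [h5] using this.ge (show d ∈ fixedBy Ω u from hd)
  obtain ⟨β, β', hβ, h6⟩ := Set.ncard_eq_two.1 (show (fixedBy Ω s \ {α}).ncard = 2 by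
    rw [Set.ncard_sdiff_singleton_of_mem (show α ∈ fixedBy Ω s from hα s hsT), h3 s hs])
  obtain ⟨h7, h8⟩ := h6.ge (Set.mem_insert ..)
  obtain ⟨h9, h10⟩ := h6.ge (Set.mem_insert_of_mem _ (Set.mem_singleton _))
  have h11 : ∀ g ∈ (T : Subgroup G), ∀ c, s • c = c → c ≠ α → g • c = β ∨ g • c = β' :=
    fun g hg c h11 h12 => h6.le ⟨show s • g • c = _ by rw [← mul_smul, ← h5 g hg, mul_smul, h11],
      fun e => h12 (smul_left_cancel g (e.trans (hα g hg).symm))⟩
  have h12 : ∀ g ∈ (T : Subgroup G), g • β = β → g • β' = β' := fun g hg e =>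
    (h11 g hg β' h9 h10).resolve_left fun e' => hβ (smul_left_cancel g (e.trans e'.symm))
  have h13 : ∀ g ∈ (T : Subgroup G), g • β = β → g ≠ 1 → ∀ c, g • c = c → c ≠ α →
      c = β ∨ c = β' := fun g hg e h1 c h13 h14 => by
    obtain ⟨k, hk⟩ := exists_invol h1 hg
    have : ∀ c : Ω, g • c = c → g ^ k • c = c := fun c hc => pow_mem (show g ∈ stabilizer G c from hc) k
    exact two _ hk α β β' c (this _ (hα g hg)) (this _ e) (this _ (h12 g hg e)) (this _ h13)
      (Ne.symm h8) (Ne.symm h10) hβ h14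
  have h14 : ∀ g ∈ (T : Subgroup G), ∀ u ∈ (T : Subgroup G), g • β ≠ β → u • β ≠ β →
      (u⁻¹ * g) • β = β := fun g hg u hu h1 h2 => by
    rw [mul_smul, inv_smul_eq_iff, (h11 g hg β h7 h8).resolve_left h1,
      (h11 u hu β h7 h8).resolve_left h2]
  set T₀ := (T : Subgroup G) ⊓ stabilizer G β with hT₀
  have h15 := card_mul_fixDim_of_const (A := T₀) hπ (c := 3) fun g hg h1 => by
    rw [pc, Nat.card_coe_set_eq, show fixedBy Ω g = {α, β, β'} from Set.ext fun c =>
      ⟨fun hc => or_iff_not_imp_left.2 (h13 g hg.1 hg.2 h1 c hc), by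
        rintro (rfl | rfl | rfl); exacts [hα g hg.1, hg.2, h12 g hg.1 hg.2]⟩,
      Set.ncard_eq_three.2 ⟨_, _, _, Ne.symm h8, Ne.symm h10, hβ, rfl⟩]
    simp
  have h16 : Nat.card T ∣ 2 * Nat.card T₀ := by
    have h16 : T₀.relIndex T ≤ 2 := by
      rw [hT₀, inf_relIndex_left]
      exact ((index_stabilizer T β).le.trans (Set.ncard_le_ncard
        fun _ ⟨g, e⟩ => e ▸ h11 g g.2 β h7 h8)).trans (Set.ncard_pair hβ).le
    have h17 : T₀.relIndex T ≠ 0 := index_ne_zero_of_finite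
    rw [← card_mul_relIndex (inf_le_left : T₀ ≤ T), mul_comm 2]
    exact mul_dvd_mul_left _ (by interval_cases T₀.relIndex T <;> simp_all)
  rw [hd] at h15
  have h17 : (Nat.card T₀ : ℤ) ∣ Nat.card Ω - 3 := ⟨fixDim (pc G Ω) T₀ - 3, by linarith⟩
  refine ⟨(Int.natCast_dvd_natCast.2 h16).trans (by push_cast; exact mul_dvd_mul_left _ h17), ?_⟩
  by_cases h18 : ∃ u ∈ (T : Subgroup G), u • β ≠ β ∧ ∃ γ, γ ≠ α ∧ u • γ = γ
  swap
  · have h19 := card_mul_fixDim_of_const' hπ (inf_le_left : T₀ ≤ T) (c := 1) fun g hg h1 => by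
      rw [pc, Nat.card_coe_set_eq, show fixedBy Ω g = {α} from Set.ext fun c => ⟨fun hc =>
        by_contra fun e => h18 ⟨g, hg, fun e => h1 ⟨hg, e⟩, c, e, hc⟩, fun e => e ▸ hα g hg⟩]
      simp
    obtain ⟨c, hc⟩ := Int.natCast_dvd_natCast.2 h16
    exact .inl ⟨fixDim (pc G Ω) T - 1 - c, by push_cast at hc; linarith⟩
  obtain ⟨u, hu, h18, γ, h19, h20⟩ := h18
  have h21 : γ ≠ β := fun e => h18 (e ▸ h20)
  have h22 : γ ≠ β' := fun e => hβ (smul_left_cancel u
    (((h11 u hu β h7 h8).resolve_left h18).trans (e ▸ h20.symm)))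
  have h23 : ∀ g ∈ (T : Subgroup G), g • γ = γ → g = 1 ∨ g = u := fun g hg e => by
    by_cases h : g • β = β
    · exact .inl (by_contra fun h1 => (h13 g hg h h1 γ e h19).elim h21 h22)
    · exact .inr (inv_mul_eq_one.1 (by_contra fun h1 => (h13 _ (mul_mem (inv_mem hu) hg)
        (h14 g hg u hu h h18) h1 γ (by rw [mul_smul, e, inv_smul_eq_iff, h20]) h19).elim h21 h22)).symm
  have h24 : u ≠ 1 := by rintro rfl; exact h18 (one_smul ..)
  have h25 : FourGen u s := ⟨h24, by rintro rfl; simp at hs, by rintro rfl; exact h18 h7,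
    (h23 _ (mul_mem hu hu) (by rw [mul_smul, h20, h20])).resolve_right (by simpa using h24),
    by rw [← pow_two, ← hs, pow_orderOf_eq_one], h5 u hu⟩
  have h26 : s • γ ≠ γ := fun e => (h23 s hsT e).elim h25.ne_one' h25.ne.symm
  rcases Lib.OddChar.dih_or_qd hG (h25.four_le_iff.2 ⟨hu, hsT⟩) h25.card_four (fun c hc => by
      have h27 := (h25.mem_centralizer_iff.1 hc.2).1
      rcases two u h25.orderOf_eq α γ (s • γ) (c • γ) (hα u hu) h20
        (by rw [← mul_smul, h25.comm, mul_smul, h20]) (by rw [← mul_smul, ← h27.eq, mul_smul, h20])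
        h19.symm (fun e => h19 (smul_left_cancel s (e.symm.trans (hα s hsT).symm))) h26.symm
        (fun e => h19 (smul_left_cancel c (e.trans (hα c hc.1).symm))) with e | e
      · rcases h23 c hc.1 e with rfl | rfl
        exacts [one_mem _, h25.left_mem]
      · rw [← mul_mem_cancel_left (inv_mem h25.right_mem)]
        rcases h23 _ (mul_mem (inv_mem hsT) hc.1) (by rw [mul_smul, e, inv_smul_smul]) with e | e <;>
          rw [e]
        exacts [one_mem _, h25.left_mem]) with h27 | ⟨a, b, n, h27⟩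
  · exact .inr (.inl h27)
  have h28 : 16 ∣ Nat.card T := h27.card_eq ▸ ⟨2 ^ n, by ring⟩
  refine .inr (.inr ⟨h28, α, ?_⟩)
  by_cases h29 : ∀ c, c ≠ α → c ∈ orbit (stabilizer G α) β
  · exact ⟨β, .inl h29⟩
  push Not at h29
  obtain ⟨c, h29, h30⟩ := h29
  have hT : (T : Subgroup G) ≤ stabilizer G α := hα
  refine ⟨c, .inr ⟨h29, ?_⟩⟩
  obtain ⟨m, hm⟩ := T.isPGroup'.exists_card_eq
  have h31 := card_dvd_of_le hT
  rw [← card_mul_index (stabilizer (stabilizer G α) c), index_stabilizer, ← Nat.card_coe_set_eq] at h31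
  refine Nat.Coprime.dvd_of_dvd_mul_left (hm ▸ (Nat.prime_two.coprime_iff_not_dvd.2
    fun e => ?_).pow_left m) h31
  obtain ⟨v, hv, h32⟩ := exists_mem_orderOf_eq_prime Nat.prime_two e
  obtain ⟨g, hg⟩ := isConj_iff.1 (hc s v hs ((orderOf_coe v).trans h32))
  have h33 : ∀ d : Ω, (v : G) • d = d → ∀ y ∈ g ⋆ T₀, y • d = d := fun d hd y ⟨w, hw, e⟩ => by
    have h33 : s • g⁻¹ • d = g⁻¹ • d := by rwa [← hg, mul_smul, mul_smul, smul_eq_iff_eq_inv_smul] at hd
    have h34 : w • g⁻¹ • d = g⁻¹ • d := by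
      by_cases h : g⁻¹ • d = α
      · rw [h, hα w hw.1]
      · rcases h6.le ⟨h33, h⟩ with h | h <;> rw [h]
        exacts [hw.2, h12 w hw.1 hw.2]
    rw [← e]
    simp [mul_smul, h34]
  obtain ⟨h, hh, h34⟩ := exists_conj_le_of_not_dvd_relIndex' (p := 2) (T := T) (H := stabilizer G α)
    (Q := g ⋆ T₀) (fun e => T.not_dvd_index (e.trans (relIndex_dvd_index_of_le hT)))
    ((T.isPGroup'.to_le inf_le_left).map _) fun y hy => h33 α v.2 y hy
  have h35 : Nat.card ↥(h ⋆ g ⋆ T₀) ≤ 2 := by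
    refine (Nat.card_le_card_of_injective (β := ({β, β'} : Set Ω))
      (fun y => ⟨y.1 • β, h11 _ (h34 y.2) β h7 h8⟩) fun y z e => Subtype.ext (inv_mul_eq_one.1
        (by_contra fun h1 => ?_))).trans (Set.ncard_pair hβ).le
    obtain ⟨w, hw, e'⟩ := mul_mem (inv_mem y.2) z.2
    rcases h13 _ (h34 ⟨w, hw, e'⟩) (by rw [mul_smul, inv_smul_eq_iff]; exact (Subtype.mk.inj e).symm)
      h1 (h • c) (by simp [← e', mul_smul, h33 c hv w hw])
      (fun e => h29 (smul_left_cancel h (e.trans hh.symm))) with e | e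
    · exact h30 ⟨⟨h, hh⟩⁻¹, inv_smul_eq_iff.2 e.symm⟩
    · exact h30 ⟨⟨h, hh⟩⁻¹ * ⟨u, hT hu⟩, by
        simp only [mul_smul]
        exact inv_smul_eq_iff.2 (((h11 u hu β h7 h8).resolve_left h18).trans e.symm)⟩
  rw [card_map_of_injective (MulAut.conj h).injective, card_map_of_injective (MulAut.conj g).injective]
    at h35
  have := Nat.le_of_dvd (Nat.mul_pos two_pos Nat.card_pos) (h28.trans h16)
  omega

omit [Finite G] in
theorem isConj_of_inv (hx : Odd (orderOf x)) (hC : centralizer ({x} : Set G) = zpowers x) {u v : G}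
    (hu : u * x * u⁻¹ = x⁻¹) (hv : v * x * v⁻¹ = x⁻¹) : IsConj u v := by
  obtain ⟨k, hk⟩ : u⁻¹ * v ∈ zpowers x := hC ▸ mem_centralizer_singleton_iff.2 (by
    rw [mul_assoc, mul_inv_eq_iff_eq_mul.1 hv, ← hu]; group)
  obtain ⟨m, hm⟩ := hx
  have h1 : (x ^ (k * (m + 1))) * (x ^ (k * (m + 1))) = u⁻¹ * v := by
    rw [← hk, ← zpow_add, show k * (m + 1) + k * (m + 1) = (2 * m + 1 : ℕ) * k + k by push_cast; ring,
      zpow_add, zpow_mul, zpow_natCast, ← hm, pow_orderOf_eq_one, one_zpow, one_mul]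
  have h2 : u * x ^ (k * (m + 1)) * u⁻¹ = (x ^ (k * (m + 1)))⁻¹ := by rw [← conj_zpow, hu, inv_zpow]
  refine isConj_iff.2 ⟨(x ^ (k * (m + 1)))⁻¹, ?_⟩
  rw [inv_inv, ← h2, inv_mul_cancel_right, mul_assoc, h1, mul_inv_cancel_left]

theorem pairs (hs : orderOf s = 2) (hx : Odd (orderOf x))
    (hC : centralizer ({x} : Set G) = zpowers x) :
    ∃ M : ℕ, (M = 0 ∨ M = orderOf x ∧ ∃ u, IsConj s u ∧ u * x * u⁻¹ = x⁻¹) ∧
      Nat.card G * ∑ χ : IrrCharacter G, (χ : G → ℂ) s * (χ : G → ℂ) x / (χ : G → ℂ) 1 *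
        conj ((χ : G → ℂ) s) = (Nat.card (centralizer ({s} : Set G)) : ℂ) ^ 2 * M := by
  classical
  have := Fintype.ofFinite G
  have h1 : ∀ u : G, IsConj s u → u⁻¹ = u := fun u hu => inv_eq_of_mul_eq_one_right (by
    rw [← pow_two, ← hs, orderOf_eq_of_isConj hu, pow_orderOf_eq_one])
  have h2 : ∀ u : G, IsConj s u → IsConj s (u * x) → u * x * u⁻¹ = x⁻¹ := fun u h h' => by
    rw [← h1 _ h', mul_inv_rev, h1 u h, mul_assoc, mul_eq_one_iff_eq_inv.2 (h1 u h).symm, mul_one]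
  refine ⟨#{u | IsConj s u ∧ IsConj s (u * x)}, or_iff_not_imp_left.2 fun h => ?_, ?_⟩
  · obtain ⟨u, hu⟩ := card_ne_zero.1 h
    obtain ⟨h3, h4⟩ := (mem_filter.1 hu).2
    refine ⟨?_, u, h3, h2 u h3 h4⟩
    rw [← Nat.card_zpowers, ← hC, ← card_conj_fiber (isConj_iff.2 ⟨u, h2 u h3 h4⟩),
      Nat.card_eq_fintype_card, Fintype.card_subtype]
    refine congrArg _ (filter_congr fun v _ => ⟨fun h => h2 v h.1 h.2, fun h => ?_⟩)
    exact ⟨h3.trans (isConj_of_inv hx hC (h2 u h3 h4) h), h3.trans (isConj_of_inv hx hC (h2 u h3 h4)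
      (by rw [← h]; group))⟩
  have h3 := sum_conj_eq_card_centralizer_mul (fun y => classIndicator s (y * x)) s
  rw [mul_sum, sum_congr rfl fun (χ : IrrCharacter G) _ => by
      rw [← mul_assoc, mul_div_assoc', ← mul_assoc, ← χ.2.sum_conj_mul, sum_mul], sum_comm,
    sum_congr rfl fun g _ => sum_irr_mul_conj _ s, ← mul_sum, h3, pow_two, mul_assoc]
  rw [← filter_filter, card_filter (fun u => IsConj s (u * x)), Nat.cast_sum]
  congr 2
  exact sum_congr rfl fun y _ => by rw [classIndicator]; split_ifs <;> simp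

theorem not_sixty [IsSimpleGroup G] (hG : Nat.card G = 60) {H : Subgroup G} (hH : IsCoatom H) :
    H.index ≠ 15 := fun h => by
  have h1 := not_isMulCommutative_of_simple (G := G) (by rw [hG]; decide)
  have h2 : Nat.card H = 2 ^ 2 := by have := H.card_mul_index; rw [h] at this; omega
  let T : Sylow 2 G := (IsPGroup.of_card h2).toSylow (by omega)
  have : IsMulCommutative T := IsPGroup.isMulCommutative_of_card_eq_prime_sq h2
  refine card_sylow_ne_index h1 (by omega) T (T.card_eq_index_normalizer.trans (congrArg _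
    ((hH.le_iff.1 le_normalizer).resolve_left (normalizer_ne_top_of_simple ?_ hH.1))))
  rintro rfl
  simp at h2

open Cfsg.Lib.PSL2 in
theorem psl' {F : Type*} [Field F] [Finite F] (hF : 4 ≤ Nat.card F) (hp : p.Prime) (h3 : 3 < p)
    {x : PSL(2, F)} (hx : orderOf x = p)
    (hN : Nat.card (normalizer ((zpowers x : Subgroup PSL(2, F)) : Set PSL(2, F))) = 2 * p)
    {H : Subgroup PSL(2, F)} (hH : IsCoatom H) (hi : H.index = 3 * p) : p = 5 ∧ Nat.card F = 9 := by
  obtain ⟨l, _⟩ := CharP.exists F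
  have := Fact.mk (CharP.char_is_prime F l)
  have h1 := card_PSL2_mul (K := F)
  have h2 := gcd_cases F
  have h4 : zpowers x ≠ ⊥ := by rw [Ne, zpowers_eq_bot]; rintro rfl; simp at hx; omega
  rw [← H.card_mul_index, hi, sq_sub_one_eq] at h1
  have h5 : Nat.gcd 2 (Nat.card F - 1) * p + 1 = Nat.card F ∨
      Nat.gcd 2 (Nat.card F - 1) * p = Nat.card F + 1 := by
    rcases exists_unipL_or_torusL (AlgebraicClosure F) (mt zpowers_eq_bot.2 h4) with
      ⟨y, hy⟩ | ⟨a, b, m, h5, h6⟩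
    · have h5 := card_le_of_le (centralizer_le_normalizer ((zpowers x : Subgroup _) : Set PSL(2, F)))
      have h6 := card_dvd_of_le (centralizer_le_normalizer ((zpowers x : Subgroup _) : Set PSL(2, F)))
      rw [centralizer_zpowers, centralizer_of_mem_unipL hy (mt zpowers_eq_bot.2 h4), card_unipL, hN]
        at h5 h6
      obtain rfl := hx.symm.trans (orderOf_of_mem_unipL l hy (mt zpowers_eq_bot.2 h4))
      obtain ⟨n, -, hn⟩ := exists_card_eq_pow (F := F) p
      have h7 : Nat.card F = p := le_antisymm (Nat.le_of_dvd hp.pos ((hn ▸ ((Nat.coprime_primes hp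
        Nat.prime_two).2 (by omega)).pow_left n).dvd_of_dvd_mul_left h6))
        (Nat.le_of_dvd (by omega) (char_dvd_card p))
      have h8 := card_stabilizerL_mul y
      rw [← normalizer_unipL, ← eq_of_le_of_card_ge (zpowers_le.2 hy) (by
        rw [card_unipL, Nat.card_zpowers, hx, h7]), hN, h7] at h8
      have h9 := hp.eq_two_or_odd
      rw [h7] at h2 h1
      rw [(h2.resolve_right (by omega)).2] at h8 h1
      obtain rfl : p = 5 := by
        have : 4 = p - 1 := Nat.eq_of_mul_eq_mul_left hp.pos (by linarith)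
        omega
      have := isSimpleGroup_psl hF
      exact (not_sixty (by rw [← H.card_mul_index, hi]; omega) hH hi).elim
    · have h7 := h5.card_dihL_mul
      rw [← normalizer_of_le_torusL h5.1 (zpowers_le.2 h6) h4, hN] at h7
      rcases h5.2 with ⟨-, -, rfl⟩ | ⟨-, -, rfl⟩
      · exact .inl (by rw [show _ * p = Nat.card F - 1 by linarith]; omega)
      · exact .inr (by linarith)
  have h6 := char_dvd_card (F := F) l
  have hl := (CharP.char_is_prime F l).two_le
  have h7 : 3 * Nat.card H = Nat.card F * (Nat.card F + 1) ∨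
      3 * Nat.card H = Nat.card F * (Nat.card F - 1) := h5.imp (fun e => Nat.eq_of_mul_eq_mul_left
        (show 0 < Nat.card F - 1 by omega) (by
          nth_rw 1 [show Nat.card F - 1 = _ from Nat.sub_eq_of_eq_add e.symm]; linarith))
      fun e => Nat.eq_of_mul_eq_mul_left (show 0 < Nat.card F + 1 by omega) (by
          nth_rw 1 [← e]; linarith)
  have h8 : Nat.card F ∣ 3 * Nat.card H := by rcases h7 with e | e <;> exact e ▸ dvd_mul_right ..
  obtain ⟨n, -, hn⟩ := exists_card_eq_pow (F := F) l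
  rcases dickson_psl_proper (AlgebraicClosure F) l hH.1 with ⟨y, h⟩ | ⟨a, b, m, h, h9⟩ |
    ⟨-, h | ⟨rfl, h⟩, -⟩ | ⟨k, c, h, h9⟩
  · rw [← (hH.le_iff.1 h).resolve_left (stabilizerL_ne_top y), index_stabilizerL] at hi
    rcases h2 with ⟨-, e⟩ | ⟨-, e⟩ <;> rw [e] at h5 <;> omega
  · have h10 : Nat.card F ∣ 6 * m := h8.trans (by
      rw [show 6 * m = 3 * (2 * m) by ring, ← h.card_dihL_mul]
      exact mul_dvd_mul_left 3 ((card_dvd_of_le h9).mul_left _))
    have h11 := Nat.le_of_dvd (by norm_num) ((hn ▸ ((Nat.Prime.coprime_iff_not_dvd Fact.out).2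
      (h.not_char_dvd l)).pow_left n).dvd_of_dvd_mul_right h10)
    have h12 := ((hn ▸ ((Nat.Prime.coprime_iff_not_dvd Fact.out).2
      (h.not_char_dvd l)).pow_left n).dvd_of_dvd_mul_right h10)
    have := card_ne_six_etc (F := F)
    generalize Nat.card F = r at *
    interval_cases r <;> omega
  · have := Nat.le_of_dvd (by norm_num) ((hn ▸ h.symm.pow_left n).dvd_of_dvd_mul_right h8)
    omega
  · rw [h] at h7
    have : Nat.card F ≤ 14 := by rcases h7 with e | e <;> nlinarith [Nat.sub_add_cancel (by omega : 1 ≤ Nat.card F)]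
    generalize Nat.card F = r at *
    interval_cases r <;> omega
  obtain ⟨_ | j, h10, h11⟩ := exists_card_eq_pow_of_ne_top h
  · omega
  have h12 := h8.trans (mul_dvd_mul_left 3 (card_le_of_le_range (le_range_of_subfield h9).2))
  have h13 : 1 < Nat.card k := Finite.one_lt_card
  rw [h11, pow_succ', mul_left_comm, Nat.mul_dvd_mul_iff_left (by omega)] at h12
  have h14 := Nat.Coprime.dvd_of_dvd_mul_right (((show (Nat.card k ^ 2).Coprime _ from
    (Nat.coprime_self_sub_right (Nat.one_le_pow 2 _ (by omega))).2 (by simp)).coprime_dvd_left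
      (dvd_pow_self _ two_ne_zero)).pow_left j) h12
  have h15 : Nat.card k ^ j = 3 := ((Nat.dvd_prime Nat.prime_three).1 h14).resolve_left
    (Nat.one_lt_pow (by omega) h13).ne'
  obtain ⟨h16, rfl⟩ := (Nat.prime_three.pow_eq_iff).1 h15
  rw [h16] at h11
  rw [h11] at h5 ⊢
  have := hp.eq_two_or_odd
  simp at h5 ⊢
  omega

omit [Finite G] in
theorem psl {F : Type*} [Field F] [Fintype F] (hF : 4 ≤ Fintype.card F) (φ : G ≃* PSL(2, F))
    (hp : p.Prime) (h3 : 3 < p) (hx : orderOf x = p)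
    (hN : Nat.card (normalizer ((zpowers x : Subgroup G) : Set G)) = 2 * p)
    {H : Subgroup G} (hH : IsCoatom H) (hi : H.index = 3 * p) :
    p = 5 ∧ Nonempty (G ≃* alternatingGroup (Fin 6)) := by
  obtain ⟨h1, h2⟩ := psl' (x := φ x) (Nat.card_eq_fintype_card (α := F) ▸ hF) hp h3
    ((φ.orderOf_eq x).trans hx) (by
      rw [← hN, ← show (zpowers x).map φ.toMonoidHom = zpowers (φ x) from MonoidHom.map_zpowers ..,
        ← map_equiv_normalizer_eq, card_map_of_injective φ.injective]) (H := H.map φ.toMonoidHom)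
    ((φ.mapSubgroup.isCoatom_iff H).2 hH) ((index_map_equiv ..).trans hi)
  obtain ⟨f⟩ := Agent.S0254.result (Nat.card_eq_fintype_card.symm.trans h2)
  exact ⟨h1, ⟨φ.trans f⟩⟩

theorem ad {v j i u A B c : ℕ} (hu : Odd u) (hB : Odd B) (hc : c ∣ 2 ^ v * u)
    (h : 2 ^ v * u * A = 2 ^ i * B * c ^ 2) (hj : 2 ^ j ∣ A) : j ≤ v + i := by
  obtain ⟨w, d, hd, rfl⟩ := Nat.exists_eq_two_pow_mul_odd (n := c) (by
    rintro rfl; simp [hu.pos.ne'] at hc)
  have h1 := (Nat.pow_dvd_pow_iff_le_right one_lt_two).1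
    ((hu.coprime_two_left.pow_left w).dvd_of_dvd_mul_right ((dvd_mul_right _ _).trans hc))
  have h2 : 2 ^ (v + j) ∣ 2 ^ (i + 2 * w) * (B * d ^ 2) := by
    rw [show _ * (B * d ^ 2) = 2 ^ v * u * A by rw [h]; ring, pow_add]
    exact mul_dvd_mul (dvd_mul_right ..) hj
  have := (Nat.pow_dvd_pow_iff_le_right one_lt_two).1
    (((hB.mul hd.pow).coprime_two_left.pow_left _).dvd_of_dvd_mul_right h2)
  omega

theorem arith {p l r s : ℤ} (hp : 5 ≤ p) (h8 : 8 ∣ p - 1) (h16 : 16 ∣ l) (hl : 0 < l)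
    (h1 : l + p * r + (2 * p - 1) * s = 0)
    (h2 : l ^ 2 + p * r ^ 2 + (2 * p - 1) * s ^ 2 = 3 * p * l) : False := by
  obtain ⟨j, rfl⟩ : ∃ j, r = -j - 2 * s := ⟨-r - 2 * s, by ring⟩
  obtain rfl : l = s + p * j := by linarith
  have h3 : p * (j * (3 - j)) = 6 * s ^ 2 + 6 * s * j + j ^ 2 - 3 * s :=
    mul_left_cancel₀ (show p ≠ 0 by omega) (by linear_combination -h2)
  have h4 : j * (j - 3) < 4 := by nlinarith [sq_nonneg (4 * s + 2 * j - 1)]
  have h5 : -1 < j := by nlinarith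
  have h6 : j < 4 := by nlinarith
  interval_cases j
  · have : s * (2 * s - 1) = 0 := by linarith
    rcases mul_eq_zero.1 this with e | e <;> omega
  · obtain ⟨k, rfl⟩ : ∃ k, s = 8 * k - 1 := ⟨(s + 1) / 8, by omega⟩
    ring_nf at h3
    omega
  · obtain ⟨k, rfl⟩ : ∃ k, s = 16 * k - 2 := ⟨(s + 2) / 16, by omega⟩
    ring_nf at h3
    omega
  · have : (2 * s + 3) * (s + 1) = 0 := by linarith
    rcases mul_eq_zero.1 this with e | e <;> omega

set_option maxHeartbeats 1600000 in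
theorem prim [Fintype Ω] [IsSimpleGroup G] [IsPretransitive G Ω] [hp : Fact p.Prime]
    (hG : ¬ IsMulCommutative G) (h3 : 3 < p) (hΩ : Nat.card Ω = 3 * p) (P : Sylow p G)
    (hP : Nat.card P = p) (hn : ¬ (P : Subgroup G).Normal)
    (hN : Nat.card (normalizer ((P : Subgroup G) : Set G)) = 2 * p)
    (hH : ∀ a : Ω, IsCoatom (stabilizer G a)) :
    p = 5 ∧ Nonempty (G ≃* alternatingGroup (Fin 6)) := by
  classical
  have := Fintype.ofFinite G
  have hc := commutator_eq_top_of_simple hG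
  have ho := hp.out.eq_two_or_odd
  obtain ⟨⟨α⟩, -⟩ := Nat.card_pos_iff.1 (show 0 < Nat.card Ω by omega)
  obtain ⟨x, hxP, hx⟩ := exists_mem_orderOf_eq_prime hp.out hP.symm.dvd
  have hPx := eq_zpowers_of_card hP hxP fun e => by rw [e, orderOf_one] at hx; omega
  have hi : ∀ a : Ω, (stabilizer G a).index = 3 * p := fun a =>
    (index_stabilizer_of_transitive G a).trans hΩ
  have fin := fun (F : Type) [Field F] [Fintype F] hF (φ : G ≃* PSL(2, F)) =>
    psl hF φ hp.out h3 hx (hPx ▸ hN) (hH α) (hi α)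
  have h1 := card_sylow_mul_card_normalizer P
  obtain ⟨T⟩ : Nonempty (Sylow 2 G) := inferInstance
  have gw : ∀ a b m, Lib.Inv.MC (T : Subgroup G) a b m 0 0 →
      p = 5 ∧ Nonempty (G ≃* alternatingGroup (Fin 6)) := fun a b m h => by
    rcases Lib.GW.gorenstein_walter h with ⟨F, _, _, -, h2, ⟨φ⟩⟩ | ⟨⟨φ⟩⟩
    · exact fin F h2 φ
    obtain ⟨n, h2⟩ := exists_card_sylow_eq (p := p) (G := G)
    rw [Nat.card_congr φ.toEquiv, nat_card_alternatingGroup, Nat.card_fin, h2, hN] at h1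
    have h4 : p ≤ 7 := hp.out.dvd_factorial.1 ⟨4 * (n * p + 1), by
      simp [Nat.factorial] at h1 ⊢; linarith⟩
    simp [Nat.factorial] at h1
    interval_cases p <;> omega
  have h2 : 2 ∣ Nat.card G := by rw [← h1, hN]; exact (dvd_mul_right ..).mul_left _
  by_cases h8 : 8 ∣ Nat.card G
  swap
  · obtain ⟨a, b, h⟩ := Lib.Inv.exists_mc_of_k4 (S0992.result hG (even_iff_two_dvd.2 h2) h8 T).1
    exact gw a b 0 h
  obtain ⟨v, hv⟩ := T.isPGroup'.exists_card_eq
  have hT := (T : Subgroup G).card_mul_index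
  have hu : Odd (T : Subgroup G).index := Nat.odd_iff.2 (Nat.two_dvd_ne_zero.1 T.not_dvd_index)
  have hv3 : 3 ≤ v := (Nat.pow_dvd_pow_iff_le_right one_lt_two).1
    ((hu.coprime_two_left.pow_left 3).dvd_of_dvd_mul_right (hv ▸ hT ▸ h8))
  have h4 := two_le_relIndex hc P hP
  have h5 := card_mul_relIndex (centralizer_le_normalizer ((P : Subgroup G) : Set G))
  have h6 := hP ▸ card_le_of_le (le_centralizer_of_isCyclic (isCyclic_of_prime_card hP) le_rfl)
  obtain ⟨t, S, Y, a, δ, h⟩ := exists_pb P hP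
  generalize relIndex (G := G) _ _ = e at h h4 h5
  obtain rfl : e = 2 := by nlinarith only [h3, h4, h5, h6, hN]
  have hC : Nat.card (centralizer ({x} : Set G)) = p := by
    rw [← centralizer_zpowers, ← hPx]; omega
  have hC' := centralizer_eq_zpowers hx hC
  have hxo : Odd (orderOf x) := Nat.odd_iff.2 (by omega)
  obtain ⟨ξ, h7⟩ := card_eq_one.1 (show #(S.erase (irrOne G)) = 1 by have := h.card_erase; omega)
  obtain ⟨h9, h10⟩ := mem_erase.1 (h7.ge (mem_singleton_self ξ))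
  have h11 := one_lt_charDegree hc h9
  have h12 : ∀ θ ∈ Y, ∀ g, ¬ p ∣ orderOf g → 1 + a ξ * (ξ : G → ℂ) g + δ * (θ : G → ℂ) g = 0 :=
    fun θ hθ g hg => by simpa only [h7, sum_singleton] using h.reg' hθ hg
  obtain ⟨θ, hθ⟩ := h.nonempty
  have h13 := h.sum_deg' hθ
  rw [h7, sum_singleton] at h13
  have h14 := θ.2.charDegree_pos
  obtain rfl : δ = -a ξ := by
    rcases h.sign with rfl | rfl <;> rcases h.signS ξ h10 with e | e <;> rw [e] at h13 ⊢ <;> omega
  have ha : a ξ * a ξ = 1 := by rcases h.signS ξ h10 with e | e <;> simp [e]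
  have hz : (charDegree (θ : G → ℂ) : ℤ) = charDegree (ξ : G → ℂ) + a ξ := by
    linear_combination -a ξ * h13 - ((charDegree (θ : G → ℂ) : ℤ) - charDegree (ξ : G → ℂ)) * ha
  have hf : ∀ χ : IrrCharacter G, χ ≠ irrOne G → ∀ g, (χ : G → ℂ) g = (χ : G → ℂ) 1 → g = 1 :=
    fun χ hχ g hg => by
      rw [← mem_bot, ← χ.2.charKer_eq_bot_of_isSimpleGroup fun e => hχ (Subtype.ext e)]
      exact χ.2.isCharacter.mem_charKer_iff.2 hg
  have key : ∀ s : G, orderOf s = 2 → ∃ y : ℤ, (ξ : G → ℂ) s = y ∧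
      Nat.card G * (charDegree (ξ : G → ℂ) - y) ^ 2 = p * charDegree (ξ : G → ℂ) *
        charDegree (θ : G → ℂ) * (Nat.card (centralizer ({s} : Set G)) : ℤ) ^ 2 ∧
      ∃ u, IsConj s u ∧ u * x * u⁻¹ = x⁻¹ := fun s hs => by
    obtain ⟨y, hy⟩ := ξ.2.isGeneralizedCharacter.exists_int_of_sq_eq_one (hs ▸ pow_orderOf_eq_one s)
    obtain ⟨M, h15, h16⟩ := pairs hs hxo hC'
    have h17 : ¬ p ∣ orderOf s := hs ▸ Nat.not_dvd_of_pos_of_lt two_pos (by omega)
    have ha' : (a ξ * a ξ : ℂ) = 1 := by exact_mod_cast ha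
    have h18 : ∀ η ∈ Y, (η : G → ℂ) s = (y + a ξ : ℤ) := fun η hη => by
      have := h12 η hη s h17
      push_cast at this ⊢
      linear_combination -a ξ * this - ((η : G → ℂ) s - (ξ : G → ℂ) s) * ha' + hy
    rw [h.sum_eq, sum_eq_zero (s := (S ∪ Y)ᶜ) fun χ hχ => by
        rw [h.apply_eq_zero hx hC (fun e => by simp [e] at hχ) fun e => by simp [e] at hχ]; simp,
      sum_congr (s₁ := Y) rfl (g := fun η => (y + a ξ : ℤ) ^ 2 / (θ : G → ℂ) 1 * (η : G → ℂ) x)
        fun η hη => by rw [h18 η hη, h.reg_eq hθ hη h.not_dvd_one, map_intCast]; ring, ← mul_sum,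
      h.singY x hx.symm.dvd, ← add_sum_erase _ _ h.one_mem, h7, sum_singleton,
      h.singS ξ h10 x hx.symm.dvd, hy, map_intCast, ξ.2.apply_one_eq, θ.2.apply_one_eq] at h16
    have h19 : (charDegree (θ : G → ℂ) : ℂ) = charDegree (ξ : G → ℂ) + a ξ := by exact_mod_cast hz
    have h20 : (charDegree (θ : G → ℂ) : ℂ) ≠ 0 := Nat.cast_ne_zero.2 h14.ne'
    have h21 : (charDegree (ξ : G → ℂ) : ℂ) ≠ 0 := Nat.cast_ne_zero.2 (by omega)
    have h22 : Nat.card G * (charDegree (ξ : G → ℂ) - y) ^ 2 = M * charDegree (ξ : G → ℂ) *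
        charDegree (θ : G → ℂ) * (Nat.card (centralizer ({s} : Set G)) : ℂ) ^ 2 := by
      simp only [coe_irrOne, map_one] at h16
      push_cast at h16
      field_simp at h16
      rw [h19] at h16 ⊢
      linear_combination h16 + Nat.card G * (charDegree (ξ : G → ℂ) * (2 * y + a ξ) - y ^ 2) * ha'
    rcases h15 with rfl | ⟨h15, h23⟩
    · rw [Nat.cast_zero, zero_mul, zero_mul, zero_mul, mul_eq_zero, sq_eq_zero_iff, sub_eq_zero] at h22
      rw [hf ξ h9 s (by rw [hy, ← h22.resolve_left (card_ne_zero_complex G), ξ.2.apply_one_eq]),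
        orderOf_one] at hs
      omega
    · exact ⟨y, hy, by rw [h15, hx] at h22; exact_mod_cast h22, h23⟩
  have hconj : ∀ s u : G, orderOf s = 2 → orderOf u = 2 → IsConj s u := fun s u hs hu => by
    obtain ⟨-, -, -, s', h15, h16⟩ := key s hs
    obtain ⟨-, -, -, u', h17, h18⟩ := key u hu
    exact (h15.trans (isConj_of_inv hxo hC' h16 h18)).trans h17.symm
  obtain ⟨s, -, hs⟩ := exists_mem_orderOf_eq_prime (H := ⊤) Nat.prime_two (card_top (G := G) ▸ h2)
  obtain ⟨y, hy, hE, u, h15, h16⟩ := key s hs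
  have hval : ∀ χ, IsCharacter G χ → ∀ c : ℤ, χ s = c → ∃ f ≤ fixDim χ P,
      2 * (f : ℤ) = fixDim χ P + c := fun χ hχ c hχs => by
    have h17 : u ∈ normalizer ((P : Subgroup G) : Set G) := hPx ▸ mem_normalizer_fintype fun _ ⟨k, e⟩ =>
      ⟨-k, by simp only [← e, ← conj_zpow, h16, zpow_neg, inv_zpow]⟩
    have h18 : ∀ w ∈ (P : Subgroup G), w * x * w⁻¹ = x := fun w hw =>
      mul_inv_eq_iff_eq_mul.2 (mem_centralizer_singleton_iff.1 (hC' ▸ hPx ▸ hw))
    have h19 : u ∉ (P : Subgroup G) := fun e => by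
      have := orderOf_dvd_of_pow_eq_one (show x ^ 2 = 1 by
        rw [pow_two, mul_eq_one_iff_eq_inv, ← h16, h18 u e])
      exact Nat.not_dvd_of_pos_of_lt two_pos (by omega) this
    have h20 := card_mul_relIndex (le_normalizer (H := (P : Subgroup G)))
    have h21 := card_mul_fixDim_of_const' hχ (le_normalizer (H := (P : Subgroup G))) (c := c)
      fun g hg h21 => by
        have h22 : u⁻¹ * g ∈ (P : Subgroup G) := (mul_mem_iff_of_index_two (H := P.1.subgroupOf _)
          (Nat.eq_of_mul_eq_mul_left hp.out.pos (by rw [hN, hP] at h20; linarith!))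
          (a := ⟨u, h17⟩⁻¹) (b := ⟨g, hg⟩)).2 (iff_of_false (fun e => h19 (inv_mem_iff.1 e)) h21)
        rw [← hχs, hχ.isClassFunction.eq_of_isConj (h15.trans (isConj_of_inv hxo hC' h16 (v := g) (by
          rw [← h16]; nth_rw 2 [← h18 _ h22]; group)))]
    refine ⟨_, fixDim_le hχ le_normalizer, mul_left_cancel₀ (Nat.cast_ne_zero.2 hp.out.ne_zero) ?_⟩
    rw [hN, hP] at h21
    push_cast at h21
    linear_combination h21
  have hπ : IsCharacter G (pc G Ω) := isCharacter_card_fixedBy Ω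
  have hd : charDegree (pc G Ω) = 3 * p := Nat.cast_injective (R := ℂ) (by
    rw [← hπ.apply_one_eq, pc, fixedBy_one_eq_univ, Nat.card_univ, hΩ])
  have h0 : ∀ g : G, p ∣ orderOf g → pc G Ω g = 0 := fun g hg => by
    rw [pc, Nat.cast_eq_zero, Nat.card_eq_zero]
    refine .inl ⟨fun y => P.not_dvd_index ((Nat.mul_dvd_mul_iff_left hp.out.pos).1 ?_)⟩
    rw [show p * (P : Subgroup G).index = Nat.card G by rw [← card_mul_index P.1, hP],
      ← card_mul_index (stabilizer G y.1), hi]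
    exact mul_dvd_mul (hg.trans (orderOf_dvd_natCard _ y.2)) (dvd_mul_left ..)
  have h17 := card_mul_fixDim_of_const (A := P) hπ (c := 0) fun g hg h17 =>
    (h0 g (orderOf_eq_of_card hP hg h17).symm.dvd).trans Int.cast_zero.symm
  have h18 : fixDim (pc G Ω) P = 3 := by
    rw [hP, hd] at h17
    exact Nat.eq_of_mul_eq_mul_left hp.out.pos (by push_cast at h17; zify; linarith)
  obtain ⟨f, h19, h20⟩ := hval _ hπ (Nat.card (fixedBy Ω s)) (Int.cast_natCast _).symm
  have h21 : ∀ w : G, orderOf w = 2 → (fixedBy Ω w).ncard = Nat.card (fixedBy Ω s) := fun w hw =>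
    Nat.cast_injective (R := ℂ) (hπ.isClassFunction.eq_of_isConj (hconj w s hw hs))
  rcases (show Nat.card (fixedBy Ω s) = 1 ∨ Nat.card (fixedBy Ω s) = 3 by omega) with h22 | h22
  · have h23 : ∀ w : G, orderOf w = 2 → ∀ b c : Ω, w • b = b → w • c = c → b = c :=
      fun w hw b c hb hc => (Set.ncard_le_one_iff (Set.toFinite _)).1 ((h21 w hw).trans h22).le hb hc
    rcases S0222.result (by by_contra! e; exact hG ⟨⟨e⟩⟩) (stabilizer G α) ⟨(hH α).1, by
        rw [← card_mul_index (stabilizer G α), hi] at h2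
        exact even_iff_two_dvd.2 ((Nat.prime_two.dvd_mul.1 h2).resolve_right (by omega)),
      fun g hg => Nat.not_even_iff_odd.1 fun e => by
        obtain ⟨w, ⟨h24, k, hk, rfl⟩, hw⟩ := exists_mem_orderOf_eq_prime Nat.prime_two e.two_dvd
        exact hg (h23 _ hw _ _ (by simpa [mul_smul] using hk) h24)⟩ with
      ⟨F, _, _, -, h24, ⟨φ⟩⟩ | ⟨-, m, -, h24⟩ | ⟨F, _, _, q, h24, h25, h26, ⟨φ⟩⟩
    · exact fin F h24 φ
    · have h25 : 3 ∣ Nat.card G := (dvd_mul_right 3 p).trans (hi α ▸ index_dvd_card _)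
      have h26 : 2 ^ (2 * m + 1) % 3 = 2 := by rw [pow_succ, pow_mul]; simp [Nat.mul_mod, Nat.pow_mod]
      obtain ⟨k, hk⟩ : ∃ k, 2 ^ (2 * m + 1) = 3 * k + 2 := ⟨2 ^ (2 * m + 1) / 3, by omega⟩
      rw [h24, hk, show 3 * k + 2 - 1 = 3 * k + 1 from rfl] at h25
      ring_nf at h25
      omega
    obtain ⟨σ, hσ⟩ := Lib.Unitary.exists_isBar h24
    have h27 := hσ.card_PSU_three
    obtain ⟨l, _⟩ := CharP.exists F
    obtain ⟨n, hl, h28⟩ := FiniteField.card F l
    obtain ⟨j, -, rfl⟩ := (Nat.dvd_prime_pow hl).1 (h28 ▸ h24 ▸ dvd_pow_self q two_ne_zero)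
    obtain rfl := Nat.prime_eq_prime_of_dvd_pow Nat.prime_two hl h25.two_dvd
    rw [← Nat.card_congr φ.toEquiv] at h27
    obtain ⟨β, hβ⟩ := T.isPGroup'.nonempty_fixed_point_of_prime_not_dvd_card Ω (by omega)
    have h29 := card_mul_fixDim_of_const (A := T) hπ (c := 1) fun g hg h29 => by
      obtain ⟨k, hk⟩ := exists_invol h29 hg
      rw [pc, Nat.card_coe_set_eq, show fixedBy Ω g = {β} from Set.ext fun c => ⟨fun hc => h23 _ hk _ _
        (pow_mem (show g ∈ stabilizer G c from hc) k) (hβ ⟨_, pow_mem hg k⟩), fun e => e ▸ hβ ⟨g, hg⟩⟩]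
      simp
    have h30 : (2 ^ j) ^ 3 ∣ Nat.card T := (((Odd.mul (Odd.of_dvd_nat (by decide)
      (Nat.gcd_dvd_left 3 (2 ^ j + 1))) hu).coprime_two_left.pow_left j).pow_left 3).dvd_of_dvd_mul_left
        ⟨_, by rw [← h27, ← hT]; ring⟩
    have h31 := Int.le_of_dvd (by omega) ((Int.natCast_dvd_natCast.2 h30).trans
      (show _ ∣ (3 * p - 1 : ℤ) from ⟨fixDim (pc G Ω) T - 1, by rw [hd] at h29; push_cast at h29; linarith⟩))
    have h32 : p ∣ _ := h27 ▸ (hP ▸ card_subgroup_dvd_card P.1).mul_left _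
    generalize 2 ^ j = q at *
    obtain ⟨r, rfl⟩ := Nat.exists_eq_add_of_le' (show 1 ≤ q by omega)
    rw [show (r + 1) ^ 2 - 1 = r * (r + 2) from Nat.sub_eq_of_eq_add (by ring),
      show (r + 1) ^ 3 + 1 = (r + 2) * (r ^ 2 + r + 1) by ring] at h32
    simp only [hp.out.dvd_mul, hp.out.prime.dvd_pow_iff_dvd three_ne_zero] at h32
    have h33 : p ≤ r ^ 2 + r + 1 := by
      rcases h32 with e | (e | e) | e | e <;> have := Nat.le_of_dvd (by omega) e <;>
        nlinarith only [this, h26]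
    push_cast at h31
    nlinarith only [mul_le_mul_of_nonneg_right (show (3 : ℤ) ≤ r by omega) (sq_nonneg (r : ℤ)), h31,
      h33, h26]
  obtain ⟨h23, h24⟩ := syl hG h2 (hΩ ▸ Nat.odd_iff.2 (by omega)) (fun w hw => (h21 w hw).trans h22)
    hconj T
  rw [or_left_comm] at h24
  refine h24.elim (fun ⟨a, b, m, h⟩ => gw a b m h) fun h24 => ?_
  obtain ⟨j, m, hm, hj⟩ := Nat.exists_eq_two_pow_mul_odd (n := p - 1) (by omega)
  have h25 : ∀ i k, ((2 ^ i : ℕ) : ℤ) ∣ (2 ^ k : ℕ) * (Nat.card Ω - 3) → i ≤ k + j := fun i k e => by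
    rw [show ((2 ^ k : ℕ) * (Nat.card Ω - 3) : ℤ) = (2 ^ (k + j) * (3 * m) : ℕ) by
      rw [hΩ, show p = 2 ^ j * m + 1 by omega]; push_cast; ring, Int.natCast_dvd_natCast] at e
    exact (Nat.pow_dvd_pow_iff_le_right one_lt_two).1
      (((Odd.mul (by decide) hm).coprime_two_left.pow_left i).dvd_of_dvd_mul_right e)
  rw [hv] at h23 h24 hT
  have h26 := h25 v 1 h23
  have h27 : 8 ∣ p - 1 := hj ▸ (pow_dvd_pow 2 (show 3 ≤ j from h24.elim
    (fun e => hv3.trans (by simpa using h25 v 0 (by simpa using e))) fun e => by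
      have := (Nat.pow_dvd_pow_iff_le_right (k := 4) one_lt_two).1 e.1; omega)).mul_right m
  have hi1 := inner_pc_one_of_trans (G := G) α
  have hone : IsIrrCharacter G fun _ => 1 := (irrOne G).2
  obtain ⟨n, hn'⟩ := hπ.exists_inner_eq_nat ξ.2.isCharacter
  have h28 : ∀ θ ∈ Y, 1 + a ξ * n + (-a ξ : ℤ) * classInner (pc G Ω) θ = 0 := fun θ hθ => by
    have : classInner (pc G Ω)
        (fun g => 1 + a ξ * (ξ : G → ℂ) g + (-a ξ : ℤ) * (θ : G → ℂ) g) = 0 := by
      rw [classInner_def, sum_eq_zero fun g _ => ?_, mul_zero]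
      by_cases hg : p ∣ orderOf g
      · rw [h0 g hg, zero_mul]
      · rw [h12 θ hθ g hg, map_zero, mul_zero]
    rw [← this, ← hn']
    nth_rw 1 [← hi1]
    simp only [classInner_def, map_add, map_mul, map_intCast, mul_sum, ← sum_add_distrib]
    exact sum_congr rfl fun g _ => by ring
  have h29 := h.modS h10
  have h30 := h.mul
  rcases h.signS ξ h10 with e | e <;> rw [e] at h28 h29 hz
  · have h31 := sum_charDegree_le_of_constituents hπ Y fun η hη h31 => by
      have := h28 η hη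
      rw [h31] at this
      norm_cast at this
      omega
    rw [h.sum_degY hθ fun d => d] at h31
    have := Int.le_of_dvd (by omega) h29
    have : 4 * (p + 2) ≤ t * charDegree (θ : G → ℂ) := Nat.mul_le_mul (by omega) (by omega)
    omega
  obtain ⟨k, hk⟩ := hπ.exists_inner_eq_nat θ.2.isCharacter
  have h31 := h28 θ hθ
  rw [hk] at h31
  norm_cast at h31
  have h32 := Lib.Cyc.eq_sum_of_constituents hπ {ξ, irrOne G} (fun _ => 1) fun η hη => by
    rcases mem_insert.1 hη with rfl | hη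
    · rw [hn']; simp; omega
    · rw [mem_singleton.1 hη, coe_irrOne, hi1]
      simp
  simp only [sum_pair h9, Nat.cast_one, one_smul, coe_irrOne] at h32
  set ψ := pc G Ω - (ξ.1 + fun _ => 1) with hψ
  have h33 : charDegree ψ + charDegree (ξ : G → ℂ) + 1 = 3 * p := Nat.cast_injective (R := ℂ) (by
    push_cast
    rw [← h32.apply_one_eq, ← ξ.2.apply_one_eq, hψ, Pi.sub_apply, hπ.apply_one_eq, hd]
    simp only [Pi.add_apply, Nat.cast_mul, Nat.cast_ofNat]
    ring)
  have h34 := h.fixS h10 hP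
  obtain ⟨c, h35⟩ := h29
  have h36 : 0 < c := lt_of_mul_lt_mul_left (a := (p : ℤ)) (by omega) (by omega)
  have h37 : c < 4 := lt_of_mul_lt_mul_left (a := (p : ℤ)) (by omega) (by omega)
  have h38 := card_subgroup_dvd_card (centralizer ({s} : Set G))
  rw [← hT] at h38 hE
  interval_cases c
  · obtain ⟨b, F, _, _, h39, h40, ⟨φ⟩⟩ := equiv_sl_of_deg (θ := θ) hc P hP hn
      ((center G).normal_of_characteristic.eq_bot_or_eq_top.resolve_right
        fun e => hn (normal_of_le_center' (e ▸ le_top))) (hf θ (h.ne_one hθ)) (by omega)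
    obtain ⟨f⟩ := Lib.PSL2.equiv_sl_psl_of_even (F := F) (by
      rw [Nat.card_eq_fintype_card, Nat.odd_iff]; omega)
    exact fin F (by omega) (φ.trans f)
  · obtain ⟨f, h39, h40⟩ := hval _ ξ.2.isCharacter y hy
    have h41 : (fixDim (ξ : G → ℂ) P : ℤ) = 1 := mul_left_cancel₀ (Nat.cast_ne_zero.2 hp.out.ne_zero)
      (by rw [h34, e]; linarith)
    rw [hz, show (charDegree (ξ : G → ℂ) : ℤ) = 2 * p - 1 by omega] at hE
    obtain rfl | rfl : y = -1 ∨ y = 1 := by omega
    · have h42 : p ∣ (2 * p - 1) * (2 * p - 2) * Nat.card (centralizer ({s} : Set G)) ^ 2 :=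
        ⟨4 * (2 ^ v * (T : Subgroup G).index), Nat.eq_of_mul_eq_mul_left hp.out.pos (by
          zify [show 1 ≤ 2 * p by omega, show 2 ≤ 2 * p by omega] at hE ⊢; linear_combination -hE)⟩
      simp only [hp.out.dvd_mul, hp.out.prime.dvd_pow_iff_dvd two_ne_zero] at h42
      rcases h42 with (h42 | h42) | h42
      · have := Nat.le_of_dvd (by omega) ((Nat.dvd_sub_iff_right (by omega) (dvd_mul_left ..)).1 h42)
        omega
      · have := Nat.le_of_dvd (by omega) ((Nat.dvd_sub_iff_right (by omega) (dvd_mul_left ..)).1 h42)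
        omega
      obtain ⟨w, hw, h43⟩ := exists_mem_orderOf_eq_prime hp.out h42
      have h44 := Commute.orderOf_mul_eq_mul_orderOf_of_coprime (mem_centralizer_singleton_iff.1 hw)
        (by rw [h43, hs, Nat.coprime_two_right, Nat.odd_iff]; omega)
      have := orderOf_eq_of_selfCent h.toPB0 hx hC (g := w * s) (by rw [h44, h43]; exact dvd_mul_right ..)
      rw [h44, h43, hs] at this
      omega
    have h42 := ad (i := 0) (j := j + 1) (A := 2 * (p - 1)) (B := p * (2 * p - 1)) hu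
      (Odd.mul (Nat.odd_iff.2 (by omega)) (Nat.odd_iff.2 (by omega))) h38
      (Nat.eq_of_mul_eq_mul_left (show 0 < 2 * (p - 1) by omega) (by
        zify [show 1 ≤ 2 * p by omega, show 1 ≤ p by omega] at hE ⊢; linear_combination hE))
      ⟨m, by rw [hj]; ring⟩
    obtain ⟨h43, a₀, b, h44⟩ := h24.resolve_left fun e => by
      have := h25 v 0 (by simpa using e); omega
    have h45 : ¬ ∀ c, c ≠ a₀ → c ∈ orbit (stabilizer G a₀) b := fun h45 => by
      have h46 := (S0157.result Ω (by omega)).2 (is_two_pretransitive_iff.2 fun {a b c d} h1 h2 => by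
        obtain ⟨g, rfl⟩ := exists_smul_eq G a₀ a
        obtain ⟨g', rfl⟩ := exists_smul_eq G a₀ c
        obtain ⟨k, hk⟩ := h45 (g⁻¹ • b) fun e => h1 (inv_smul_eq_iff.1 e).symm
        obtain ⟨k', hk'⟩ := h45 (g'⁻¹ • d) fun e => h2 (inv_smul_eq_iff.1 e).symm
        refine ⟨g' * (k' * k⁻¹ : stabilizer G a₀) * g⁻¹, by
          rw [mul_smul, mul_smul, inv_smul_smul, (k' * k⁻¹).2], ?_⟩
        rw [mul_smul, mul_smul, ← hk, ← eq_inv_smul_iff, ← hk']
        simp [mul_smul, Subgroup.smul_def])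
      have h47 : (pc G Ω - fun _ => 1) = ξ.1 := by_contra fun e => by
        have := (show IsIrrCharacter G (pc G Ω - fun _ => 1) from h46).inner_eq_zero_of_ne ξ.2 e
        rw [classInner_sub_left, hn',
          hone.inner_eq_zero_of_ne ξ.2 fun e => h9 (Subtype.ext e.symm), sub_zero,
          Nat.cast_eq_zero] at this
        omega
      replace h47 := congrFun h47 1
      simp only [Pi.sub_apply, pc] at h47
      simp only [fixedBy_one_eq_univ, Nat.card_univ, hΩ, ξ.2.apply_one_eq, sub_eq_iff_eq_add] at h47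
      norm_cast at h47
      omega
    obtain ⟨h46, h47⟩ := h44.resolve_left h45
    push Not at h45
    obtain ⟨b', h48, h49⟩ := h45
    have h50 : charDegree ψ = p := by omega
    obtain ⟨η, hη, h51⟩ := h32.isClassFunction.exists_irr_inner_ne_zero fun e => by
      have := h32.apply_one_eq
      rw [h50, e, Pi.zero_apply, eq_comm, Nat.cast_eq_zero] at this
      omega
    have h52 := h32.charDegree_le_of_constituent hη h51
    have h53 : p ∣ charDegree η := by_contra fun e => by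
      rcases h.mem_of_not_dvd (χ := ⟨η, hη⟩) hx hC e with e | e
      · by_cases e' : (⟨η, hη⟩ : IrrCharacter G) = irrOne G
        · rw [show η = fun _ => 1 from congrArg Subtype.val e', hψ, classInner_sub_left,
            classInner_add_left, hi1, ξ.2.inner_eq_zero_of_ne hone
              fun e => h9 (Subtype.ext e), hone.inner_self] at h51
          simp at h51
        · rw [show η = ξ.1 from congrArg Subtype.val (mem_singleton.1 (h7.le (mem_erase.2 ⟨e', e⟩)))]
            at h52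
          omega
      · have := h.deg_eq hθ e
        simp only at this
        omega
    obtain ⟨n', hn''⟩ := h32.exists_inner_eq_nat hη.isCharacter
    have h54 := (Lib.Cyc.eq_sum_of_constituents h32 {⟨η, hη⟩} (fun _ => 1) fun η hη => by
      rw [mem_singleton.1 hη, hn'']
      simpa [Nat.one_le_iff_ne_zero, hn''] using h51).eq_zero_of_apply_one (by
        simp [h32.apply_one_eq, hη.apply_one_eq, h50,
          le_antisymm (h50 ▸ h52) (Nat.le_of_dvd hη.charDegree_pos h53)])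
    simp only [sum_singleton, Nat.cast_one, one_smul, sub_eq_zero] at h54
    obtain ⟨r, s, h55, h56⟩ := exists_eig (h54 ▸ hη : IsIrrCharacter G ψ) ξ.2 (by rw [hψ]; abel)
      (by omega) h46 h48 h49 rfl
    rw [h50, show (charDegree (ξ : G → ℂ) : ℤ) = 2 * p - 1 by omega] at h55 h56
    have : Nonempty (orbit (stabilizer G a₀) b) := ⟨⟨b, mem_orbit_self b⟩⟩
    exact (arith (by omega) (by omega) (by exact_mod_cast h43.trans h47)
      (by exact_mod_cast Nat.card_pos) h55 (by rw [h56, hΩ]; simp)).elim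
  have h39 := congrFun (h32.eq_zero_of_apply_one (by
    rw [h32.apply_one_eq, show charDegree ψ = 0 by omega, Nat.cast_zero])) s
  simp only [hψ, Pi.sub_apply, Pi.add_apply, pc, h22, hy, Pi.zero_apply] at h39
  norm_cast at h39
  obtain ⟨d, hd⟩ : ∃ d, p = 8 * d + 1 := ⟨(p - 1) / 8, by omega⟩
  have := ad (i := 1) (j := 2 * j) (A := (3 * (p - 1)) ^ 2) (B := p * ((12 * d + 1) * (24 * d + 1)))
    hu (Odd.mul (Nat.odd_iff.2 (by omega)) (Odd.mul (Nat.odd_iff.2 (by omega))
      (Nat.odd_iff.2 (by omega)))) h38 (by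
        rw [hz, show (charDegree (ξ : G → ℂ) : ℤ) = 24 * d + 2 by omega, show y = 2 by omega] at hE
        rw [show p - 1 = 8 * d by omega]
        zify at hE ⊢
        linear_combination hE) ⟨9 * m ^ 2, by rw [hj]; ring⟩
  have : 3 ≤ j := by
    by_contra e
    interval_cases j <;> rw [Nat.odd_iff] at hm <;> omega
  omega

/-- Let p > 3 be a prime and G a finite non-abelian simple group acting faithfully and transitively on a set Ω of 3p points, such that the normalizer of a Sylow p-subgroup of G has order 2p. If the action is primitive then p = 5 and G ≅ A₆; if it is imprimitive then p = 2^m + 1 for some m and G ≅ PSL₂(2^m). -/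
theorem result {G : Type*} [Group G] [Finite G] [IsSimpleGroup G] (hG : ¬ IsMulCommutative G)
    (p : ℕ) (hp : p.Prime) (hp3 : 3 < p) {Ω : Type*} [Fintype Ω] [MulAction G Ω] [FaithfulSMul G Ω]
    (htr : MulAction.IsPretransitive G Ω) (hΩ : Fintype.card Ω = 3 * p)
    (P : Sylow p G) (hN : Nat.card ↥(Subgroup.normalizer ((P : Subgroup G) : Set G)) = 2 * p) :
    (MulAction.IsPreprimitive G Ω → p = 5 ∧ Nonempty (G ≃* ↥(alternatingGroup (Fin 6)))) ∧
      (¬ MulAction.IsPreprimitive G Ω → ∃ (F : Type) (_ : Field F) (_ : Fintype F) (m : ℕ), Fintype.card F = 2 ^ m ∧ p = 2 ^ m + 1 ∧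
        Nonempty (G ≃* Matrix.ProjectiveSpecialLinearGroup (Fin 2) F)) := by
  have := Fact.mk hp
  have hΩ' := Nat.card_eq_fintype_card.trans hΩ
  have : Nontrivial Ω := Fintype.one_lt_card_iff_nontrivial.1 (by omega)
  obtain ⟨α⟩ : Nonempty Ω := inferInstance
  have hi := (index_stabilizer_of_transitive G α).trans hΩ'
  have h1 := P.ne_bot_of_dvd_card ((dvd_mul_left p 3).trans (hi ▸ index_dvd_card _))
  obtain ⟨hP, -⟩ := card_sylow_of_normalizer (by omega) P h1 hN
  have hn : ¬ (P : Subgroup G).Normal := fun h => (h.eq_bot_or_eq_top.resolve_left h1 |> fun e =>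
    not_prime_card_of_not_isMulCommutative hG (by rwa [← card_top, ← e, hP]))
  refine ⟨fun h => prim hG hp3 hΩ' P hP hn hN fun a => h.isCoatom_stabilizer_of_isPreprimitive G a,
    fun h => ?_⟩
  rw [← isCoatom_stabilizer_iff_preprimitive G α, IsCoatom, not_and] at h
  replace h := h fun e => by rw [e, index_top] at hi; omega
  push Not at h
  obtain ⟨K, h2, h3⟩ := h
  have h4 := relIndex_mul_index h2.le
  have h5 : K.index = p := by
    by_cases h5 : p ∣ K.index
    · obtain ⟨c, hc⟩ := h5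
      rw [hi, hc, mul_left_comm, mul_comm 3, Nat.mul_right_inj hp.ne_zero] at h4
      rcases (Nat.dvd_prime Nat.prime_three).1 (Dvd.intro_left _ h4) with rfl | rfl
      · exact hc.trans (mul_one p)
      · exact absurd (relIndex_eq_one.1 (by omega)) h2.not_ge
    rcases (Nat.dvd_prime Nat.prime_three).1 ((hp.coprime_iff_not_dvd.2 h5).symm.dvd_of_dvd_mul_right
      (hi ▸ Dvd.intro_left _ h4)) with e | e
    · exact absurd (index_eq_one.1 e) h3
    · have := Nat.le_of_dvd (by positivity) (e ▸ two_mul_card_dvd_factorial hG h3)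
      have := Nat.le_of_dvd Nat.card_pos (hi ▸ index_dvd_card _)
      simp [Nat.factorial] at *
      omega
  obtain ⟨m, F, _, _, h6, h7, ⟨φ⟩⟩ := equiv_sl_of_perm (Ω := G ⧸ K) hp3 P hP hn hN (.inl h5)
  obtain ⟨f⟩ := Lib.PSL2.equiv_sl_psl_of_even (F := F) (by
    have := hp.eq_two_or_odd
    rw [Nat.card_eq_fintype_card, Nat.odd_iff]; omega)
  exact ⟨F, _, _, m, h7, h6, ⟨φ.trans f⟩⟩

end Cfsg.Agent.S3254
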