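import Cfsg.Statements.S3947
import Cfsg.Agent.Lib.Flav.ThmA

set_option autoImplicit false
open Cfsg

namespace Cfsg.Agent.S3947

open Subgroup Cfsg.Lib.Core Cfsg.Lib.Transfer Cfsg.Lib.Flav

theorem nc_iff {G : Type*} [Group G] {A H : Subgroup G} (h : A ≤ H) :
    normalClosure ((A.subgroupOf H : Subgroup ↥H) : Set ↥H) = ⊤ ↔
      ∀ N : Subgroup G, A ≤ N → N ≤ H → H ≤ normalizer (N : Set G) → N = H := by
  refine ⟨fun e N h1 h2 h3 => ?_, fun e => ?_⟩
  · have : (N.subgroupOf H).Normal := normal_subgroupOf_of_le_normalizer h3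
    have h4 : normalClosure ((A.subgroupOf H : Subgroup ↥H) : Set ↥H) ≤ N.subgroupOf H :=
      normalClosure_le_normal fun x hx => h1 hx
    rw [e, top_le_iff, subgroupOf_eq_top] at h4
    exact le_antisymm h2 h4
  · set N := normalClosure ((A.subgroupOf H : Subgroup ↥H) : Set ↥H)
    have h1 := e (N.map H.subtype) (by
      rw [← map_subgroupOf_eq_of_le h]
      exact map_mono le_normalClosure) (map_subtype_le _) (by
      rw [← normal_subgroupOf_iff_le_normalizer (map_subtype_le _), subgroupOf_map_subtype_self]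
      infer_instance)
    rw [← subgroupOf_map_subtype_self N, h1, subgroupOf_self]

/-- Let G be a finite group and A a proper subgroup of G whose normal closure is G. Let Y be the join of all proper subgroups H of G that contain A and are generated by their own conjugates of A (the normal closure of A in H is H). Then either Y = G, or A is contained in exactly one maximal subgroup of G. -/
theorem result {G : Type*} [Group G] [Finite G] (A : Subgroup G) (hA : Subgroup.normalClosure (A : Set G) = ⊤) (hAG : A ≠ ⊤) :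
    sSup {H : Subgroup G | A ≤ H ∧ H ≠ ⊤ ∧ Subgroup.normalClosure ((A.subgroupOf H : Subgroup ↥H) : Set ↥H) = ⊤} = ⊤ ∨
      ∃! M : Subgroup G, IsCoatom M ∧ A ≤ M := by
  refine or_iff_not_imp_left.mpr fun hY => ?_
  obtain ⟨M, hM, hYM⟩ := exists_coatom_ge hY
  have hin : ∀ H, A ≤ H → H ≠ ⊤ →
      (∀ N : Subgroup G, A ≤ N → N ≤ H → H ≤ normalizer (N : Set G) → N = H) → H ≤ M :=
    fun H h1 h2 h3 => le_trans (le_sSup (by exact ⟨h1, h2, (nc_iff h1).mpr h3⟩)) hYM
  have hAA : ∀ N : Subgroup G, A ≤ N → N ≤ A → A ≤ normalizer (N : Set G) → N = A :=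
    fun N h1 h2 _ => le_antisymm h2 h1
  refine ⟨M, ⟨hM, hin A le_rfl hAG hAA⟩, fun L ⟨hL, hAL⟩ => ?_⟩
  by_contra hne
  obtain ⟨B, hAB, hB⟩ := Finite.exists_le_maximal (p := fun H : Subgroup G => A ≤ H ∧
    (∀ N : Subgroup G, A ≤ N → N ≤ H → H ≤ normalizer (N : Set G) → N = H) ∧
    ∃ K, IsCoatom K ∧ H ≤ K ∧ K ≠ M) (a := A) ⟨le_rfl, hAA, L, hL, hAL, hne⟩
  obtain ⟨-, hB2, K0, hK0, hBK0, hK0M⟩ := hB.prop
  have hBM : B ≤ M := hin B hAB (fun e => hK0.1 (top_le_iff.mp (e ▸ hBK0))) hB2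
  refine not_full (A := B) (M := M) (fun K hK hBK hKM => ?_) ⟨K0, M, hK0, hM, hK0M, hBK0, hBM⟩
    ((full_iff.mpr hA).mono hAB)
  obtain ⟨T, -, hT⟩ := Finite.exists_le_minimal (p := fun T : Subgroup G => B ≤ T ∧ SubnormalIn T K)
    (a := K) ⟨hBK, .refl K⟩
  obtain ⟨hBT, hTK⟩ := hT.prop
  have h1 : T ≤ B := hB.le_of_ge (y := T) ⟨hAB.trans hBT, fun N h1 h2 h3 => ?_, K, hK, hTK.le, hKM⟩ hBT
  · exact le_antisymm hBT h1 ▸ hTK
  · have h4 : B ≤ N := by
      have := hB2 (N ⊓ B) (le_inf h1 hAB) inf_le_right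
        (le_normalizer_inf (hBT.trans h3) le_normalizer)
      exact inf_eq_right.mp this
    exact le_antisymm h2 (hT.le_of_le (y := N) ⟨h4, .head h2 h3 hTK⟩ h2)

end Cfsg.Agent.S3947
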