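import Cfsg.Statements.S3927
import Cfsg.Agent.S3947

set_option autoImplicit false
open Cfsg

namespace Cfsg.Agent.S3927

open Subgroup Cfsg.Lib.Core Cfsg.Lib.Transfer

theorem aux (k : ℕ) (G : Type*) [Group G] [Finite G] : ∀ a : G,
    normalClosure (zpowers a : Set G) = ⊤ → ∀ E : Subgroup G, a ∈ E →
      (∀ c : G, (fun c : G => c * a * c⁻¹ * a⁻¹)^[k] c ∈ E) → E = ⊤ := by
  refine induction_on_card (P := fun G _ _ => ∀ a : G,
    normalClosure (zpowers a : Set G) = ⊤ → ∀ E : Subgroup G, a ∈ E →
      (∀ c : G, (fun c : G => c * a * c⁻¹ * a⁻¹)^[k] c ∈ E) → E = ⊤) G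
    fun G _ _ ih a ha E haE hE => ?_
  by_cases h : zpowers a = ⊤
  · exact top_le_iff.mp (h ▸ zpowers_le_of_mem haE)
  rcases S3947.result (zpowers a) ha h with hY | ⟨M, ⟨hM, haM⟩, hu⟩
  · refine top_le_iff.mp (hY ▸ sSup_le fun H ⟨h1, h2, h3⟩ => ?_)
    have haH : a ∈ H := h1 (mem_zpowers a)
    refine subgroupOf_eq_top.mp (ih H (card_lt_of_ne_top h2) ⟨a, haH⟩ ?_ _ haE fun c => ?_)
    · rw [← h3]
      congr 2
      apply map_injective H.subtype_injective
      rw [map_subgroupOf_eq_of_le h1, MonoidHom.map_zpowers]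
      rfl
    · have : ∀ n (c : H), (((fun c : H => c * ⟨a, haH⟩ * c⁻¹ * (⟨a, haH⟩ : H)⁻¹)^[n] c : H) : G) =
          (fun c : G => c * a * c⁻¹ * a⁻¹)^[n] c := by
        intro n
        induction n with
        | zero => exact fun c => rfl
        | succ n ihn =>
          intro c
          rw [Function.iterate_succ_apply, Function.iterate_succ_apply, ihn]
          rfl
      rw [mem_subgroupOf, this]
      exact hE c
  by_contra hne
  obtain ⟨K, hK, hEK⟩ := exists_coatom_ge hne
  obtain rfl := hu K ⟨hK, zpowers_le_of_mem (hEK haE)⟩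
  have step : ∀ c : G, c * a * c⁻¹ * a⁻¹ ∈ K → c ∈ K := by
    intro c hc
    have h1 : c * a * c⁻¹ ∈ K := by simpa using mul_mem hc (hEK haE)
    have h2 := hu (c⁻¹ ⋆ K) ⟨Lib.Flav.coatom_conj hK _,
      zpowers_le_of_mem (mem_conj.mpr (by simpa using h1))⟩
    exact inv_mem_iff.mp ((Lib.Flav.full_iff.mpr ha).normalizer_le hK haM (conj_eq_self_iff.mp h2))
  have all : ∀ n (c : G), (fun c : G => c * a * c⁻¹ * a⁻¹)^[n] c ∈ K → c ∈ K := by
    intro n
    induction n with
    | zero => exact fun c h => h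
    | succ n ihn => exact fun c h => step c (ihn _ (by rwa [Function.iterate_succ_apply] at h))
  exact hK.1 (eq_top_iff.mpr fun c _ => all k c (hEK (hE c)))

/-- Let G be a finite group and α an automorphism of G with [G, α] = G, that is, the elements g·α(g)⁻¹ generate G. Then for every k ≥ 1 the iterated commutators [g, α, …, α] with k entries α — the values of the k-th iterate of the map c ↦ c·α(c)⁻¹ — also generate G. -/
theorem result {G : Type*} [Group G] [Finite G] (α : MulAut G) (hG : Subgroup.closure (Set.range (fun c : G => c * (α c)⁻¹)) = ⊤) (k : ℕ) (hk : 1 ≤ k) :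
    Subgroup.closure (Set.range ((fun c : G => c * (α c)⁻¹)^[k])) = ⊤ := by
  let φ : zpowers α →* MulAut G := (zpowers α).subtype
  have : Finite (G ⋊[φ] zpowers α) :=
    Finite.of_equiv _ SemidirectProduct.equivProd.symm
  let a : G ⋊[φ] zpowers α := .inr ⟨α, mem_zpowers α⟩
  set f : G → G := fun c : G => c * (α c)⁻¹ with hf
  have hc : ∀ c : G ⋊[φ] zpowers α, c * a * c⁻¹ * a⁻¹ = .inl (f c.left) := by
    intro c
    have h1 : SemidirectProduct.inr (φ := φ) c.right * a = a * .inr c.right := by
      rw [← map_mul, ← map_mul]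
      congr 1
      obtain ⟨n, hn⟩ := c.right.2
      exact Subtype.ext (by
        rw [coe_mul, coe_mul, ← hn]
        exact (Commute.zpow_left (Commute.refl α) n).eq)
    have h2 : a * .inl (c.left)⁻¹ * a⁻¹ = .inl (α c.left)⁻¹ := by
      rw [← map_inv, ← map_inv α]
      exact (SemidirectProduct.inl_aut (φ := φ) ⟨α, mem_zpowers α⟩ c.left⁻¹).symm
    conv_lhs => rw [← SemidirectProduct.inl_left_mul_inr_right c]
    rw [hf, map_mul, ← h2, mul_assoc (SemidirectProduct.inl _), h1, map_inv]
    group
  have hcomm : ∀ n c, f^[n] (α c) = α (f^[n] c) := by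
    intro n
    induction n with
    | zero => exact fun c => rfl
    | succ n ihn =>
      intro c
      rw [Function.iterate_succ_apply, Function.iterate_succ_apply, ← ihn]
      simp [hf]
  set E := closure (Set.range f^[k])
  have hE : ∀ x ∈ E, α x ∈ E := by
    have : E.map α.toMonoidHom ≤ E := by
      rw [MonoidHom.map_closure, closure_le]
      rintro _ ⟨_, ⟨c, rfl⟩, rfl⟩
      exact subset_closure ⟨α c, hcomm k c⟩
    exact fun x hx => this (mem_map_of_mem _ hx)
  have hE' : ∀ β ∈ zpowers α, ∀ x ∈ E, β x ∈ E := by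
    intro β hβ
    obtain ⟨n, rfl⟩ := mem_powers_iff_mem_zpowers.mpr hβ
    induction n with
    | zero => exact fun x hx => hx
    | succ n ihn =>
      intro x hx
      have := hE _ (ihn (pow_mem (mem_zpowers α) n) x hx)
      simpa [pow_succ'] using this
  let F : Subgroup (G ⋊[φ] zpowers α) :=
    { carrier := {c | c.left ∈ E}
      one_mem' := one_mem E
      mul_mem' := fun {x y} hx hy => mul_mem hx (hE' _ x.right.2 _ hy)
      inv_mem' := fun {x} hx => hE' _ x.right⁻¹.2 _ (inv_mem hx) }
  have hit : ∀ n (c : G ⋊[φ] zpowers α),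
      (fun c => c * a * c⁻¹ * a⁻¹)^[n + 1] c = .inl (f^[n + 1] c.left) := by
    intro n
    induction n with
    | zero => exact hc
    | succ n ihn =>
      intro c
      rw [Function.iterate_succ_apply, ihn, hc, Function.iterate_succ_apply f (n + 1)]
      rfl
  have hF := aux k _ a (eq_top_iff.mpr fun c _ => ?_) F (one_mem E) fun c => ?_
  · exact eq_top_iff.mpr fun x _ => (hF ▸ mem_top _ : SemidirectProduct.inl x ∈ F)
  · set N := normalClosure (zpowers a : Set (G ⋊[φ] zpowers α))
    have haN : a ∈ N := subset_normalClosure (mem_zpowers a)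
    have h1 : (⊤ : Subgroup G) ≤ N.comap SemidirectProduct.inl := by
      rw [← hG, closure_le]
      rintro _ ⟨x, rfl⟩
      have := hc (.inl x)
      rw [SemidirectProduct.left_inl] at this
      rw [SetLike.mem_coe, mem_comap, ← this]
      exact mul_mem (Normal.conj_mem inferInstance a haN _) (inv_mem haN)
    rw [← SemidirectProduct.inl_left_mul_inr_right c]
    refine mul_mem (h1 (mem_top _)) ?_
    obtain ⟨n, hn⟩ := c.right.2
    have : c.right = (⟨α, mem_zpowers α⟩ : zpowers α) ^ n := Subtype.ext hn.symm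
    rw [this, map_zpow]
    exact zpow_mem haN n
  · obtain ⟨n, rfl⟩ := Nat.exists_eq_add_of_le' hk
    rw [hit]
    exact subset_closure ⟨_, rfl⟩

end Cfsg.Agent.S3927
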