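import Cfsg.Statements.S3264
import Cfsg.Agent.S3927

set_option autoImplicit false
open Cfsg

namespace Cfsg.Agent.S3264

open Subgroup

theorem odd_pow {G : Type*} [Group G] [Finite G] (x : G) : Odd (orderOf (x ^ 2 ^ Nat.card G)) := by
  obtain ⟨a, m, hm, e⟩ := Nat.exists_eq_two_pow_mul_odd (orderOf_pos x).ne'
  have h : a ≤ Nat.card G := (Nat.lt_two_pow_self.le.trans (Nat.le_of_dvd (orderOf_pos x) ⟨m, e⟩)).trans
    orderOf_le_card
  refine hm.of_dvd_nat (orderOf_dvd_of_pow_eq_one ?_)
  rw [← pow_mul, ← orderOf_dvd_iff_pow_eq_one, e]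
  exact Nat.mul_dvd_mul_right (pow_dvd_pow 2 h) m

/-- the elements of odd order inverted by `t` generate `⟨t^G⟩` together with `t` -/
theorem gen {G : Type*} [Group G] [Finite G] {t : G} (ht : t * t = 1)
    (hn : normalClosure (zpowers t : Set G) = ⊤) {E : Subgroup G} (h1 : t ∈ E)
    (h : ∀ x : G, Odd (orderOf x) → t * x * t⁻¹ = x⁻¹ → x ∈ E) : E = ⊤ := by
  have ti : t⁻¹ = t := inv_eq_of_mul_eq_one_right ht
  have it : ∀ (n : ℕ) (x : G), t * x * t⁻¹ = x⁻¹ →
      (fun c : G => c * t * c⁻¹ * t⁻¹)^[n] x = x ^ 2 ^ n := by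
    intro n
    induction n with
    | zero => simp
    | succ n ih =>
      intro x hx
      have e : x * t * x⁻¹ * t⁻¹ = x ^ 2 := by
        rw [sq, mul_assoc, mul_assoc, ← mul_assoc t, show t * x⁻¹ * t⁻¹ = (t * x * t⁻¹)⁻¹ by group, hx, inv_inv]
      rw [Function.iterate_succ_apply, e, ih _ (by rw [← conj_pow, hx, inv_pow]), ← pow_mul, ← pow_succ']
  refine S3927.aux (Nat.card G + 1) G t hn E h1 fun c => ?_
  have hc : t * (c * t * c⁻¹ * t⁻¹) * t⁻¹ = (c * t * c⁻¹ * t⁻¹)⁻¹ := by
    rw [mul_assoc, mul_assoc _ t⁻¹, ← mul_inv_rev, ht]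
    simp only [mul_inv_rev, inv_inv, ti, inv_one, mul_one, mul_assoc]
  rw [Function.iterate_succ_apply, it _ _ hc]
  exact h _ (odd_pow _) (by rw [← conj_pow, hc, inv_pow])

/-- Let G be a non-abelian finite simple group and X a conjugacy class of involutions of G. Form the graph on X in which two distinct involutions are joined when their product has odd order. Then this graph is connected. (By the Baer–Suzuki Theorem the graph has at least one edge; connectedness is the stronger statement.) -/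
theorem result {G : Type*} [Group G] [Finite G] [IsSimpleGroup G]
    (hG : ¬ IsMulCommutative G) (t : G) (ht : orderOf t = 2) :
    (SimpleGraph.fromRel fun x y : {x : G // IsConj t x} => Odd (orderOf (x.1 * y.1))).Connected := by
  set Γ := SimpleGraph.fromRel fun x y : {x : G // IsConj t x} => Odd (orderOf (x.1 * y.1)) with hΓ
  let c : G → {x : G // IsConj t x} → {x : G // IsConj t x} := fun g x =>
    ⟨g * x.1 * g⁻¹, x.2.trans (isConj_iff.2 ⟨g, rfl⟩)⟩
  have o : ∀ g x y : G, orderOf (g * x * g⁻¹ * (g * y * g⁻¹)) = orderOf (x * y) := fun g x y => by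
    rw [show g * x * g⁻¹ * (g * y * g⁻¹) = MulAut.conj g (x * y) by simp, MulEquiv.orderOf_eq]
  have hc : ∀ g {x y}, Γ.Reachable x y → Γ.Reachable (c g x) (c g y) := fun g _ _ h =>
    h.map (⟨c g, fun {x y} h => ⟨fun e => h.1 (Subtype.ext (by simpa [c] using e)), by
      simpa only [c, o] using h.2⟩⟩ : Γ →g Γ)
  let t0 : {x : G // IsConj t x} := ⟨t, IsConj.refl t⟩
  have cm : ∀ g h x, c g (c h x) = c (g * h) x := fun g h x => Subtype.ext (by simp [c, mul_assoc])
  have c1 : ∀ x, c 1 x = x := fun x => Subtype.ext (by simp [c])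
  let M : Subgroup G :=
    { carrier := {g | Γ.Reachable t0 (c g t0)}
      one_mem' := by simp [c1]
      mul_mem' := fun {a b} ha hb => ha.trans (cm a b t0 ▸ hc a hb)
      inv_mem' := fun {a} ha => by
        have := hc a⁻¹ ha
        rw [cm, inv_mul_cancel, c1] at this
        exact this.symm }
  have t1 : t ≠ 1 := fun e => by simp [e] at ht
  have hM : M = ⊤ := gen (t := t) (by rw [← sq, ← ht, pow_orderOf_eq_one])
    ((IsSimpleGroup.eq_bot_or_eq_top_of_normal _ inferInstance).resolve_left fun e =>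
      t1 (e.le (subset_normalClosure (mem_zpowers t))))
    (show Γ.Reachable t0 (c t t0) by rw [show c t t0 = t0 from Subtype.ext (by simp [c, t0])])
    fun x hx e => by
      by_cases h : t0 = c x t0
      · exact show Γ.Reachable t0 (c x t0) from h ▸ .refl _
      · refine SimpleGraph.Adj.reachable ⟨h, .inl ?_⟩
        have ti : t⁻¹ = t := inv_eq_of_mul_eq_one_right (by rw [← sq, ← ht, pow_orderOf_eq_one])
        change Odd (orderOf (t * (x * t * x⁻¹)))
        rw [show t * (x * t * x⁻¹) = (x ^ 2)⁻¹ by rw [← mul_assoc, ← mul_assoc, sq, mul_inv_rev, ← e, ti],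
          orderOf_inv]
        exact hx.of_dvd_nat (orderOf_pow_dvd 2)
  have R : ∀ x, Γ.Reachable t0 x := fun ⟨x, hx⟩ => by
    obtain ⟨g, rfl⟩ := isConj_iff.1 hx
    exact (hM.ge trivial : g ∈ M)
  haveI : Nonempty {x : G // IsConj t x} := ⟨t0⟩
  exact ⟨fun x y => (R x).symm.trans (R y)⟩

end Cfsg.Agent.S3264
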