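import Cfsg.Statements.S3333
import Cfsg.Agent.Lib.Loc3.Six
-- import your own Cfsg.Agent.* helpers here

set_option autoImplicit false
open Cfsg

namespace Cfsg.Agent.S3333

/-- Let G be a finite group with a Sylow 3-subgroup S of order 9 that is its own centralizer, with N_G(S)/S dihedral of order 8, and such that C_G(x) ≤ N_G(S) for every non-identity x in S. Then S is normal in G or G is isomorphic to the symmetric group of degree 6. -/
theorem result {G : Type*} [Group G] [Finite G]
    (P : Sylow 3 G) (S : Subgroup G) (hSP : S = P) (hcard : Nat.card S = 9)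
    (hC : Subgroup.centralizer (S : Set G) = S)
    (eN : Subgroup.normalizer (S : Set G) ⧸ S.subgroupOf (Subgroup.normalizer (S : Set G)) ≃* DihedralGroup 4)
    (hcent : ∀ x ∈ S, x ≠ 1 → Subgroup.centralizer ({x} : Set G) ≤ Subgroup.normalizer (S : Set G)) :
    S.Normal ∨ Nonempty (G ≃* Equiv.Perm (Fin 6)) := by
  subst hSP
  have i : ((P : Subgroup G).subgroupOf (Subgroup.normalizer ((P : Subgroup G) : Set G))).index = 8 :=
    (Nat.card_congr eN.toEquiv).trans DihedralGroup.nat_card
  have hexp : ∀ x ∈ (P : Subgroup G), x ^ 3 = 1 := fun x a => by_contra fun b => by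
    obtain ⟨k, c, d⟩ := (Nat.dvd_prime_pow (m := 2) Nat.prime_three).1 (hcard ▸ orderOf_dvd_natCard (⟨x, a⟩ : P))
    have : IsCyclic P := isCyclic_of_orderOf_eq_card ⟨x, a⟩ (by
      rw [Subgroup.orderOf_mk] at d ⊢
      interval_cases k
      · exact absurd (orderOf_dvd_iff_pow_eq_one.1 (d ▸ one_dvd _)) b
      · exact absurd (orderOf_dvd_iff_pow_eq_one.1 d.dvd) b
      · exact d.trans hcard.symm)
    have e := Lib.Small.relIndex_centralizer_dvd_card_mulAut (P : Subgroup G)
    rw [hC, this.card_mulAut, hcard, Subgroup.relIndex, i] at e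
    exact absurd e (by decide)
  have h : Lib.Loc3.E9 (P : Subgroup G) := ⟨.of_sylow_top P, hcard, hexp, hC, hcent⟩
  obtain ⟨S⟩ : Nonempty (Sylow 2 (Subgroup.normalizer ((P : Subgroup G) : Set G))) := inferInstance
  let φ := (eN.toMonoidHom.comp (QuotientGroup.mk' _)).comp S.1.subtype
  have c := ((P : Subgroup G).subgroupOf (Subgroup.normalizer ((P : Subgroup G) : Set G))).card_mul_index
  rw [i, Lib.BG.subOf_card Subgroup.le_normalizer, hcard] at c
  obtain ⟨γ, J⟩ := h.exists_s6 S (.ofBijective φ ((Nat.bijective_iff_injective_and_card φ).2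
    ⟨(injective_iff_map_eq_one φ).2 fun x a => by
      obtain ⟨k, b⟩ := S.2 x
      have := hexp _ (Subgroup.mem_subgroupOf.1 ((QuotientGroup.eq_one_iff _).1 ((map_eq_one_iff _ eN.injective).1 a)))
      exact orderOf_eq_one_iff.1 (Nat.eq_one_of_dvd_coprimes (Nat.Coprime.pow_left k (by norm_num : Nat.Coprime 2 3))
        (orderOf_dvd_of_pow_eq_one b) (orderOf_dvd_of_pow_eq_one (Subtype.ext (Subtype.ext this)))), by
      rw [S.card_eq_multiplicity, ← c, DihedralGroup.nat_card]
      decide +kernel⟩))
  exact (em _).imp Subgroup.normalizer_eq_top_iff.1 J.perm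

end Cfsg.Agent.S3333
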