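import Cfsg.Statements.S3685
import Cfsg.Agent.Lib.Perm.TW
import Cfsg.Agent.Lib.Amalgam.S3Iso
import Cfsg.Agent.Lib.Inv.Dihedral
import Cfsg.Agent.Lib.Inv.SylowTwo

set_option autoImplicit false
open Cfsg

namespace Cfsg.Agent.S3685

open Cfsg.Lib.Perm Cfsg.Lib.Core Cfsg.Lib.Loc Cfsg.Lib.Transfer Cfsg.Lib.Amalgam Subgroup MulAction

theorem dihedral {G : Type*} [Group G] [Finite G] {M A B : Subgroup G} (hM : Nat.card M = 12)
    (hA : Nat.card A = 2) (hB : Nat.card B = 2) (hAM : A ≤ M) (hBM : B ≤ M) (hAB : A ≠ B)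
    (hn : M ≤ normalizer (A : Set G)) (hn' : ¬ M ≤ normalizer (B : Set G)) :
    Nonempty (M ≃* DihedralGroup 6) := by
  classical
  have := Fact.mk Nat.prime_two
  obtain ⟨z, hz, hz2⟩ := exists_mem_orderOf_eq_prime (H := A) Nat.prime_two hA.symm.dvd
  obtain ⟨t, ht, ht2⟩ := exists_mem_orderOf_eq_prime (H := B) Nat.prime_two hB.symm.dvd
  obtain ⟨x, hx, hx3⟩ := exists_mem_orderOf_eq_prime (H := M) Nat.prime_three (by rw [hM]; norm_num)
  have eA : zpowers z = A := eq_of_le_of_card_eq (zpowers_le.2 hz) (by rw [Nat.card_zpowers, hz2, hA])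
  have eB : zpowers t = B := eq_of_le_of_card_eq (zpowers_le.2 ht) (by rw [Nat.card_zpowers, ht2, hB])
  have hc : Commute x z := (cent_of_card_two hA hn hx z hz).symm
  have hw : orderOf (x * z) = 6 := by
    rw [hc.orderOf_mul_eq_mul_orderOf_of_coprime (by rw [hx3, hz2]; norm_num), hx3, hz2]
  set w := x * z with hwd
  have hwM : zpowers w ≤ M := zpowers_le.2 (M.mul_mem hx (hAM hz))
  have hi : (zpowers w).relIndex M = 2 := by
    have := Lib.Core.card_mul_relIndex hwM
    rw [Nat.card_zpowers, hw, hM] at this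
    omega
  have hnw : M ≤ normalizer (zpowers w : Set G) :=
    (normal_subgroupOf_iff_le_normalizer hwM).1 (normal_of_index_eq_two hi)
  have htt : t * t = 1 := by rw [← sq, ← ht2, pow_orderOf_eq_one]
  have htw : t ∉ zpowers w := fun h => hAB (by
    have hzw : z ∈ zpowers w := by
      refine ⟨(3 : ℕ), ?_⟩
      simp only [zpow_natCast, hwd]
      rw [hc.mul_pow, ← hx3, pow_orderOf_eq_one, one_mul, hx3, pow_succ, ← hz2, pow_orderOf_eq_one,
        one_mul]
    rw [← eA, ← eB, Lib.Inv.eq_of_isCyclic_of_orderOf_two inferInstance hzw h hz2 ht2])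
  have hcl : closure {t, w} ≤ M := by
    rw [closure_le]; rintro _ (rfl | rfl)
    exacts [hBM ht, hwM (mem_zpowers w)]
  have hcl' : M ≤ closure {t, w} := by
    refine (eq_or_eq_of_relIndex_prime (H := zpowers w) (hi ▸ Nat.prime_two)
      (zpowers_le.2 (subset_closure (by simp))) hcl).resolve_left fun h =>
        htw (h (subset_closure (by simp)))
  obtain ⟨k, hk, e⟩ := Finset.mem_image.1 (mem_zpowers_iff_mem_range_orderOf.1
    (le_normalizer_iff.1 hnw t (hBM ht) w (mem_zpowers w)))
  have ho : orderOf (w ^ k) = 6 := by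
    rw [e, ← hw, ← MulAut.conj_apply, MulEquiv.orderOf_eq]
  rw [Finset.mem_range, hw] at hk
  rw [orderOf_pow, hw] at ho
  have hk' : k = 1 ∨ k = 5 := by interval_cases k <;> simp at ho ⊢
  rcases hk' with rfl | rfl
  · refine absurd (hcl'.trans ((closure_le _).2 ?_)) hn'
    rintro _ (rfl | rfl)
    · exact le_normalizer ht
    · refine centralizer_le_normalizer _ ?_
      rw [← eB, centralizer_zpowers, mem_centralizer_singleton_iff]
      rw [pow_one, eq_mul_inv_iff_mul_eq] at e
      exact e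
  · obtain ⟨f⟩ := Lib.Inv.nonempty_closure_mulEquiv_dihedral htt (z := w) (by
      rw [← e, eq_inv_iff_mul_eq_one, ← pow_succ]; exact orderOf_dvd_iff_pow_eq_one.1 hw.dvd) htw
    rw [hw] at f
    exact ⟨(MulEquiv.subgroupCongr (le_antisymm hcl' hcl)).trans f⟩

theorem main {G : Type*} [Group G] [Finite G] {M N : Subgroup G} (hM : IsPrimSub M) {g : G}
    (hN : N = g ⋆ M) (h3 : N.relIndex M = 3) :
    Nonempty (M ≃* Multiplicative (ZMod 3)) ∨ Nonempty (M ≃* Equiv.Perm (Fin 3)) ∨
      Nonempty (M ≃* DihedralGroup 6) ∨ Nonempty (M ≃* Equiv.Perm (Fin 4)) ∨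
      Nonempty (M ≃* Equiv.Perm (Fin 4) × Multiplicative (ZMod 2)) := by
  have := Fact.mk Nat.prime_two
  have := Fact.mk Nat.prime_three
  have hne : M ≠ N := by rintro rfl; simp at h3
  have hc : Nat.card M = Nat.card N := by rw [hN, card_conj]
  have h3' : M.relIndex N = 3 := (relIndex_comm_of_card_eq hc).trans h3
  have hb : ∀ X : Subgroup G, X ≤ M ⊓ N → M ≤ normalizer (X : Set G) →
      N ≤ normalizer (X : Set G) → X = ⊥ := fun X h =>
    hM.eq_bot (hN ▸ hM.conj g) hne (h.trans inf_le_left) (h.trans inf_le_right)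
  have hAD : coreIn M N ≤ M ⊓ N := le_inf (coreIn_le_left M N) (coreIn_le_right M N)
  have hBD : coreIn N M ≤ M ⊓ N := le_inf (coreIn_le_right N M) (coreIn_le_left N M)
  have iA : (coreIn M N).relIndex (M ⊓ N) ∣ 2 := by simpa [h3] using relIndex_coreIn_inf_dvd M N
  have iB : (coreIn N M).relIndex (M ⊓ N) ∣ 2 := by
    simpa [h3', inf_comm] using relIndex_coreIn_inf_dvd N M
  have nA := le_normalizer_coreIn M N
  have nB := le_normalizer_coreIn N M
  have hD : IsPGroup 2 ↥(M ⊓ N) := by
    have rA := res_eq_of_le (res_le_of_subnormal (p := 2) (k := 1) (SubnormalIn.of_le_normalizer hAD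
      (inf_le_left.trans nA)).isSubnormal_subgroupOf iA) hAD
    have rB := res_eq_of_le (res_le_of_subnormal (p := 2) (k := 1) (SubnormalIn.of_le_normalizer hBD
      (inf_le_right.trans nB)).isSubnormal_subgroupOf iB) hBD
    exact res_eq_bot_iff.1 (hb _ (res_le 2 _) (rA ▸ nA.trans (normalizer_le_normalizer_res 2 _))
      (rB ▸ nB.trans (normalizer_le_normalizer_res 2 _)))
  have tM : FSyl 2 (M ⊓ N) M := ⟨inf_le_left, hD, by rw [inf_relIndex_left, h3]; norm_num⟩
  have tN : FSyl 2 (M ⊓ N) N := ⟨inf_le_right, hD, by rw [inf_relIndex_right, h3']; norm_num⟩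
  have eA : pCoreOf 2 M = coreIn M N := le_antisymm (le_coreIn (core_le 2 M)
    (tM.core_le.trans inf_le_right) (le_normalizer_core 2 M))
    (le_core (coreIn_le_left M N) nA (hD.to_le hAD))
  have eB : pCoreOf 2 N = coreIn N M := le_antisymm (le_coreIn (core_le 2 N)
    (tN.core_le.trans inf_le_left) (le_normalizer_core 2 N))
    (le_core (coreIn_le_left N M) nB (hD.to_le hBD))
  have cAB : Nat.card (coreIn M N) = Nat.card (coreIn N M) := by
    rw [← eA, ← eB, hN, ← conj_core, card_conj]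
  have cM : Nat.card ↥(M ⊓ N) * 3 = Nat.card M := by
    rw [← h3, inf_comm]; exact card_inf_mul_relIndex N M
  have cA := Lib.Core.card_mul_relIndex hAD
  rcases (Nat.dvd_prime Nat.prime_two).1 iA with i1 | i2
  · left
    have e1 : coreIn M N = M ⊓ N := le_antisymm hAD (relIndex_eq_one.1 i1)
    have e2 : coreIn N M = M ⊓ N := eq_of_le_of_card_eq hBD (by rw [← cAB, e1])
    rw [hb _ le_rfl (e1 ▸ nA) (e2 ▸ nB), card_bot] at cM
    exact ⟨mulEquivOfPrimeCardEq cM.symm (by simp)⟩
  right
  have i6 : (coreIn M N).relIndex M = 6 := by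
    rw [← relIndex_mul_relIndex _ _ _ hAD inf_le_left, i2, inf_relIndex_left, h3]
  have sM : IsS3 M := ⟨inferInstance, eA ▸ i6⟩
  have sN : IsS3 N := hN ▸ sM.conj g
  by_cases h0 : coreIn M N = ⊥
  · left
    have := Fintype.ofFinite (M ⧸ N.subgroupOf M)
    have hq : Nat.card (M ⧸ N.subgroupOf M) = 3 := h3
    have hinj : Function.Injective (toPermHom M (M ⧸ N.subgroupOf M)) := by
      rw [← MonoidHom.ker_eq_bot_iff, ← normalCore_eq_ker]
      exact map_subtype_eq_bot_iff.1 h0
    rw [h0, relIndex_bot_left] at i6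
    exact ⟨(MulEquiv.ofBijective _ (hinj.bijective_of_nat_card_le (by
      rw [Nat.card_perm, hq, i6]; rfl))).trans (Finite.equivFinOfCardEq hq).permCongrHom⟩
  right
  by_cases hch : IsChP 2 M
  · right
    obtain ⟨n, hn, e⟩ := (hN ▸ tM.conj g : FSyl 2 (g ⋆ (M ⊓ N)) N).exists_conj_eq tN
    rw [conj_conj] at e
    have eN : (n * g) ⋆ M = N := by rw [← conj_conj, ← hN, conj_eq_self_of_mem hn]
    have eZ : (n * g) ⋆ centralizer (omegaOneCenter 2 (M ⊓ N) : Set G) =
        centralizer (omegaOneCenter 2 (M ⊓ N) : Set G) := by rw [conj_centralizer, conj_oz, ← e]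
    have hiff : M ≤ centralizer (omegaOneCenter 2 (M ⊓ N) : Set G) ↔
        N ≤ centralizer (omegaOneCenter 2 (M ⊓ N) : Set G) := by
      rw [← conj_le_conj_iff (g := n * g), eN, eZ]
    have n₁ : ¬ M ≤ centralizer (omegaOneCenter 2 (M ⊓ N) : Set G) := fun h =>
      oz_ne_bot hD (fun h' => h0 (eq_bot_iff.2 (h' ▸ hAD))) (hb _ (oz_le _)
        (h.trans (centralizer_le_normalizer _)) ((hiff.1 h).trans (centralizer_le_normalizer _)))
    rcases s3_main sM sN tM tN hb hch (hN ▸ hch.conj g) n₁ (mt hiff.2 n₁) with h | ⟨⟨f⟩, -⟩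
    · exact Or.inl h.1
    · exact Or.inr ⟨f.trans MulEquiv.prodComm⟩
  left
  have hch' : ¬ IsChP 2 N := fun h => hch (by simpa only [hN, inv_conj_conj] using h.conj g⁻¹)
  have key : ∀ {P : Subgroup G}, IsS3 P → FSyl 2 (M ⊓ N) P → ¬ IsChP 2 P → ∀ X : Subgroup G,
      X ≤ pCoreOf 2 P → M ⊓ N ≤ normalizer (X : Set G) → P ≤ normalizer (X : Set G) := by
    intro P s t c X h1 h2
    refine (s.le_sup_of_normal t inf_le_left (le_normalizer_inf le_normalizer
      (le_normalizer_centralizer (le_normalizer_core 2 P))) c).trans (sup_le ?_ h2)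
    exact inf_le_right.trans ((centralizer_le h1).trans (centralizer_le_normalizer _))
  have nAB := le_normalizer_inf (inf_le_left.trans nA : M ⊓ N ≤ _) (inf_le_right.trans nB)
  have hAB := hb _ (inf_le_left.trans hAD) (key sM tM hch _ (eA ▸ inf_le_left) nAB)
    (key sN tN hch' _ (eB ▸ inf_le_right) nAB)
  have cA2 : Nat.card (coreIn M N) = 2 := by
    have h1 := ((SubnormalIn.of_le_normalizer hBD (inf_le_right.trans nB)).relIndex_dvd hAD).trans iB
    rw [← inf_relIndex_left, hAB, relIndex_bot_left] at h1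
    exact ((Nat.dvd_prime Nat.prime_two).1 h1).resolve_left fun h => h0 (card_eq_one.1 h)
  have hne' : coreIn M N ≠ coreIn N M := fun h => h0 (by rwa [← h, inf_idem] at hAB)
  exact dihedral (by rw [← cM, ← cA, cA2, i2]) cA2 (cAB ▸ cA2) (coreIn_le_left M N)
    (coreIn_le_right N M) hne' nA fun h => h0 (by
      rw [← card_eq_one, cAB, hb _ hBD h nB, card_bot])

/-- Let a finite group G act faithfully and primitively on a set Ω, and suppose the stabilizer of a point a has an orbit of length 3. Then the stabilizer of a is isomorphic to one of: the cyclic group of order 3, the symmetric group of degree 3, the dihedral group of order 12, the symmetric group of degree 4, or the direct product of the symmetric group of degree 4 with a group of order 2. -/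
theorem result {G Ω : Type*} [Group G] [Finite G] [MulAction G Ω] [FaithfulSMul G Ω] [Finite Ω]
    (hprim : MulAction.IsPreprimitive G Ω) (a b : Ω) (h3 : Nat.card (MulAction.orbit (MulAction.stabilizer G a) b) = 3) :
    Nonempty (MulAction.stabilizer G a ≃* Multiplicative (ZMod 3)) ∨ Nonempty (MulAction.stabilizer G a ≃* Equiv.Perm (Fin 3)) ∨
      Nonempty (MulAction.stabilizer G a ≃* DihedralGroup 6) ∨ Nonempty (MulAction.stabilizer G a ≃* Equiv.Perm (Fin 4)) ∨
      Nonempty (MulAction.stabilizer G a ≃* Equiv.Perm (Fin 4) × Multiplicative (ZMod 2)) := by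
  rw [card_suborbit] at h3
  obtain ⟨g, rfl⟩ := exists_smul_eq G a b
  exact main (isPrimSub_stabilizer a) (stabilizer_smul_eq_conj g a) h3

end Cfsg.Agent.S3685
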