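import Cfsg.Statements.S3390
import Cfsg.Agent.S3224
import Cfsg.Agent.Lib.Grp.Orb
import Cfsg.Agent.Lib.Transfer.Fusion
import Cfsg.Agent.Lib.Perm.Plane3

set_option autoImplicit false
open Cfsg

namespace Cfsg.Agent.S3390

open MulAction Subgroup Cfsg.Lib.Perm Cfsg.Lib Cfsg.Lib.Transfer
open scoped Pointwise IsMulCommutative

section
variable {G Ω : Type*} [Group G] [Finite G] [MulAction G Ω]

omit [Finite G] in
theorem sq_one {T : Subgroup G} (h : Nat.card T = 2) {x : G} (hx : x ∈ T) : x ^ 2 = 1 := by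
  rw [← h]; exact congrArg Subtype.val (pow_card_eq_one' (x := (⟨x, hx⟩ : T)))

omit [Finite G] in
theorem card_le {U : Subgroup G} {a b c : Ω} (h : ∀ u ∈ U, u • a = b ∨ u • a = c) :
    Nat.card U ≤ 2 * Nat.card ↥(U ⊓ stabilizer G a) := by
  rw [card_orbit_mul U a]
  exact Nat.mul_le_mul_right _ ((Set.ncard_le_ncard (t := {b, c}) (by rintro _ ⟨u, hu, rfl⟩; exact h u hu)).trans
    ((Set.ncard_insert_le _ _).trans (by simp)))

variable (h3 : ∀ g : G, g ≠ 1 → ∀ a b c : Ω, a ≠ b → g • a = a → g • b = b → g • c = c → c = a ∨ c = b)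
include h3

theorem cen_four {S : Subgroup G} (hS : IsPGroup 2 S) {w : Ω} (h1 : Nat.card ↥(S ⊓ stabilizer G w) = 2)
    (h2 : ¬ S ≤ stabilizer G w) : ∃ x : S, x.1 • w = w ∧ orderOf x = 2 ∧ Nat.card (centralizer ({x} : Set S)) = 4 := by
  obtain ⟨⟨x, hx⟩, x1, hu⟩ := (Nat.card_eq_two_iff' (1 : ↥(S ⊓ stabilizer G w))).1 h1
  have hu : ∀ y ∈ S ⊓ stabilizer G w, y ≠ 1 → y = x := fun y hy h =>
    congrArg Subtype.val (hu ⟨y, hy⟩ fun e => h (congrArg Subtype.val e))
  replace x1 : x ≠ 1 := fun e => x1 (Subtype.ext e)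
  obtain ⟨n, hn, hn'⟩ := SetLike.exists_of_lt (lt_inf_normalizer_of_lt hS (inf_lt_left.2 h2))
  have hnx : n * x * n⁻¹ = x := hu _ ((mem_normalizer_iff.1 hn.2 x).1 hx) (by simpa using x1)
  have hw : w ≠ n • w := fun e => hn' ⟨hn.1, e.symm⟩
  have hfix : ∀ u : G, x * u = u * x → x • u • w = u • w := fun u h => by
    rw [← mul_smul, h, mul_smul, show x • w = w from hx.2]
  have hC : S ⊓ stabilizer G w < S ⊓ centralizer {x} := lt_of_le_of_ne (fun y hy => mem_inf.2 ⟨hy.1, by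
    rw [mem_centralizer_singleton_iff]
    by_cases h : y = 1
    · simp [h]
    · rw [hu y hy h]⟩) fun e => hn' (e.ge (mem_inf.2 ⟨hn.1, mem_centralizer_singleton_iff.2 (mul_inv_eq_iff_eq_mul.1 hnx)⟩))
  have h4 := card_le (U := S ⊓ centralizer {x}) fun u hu => h3 x x1 w _ _ hw hx.2
    (hfix n (mul_inv_eq_iff_eq_mul.1 hnx).symm) (hfix u (mem_centralizer_singleton_iff.1 hu.2).symm)
  have h5 := card_le_of_le (show S ⊓ centralizer {x} ⊓ stabilizer G w ≤ S ⊓ stabilizer G w from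
    inf_le_inf_right _ inf_le_left)
  have h6 := card_lt_of_lt hC
  obtain ⟨k, h7⟩ := card_dvd_of_le hC.le
  refine ⟨⟨x, hx.1⟩, hx.2, orderOf_eq_prime (Subtype.ext ?_) fun e => x1 (congrArg Subtype.val e), ?_⟩
  · exact sq_one h1 hx
  · rw [show centralizer {(⟨x, hx.1⟩ : S)} = (centralizer {x}).subgroupOf S by
      ext y; simp [mem_centralizer_singleton_iff, mem_subgroupOf, Subtype.ext_iff], ← card_map_of_injective S.subtype_injective,
      subgroupOf_map_subtype, inf_comm]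
    rw [h1] at h7
    omega

theorem two_or {S : Subgroup G} (hS : IsPGroup 2 S) {a : Ω} (h1 : S ⊓ stabilizer G a ≠ ⊥) (h2 : ¬ S ≤ stabilizer G a) :
    Nat.card ↥(S ⊓ stabilizer G a) = 2 ∨ (S ⊓ stabilizer G a).relIndex S = 2 := by
  obtain ⟨n, hn, hn'⟩ := SetLike.exists_of_lt (lt_inf_normalizer_of_lt hS (inf_lt_left.2 h2))
  have hw : a ≠ n • a := fun e => hn' ⟨hn.1, e.symm⟩
  have hfix : ∀ u ∈ normalizer ((S ⊓ stabilizer G a : Subgroup G) : Set G), ∀ x ∈ S ⊓ stabilizer G a, x • u • a = u • a :=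
    fun u hu x hx => by
      have : (u⁻¹ * x * u) • a = a := ((mem_normalizer_iff''.1 hu x).1 hx).2
      rwa [mul_smul, mul_smul, inv_smul_eq_iff] at this
  obtain ⟨x, hx, x1⟩ := (bot_or_exists_ne_one _).resolve_left h1
  have hN : ∀ u ∈ normalizer ((S ⊓ stabilizer G a : Subgroup G) : Set G), u • a = a ∨ u • a = n • a := fun u hu =>
    h3 x x1 a _ _ hw hx.2 (hfix n hn.2 x hx) (hfix u hu x hx)
  by_cases h : S ≤ normalizer ((S ⊓ stabilizer G a : Subgroup G) : Set G)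
  · have h4 := card_le fun u hu => hN u (h hu)
    have h5 := card_lt_of_lt (inf_lt_left.2 h2)
    rw [← card_mul_relIndex (inf_le_left (a := S) (b := stabilizer G a)), mul_comm] at h4 h5
    have := Nat.le_of_mul_le_mul_right h4 Nat.card_pos
    have := (Nat.lt_mul_iff_one_lt_left Nat.card_pos).1 h5
    omega
  obtain ⟨y, hy, hy'⟩ := SetLike.exists_of_lt (lt_inf_normalizer_of_lt hS (inf_lt_left.2 h))
  have h4 := card_le (U := y ⋆ (S ⊓ stabilizer G a)) fun u hu => hN u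
    ((mem_normalizer_iff''.1 hy.2 u).2 (mem_inf.2 ⟨(mem_conj.1 hu).1, le_normalizer (mem_conj.1 hu)⟩)).2
  rw [show y ⋆ (S ⊓ stabilizer G a) ⊓ stabilizer G a = ⊥ from eq_bot_iff.2 fun u hu => by
    by_contra u1
    have h5 := mem_conj.1 hu.1
    have h6 : u ∈ S ⊓ stabilizer G a := mem_inf.2 ⟨by simpa [mul_assoc] using S.mul_mem (S.mul_mem hy.1 h5.1) (S.inv_mem hy.1), hu.2⟩
    rcases h3 u u1 a _ (y • a) hw hu.2 (hfix n hn.2 u h6) 
      (inv_smul_eq_iff.1 (show y⁻¹ • u • y • a = a by rw [← mul_smul, ← mul_smul]; exact h5.2)) with e | e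
    · exact hy' (mem_inf.2 ⟨hy.1, le_normalizer (mem_inf.2 ⟨hy.1, e⟩)⟩)
    · exact hy' ((mul_mem_cancel_left (inv_mem hn)).1 (mem_inf.2 ⟨mul_mem (inv_mem hn.1) hy.1, le_normalizer
        (mem_inf.2 ⟨mul_mem (inv_mem hn.1) hy.1, by rw [mem_stabilizer_iff, mul_smul, e, inv_smul_smul]⟩)⟩)),
    card_bot, card_conj] at h4
  have := (one_lt_card_iff_ne_bot _).2 h1
  omega

omit h3 in
theorem exists_ker (S : Sylow 2 G) {a : Ω} (hi : ((S : Subgroup G) ⊓ stabilizer G a).relIndex S = 2)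
    (h : ∀ s ∈ (S : Subgroup G), ∀ w : Ω, s • w = w → s • a = a) :
    ∃ N : Subgroup G, N.index = 2 ∧ (∀ s ∈ (S : Subgroup G), s ∈ N → s • a = a) ∧ ∀ g (w : Ω), g • w = w → g ∈ N := by
  have := normal_of_index_eq_two hi
  have : IsCyclic ((S : Subgroup G) ⧸ ((S : Subgroup G) ⊓ stabilizer G a).subgroupOf S) := isCyclic_of_prime_card hi
  let φ := QuotientGroup.mk' (((S : Subgroup G) ⊓ stabilizer G a).subgroupOf S)
  have hφ : ∀ s, φ s = 1 ↔ s.1 • a = a := fun s => by simp [φ, mem_subgroupOf]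
  have hV : ∀ s : (S : Subgroup G), s.1 ∈ (MonoidHom.transfer φ).ker ↔ s.1 • a = a := fun s => by
    rw [MonoidHom.mem_ker, transfer_eq_pow_of_conj φ s fun k c hk => ?_, ← hφ]
    · refine ⟨fun e => eq_one_of_pow_eq_one_of_coprime e ?_, fun e => by rw [e, one_pow]⟩
      exact Nat.Coprime.coprime_dvd_left ((orderOf_dvd_natCard (φ s)).trans hi.dvd)
        ((Nat.Prime.coprime_iff_not_dvd Nat.prime_two).2 S.not_dvd_index)
    rw [← map_pow, ← mul_inv_eq_one, ← map_inv, ← map_mul, QuotientGroup.mk'_apply, QuotientGroup.eq_one_iff,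
      mul_mem_iff_of_index_two hi, inv_mem_iff, ← QuotientGroup.eq_one_iff, ← QuotientGroup.eq_one_iff]
    refine (hφ _).trans (Iff.trans ⟨fun e => h _ (s ^ k).2 (c • a) ?_, fun e => h _ hk (c⁻¹ • a) ?_⟩ (hφ _).symm)
    · exact (inv_smul_eq_iff.1 (by rw [← mul_smul, ← mul_smul]; exact e))
    · rw [mul_smul, smul_inv_smul, mul_smul, show s.1 ^ k • a = a from e]
  refine ⟨(MonoidHom.transfer φ).ker, ?_, fun s hs => (hV ⟨s, hs⟩).1, fun g w hg => ?_⟩
  · refine ((Nat.dvd_prime Nat.prime_two).1 ?_).resolve_left fun e => ?_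
    · rw [index_ker]; exact (card_subgroup_dvd_card _).trans hi.dvd
    · rw [relIndex_eq_one.2 fun s hs => mem_inf.2 ⟨hs, (hV ⟨s, hs⟩).1 ((index_eq_one.1 e).ge (mem_top _))⟩] at hi
      omega
  obtain ⟨x, hx, y, hy, ⟨k, hk⟩, h2, rfl⟩ := exists_p_part_mul_p'_part (p := 2) g
  refine mul_mem ?_ (pResidual_le_ker (S.2.to_quotient _) _ (mem_pResidual_of_coprime h2))
  obtain ⟨c, hc⟩ := exists_conj_le_sylow S (Q := zpowers x) (IsPGroup.of_card_dvd_pow
    (by rw [Nat.card_zpowers]; exact orderOf_dvd_of_pow_eq_one hk))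
  have h4 := hc (conj_mem_conj.2 (mem_zpowers x))
  refine (MonoidHom.normal_ker _).mem_comm_iff.1 ?_ |> fun e : x * c⁻¹ * c ∈ _ => by simpa using e
  rw [← mul_assoc]
  refine (hV ⟨_, h4⟩).2 (h _ h4 (c • w) ?_)
  rw [mul_smul, inv_smul_smul, mul_smul, show x • w = w from zpowers_le.2 (show _ ∈ stabilizer G w from hg) hx]

theorem fix_other [Finite Ω] {N : Subgroup G} [hN : N.Normal] (hf : ∀ g (w : Ω), g • w = w → g ∈ N) {a : Ω} {s t : G}
    (hs : s ∉ N) (t1 : t ≠ 1) (t2 : t * t = 1) (ha : t • a = a) (hb : t • s • a = s • a) {g : G} (hg : g • a = a) :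
    g • s • a = s • a := by
  by_contra h
  have hne : ∀ n ∈ N, n • s • a ≠ a := fun n hn e => hs ((mul_mem_cancel_left hn).1 (hf _ a ((mul_smul _ _ _).trans e)))
  have hab : a ≠ s • a := fun e => hne 1 (one_mem _) ((one_smul _ _).trans e.symm)
  have hag := (hne g (hf g a hg)).symm
  have ua : (g * t * g⁻¹) • a = a := by rw [mul_smul, inv_smul_eq_iff.2 hg.symm, mul_smul, ha, hg]
  have ub : (g * t * g⁻¹) • g • s • a = g • s • a := by rw [mul_smul, inv_smul_smul, mul_smul, hb]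
  have u2 : (g * t * g⁻¹) * (g * t * g⁻¹) = 1 := by simp [mul_assoc, ← mul_assoc t, t2]
  have u1 : g * t * g⁻¹ ≠ 1 := by simpa using t1
  generalize g * t * g⁻¹ = u at ua ub u1 u2
  obtain ⟨p, hp, hd⟩ := Nat.exists_prime_and_dvd (n := Nat.card (zpowers (t * u))) (by
    rw [Nat.card_zpowers, ne_eq, orderOf_eq_one_iff]
    intro e
    rw [mul_left_cancel (e.trans t2.symm)] at ub
    exact (h3 t t1 a _ _ hab ha hb ub).elim hag.symm h)
  obtain ⟨x, ⟨k, rfl⟩, hx⟩ := Core.exists_mem_orderOf_eq_prime hp hd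
  have hxa : (t * u) ^ k • a = a := zpow_mem (show t * u ∈ stabilizer G a from mul_mem ha ua) k
  have x1 : (t * u) ^ k ≠ 1 := fun e => hp.one_lt.ne' (by simpa [e] using hx.symm)
  have inv : ∀ v : G, v * (t * u) * v⁻¹ = (t * u)⁻¹ → v • a = a → ∀ w, w ≠ a → (t * u) ^ k • w = w → v • w = w :=
    fun v hv va w hw e => (h3 _ x1 a w (v • w) hw.symm hxa e (inv_smul_eq_iff.1 (by
      rw [← inv_zpow, ← hv, conj_zpow, mul_smul, inv_smul_smul, mul_smul, e])).symm).resolve_left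
        fun e => hw ((smul_left_cancel_iff v).1 (e.trans va.symm))
  have hti : t⁻¹ = t := inv_eq_of_mul_eq_one_right t2
  have hui : u⁻¹ = u := inv_eq_of_mul_eq_one_right u2
  have key : ∀ y ∈ zpowers ((t * u) ^ k), ∀ w, y • w = w → w = a ∨ y = 1 := fun y hy w e => by
    by_contra! hc
    have := Fact.mk hp
    obtain ⟨j, hj⟩ := mem_zpowers_of_prime_card (G := zpowers ((t * u) ^ k)) ((Nat.card_zpowers _).trans hx) (g := ⟨y, hy⟩)
      (g' := ⟨_, mem_zpowers _⟩) fun e => hc.2 (congrArg Subtype.val e)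
    have e' : (t * u) ^ k • w = w := 
      (show y ^ j = (t * u) ^ k from congrArg Subtype.val hj) ▸ zpow_mem (show y ∈ stabilizer G w from e) j
    rcases h3 t t1 a _ w hab ha hb (inv t (by rw [mul_inv_rev, hti, hui, ← mul_assoc t, t2, one_mul]) ha w hc.1 e') with f | f
    · exact hc.1 f
    rcases h3 u u1 a _ w hag ua ub (inv u (by rw [mul_inv_rev, hti, hui, mul_assoc, mul_assoc, u2, mul_one]) ua w hc.1 e')
      with f' | f'
    · exact hc.1 f'
    exact h (f'.symm.trans f)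
  have hz : zpowers ((t * u) ^ k) ≤ N := zpowers_le.2 (hf _ a hxa)
  have d1 := Grp.card_dvd_ncard_orbit_sub_one hz (zpowers_le.2 hxa) fun y hy w _ => key y hy w
  have d2 := Grp.card_dvd_ncard_of_free (Q := zpowers ((t * u) ^ k)) (S := orbit N (s • a))
    (by rintro y hy _ ⟨n, rfl⟩; exact ⟨⟨y, hz hy⟩ * n, mul_smul _ _ _⟩)
    (by rintro y hy _ ⟨n, rfl⟩ e; exact (key y hy _ e).resolve_left (hne n n.2))
  rw [show orbit N (s • a) = s • orbit N a from Set.ext fun w => ⟨by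
      rintro ⟨n, rfl⟩; exact ⟨_, ⟨⟨_, hN.conj_mem' _ n.2 s⟩, rfl⟩, by simp [Subgroup.smul_def, mul_smul]⟩, by
      rintro ⟨_, ⟨n, rfl⟩, rfl⟩; exact ⟨⟨_, hN.conj_mem _ n.2 s⟩, by simp [Subgroup.smul_def, mul_smul]⟩⟩,
    Set.ncard_smul_set] at d2
  have := (Set.ncard_pos (Set.toFinite (orbit N a))).2 ⟨a, mem_orbit_self a⟩
  rw [Nat.card_zpowers, hx] at d1 d2
  exact hp.one_lt.ne' (Nat.dvd_one.1 (by simpa [Nat.sub_sub_self this] using Nat.dvd_sub d2 d1))

end

/-- Let G be a finite group acting faithfully and transitively on a finite set Ω with fixity 2 (every non-identity element fixes at most two points, and some fixes exactly two). Let α ∈ Ω and S a Sylow 2-subgroup of G. Then one of the following holds: the stabilizer S_α of α in S is trivial; S is dihedral or semidihedral and either |S_α| = 2 or |S : S_α| = 2; |S| ≥ 4, S has exactly one orbit of size 2 on Ω, every other S-orbit is regular, and G has a normal subgroup of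 index 2 or of index |S| which is a Frobenius group; or S ≤ G_α. -/
theorem result {G : Type*} [Group G] [Finite G] {Ω : Type*} [Fintype Ω] [MulAction G Ω] [FaithfulSMul G Ω] (htr : MulAction.IsPretransitive G Ω)
    (hfix : ∀ g : G, g ≠ 1 → Nat.card (MulAction.fixedBy Ω g) ≤ 2) (hex : ∃ g : G, g ≠ 1 ∧ Nat.card (MulAction.fixedBy Ω g) = 2) (α : Ω) (S : Sylow 2 G) :
    (S : Subgroup G) ⊓ MulAction.stabilizer G α = ⊥ ∨
    (((∃ n : ℕ, Nonempty (↥(S : Subgroup G) ≃* DihedralGroup n)) ∨ Cfsg.IsQuasiDihedral ↥(S : Subgroup G)) ∧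
       (Nat.card ↥((S : Subgroup G) ⊓ MulAction.stabilizer G α) = 2 ∨ ((S : Subgroup G) ⊓ MulAction.stabilizer G α).relIndex (S : Subgroup G) = 2)) ∨
    (4 ≤ Nat.card (S : Subgroup G) ∧
       (∃ ω : Ω, Nat.card (MulAction.orbit ↥(S : Subgroup G) ω) = 2 ∧
          ∀ ω' : Ω, ω' ∉ MulAction.orbit ↥(S : Subgroup G) ω → Nat.card (MulAction.orbit ↥(S : Subgroup G) ω') = Nat.card (S : Subgroup G)) ∧
       ∃ N : Subgroup G, N.Normal ∧ (N.index = 2 ∨ N.index = Nat.card (S : Subgroup G)) ∧ (∃ H : Subgroup ↥N, Cfsg.IsFrobeniusComplement H)) ∨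
    (S : Subgroup G) ≤ MulAction.stabilizer G α := by
  have h3 : ∀ g : G, g ≠ 1 → ∀ a b c : Ω, a ≠ b → g • a = a → g • b = b → g • c = c → c = a ∨ c = b := by
    intro g hg a b c hab ha hb hc
    by_contra! h
    have := (Set.two_lt_ncard_iff (s := fixedBy Ω g)).2 ⟨a, b, c, ha, hb, hc, hab, h.1.symm, h.2.symm⟩
    exact absurd (hfix g hg) (not_le.2 this)
  refine or_iff_not_imp_left.2 fun h1 => or_assoc.1 (or_iff_not_imp_right.2 fun h2 => ?_)
  have hc := card_mul_relIndex (inf_le_left (a := (S : Subgroup G)) (b := stabilizer G α))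
  have hlt := (one_lt_card_iff_ne_bot _).2 h1
  by_cases hi : ((S : Subgroup G) ⊓ stabilizer G α).relIndex S = 2
  swap
  · have h4 := (two_or h3 S.2 h1 h2).resolve_right hi
    obtain ⟨x, -, x2, hx⟩ := cen_four h3 S.2 h4 h2
    exact Or.inl ⟨(or_assoc.2 (S3224.result S.2 x x2 hx)).resolve_right (by rw [← hc, h4]; omega), Or.inl h4⟩
  rw [hi] at hc
  have key : ∀ a ∈ (S : Subgroup G), ∀ b ∈ (S : Subgroup G), (a * b) • α = α ↔ (a • α = α ↔ b • α = α) :=
    fun a ha b hb => by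
      simpa [mem_subgroupOf, ha, hb, mul_mem] using mul_mem_iff_of_index_two hi (a := ⟨a, ha⟩) (b := ⟨b, hb⟩)
  obtain ⟨s, hs, hs'⟩ := SetLike.not_le_iff_exists.1 h2
  replace hs' : s • α ≠ α := hs'
  have hT : ∀ t ∈ (S : Subgroup G), ∀ u ∈ (S : Subgroup G), t • α = α → t • u • α = u • α := fun t ht u hu h => by
    rw [← inv_smul_eq_iff, ← mul_smul, ← mul_smul, key _ (mul_mem (inv_mem hu) ht) _ hu, key _ (inv_mem hu) _ ht,
      inv_smul_eq_iff, eq_comm (a := α)]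
    tauto
  have horb : orbit (S : Subgroup G) α = {α, s • α} := Set.Subset.antisymm (by
    rintro _ ⟨u, rfl⟩
    refine or_iff_not_imp_left.2 fun h => (inv_smul_eq_iff.1 ?_ : u.1 • α = s • α)
    rw [← mul_smul, key _ (inv_mem hs) _ u.2, inv_smul_eq_iff]
    exact iff_of_false hs'.symm h) (Set.pair_subset (mem_orbit_self _) ⟨⟨s, hs⟩, rfl⟩)
  have hfree : ∀ w ∉ orbit (S : Subgroup G) α, ∀ t ∈ (S : Subgroup G), t • α = α → t • w = w → t = 1 :=
    fun w hw t ht h e => by_contra fun t1 => hw (horb.ge (h3 t t1 _ _ _ hs'.symm h (hT t ht s hs h) e))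
  by_cases h : ∃ w ∉ orbit (S : Subgroup G) α, (S : Subgroup G) ⊓ stabilizer G w ≠ ⊥
  · obtain ⟨w, hw, h⟩ := h
    have h4 := card_le (U := (S : Subgroup G) ⊓ stabilizer G w) (a := α) fun u hu => horb.le ⟨⟨u, hu.1⟩, rfl⟩
    rw [show (S : Subgroup G) ⊓ stabilizer G w ⊓ stabilizer G α = ⊥ from eq_bot_iff.2 fun u hu =>
      hfree w hw u hu.1.1 hu.2 hu.1.2, card_bot] at h4
    have := (one_lt_card_iff_ne_bot _).2 h
    obtain ⟨x, x1, x2, hx⟩ := cen_four h3 S.2 (w := w) (by omega) fun e => by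
      rw [inf_eq_left.2 e] at h4; omega
    refine Or.inl ⟨?_, Or.inr hi⟩
    rcases S3224.result S.2 x x2 hx with e | e | e
    · exact Or.inl e
    · exact Or.inr e
    have hx2 : x ^ 2 = 1 := orderOf_dvd_iff_pow_eq_one.1 x2.dvd
    have hsq : ∀ y : (S : Subgroup G), y.1 • α = α → y ^ 2 = 1 := fun y hy => Subtype.ext
      (sq_one (T := (S : Subgroup G) ⊓ stabilizer G α) (by omega) ⟨y.2, hy⟩)
    have : Nontrivial (S : Subgroup G) := Finite.one_lt_card_iff_nontrivial.1 (by omega)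
    have : IsKleinFour (S : Subgroup G) := ⟨e, (Monoid.exponent_eq_prime_iff Nat.prime_two).2 fun y hy => orderOf_eq_prime (by
      by_cases h : y.1 • α = α
      · exact hsq y h
      have := hsq (x * y) ((key _ x.2 _ y.2).2 (iff_of_false (fun e => by
        rw [show x = 1 from Subtype.ext (hfree w hw x x.2 e x1)] at x2; simp at x2) h))
      rwa [Commute.mul_pow (mem_centralizer_singleton_iff.1 ((eq_top_of_card_eq _ (hx.trans e.symm)).ge (mem_top y))).symm,
        hx2, one_mul] at this) hy⟩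
    exact Or.inl ⟨2, IsKleinFour.nonempty_mulEquiv⟩
  push Not at h
  obtain ⟨N, hN, hN1, hN2⟩ := exists_ker S hi fun u hu w e => by
    by_cases hw : w ∈ orbit (S : Subgroup G) α
    · obtain ⟨v, rfl⟩ := hw
      replace e : u • v.1 • α = v.1 • α := e
      rw [← inv_smul_eq_iff, ← mul_smul, ← mul_smul, key _ (mul_mem (inv_mem v.2) hu) _ v.2, key _ (inv_mem v.2) _ hu,
        inv_smul_eq_iff, eq_comm (a := α)] at e
      tauto
    · rw [mem_bot.1 ((h w hw).le (mem_inf.2 ⟨hu, e⟩)), one_smul]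
  have := normal_of_index_eq_two hN
  obtain ⟨t, ht, t2⟩ := Core.exists_mem_orderOf_eq_prime Nat.prime_two
    ((S.2.to_le inf_le_left).card_eq_or_dvd.resolve_left hlt.ne')
  have t1 : t ≠ 1 := fun e => by simp [e] at t2
  have hsN : s ∉ N := fun e => hs' (hN1 s hs e)
  have hfx := fun g => fix_other h3 hN2 hsN t1 ((sq t).symm.trans (orderOf_dvd_iff_pow_eq_one.1 t2.dvd)) ht.2 (hT t ht.1 s hs ht.2) (g := g)
  refine Or.inr ⟨by omega, ⟨α, ?_, fun w hw => ?_⟩, N, this, Or.inl hN, (stabilizer G α).subgroupOf N, fun e => t1 ?_,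
    fun e => t1 ?_, fun g hg => eq_bot_iff.2 fun x hx => ?_⟩
  · rw [Nat.card_coe_set_eq, horb, Set.ncard_pair hs'.symm]
  · rw [Nat.card_coe_set_eq, ← index_stabilizer, show stabilizer (S : Subgroup G) w = ⊥ from eq_bot_iff.2 fun u hu =>
      Subtype.ext ((h w hw).le (mem_inf.2 ⟨u.2, hu⟩)), index_bot]
  · exact congrArg Subtype.val (e.le (show (⟨t, hN2 t α ht.2⟩ : N) ∈ _ from ht.2))
  · refine FaithfulSMul.eq_of_smul_eq_smul (α := Ω) fun w => ?_
    obtain ⟨g, rfl⟩ := exists_smul_eq G α w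
    have : (g⁻¹ * t * g) • α = α := e.ge (mem_top ⟨_, this.conj_mem' t (hN2 t α ht.2) g⟩)
    rwa [mul_smul, mul_smul, inv_smul_eq_iff, ← one_smul G (g • α), ← mul_smul, mul_one] at this
  · by_contra x1
    have h5 : (g.1⁻¹ * x * g) • α = α := by simpa [mem_subgroupOf] using mem_pointwise_smul_iff_inv_smul_mem.1 hx.2
    rw [mul_smul, mul_smul, inv_smul_eq_iff] at h5
    rcases h3 x (fun e => x1 (Subtype.ext e)) _ _ _ hs'.symm hx.1 (hfx x hx.1) h5 with e | e
    · exact hg e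
    · exact hsN ((mul_mem_cancel_left (inv_mem g.2)).1 (hN2 _ α (by rw [mul_smul, ← e, inv_smul_smul])))

end Cfsg.Agent.S3390
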