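import Cfsg.Statements.S3396
import Cfsg.Agent.Lib.CIT.Orders

set_option autoImplicit false
open Cfsg

namespace Cfsg.Agent.S3396

/-- Let G be a finite group whose order has at least three distinct prime divisors, and suppose every nonidentity element of G has order a power of 2 or a prime other than 5. Then G is isomorphic to PSL₂(7) (here F is any field with 7 elements). In particular a finite group whose set of element orders is {1, 2, 3, 4, 7} is PSL₂(7). -/
theorem result {G : Type*} [Group G] [Finite G]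
    {F : Type*} [Field F] [Fintype F] (hF : Fintype.card F = 7)
    (h3 : 3 ≤ (Nat.card G).primeFactors.card)
    (hord : ∀ g : G, g ≠ 1 → (∃ k : ℕ, orderOf g = 2 ^ k) ∨ ((orderOf g).Prime ∧ orderOf g ≠ 5)) :
    Nonempty (G ≃* Matrix.ProjectiveSpecialLinearGroup (Fin 2) F) := by
  open Lib Lib.CIT Lib.Spec in
  have h : ∀ g : G, g ≠ 1 → IsPrimePow (orderOf g) := fun g g1 => (hord g g1).elim
    (fun ⟨k, hk⟩ => hk ▸ Nat.prime_two.prime.isPrimePow.pow fun e => g1 (orderOf_eq_one_iff.1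
      (by rw [hk, e, pow_zero]))) fun e => e.1.prime.isPrimePow
  have k : ∀ n ∈ sp G, n ≠ 5 ∧ n ≠ 9 := by
    rintro _ ⟨g, rfl⟩
    constructor <;> intro e <;> rcases hord g (by rintro rfl; simp at e) with ⟨k, hk⟩ | hk
    · exact not_dvd_two_pow Nat.prime_five (by norm_num) k (hk ▸ e.symm.dvd)
    · exact hk.2 e
    · exact not_dvd_two_pow Nat.prime_three (by norm_num) k (hk ▸ e ▸ by norm_num)
    · exact absurd (e ▸ hk.1) (by norm_num)
  have h5 : ¬ 5 ∣ Nat.card G := fun e => (k 5 ((prime_mem_sp_iff Nat.prime_five).2 e)).1 rfl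
  have h6 := mt (dvd_card_quot (G := G) Nat.prime_five (by norm_num)).1 h5
  rcases eppo_cases h (eppo_not_solvable h h3) with ⟨K, _, _, ⟨-, h1⟩ | ⟨h1, -⟩, ⟨e⟩⟩ |
    ⟨K, _, _, ⟨-, h1, -⟩ | ⟨-, h1, -⟩⟩ | ⟨K, _, _, ⟨-, h1⟩ | ⟨h1, -⟩ | ⟨-, h1⟩ | ⟨h1, -⟩, ⟨e⟩⟩ | ⟨h1, -⟩ |
    ⟨K, _, _, -, h1, -⟩
  any_goals omega
  · have := Sz.charP_of_card (n := 3) h1
    exact ((k 9 (sp_quotient _ (((sp_congr e).trans sp_psl2_even).ge (.inr (.inr (by
      rw [Nat.card_eq_fintype_card, h1])))))).2 rfl).elim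
  · exact ⟨e.trans (Linear.congrPSL (.refl _) (FiniteField.ringEquivOfCardEq (h1.trans hF.symm)))⟩
  · obtain ⟨-, y, hy⟩ := exists_ord (F := K) (by rw [h1]; decide)
    exact ((k _ ((sp_congr e).ge (orderOf_mem_sp y))).2 (by omega)).elim

end Cfsg.Agent.S3396
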