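import Cfsg.Statements.S3403
import Cfsg.Agent.Lib.E11.R
import Cfsg.Agent.Lib.PSL2.Proper
import Cfsg.Agent.Lib.PSL2.BaseChange

set_option autoImplicit false
open Cfsg

namespace Cfsg.Agent.S3403

open Subgroup Cfsg.Lib Cfsg.Lib.Transfer Cfsg.Lib.E11

/-- Let G be a finite group and P a non-normal subgroup of order 11 whose conjugates generate G, such that any two distinct conjugates of P generate a subgroup isomorphic to PSL(2, 11) or to the first Janko group. Then G itself is isomorphic to PSL(2, 11) or to the first Janko group. -/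
theorem result {G : Type*} [Group G] [Finite G] {F : Type*} [Field F] [Fintype F] (hF : Fintype.card F = 11)
    (P : Subgroup G) (hP : Nat.card ↥P = 11) (hPn : ¬ P.Normal) (hgen : Subgroup.normalClosure (P : Set G) = ⊤)
    (hpair : ∀ g : G, P.map (MulAut.conj g).toMonoidHom ≠ P →
      Nonempty (↥(P ⊔ P.map (MulAut.conj g).toMonoidHom) ≃* Matrix.ProjectiveSpecialLinearGroup (Fin 2) F) ∨
        Cfsg.Spor.IsoJ1 ↥(P ⊔ P.map (MulAut.conj g).toMonoidHom)) :
    Nonempty (G ≃* Matrix.ProjectiveSpecialLinearGroup (Fin 2) F) ∨ Cfsg.Spor.IsoJ1 G := by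
  let Ω := {Q : Subgroup G // ∃ g : G, g ⋆ P = Q}
  let _ : MulAction G Ω :=
    { smul := fun g Q => ⟨g ⋆ Q.1, let ⟨k, e⟩ := Q.2; ⟨g * k, by rw [← conj_conj, e]⟩⟩
      one_smul := fun Q => Subtype.ext (conj_one _)
      mul_smul := fun g k Q => Subtype.ext (conj_conj g k _).symm }
  have hF' : Nat.card F = 11 := Nat.card_eq_fintype_card.trans hF
  have hb : ∀ g : G, g ⋆ P ≠ P → Blk (P ⊔ g ⋆ P) := fun g hg => (hpair g hg).imp_left fun ⟨e⟩ =>
    ⟨(haveI := PSL2.isSimpleGroup_psl (F := F) (by omega); e.isSimpleGroup), by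
      have := PSL2.card_PSL2_mul (K := F)
      rw [hF', ← Nat.card_congr e.toEquiv, show Nat.gcd 2 (11 - 1) = 2 from rfl] at this
      omega⟩
  have H : Geo (Subtype.val : Ω → Subgroup G) := ⟨Subtype.val_injective, fun _ _ => rfl, fun ⟨_, g, e⟩ =>
    e ▸ (card_conj g P).trans hP, fun {a b} hab => by
      obtain ⟨_, g, rfl⟩ := a
      obtain ⟨_, k, rfl⟩ := b
      have := (hb (g⁻¹ * k) fun e => hab (Subtype.ext (by
        rw [← conj_conj, conj_eq_iff_eq_inv_conj, inv_inv] at e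
        exact e.symm))).of_equiv (conjEquiv g _)
      rwa [conj_sup, conj_conj, mul_inv_cancel_left] at this⟩
  obtain ⟨g, hg⟩ : ∃ g : G, g ⋆ P ≠ P := by_contra fun h => hPn (normalizer_eq_top_iff.1 (eq_top_iff.2 fun g _ =>
    conj_eq_self_iff.1 (by_contra fun e => h ⟨g, e⟩)))
  let a : Ω := ⟨P, 1, conj_one P⟩
  let b : Ω := ⟨g ⋆ P, g, rfl⟩
  have hab : a ≠ b := fun e => hg (congrArg Subtype.val e).symm
  have hs : span (Subtype.val : Ω → Subgroup G) ⊤ = ⊤ := by
    have : (span (Subtype.val : Ω → Subgroup G) ⊤).Normal := normalizer_eq_top_iff.1 (eq_top_iff.2 fun g _ =>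
      H.norm_span (le_normalizer (mem_top g)))
    exact eq_top_iff.2 (hgen.ge.trans (normalClosure_le_normal (le_span (Subtype.val : Ω → Subgroup G) a)))
  rcases main _ rfl H ⟨a, b, hab⟩ hs with h | h
  · have e : ↥(P ⊔ g ⋆ P) ≃* G := (MulEquiv.subgroupCongr (H.pair_eq h (le_top (a := a.1)) (le_top (a := b.1)) hab)).trans topEquiv
    exact (hpair g hg).imp (fun ⟨f⟩ => ⟨e.symm.trans f⟩) (isoJ1_equiv · e)
  · exact .inr (isoJ1_equiv h topEquiv)

end Cfsg.Agent.S3403
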