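import Cfsg.Statements.S3718
import Cfsg.Agent.Lib.BG.Hall
import Cfsg.Agent.Lib.Spec.SimpleCases
import Cfsg.Agent.Lib.PSL2.SmallIso
import Cfsg.Agent.Lib.Char.Burnside

set_option autoImplicit false
open Cfsg

namespace Cfsg.Agent.S3718

section
open Subgroup Cfsg.Lib Cfsg.Lib.BG Cfsg.Lib.Transfer
open Cfsg.Lib.Spec Cfsg.Lib.FGS Cfsg.Lib.PSL2 Cfsg.Lib.CIT

theorem np {d x : ℕ} (h : d ∣ x) (h1 : d ≠ 1) (h2 : d ≠ x) : ¬ x.Prime :=
  fun e => (e.eq_one_or_self_of_dvd d h).elim h1 h2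

theorem odd_case {k : ℕ} (hk : 2 ≤ k) (h3 : 3 ∣ 2 * k + 1 → ∃ n, 2 * k + 1 = 3 ^ n)
    (h : ∀ x y, (x ∣ k ∨ x ∣ k + 1) → (y ∣ k ∨ y ∣ k + 1) → 1 < x → 1 < y → x ≠ y → x.Prime ∨ y.Prime) :
    (k = 2 ∨ k = 3 ∨ k = 4 ∨ k = 5 ∨ k = 6) ∨ ∃ n r s : ℕ, r.Prime ∧ s.Prime ∧ 3 ^ n - 1 = 2 * r ∧ 3 ^ n + 1 = 4 * s ∧
      2 * k + 1 = 3 ^ n := by
  have h0 := h k (k + 1) (.inl dvd_rfl) (.inr dvd_rfl) (by omega) (by omega) (by omega)
  by_contra! hc
  obtain ⟨⟨n2, n3, n4, n5, n6⟩, hc⟩ := hc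
  by_cases h1 : 3 ∣ 2 * k + 1
  · obtain ⟨n, hn⟩ := h3 h1
    have h2 : ∀ n, 3 ^ n % 8 = 1 ∨ 3 ^ n % 8 = 3 := fun n => by
      induction n with
      | zero => simp
      | succ n ih => rw [pow_succ]; omega
    rcases hn ▸ h2 n with h2 | h2
    · exact (h 4 k (.inl (by omega)) (.inl dvd_rfl) (by omega) (by omega) (by omega)).elim (by norm_num)
        (np (d := 2) (by omega) (by omega) (by omega))
    · have h4 := np (d := 2) (x := k + 1) (by omega) (by omega) (by omega)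
      exact hc n k ((k + 1) / 2) (h0.resolve_right h4) ((h _ (k + 1) (.inr (Nat.div_dvd_of_dvd (by omega))) (.inr dvd_rfl)
        (by omega) (by omega) (by omega)).resolve_right h4) (by omega) (by omega) hn
  have h2 : k % 6 = 0 ∨ k % 6 = 5 ∨ k % 6 = 2 ∨ k % 6 = 3 := by omega
  rcases h2 with h2 | h2 | h2 | h2
  · exact (h 6 k (.inl (by omega)) (.inl dvd_rfl) (by omega) (by omega) (by omega)).elim (by norm_num)
      (np (d := 2) (by omega) (by omega) (by omega))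
  · exact (h 6 (k + 1) (.inr (by omega)) (.inr dvd_rfl) (by omega) (by omega) (by omega)).elim (by norm_num)
      (np (d := 2) (by omega) (by omega) (by omega))
  · exact h0.elim (np (d := 2) (by omega) (by omega) (by omega)) (np (d := 3) (by omega) (by omega) (by omega))
  · exact h0.elim (np (d := 3) (by omega) (by omega) (by omega)) (np (d := 2) (by omega) (by omega) (by omega))

theorem even_case {n : ℕ} (hn : 2 ≤ n)
    (h : ∀ x y, (x ∣ 2 ^ n - 1 ∨ x ∣ 2 ^ n + 1) → (y ∣ 2 ^ n - 1 ∨ y ∣ 2 ^ n + 1) → 1 < x → 1 < y → x ≠ y → x.Prime ∨ y.Prime) :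
    n = 2 ∨ n = 4 ∨ ∃ r : ℕ, (2 ^ n - 1).Prime ∧ r.Prime ∧ 2 ^ n + 1 = 3 * r := by
  rcases Nat.even_or_odd' n with ⟨m, rfl | rfl⟩
  · by_contra! hc
    have h1 : 2 ^ 3 ≤ 2 ^ m := Nat.pow_le_pow_right two_pos (by omega)
    have h2 : ¬ 3 ∣ 2 ^ m := fun e => absurd (Nat.prime_three.dvd_of_dvd_pow e) (by norm_num)
    obtain ⟨u, hu⟩ : ∃ u, 2 ^ m = u + 1 := ⟨2 ^ m - 1, by omega⟩
    have h3 : 2 ^ (2 * m) - 1 = u * (u + 2) := by
      rw [mul_comm, pow_mul, hu, show (u + 1) ^ 2 = u * (u + 2) + 1 by ring, Nat.add_sub_cancel]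
    rw [h3] at h
    have h4 : ¬ (u * (u + 2)).Prime := Nat.not_prime_mul (by omega) (by omega)
    have h5 : u + 2 < u * (u + 2) := by nlinarith
    rcases (by omega : 3 ∣ u ∨ 3 ∣ u + 2) with e | e
    · exact (h u _ (.inl (dvd_mul_right _ _)) (.inl dvd_rfl) (by omega) (by omega) (by omega)).elim
        (np e (by omega) (by omega)) h4
    · exact (h (u + 2) _ (.inl (dvd_mul_left _ _)) (.inl dvd_rfl) (by omega) (by omega) (by omega)).elim
        (np e (by omega) (by omega)) h4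
  · have h1 : 2 ^ 3 ≤ 2 ^ (2 * m + 1) := Nat.pow_le_pow_right two_pos (by omega)
    have h2 : 2 ^ (2 * m + 1) % 3 = 2 := by simp [pow_succ, pow_mul, Nat.mul_mod, Nat.pow_mod]
    generalize 2 ^ (2 * m + 1) = q at *
    have h4 := np (d := 3) (x := q + 1) (by omega) (by omega) (by omega)
    exact .inr (.inr ⟨(q + 1) / 3, (h _ _ (.inl dvd_rfl) (.inr dvd_rfl) (by omega) (by omega) (by omega)).resolve_right h4,
      (h _ _ (.inr (Nat.div_dvd_of_dvd (by omega))) (.inr dvd_rfl) (by omega) (by omega) (by omega)).resolve_right h4, by omega⟩)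

end

/-- Let G be a finite simple group whose set of element orders contains at most one composite number (at most one element order that is neither 1 nor a prime). Then G is cyclic of prime order, or isomorphic to PSL₂(q) for q ∈ {5, 7, 8, 9, 11, 13, 16}, to PSL₃(4), to the Suzuki group Sz(8), to PSL₂(3ⁿ) with (3ⁿ − 1)/2 and (3ⁿ + 1)/4 both prime, or to PSL₂(2ⁿ) with 2ⁿ − 1 and (2ⁿ + 1)/3 both prime. -/
theorem result {G : Type*} [Group G] [Finite G] [IsSimpleGroup G]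
    (h1 : {n : ℕ | n ∈ Set.range (orderOf : G → ℕ) ∧ 1 < n ∧ ¬ n.Prime}.Subsingleton) :
    (Nat.card G).Prime ∨
    (∃ (F : Type) (_ : Field F) (_ : Fintype F), (Fintype.card F = 5 ∨ Fintype.card F = 7 ∨ Fintype.card F = 8 ∨ Fintype.card F = 9 ∨
        Fintype.card F = 11 ∨ Fintype.card F = 13 ∨ Fintype.card F = 16) ∧ Nonempty (G ≃* Matrix.ProjectiveSpecialLinearGroup (Fin 2) F)) ∨
    (∃ (F : Type) (_ : Field F) (_ : Fintype F), Fintype.card F = 4 ∧ Nonempty (G ≃* Matrix.ProjectiveSpecialLinearGroup (Fin 3) F)) ∨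
    (∃ (F : Type) (_ : Field F) (_ : Fintype F), Fintype.card F = 8 ∧ Nonempty (G ≃* ↥(Cfsg.Lie.Sz F 4))) ∨
    (∃ (F : Type) (_ : Field F) (_ : Fintype F), ∃ n r s : ℕ, r.Prime ∧ s.Prime ∧ 3 ^ n - 1 = 2 * r ∧ 3 ^ n + 1 = 4 * s ∧
        Fintype.card F = 3 ^ n ∧ Nonempty (G ≃* Matrix.ProjectiveSpecialLinearGroup (Fin 2) F)) ∨
    (∃ (F : Type) (_ : Field F) (_ : Fintype F), ∃ n r : ℕ, (2 ^ n - 1).Prime ∧ r.Prime ∧ 2 ^ n + 1 = 3 * r ∧
        Fintype.card F = 2 ^ n ∧ Nonempty (G ≃* Matrix.ProjectiveSpecialLinearGroup (Fin 2) F)) := by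
  open Subgroup Cfsg.Lib Cfsg.Lib.BG Cfsg.Lib.Transfer in
  open Cfsg.Lib.Spec Cfsg.Lib.FGS Cfsg.Lib.PSL2 Cfsg.Lib.CIT in
  have h : ∀ x ∈ sp G, ∀ y ∈ sp G, 1 < x → 1 < y → x ≠ y → x.Prime ∨ y.Prime := fun x hx y hy x1 y1 e => by
    by_contra! hc
    exact e (h1 ⟨hx, x1, hc.1⟩ ⟨hy, y1, hc.2⟩)
  by_cases hG : IsMulCommutative G
  · exact .inl (Group.is_simple_iff_prime_card.1 inferInstance)
  right
  suffices k : (∃ (F : Type) (_ : Field F) (_ : Fintype F), 3 < Fintype.card F ∧ Nonempty (G ≃* Matrix.ProjectiveSpecialLinearGroup (Fin 2) F)) ∨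
      Lie.IsoSuzuki G ∨ ∃ (F : Type) (_ : Field F) (_ : Fintype F), Fintype.card F = 4 ∧
        Nonempty (G ≃* Matrix.ProjectiveSpecialLinearGroup (Fin 3) F) by
    rcases k with ⟨F, _, _, hF, ⟨e⟩⟩ | ⟨F, _, _, m, hm, hF, ⟨e⟩⟩ | k
    · obtain ⟨p, hp⟩ := CharP.exists F
      have := Fact.mk (CharP.char_is_prime F p)
      rw [sp_congr e, sp_psl2 p, Nat.card_eq_fintype_card] at h
      obtain ⟨f, f0, hf⟩ := exists_card_eq_pow (F := F) (p := p)
      rw [Nat.card_eq_fintype_card] at hf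
      rcases Nat.even_or_odd' (Fintype.card F) with ⟨k, hk | hk⟩
      · obtain rfl : p = 2 := ((Nat.prime_dvd_prime_iff_eq Nat.prime_two this.out).1
          (Nat.prime_two.dvd_of_dvd_pow (hf ▸ hk ▸ dvd_mul_right _ _))).symm
        rw [Nat.coprime_two_left.2 (show Odd (Fintype.card F - 1) from ⟨k - 1, by omega⟩), Nat.div_one, Nat.div_one, hf] at h
        have h2 : 2 ≤ f := by
          by_contra h2
          obtain rfl : f = 1 := by omega
          omega
        rcases even_case h2 fun x y hx hy => h x (.inr hx) y (.inr hy) with rfl | rfl | ⟨r, h3⟩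
        · have := Fact.mk Nat.prime_five
          exact .inl ⟨ZMod 5, _, inferInstance, .inl (by simp), ⟨e.trans ((equiv_psl_alt_five (.inl (by simpa using hf))).some.trans
            (equiv_psl_alt_five (.inr (by simp))).some.symm)⟩⟩
        · exact .inl ⟨F, _, _, by omega, ⟨e⟩⟩
        · exact .inr (.inr (.inr (.inr ⟨F, _, _, f, r, h3.1, h3.2.1, h3.2.2, hf, ⟨e⟩⟩)))
      · rw [hk, show Nat.gcd 2 (2 * k + 1 - 1) = 2 by simp, show (2 * k + 1 - 1) / 2 = k by omega,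
          show (2 * k + 1 + 1) / 2 = k + 1 by omega] at h
        rcases odd_case (k := k) (by omega) (fun h3 => ⟨f, by
          rw [← hk, hf, ← (Nat.prime_dvd_prime_iff_eq Nat.prime_three this.out).1
            (Nat.prime_three.dvd_of_dvd_pow (hf ▸ hk ▸ h3))]⟩) fun x y hx hy => h x (.inr hx) y (.inr hy) with
          h3 | ⟨n, r, s, h3, h4, h5, h6, h7⟩
        · exact .inl ⟨F, _, _, by omega, ⟨e⟩⟩
        · exact .inr (.inr (.inr (.inl ⟨F, _, _, n, r, s, h3, h4, h5, h6, hk.trans h7, ⟨e⟩⟩)))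
    · obtain ⟨h4, -, ha, hb⟩ := sz_orders hm hF e
      obtain rfl : m = 1 := by
        have h2 : 2 ^ 1 ≤ 2 ^ m := Nat.pow_le_pow_right two_pos hm
        have h3 : ∀ m, 2 ^ m % 5 ≠ 0 := fun m e =>
          absurd (Nat.prime_five.dvd_of_dvd_pow (Nat.dvd_of_mod_eq_zero e)) (by norm_num)
        rw [pow_succ, pow_succ, mul_comm 2 m, pow_mul] at ha hb
        obtain ⟨s, hs⟩ : ∃ s, 2 ^ m = s + 2 := ⟨2 ^ m - 2, by omega⟩
        have h5 := h3 m
        rw [hs] at ha hb h5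
        rw [show (s + 2) ^ 2 * 2 = 2 * s ^ 2 + 6 * s + 4 + (s + 2) * 2 by ring, Nat.add_sub_cancel] at hb
        have h6 := (h 4 h4 _ ha (by omega) (by omega) (by omega)).resolve_left (by norm_num)
        have h7 := (h 4 h4 _ hb (by omega) (by omega) (by omega)).resolve_left (by norm_num)
        have h8 : 5 ∣ (s + 2) ^ 2 * 2 + (s + 2) * 2 + 1 ∨ 5 ∣ 2 * s ^ 2 + 6 * s + 4 + 1 := by
          have : s % 5 = 0 ∨ s % 5 = 1 ∨ s % 5 = 2 ∨ s % 5 = 4 := by omega
          rcases this with e | e | e | e <;> simp [Nat.dvd_iff_mod_eq_zero, Nat.add_mod, Nat.mul_mod, Nat.pow_mod, e]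
        rcases h8 with e | e
        · exact (np e (by omega) (by nlinarith) h6).elim
        · have : s = 0 := by
            by_contra h9
            exact np e (by omega) (by omega) h7
          exact Nat.pow_right_injective le_rfl (hs.trans (by simp [this]))
      exact .inr (.inr (.inl ⟨F, _, _, hF, ⟨e⟩⟩))
    · exact .inr (.inl k)
  by_cases hc : IsCIT G
  · exact cit_simple hG hc
  simp only [IsCIT, not_forall] at hc
  obtain ⟨t, x, ht, e, ho, x1⟩ := hc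
  have k : ∀ t x : G, orderOf t = 2 → t * x = x * t → ∀ r, r.Prime → r ≠ 2 → r ∣ orderOf x → 2 * r ∈ sp G :=
    fun t x ht e r hr h2 hx => by
      have := mul_mem_sp_of_commute (Commute.pow_right e (orderOf x / r)) (by
        rw [ht, orderOf_pow_orderOf_div (orderOf_pos x).ne' hx]; exact (Nat.coprime_primes Nat.prime_two hr).2 h2.symm)
      rwa [ht, orderOf_pow_orderOf_div (orderOf_pos x).ne' hx] at this
  obtain ⟨r, hr, h2⟩ := Nat.exists_prime_and_dvd (orderOf_eq_one_iff.not.2 x1)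
  have h3 : r ≠ 2 := fun e => ho.not_two_dvd_nat (e ▸ h2)
  have h4 := k t x ht e r hr h3 h2
  have h5 := hr.two_le
  have h6 : ¬ (2 * r).Prime := Nat.not_prime_mul (by omega) (by omega)
  obtain ⟨S⟩ : Nonempty (Sylow 2 G) := inferInstance
  obtain ⟨F, _, _, hF, e⟩ := ab_simple hG S (PGroup.elemAb_two_iff.2 fun s hs => by_contra fun e => by
    obtain ⟨v, ⟨i, rfl⟩, hv⟩ := Inv.exists_involution_mem_of_isPGroup
      (pgroup_of_le S.isPGroup' (zpowers_le.2 (pow_mem hs 2))) (by rwa [Ne, zpowers_eq_bot])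
    exact (h 4 ⟨s ^ i, ord4_of_sq (by rwa [← zpow_natCast, zpow_comm, zpow_natCast])⟩ _ h4 (by omega) (by omega)
      (by omega)).elim (by norm_num) h6).1 fun t ht => Char.isSolvable_of_forall_prime_dvd _ 2 r fun s hs h7 => by
    by_contra! h8
    have := Fact.mk hs
    obtain ⟨⟨y, hy⟩, h9⟩ := exists_prime_orderOf_dvd_card' s h7
    rw [orderOf_mk] at h9
    have := hs.two_le
    exact (h _ (k t y ht (mem_cent1.1 hy).symm s hs h8.1 h9.symm.dvd) _ h4 (by omega) (by omega)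
      (by omega)).elim (Nat.not_prime_mul (by omega) (by omega)) h6
  refine .inl ⟨F, inferInstance, inferInstance, ?_, e⟩
  rcases hF with hF | ⟨n, hn, hF⟩
  · omega
  · exact hF ▸ lt_of_lt_of_le (by norm_num) (Nat.pow_le_pow_right two_pos hn)

end Cfsg.Agent.S3718
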