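import Cfsg.Statements.S3406
import Cfsg.Agent.Lib.BG.Hall
import Cfsg.Agent.S3718

set_option autoImplicit false
open Cfsg

namespace Cfsg.Agent.S3406

section
open Subgroup Cfsg.Lib Cfsg.Lib.BG Cfsg.Lib.Transfer
open Cfsg.Lib.Spec Cfsg.Lib.FGS Cfsg.Lib.PSL2 Cfsg.Lib.CIT

theorem four_mem {F : Type*} [Field F] [Fintype F] (hF : Fintype.card F = 4) :
    4 ∈ sp (Matrix.ProjectiveSpecialLinearGroup (Fin 3) F) := by
  have : CharP F 2 := Sz.charP_of_card (n := 2) hF
  have h2 : (1 + 1 : F) = 0 := CharTwo.add_self_eq_zero 1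
  let u : Matrix.SpecialLinearGroup (Fin 3) F := ⟨!![1, 1, 0; 0, 1, 1; 0, 0, 1], by simp [Matrix.det_fin_three]⟩
  have h1 : (u ^ 2).1 = !![1, 0, 1; 0, 1, 0; 0, 0, 1] := by
    rw [pow_two, Matrix.SpecialLinearGroup.coe_mul]
    simp [u, h2]
  refine ⟨QuotientGroup.mk u, orderOf_eq_prime_pow (p := 2) (n := 1) (fun e => ?_) ?_⟩
  · rw [← QuotientGroup.mk_pow, QuotientGroup.eq_one_iff, Matrix.SpecialLinearGroup.mem_center_iff] at e
    obtain ⟨r, -, e⟩ := e
    have := congrFun (congrFun (e.trans h1) 0) 2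
    simp at this
  · rw [← QuotientGroup.mk_pow, show u ^ 2 ^ (1 + 1) = 1 from Subtype.ext (by
      rw [show 2 ^ (1 + 1) = 2 + 2 by rfl, pow_add, Matrix.SpecialLinearGroup.coe_mul, h1]
      simp [h2, Matrix.one_fin_three])]
    rfl

end

/-- A non-abelian finite simple group on whose elements the full automorphism group has at most five orbits is isomorphic to the alternating group of degree 5 or 6, to PSL(2, 7) or to PSL(2, 8). -/
theorem result {G : Type*} [Group G] [Finite G] [IsSimpleGroup G] (hG : ¬ IsMulCommutative G)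
    (h5 : Nat.card (MulAction.orbitRel.Quotient (MulAut G) G) ≤ 5) :
    Nonempty (G ≃* ↥(alternatingGroup (Fin 5))) ∨ Nonempty (G ≃* ↥(alternatingGroup (Fin 6))) ∨
      (∃ (F : Type) (_ : Field F) (_ : Fintype F), (Fintype.card F = 7 ∨ Fintype.card F = 8) ∧
        Nonempty (G ≃* Matrix.ProjectiveSpecialLinearGroup (Fin 2) F)) := by
  open Subgroup Cfsg.Lib Cfsg.Lib.BG Cfsg.Lib.Transfer in
  open Cfsg.Lib.Spec Cfsg.Lib.FGS Cfsg.Lib.PSL2 Cfsg.Lib.CIT in
  classical
  have h1 : ∀ s : Finset ℕ, (∀ x ∈ s, x ∈ sp G) → s.card ≤ 5 := fun s hs => by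
    let f : MulAction.orbitRel.Quotient (MulAut G) G → ℕ := Quotient.lift orderOf (by
      rintro a b ⟨σ, rfl⟩
      exact MulEquiv.orderOf_eq σ b)
    have := Fintype.ofFinite (MulAction.orbitRel.Quotient (MulAut G) G)
    refine le_trans (Finset.card_le_card (t := Finset.univ.image f) fun x hx => ?_) (Finset.card_image_le.trans (by simpa using h5))
    obtain ⟨g, rfl⟩ := hs x hx
    exact Finset.mem_image.2 ⟨Quotient.mk _ g, Finset.mem_univ _, rfl⟩
  have h6 : ∀ a b c d e f : ℕ, a < b → b < c → c < d → d < e → e < f → a ∈ sp G → b ∈ sp G → c ∈ sp G → d ∈ sp G →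
      e ∈ sp G → f ∈ sp G → False := fun a b c d e f _ _ _ _ _ _ _ _ _ _ _ => by
    have := h1 {a, b, c, d, e, f} (by simp_all)
    rw [Finset.card_insert_of_notMem (by simp; omega), Finset.card_insert_of_notMem (by simp; omega),
      Finset.card_insert_of_notMem (by simp; omega), Finset.card_insert_of_notMem (by simp; omega),
      Finset.card_pair (by omega)] at this
    omega
  have k : ∀ {F : Type} [Field F] [Fintype F], (G ≃* Matrix.ProjectiveSpecialLinearGroup (Fin 2) F) → ∀ p q : ℕ,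
      Fintype.card F = q → p.Prime → p ∣ q → ∀ m, (m ∣ p ∨ m ∣ (q - 1) / Nat.gcd 2 (q - 1) ∨ m ∣ (q + 1) / Nat.gcd 2 (q - 1)) →
      m ∈ sp G := fun {F} _ _ e p q hq hp h m hm => by
    have := Fact.mk hp
    obtain ⟨r, hr⟩ := CharP.exists F
    obtain ⟨f, h1, h2⟩ := FiniteField.card F r
    obtain rfl := (Nat.prime_dvd_prime_iff_eq hp h1).1 (hp.dvd_of_dvd_pow (h2 ▸ hq ▸ h))
    rwa [sp_congr e, sp_psl2 p, Nat.card_eq_fintype_card, hq]
  rcases Agent.S3718.result (G := G) (fun a ha b hb => by_contra fun e => by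
      obtain ⟨r, hr, h2⟩ : ∃ r : ℕ, r.Prime ∧ r ∣ Nat.card G := Nat.exists_prime_and_dvd Finite.one_lt_card.ne'
      obtain ⟨s, hs, h3, h4, -⟩ : ∃ s : ℕ, s.Prime ∧ s ∣ Nat.card G ∧ s ≠ r ∧ s ≠ r := by
        by_contra! hc
        exact simple_not_sol hG (Char.isSolvable_of_forall_prime_dvd _ r r fun s hs h => by_contra fun e =>
          (not_or.1 e).1 (hc s hs h (not_or.1 e).1))
      obtain ⟨t, ht, h5, h6, h7⟩ : ∃ t : ℕ, t.Prime ∧ t ∣ Nat.card G ∧ t ≠ r ∧ t ≠ s := by
        by_contra! hc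
        exact simple_not_sol hG (Char.isSolvable_of_forall_prime_dvd _ r s fun s hs h => by_contra fun e =>
          (not_or.1 e).2 (hc s hs h (not_or.1 e).1))
      have n : ∀ {x y : ℕ}, x.Prime → ¬ y.Prime → x ≠ y := fun h h' e => h' (e ▸ h)
      have := h1 {1, r, s, t, a, b} (by
        simp only [Finset.mem_insert, Finset.mem_singleton, forall_eq_or_imp, forall_eq]
        exact ⟨one_mem_sp, (prime_mem_sp_iff hr).2 h2, (prime_mem_sp_iff hs).2 h3, (prime_mem_sp_iff ht).2 h5, ha.1, hb.1⟩)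
      rw [Finset.card_insert_of_notMem (by simp [hr.one_lt.ne, hs.one_lt.ne, ht.one_lt.ne, ha.2.1.ne, hb.2.1.ne]),
        Finset.card_insert_of_notMem (by simp [h4.symm, h6.symm, n hr ha.2.2, n hr hb.2.2]),
        Finset.card_insert_of_notMem (by simp [h7.symm, n hs ha.2.2, n hs hb.2.2]),
        Finset.card_insert_of_notMem (by simp [n ht ha.2.2, n ht hb.2.2]), Finset.card_pair e] at this
      omega) with
    h | ⟨F, _, _, h | h | h | h | h | h | h, ⟨e⟩⟩ | ⟨F, _, _, h, ⟨e⟩⟩ | ⟨F, _, _, h, ⟨e⟩⟩ |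
      ⟨F, _, _, n, r, s, hr, hs, h2, h3, h, ⟨e⟩⟩ | ⟨F, _, _, n, r, ha, hr, h3, h, ⟨e⟩⟩
  · have := Fact.mk h
    exact (hG (isCyclic_of_prime_card rfl).isMulCommutative).elim
  · exact .inl ⟨e.trans (equiv_psl_alt_five (.inr (by simpa using h))).some⟩
  · exact .inr (.inr ⟨F, _, _, .inl h, ⟨e⟩⟩)
  · exact .inr (.inr ⟨F, _, _, .inr h, ⟨e⟩⟩)
  · exact .inr (.inl ⟨e.trans (equiv_psl_alt_six (by simpa using h)).some⟩)
  · have := k e 11 11 h (by norm_num) dvd_rfl
    exact (h6 1 2 3 5 6 11 (by omega) (by omega) (by omega) (by omega) (by omega) (this _ (by norm_num)) (this _ (by norm_num))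
      (this _ (by norm_num)) (this _ (by norm_num)) (this _ (by norm_num)) (this _ (by norm_num))).elim
  · have := k e 13 13 h (by norm_num) dvd_rfl
    exact (h6 1 2 3 6 7 13 (by omega) (by omega) (by omega) (by omega) (by omega) (this _ (by norm_num)) (this _ (by norm_num))
      (this _ (by norm_num)) (this _ (by norm_num)) (this _ (by norm_num)) (this _ (by norm_num))).elim
  · have := k e 2 16 h (by norm_num) (by norm_num)
    exact (h6 1 2 3 5 15 17 (by omega) (by omega) (by omega) (by omega) (by omega) (this _ (by norm_num)) (this _ (by norm_num))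
      (this _ (by norm_num)) (this _ (by norm_num)) (this _ (by norm_num)) (this _ (by norm_num))).elim
  · have : ∀ p : ℕ, p.Prime → p ∣ 20160 → p ∈ sp G := fun p hp h' => (prime_mem_sp_iff hp).2 (by
      rwa [Nat.card_congr e.toEquiv, card_psl3_four (by simpa using h)])
    exact (h6 1 2 3 4 5 7 (by omega) (by omega) (by omega) (by omega) (by omega) one_mem_sp (this _ (by norm_num) (by norm_num))
      (this _ (by norm_num) (by norm_num)) (sp_congr e ▸ four_mem h) (this _ (by norm_num) (by norm_num))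
      (this _ (by norm_num) (by norm_num))).elim
  · obtain ⟨h1, h2, h3, h4⟩ := sz_orders (m := 1) le_rfl h e
    exact (h6 1 2 4 5 7 13 (by omega) (by omega) (by omega) (by omega) (by omega) one_mem_sp (mem_sp_of_dvd h1 (by norm_num))
      h1 h4 h2 h3).elim
  · have h4 := hs.two_le
    have h5 : 3 ∣ 3 ^ n := dvd_pow_self 3 (by rintro rfl; omega)
    have := k e 3 _ h (by norm_num) h5
    rw [h2, h3, show Nat.gcd 2 (2 * r) = 2 by simp, show 2 * r / 2 = r by omega, show 4 * s / 2 = 2 * s by omega] at this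
    exact (h6 1 2 3 s r (2 * s) (by omega) (by omega) (by omega) (by omega) (by omega) one_mem_sp (this _ (by simp))
      (this _ (by simp)) (this _ (by simp)) (this _ (by simp)) (this _ (by simp))).elim
  · by_cases h4 : r = 3
    · exact .inr (.inr ⟨F, _, _, .inr (by omega), ⟨e⟩⟩)
    have h5 := hr.two_le
    have h7 : 2 ∣ 2 ^ n := dvd_pow_self 2 (by rintro rfl; omega)
    have := k e 2 _ h (by norm_num) h7
    rw [h3, Nat.coprime_two_left.2 (show Odd (2 ^ n - 1) from ⟨2 ^ n / 2 - 1, by omega⟩), Nat.div_one, Nat.div_one] at this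
    exact (h6 1 2 3 r (2 ^ n - 1) (3 * r) (by omega) (by omega) (by omega) (by omega) (by omega) one_mem_sp (this _ (by simp))
      (this _ (by simp)) (this _ (by simp)) (this _ (by simp)) (this _ (by simp))).elim

end Cfsg.Agent.S3406
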