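import Cfsg.Statements.S3421
import Cfsg.Agent.Lib.BG.Hall
import Cfsg.Agent.Lib.Spec.OrdSpec
import Cfsg.Agent.Lib.Spec.PSL2
import Cfsg.Agent.Lib.PSL2.SmallIso
import Cfsg.Agent.Lib.Linear.Basic
import Cfsg.Agent.S2202

set_option autoImplicit false
open Cfsg

namespace Cfsg.Agent.S3421

section
open Subgroup Cfsg.Lib Cfsg.Lib.BG Cfsg.Lib.Transfer
open Cfsg.Lib.Spec Cfsg.Lib.FGS Cfsg.Lib.PSL2

open scoped MatrixGroups

theorem cube_lt {a b : ℕ} (h : a < b) (hb : 2 ≤ b) : a * (a ^ 2 - 1) < b * (b ^ 2 - 1) :=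
  Nat.mul_lt_mul_of_lt_of_le h (Nat.sub_le_sub_right (Nat.pow_le_pow_left h.le 2) 1)
    (Nat.sub_pos_of_lt (by nlinarith))

theorem psl_of_card {F F' : Type*} [Field F] [Fintype F] [Field F'] [Fintype F']
    (h : Nat.card F * (Nat.card F ^ 2 - 1) = Nat.card F' * (Nat.card F' ^ 2 - 1)) :
    Nat.card F = Nat.card F' ∧ Nonempty (PSL(2, F) ≃* PSL(2, F')) := by
  have h1 : Nat.card F = Nat.card F' := by
    rcases lt_trichotomy (Nat.card F) (Nat.card F') with e | e | e
    exacts [absurd h (cube_lt e Finite.one_lt_card).ne, e, absurd h (cube_lt e Finite.one_lt_card).ne']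
  exact ⟨h1, ⟨Linear.congrPSL (Equiv.refl _) (FiniteField.ringEquivOfCardEq (by simpa using h1))⟩⟩

end

/-- Let F be a finite field with more than 3 elements. A finite group G is isomorphic to PSL(2, F) if and only if G has the same set of element orders and the same order as PSL(2, F). -/
theorem result {G : Type*} [Group G] [Finite G] {F : Type*} [Field F] [Fintype F] (hF : 3 < Fintype.card F) :
    Nonempty (G ≃* Matrix.ProjectiveSpecialLinearGroup (Fin 2) F) ↔
      (Set.range (orderOf : G → ℕ) = Set.range (orderOf : Matrix.ProjectiveSpecialLinearGroup (Fin 2) F → ℕ) ∧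
        Nat.card G = Nat.card (Matrix.ProjectiveSpecialLinearGroup (Fin 2) F)) := by
  open Subgroup Cfsg.Lib Cfsg.Lib.BG Cfsg.Lib.Transfer in
  open Cfsg.Lib.Spec Cfsg.Lib.FGS Cfsg.Lib.PSL2 in
  refine ⟨fun ⟨e⟩ => ⟨sp_congr e, Nat.card_congr e.toEquiv⟩, fun ⟨h1, h2⟩ => ?_⟩
  obtain ⟨p, hp⟩ := CharP.exists F
  have := Fact.mk (CharP.char_is_prime F p)
  replace h1 := h1.trans (sp_psl2 p)
  have h3 := card_PSL2_mul (K := F)
  rw [← h2] at h3
  obtain ⟨f, f0, hf⟩ := exists_card_eq_pow (F := F) (p := p)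
  have h4 : p ∣ Nat.card F := hf ▸ dvd_pow_self p f0.ne'
  rw [← Nat.card_eq_fintype_card] at hF
  rcases Nat.even_or_odd' (Nat.card F) with ⟨k, hk | hk⟩
  · obtain rfl : p = 2 := ((Nat.prime_dvd_prime_iff_eq Nat.prime_two this.out).1
      (Nat.prime_two.dvd_of_dvd_pow (hf ▸ hk ▸ dvd_mul_right _ _))).symm
    have o1 : Odd (Nat.card F - 1) := ⟨k - 1, by omega⟩
    have o2 : Odd (Nat.card F + 1) := ⟨k, by omega⟩
    rw [Nat.coprime_two_left.2 o1] at h1 h3
    have k1 : ∀ g : G, g ^ 2 = 1 ∨ Odd (orderOf g) := fun g => by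
      rcases h1.le ⟨g, rfl⟩ with e | e | e
      exacts [.inl (orderOf_dvd_iff_pow_eq_one.1 e), .inr (o1.of_dvd_nat (by simpa using e)),
        .inr (o2.of_dvd_nat (by simpa using e))]
    have k2 : ∀ t : G, orderOf t = 2 → ∀ g ∈ 𝐂[t], g ^ 2 = 1 := fun t ht g hg =>
      (k1 g).elim id fun ho => by
        have e := Commute.orderOf_mul_eq_mul_orderOf_of_coprime (mem_cent1.1 hg) (ht ▸ Nat.coprime_two_right.2 ho)
        rcases k1 (g * t) with e' | e'
        · rwa [Commute.mul_pow (mem_cent1.1 hg), ← ht, pow_orderOf_eq_one, mul_one, ht] at e'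
        · exact absurd (e ▸ ht ▸ dvd_mul_left _ _) e'.not_two_dvd_nat
    have k3 : ∀ P : Sylow 2 G, Nat.card P = Nat.card F := fun P => by
      have o3 : ¬ 2 ∣ Nat.card F ^ 2 - 1 := by
        rw [← one_pow 2, Nat.sq_sub_sq]; exact (o2.mul o1).not_two_dvd_nat
      rw [P.card_eq_multiplicity, ← one_mul (Nat.card G), h3, Nat.factorization_mul Nat.card_pos.ne' (fun e => o3 (by rw [e]; simp)),
        Finsupp.add_apply, Nat.factorization_eq_zero_of_not_dvd o3, hf, Nat.prime_two.factorization_pow]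
      simp
    obtain ⟨P⟩ : Nonempty (Sylow 2 G) := inferInstance
    have k4 : ∀ g ∈ (P : Subgroup G), g ^ 2 = 1 := fun g hg => (k1 g).elim id fun ho => by
      obtain ⟨a, ha⟩ := P.isPGroup' ⟨g, hg⟩
      rw [orderOf_eq_one_iff.1 (((Nat.coprime_two_right.2 ho).pow_right a).eq_one_of_dvd
        (orderOf_dvd_of_pow_eq_one (congrArg Subtype.val ha))), one_pow]
    rcases Cfsg.Agent.S2202.result (G := G) (by rw [← one_mul (Nat.card G), h3, hk, mul_assoc]; exact even_two_mul _)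
      (fun t ht => (PGroup.elemAb_two_iff.2 (k2 t ht)).1) with h | h | ⟨F', _, _, A, _, _, _, hA, ⟨e⟩⟩
    · obtain ⟨g, hg, e⟩ := cyclic_iff.1 (h P)
      have := Nat.le_of_dvd two_pos (orderOf_dvd_of_pow_eq_one (k4 g hg))
      rw [← Nat.card_zpowers, e, k3] at this
      omega
    · obtain ⟨t, ht, t1⟩ := exists_ne_one (A := (P : Subgroup G)) fun e => by
        have := k3 P
        rw [e, card_bot] at this
        omega
      have h5 : {y | IsConj t y}.ncard ≤ ((P : Subgroup G) : Set G).ncard := Set.ncard_le_ncard fun y hy => by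
        obtain ⟨c, rfl⟩ := isConj_iff.1 hy
        exact (h P).conj_mem t ht c
      have h6 := (Syl.of_sylow_top P).card_le (Q := 𝐂[t]) (fun g => ⟨1, Subtype.ext
        (k2 t (orderOf_eq_prime (k4 t ht) t1) g g.2)⟩) le_top
      have h7 := (𝐂[t]).index_mul_card
      rw [ncard_isConj, ← Nat.card_coe_set_eq] at h5
      have h8 := Nat.mul_le_mul h5 h6
      rw [h7, ← one_mul (Nat.card G), h3, k3] at h8
      erw [k3] at h8
      have := Nat.le_of_mul_le_mul_left h8 Nat.card_pos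
      have : 4 * Nat.card F ≤ Nat.card F ^ 2 := by nlinarith
      omega
    · have n2 : ¬ Odd (Nat.card F') := fun ho => by
        obtain ⟨f, f0, hf⟩ := exists_card_eq_pow (F := F') (p := 2)
        exact ho.not_two_dvd_nat (hf ▸ dvd_pow_self 2 f0.ne')
      obtain ⟨t, ht⟩ := (sp_sl2_even (F := F')).ge (.inl (dvd_refl 2))
      have k5 : ∀ a : A, a = 1 := fun a => by
        have := congrArg (fun g => (e g).2) (k2 (e.symm (t, 1)) (by simp [Prod.orderOf, ht]) (e.symm (1, a))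
          (mem_cent1.2 (by simp [← map_mul])))
        exact orderOf_eq_one_iff.1 ((Nat.coprime_two_right.2 (hA.of_dvd_nat (orderOf_dvd_natCard a))).eq_one_of_dvd
          (orderOf_dvd_of_pow_eq_one (by simpa using this)))
      have : Unique A := ⟨⟨1⟩, k5⟩
      have e' := e.trans MulEquiv.prodUnique
      obtain ⟨-, ⟨e2⟩⟩ := psl_of_card (F := F') (F' := F) (by
        rw [← h3, one_mul, Nat.card_congr e'.toEquiv, card_SL2])
      exact ⟨e'.trans ((equiv_sl_psl_of_even n2).some.trans e2)⟩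
  have g2 : ∀ k : ℕ, Nat.gcd 2 (2 * k + 1 - 1) = 2 := fun k => by simp
  have c1 : p.Coprime k := Nat.Coprime.coprime_dvd_left (hk ▸ h4) (by simp)
  have c2 : p.Coprime (k + 1) := Nat.Coprime.coprime_dvd_left (hk ▸ h4) (by
    rw [show 2 * k + 1 = k + (k + 1) by ring]; simp)
  have h5 : Nat.card G = (2 * k + 1) * (2 * k * (k + 1)) := by
    rw [hk, g2, show (2 * k + 1) ^ 2 = 2 * (2 * k * (k + 1)) + 1 by ring, Nat.add_sub_cancel] at h3
    nlinarith
  rw [hk, g2, show (2 * k + 1 - 1) / 2 = k by omega, show (2 * k + 1 + 1) / 2 = k + 1 by omega] at h1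
  obtain ⟨n, e, hE, g, hg⟩ : ∃ n e, EH G n e ∧ ∃ g : G, orderOf g = e := by
    rcases Nat.even_or_odd' k with ⟨j, rfl | rfl⟩
    · obtain ⟨i, rfl⟩ : ∃ i, j = i + 1 := ⟨j - 1, by omega⟩
      refine ⟨(2 * (2 * (i + 1)) + 1) * (2 * (i + 1) + 1), 2 * (i + 1), ⟨h5.trans (by ring), dvd_mul_right _ _, ⟨4 * i ^ 2 + 9 * i + 4, ?_⟩, by nlinarith,
        fun g => ?_⟩, h1.ge (.inr (.inl dvd_rfl))⟩
      · rw [show 2 * (i + 1) - 1 = 2 * i + 1 by omega]; ring
      · rcases h1.le ⟨g, rfl⟩ with e | e | e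
        exacts [.inr (c1.coprime_dvd_left e), .inl e, .inr (Nat.Coprime.coprime_dvd_left e (by simp))]
    · refine ⟨(2 * (2 * j + 1) + 1) * (2 * j + 1), 2 * j + 1 + 1, ⟨h5.trans (by ring), ⟨j + 1, by ring⟩, ⟨4 * j ^ 2 + 3 * j + 1, ?_⟩, by nlinarith,
        fun g => ?_⟩, h1.ge (.inr (.inr dvd_rfl))⟩
      · rw [Nat.add_sub_cancel]; ring
      · rcases h1.le ⟨g, rfl⟩ with e | e | e
        exacts [.inr (c2.coprime_dvd_left e), .inr (Nat.Coprime.coprime_dvd_left e (by simp)), .inl e]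
  rw [hk, g2, ← hk] at h3
  rcases hE.main hg with ⟨⟨e⟩⟩ | ⟨F', _, _, ⟨l, hl⟩, ⟨e⟩⟩
  · rw [Nat.card_congr e.toEquiv, nat_card_alternatingGroup, Nat.card_fin] at h3
    generalize Nat.card F = q at *
    rcases lt_or_ge q 19 with h | h
    · interval_cases q <;> simp [Nat.factorial] at h3
    · have := cube_lt (show 18 < q from h) (by omega)
      simp [← h3, Nat.factorial] at this
  · have h6 := card_PSL2_mul (K := F')
    rw [hl, g2, ← hl, ← Nat.card_congr e.toEquiv, h3] at h6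
    exact ⟨e.trans (psl_of_card h6.symm).2.some⟩

end Cfsg.Agent.S3421
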