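import Cfsg.Statements.S3433
import Cfsg.Agent.Lib.CIT.Orders

set_option autoImplicit false
open Cfsg

namespace Cfsg.Agent.S3433

/-- A finite group whose set of element orders is exactly {1, 2, 3, 4, 5} is isomorphic to the alternating group of degree 6, or has a normal elementary abelian 2-subgroup with quotient isomorphic to the alternating group of degree 5. -/
theorem result {G : Type*} [Group G] [Finite G] (h : Set.range (orderOf : G → ℕ) = {k : ℕ | 1 ≤ k ∧ k ≤ 5}) :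
    Nonempty (G ≃* ↥(alternatingGroup (Fin 6))) ∨
      ∃ (N : Subgroup G) (_ : N.Normal), Cfsg.IsElementaryAbelian 2 N ∧ Nonempty (G ⧸ N ≃* ↥(alternatingGroup (Fin 5))) := by
  open Lib Lib.CIT Lib.Spec in
  have h0 : ∀ g : G, g ≠ 1 → IsPrimePow (orderOf g) := fun g g1 => by
    obtain ⟨h1, h2⟩ := h.le ⟨g, rfl⟩
    have := mt orderOf_eq_one_iff.1 g1
    interval_cases orderOf g
    exacts [(this rfl).elim, Nat.prime_two.isPrimePow, Nat.prime_three.isPrimePow,
      Nat.prime_two.isPrimePow.pow two_ne_zero, Nat.prime_five.isPrimePow]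
  have k : ∀ p : ℕ, p.Prime → (p ∣ Nat.card G ↔ p ≤ 5) := fun p hp => by
    rw [← prime_mem_sp_iff hp, sp, h]
    exact and_iff_right hp.pos
  have hn := eppo_not_solvable h0 (le_trans (by simp) (Finset.card_le_card (s := {2, 3, 5}) fun p hp => by
    have : p.Prime ∧ p ≤ 5 := by
      simp only [Finset.mem_insert, Finset.mem_singleton] at hp
      rcases hp with rfl | rfl | rfl <;> norm_num
    exact Nat.mem_primeFactors.2 ⟨this.1, (k p this.1).2 this.2, Nat.card_pos.ne'⟩))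
  have h7 := (k 7 (by norm_num)).1
  have h17 := (k 17 (by norm_num)).1
  have h7' := h7 ∘ (dvd_card_quot (G := G) (s := 7) (by norm_num) (by norm_num)).1
  have h31 := (k 31 (by norm_num)).1 ∘ (dvd_card_quot (G := G) (s := 31) (by norm_num) (by norm_num)).1
  rcases eppo_cases h0 hn with ⟨K, _, _, ⟨h1, -⟩ | ⟨-, h1⟩, ⟨e⟩⟩ |
    ⟨K, _, _, ⟨-, h1, -⟩ | ⟨-, h1, -⟩⟩ | ⟨K, _, _, ⟨h1, -⟩ | ⟨-, h1⟩ | ⟨h1, -⟩ | ⟨-, h1⟩, ⟨e⟩⟩ |
    ⟨-, h1, -⟩ | ⟨K, _, _, -, h1, -⟩
  any_goals omega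
  · obtain ⟨f⟩ := PSL2.equiv_psl_alt_five (.inl (Nat.card_eq_fintype_card.trans h1))
    have hO := Core.pCore_isPGroup 2 G
    exact .inr ⟨_, _, (eppo_cit h0).higman (((eppo_cit h0).quot _ hO).rk2 (mt
      (Core.isSolvable_of_normal_quotient _ (BG.pgroup_sol hO)) hn)) ((k 3 Nat.prime_three).2 (by norm_num)),
      ⟨e.trans f⟩⟩
  · obtain ⟨f⟩ := PSL2.equiv_psl_alt_five (.inr (Nat.card_eq_fintype_card.trans h1))
    exact .inr ⟨⊥, _, ⟨BG.abelian_bot, fun a ha => by rw [Subgroup.mem_bot.1 ha, one_pow]⟩,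
      ⟨QuotientGroup.quotientBot.trans (e.trans f)⟩⟩
  · obtain ⟨f⟩ := PSL2.equiv_psl_alt_six (Nat.card_eq_fintype_card.trans h1)
    exact .inl ⟨e.trans f⟩
  · exact absurd (h.le h1).2 (by norm_num)

end Cfsg.Agent.S3433
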