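import Cfsg.Statements.S3501
import Cfsg.Agent.Lib.Perm.Prim
import Cfsg.Agent.Lib.Perm.PrimeDegree
import Cfsg.Agent.Lib.Misc.Derangement

set_option autoImplicit false
open Cfsg

namespace Cfsg.Agent.S3501

open MulAction Subgroup Cfsg.Lib.Perm Cfsg.Lib Cfsg.Lib.Core Cfsg.Lib.Transfer

theorem exists_derangement (G X : Type*) [Group G] [MulAction G X] [Finite G] [Finite X]
    [IsPretransitive G X] [Nontrivial X] : ∃ g : G, ∀ x : X, g • x ≠ x := by
  by_contra h
  obtain ⟨a, b, hab⟩ := exists_pair_ne X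
  obtain ⟨⟨g, hg⟩, e⟩ := (Misc.transitive_of_derangements_mem (X := X) (⊥ : Subgroup G)
    fun g hg => absurd ⟨g, hg⟩ h).1.exists_smul_eq a b
  exact hab (by rw [← e, mk_smul, mem_bot.1 hg, one_smul])

/-- Let a finite group G act faithfully and primitively on a finite set Ω with at least two points, and suppose G is not almost simple (it has no non-abelian simple normal subgroup with trivial centralizer). Then the derangements of G form a single conjugacy class if and only if G is sharply 2-transitive (2-transitive, and no non-identity element fixes two points). -/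
theorem result {G : Type*} [Group G] [Finite G] {Ω : Type*} [Fintype Ω] [MulAction G Ω] [FaithfulSMul G Ω] (hΩ : 2 ≤ Fintype.card Ω) (hprim : MulAction.IsPreprimitive G Ω) (hnas : ¬ ∃ T : Subgroup G, T.Normal ∧ IsSimpleGroup T ∧ ¬ IsMulCommutative T ∧ Subgroup.centralizer (T : Set G) = ⊥) :
    Nat.card {c : ConjClasses G // ∃ g : G, ConjClasses.mk g = c ∧ ∀ ω : Ω, g • ω ≠ ω} = 1 ↔ (MulAction.IsMultiplyPretransitive G Ω 2 ∧ ∀ g : G, g ≠ 1 → ∀ a b : Ω, a ≠ b → g • a = a → g • b ≠ b) := by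
  classical
  have : Nontrivial Ω := Fintype.one_lt_card_iff_nontrivial.1 hΩ
  obtain ⟨a, b, hab⟩ := exists_pair_ne Ω
  rw [Nat.card_eq_one_iff_unique]
  constructor
  swap
  · rintro ⟨h2, hs⟩
    obtain ⟨N, hn, hN, ht, hr⟩ := exists_regular_normal_of_sharply_two h2
      fun g x y hxy hx hy => by_contra fun hg => hs g hg x y hxy hx hy
    obtain ⟨g, hg⟩ := exists_derangement G Ω
    refine ⟨⟨?_⟩, ⟨_, g, rfl, hg⟩⟩
    rintro ⟨_, x, rfl, hx⟩ ⟨_, y, rfl, hy⟩
    obtain ⟨k, h1, h2⟩ := two_iff.1 h2 a _ a _ (hx a).symm (hy a).symm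
    exact Subtype.ext (ConjClasses.mk_eq_mk_iff_isConj.2 (isConj_iff.2
      ⟨k, conj_eq_of_regular hr h1 ((hN x).2 (Or.inr hx)) ((hN y).2 (Or.inr hy)) h2⟩))
  rintro ⟨hsub, -⟩
  have hconj : ∀ x y : G, (∀ w : Ω, x • w ≠ w) → (∀ w : Ω, y • w ≠ w) → ∃ g, g * x * g⁻¹ = y :=
    fun x y hx hy => isConj_iff.1 (ConjClasses.mk_eq_mk_iff_isConj.1
      (congrArg Subtype.val (hsub.elim ⟨_, x, rfl, hx⟩ ⟨_, y, rfl, hy⟩)))
  have hD : ∀ K : Subgroup G, K.Normal → K ≠ ⊥ → ∀ y : G, (∀ w : Ω, y • w ≠ w) → y ∈ K :=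
    fun K hK h0 y hy => by
      have := isPretransitive_of_normal (α := Ω) K h0
      obtain ⟨x, hx⟩ := exists_derangement K Ω
      obtain ⟨g, rfl⟩ := hconj x y hx hy
      exact hK.conj_mem _ x.2 g
  obtain ⟨d, hd⟩ := exists_derangement G Ω
  have hd1 : d ≠ 1 := by rintro rfl; exact hd a (one_smul _ _)
  have : Nontrivial G := ⟨d, 1, hd1⟩
  obtain ⟨N, hN⟩ := exists_isMinNormal (G := G)
  have hn := hN.normal
  have hNt := isPretransitive_of_normal (α := Ω) N hN.ne_bot
  by_cases hC : centralizer (N : Set G) = ⊥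
  swap
  · have h1 : N ≤ centralizer (N : Set G) := (hN.inf_eq_bot_or_le _).resolve_left fun e =>
      hd1 (mem_bot.1 (e ▸ ⟨hD N hn hN.ne_bot d hd, hD _ inferInstance hC d hd⟩))
    have hr := stabilizer_eq_bot_of_le_centralizer hNt h1
    refine ⟨two_iff.2 fun x y z w hxy hzw => ?_, fun g hg x y hxy hx hy => hg (eq_one_of_regular hr
      (Misc.mem_of_fixes_two (Misc.transitive_of_derangements_mem N (hD N hn hN.ne_bot)).2
        hxy hx hy) hx)⟩
    obtain ⟨g, rfl⟩ := exists_smul_eq G x z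
    obtain ⟨u, hu, rfl⟩ := exists_regular_smul hNt x y
    obtain ⟨v, hv, e⟩ := exists_regular_smul hNt x (g⁻¹ • w)
    obtain ⟨k, hk⟩ := hconj u v (fun c e => hxy (by rw [eq_one_of_regular hr hu e, one_smul]))
      fun c e' => hzw (by rw [eq_one_of_regular hr hv e', one_smul] at e; rw [e, smul_inv_smul])
    obtain ⟨n, hn', l, hl, rfl⟩ := exists_mul_stabilizer hNt x k
    refine ⟨g * l, by rw [mul_smul, hl], ?_⟩
    rw [mul_smul, smul_smul_of_fix hl, ← eq_inv_smul_iff, ← e, ← hk,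
      show n * l * u * (n * l)⁻¹ = n * (l * u * l⁻¹) * n⁻¹ by group, h1 (hn.conj_mem u hu l) n hn',
      mul_inv_cancel_right]
  exfalso
  obtain ⟨T, hT, hTn, hT0, hTm⟩ := exists_minimal_invariant_le (le_normalizer (H := N)) hN.ne_bot
  have hcj : ∀ g : G, g ⋆ T = T ∨ g ⋆ T ≤ N ⊓ centralizer (T : Set G) := fun g => by
    have h1 : N ≤ normalizer ((g ⋆ T : Subgroup G) : Set G) := fun n hn' =>
      mem_normalizer_fintype fun x hx => by
        rw [SetLike.mem_coe, mem_map_conj] at hx ⊢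
        simpa [mul_assoc] using
          (mem_normalizer_iff.1 (hTn (hn.conj_mem' n hn' g)) _).1 hx
    have h2 : g ⋆ T ≤ N := map_conj_le_of_mem_normalizer hT (le_normalizer_of_normal (mem_top g))
    refine (hTm _ (le_normalizer_inf h1 hTn) inf_le_right).symm.imp (fun e => ?_) fun e =>
      le_inf h2 (le_centralizer_of_inf_eq_bot (h2.trans hTn) (hT.trans h1) e)
    exact (eq_of_le_of_card_eq (inf_eq_right.1 e) (card_map_conj g T).symm).symm
  have hsup : N ≤ T ⊔ N ⊓ centralizer (T : Set G) := by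
    rw [← hN.eq_of_le (K := normalClosure (T : Set G)) inferInstance
      (fun e => hT0 (eq_bot_iff.2 (e ▸ le_normalClosure))) (normalClosure_le_normal hT)]
    conv_lhs => rw [normalClosure_eq_iSup_conj]
    rw [hN.eq_of_le (K := normalClosure (T : Set G)) inferInstance
      (fun e => hT0 (eq_bot_iff.2 (e ▸ le_normalClosure))) (normalClosure_le_normal hT)]
    exact iSup_le fun g => (hcj g).elim (fun e => e.le.trans le_sup_left) (·.trans le_sup_right)
  have hZ : T ⊓ centralizer (T : Set G) = ⊥ :=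
    (hTm _ (le_normalizer_inf hTn (le_normalizer_centralizer hTn)) inf_le_left).resolve_right fun e =>
      hT0 (eq_bot_iff.2 (hC ▸ le_centralizer_iff.1
        (hsup.trans (sup_le (inf_eq_left.1 e) inf_le_right))))
  set M := N ⊓ centralizer (T : Set G)
  have hMn : N ≤ normalizer (M : Set G) :=
    le_normalizer_inf le_normalizer (le_normalizer_centralizer hTn)
  by_cases hM : M = ⊥
  · rw [hM, sup_bot_eq] at hsup
    obtain rfl := hT.antisymm hsup
    have : Nontrivial T := (nontrivial_iff_ne_bot T).2 hT0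
    refine hnas ⟨T, hn, ⟨fun K hK => ?_⟩, fun h => hT0 (eq_bot_iff.2
      (hC ▸ le_centralizer_iff_isMulCommutative.2 h)), hC⟩
    exact (hTm _ (le_normalizer_map_subtype K) (map_subtype_le K)).imp map_subtype_eq_bot_iff.1
      map_subtype_eq_self_iff.1
  by_cases hR : ((stabilizer G a ⊓ N) ⊔ M).subgroupOf T = ⊤
  · have hMt : IsPretransitive M Ω := (isPretransitive_iff_base a).2 fun x => by
      obtain ⟨n, hn', rfl⟩ := exists_regular_smul hNt a x
      obtain ⟨m, hm, z, hz, rfl⟩ := (mem_sup_of_le_normalizer_left (inf_le_right.trans hMn)).1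
        (sup_comm (stabilizer G a ⊓ N) M ▸ (hsup.trans (sup_le (subgroupOf_eq_top.1 hR) le_sup_right)) hn')
      exact ⟨⟨m, hm⟩, by rw [mul_smul, show z • a = a from hz.1]; rfl⟩
    have hr := stabilizer_eq_bot_of_le_centralizer hMt (le_centralizer_iff.1 inf_le_right)
    obtain ⟨p, hp, hpd⟩ := exists_prime_dvd_card hT0
    obtain ⟨x, hx, rfl⟩ := exists_mem_orderOf_eq_prime hp hpd
    have hx1 : x ≠ 1 := by rintro rfl; exact hp.one_lt.ne' orderOf_one
    have := Fact.mk hp
    have hP : IsPGroup (orderOf x) T := fun y => ⟨1, Subtype.ext (by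
      by_cases hy : (y : G) = 1
      · simp [hy]
      obtain ⟨g, hg⟩ := hconj x y (fun w e => hx1 (eq_one_of_regular hr hx e))
        fun w e => hy (eq_one_of_regular hr y.2 e)
      simp [← hg])⟩
    have : Nontrivial T := (nontrivial_iff_ne_bot T).2 hT0
    exact hP.bot_lt_center.ne' (map_subtype_eq_bot_iff.1 ((map_subtype_center T).trans hZ))
  have := QuotientGroup.nontrivial_iff.2 hR
  obtain ⟨t, ht⟩ := exists_derangement T (T ⧸ ((stabilizer G a ⊓ N) ⊔ M).subgroupOf T)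
  have key : ∀ m ∈ M, ∀ w : Ω, ((t : G) * m) • w ≠ w := fun m hm w e => by
    obtain ⟨n, hn', rfl⟩ := exists_regular_smul hNt a w
    obtain ⟨u, hu, l, hl, rfl⟩ := (mem_sup_of_le_normalizer_right (hT.trans hMn)).1 (hsup hn')
    refine ht (QuotientGroup.mk ⟨u, hu⟩) (Eq.symm (QuotientGroup.eq.2 ?_))
    have h1 : (u * l)⁻¹ * (t * m) * (u * l) ∈ stabilizer G a ⊓ N ⊔ M := mem_sup_left (mem_inf.2
      ⟨by rw [mem_stabilizer_iff, mul_smul, mul_smul, e, inv_smul_smul],
        hn.conj_mem' _ (mul_mem (hT t.2) hm.1) _⟩)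
    have h2 := mul_mem (mul_mem (mem_sup_right hl) h1) (mem_sup_right (inv_mem (mul_mem hm hl)))
    rw [show l * ((u * l)⁻¹ * (t * m) * (u * l)) * (m * l)⁻¹ = u⁻¹ * t * (m * u) * m⁻¹ by group,
      ← hm.2 u hu] at h2
    simpa [mem_subgroupOf, mul_assoc] using h2
  obtain ⟨m, hm, hm1⟩ := M.bot_or_exists_ne_one.resolve_left hM
  obtain ⟨g, hg⟩ := hconj t (t * m) (by simpa using key 1 M.one_mem) (key m hm)
  have h1 : (t : G) * m ∈ g ⋆ T := hg ▸ ⟨t, t.2, rfl⟩
  rcases hcj g with e | e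
  · exact hm1 (mem_bot.1 (hZ ▸ ⟨(T.mul_mem_cancel_left t.2).1 (e.le h1), hm.2⟩))
  · refine key 1 M.one_mem a ?_
    rw [show (t : G) = 1 from mem_bot.1 (hZ ▸ ⟨t.2, ((M.mul_mem_cancel_right hm).1 (e h1)).2⟩)]
    simp

end Cfsg.Agent.S3501
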