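import Cfsg.Statements.S3517
import Cfsg.Agent.Lib.Perm.Basic

set_option autoImplicit false
open Cfsg

namespace Cfsg.Agent.S3517

theorem exists_equiv {K V ι : Type*} [Field K] [AddCommGroup V] [Module K V] [Fintype ι] (u w : ι → V)
    (h : ∀ c : ι → K, ∑ i, c i • u i = 0 ↔ ∑ i, c i • w i = 0) : ∃ A : V ≃ₗ[K] V, ∀ i, A (u i) = w i := by
  classical
  let f := Fintype.linearCombination K u
  let g := Fintype.linearCombination K w
  have e : LinearMap.ker f = LinearMap.ker g := Submodule.ext h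
  obtain ⟨A, hA⟩ := Submodule.exists_linearEquiv_restrict_eq (f.quotKerEquivRange.symm.trans
    ((Submodule.quotEquivOfEq _ _ e).trans g.quotKerEquivRange))
  refine ⟨A, fun i => ?_⟩
  have := hA ⟨f (Pi.single i 1), LinearMap.mem_range_self f _⟩
  rw [LinearEquiv.trans_apply, LinearMap.quotKerEquivRange_symm_apply_image] at this
  simpa [f, g] using this.symm

/-- For d ≥ 3, the 3-closure of the affine group AGL_d(2) acting on F_2^d is the full symmetric group: every permutation of F_2^d agrees on every ordered triple of points with some affine map (AGL_d(2) is 3-transitive). -/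
theorem result (d : ℕ) (hd : 3 ≤ d) (σ : Equiv.Perm (Fin d → ZMod 2)) (t : Fin 3 → (Fin d → ZMod 2)) :
    ∃ (A : (Fin d → ZMod 2) ≃ₗ[ZMod 2] (Fin d → ZMod 2)) (b : Fin d → ZMod 2), ∀ i, σ (t i) = A (t i) + b := by
  obtain ⟨A, hA⟩ := exists_equiv (K := ZMod 2) ![t 1 - t 0, t 2 - t 0] ![σ (t 1) - σ (t 0), σ (t 2) - σ (t 0)]
    fun c => by
      have h : ∀ a : ZMod 2, a = 0 ∨ a = 1 := by decide
      have h2 : ∀ x y : Fin d → ZMod 2, x + y = x - y := fun x y => funext fun i => (CharTwo.sub_eq_add (x i) (y i)).symm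
      rcases h (c 0) with h0 | h0 <;> rcases h (c 1) with h1 | h1 <;> simp [h0, h1, h2, sub_eq_zero]
  refine ⟨A, σ (t 0) - A (t 0), fun i => ?_⟩
  have h0 := hA 0
  have h1 := hA 1
  simp only [Matrix.cons_val, map_sub] at h0 h1
  fin_cases i
  exacts [by simp, by simp [sub_eq_iff_eq_add.1 h0], by simp [sub_eq_iff_eq_add.1 h1]]

end Cfsg.Agent.S3517
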