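import Cfsg.Statements.S3520
import Cfsg.Agent.Lib.Perm.Fac
import Cfsg.Agent.S3501

set_option autoImplicit false
open Cfsg

namespace Cfsg.Agent.S3520

open MulAction Subgroup Cfsg.Lib.Perm Cfsg.Lib Cfsg.Lib.Core Cfsg.Lib.Transfer

section
variable {G Ω : Type*} [Group G] [Finite G] [MulAction G Ω] [FaithfulSMul G Ω] [IsPreprimitive G Ω]

omit [Finite G] [FaithfulSMul G Ω] [IsPreprimitive G Ω] in
theorem der_conj {t : G} (h : ∀ x : Ω, t • x ≠ x) (g : G) (x : Ω) : (g * t * g⁻¹) • x ≠ x := fun e =>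
  h (g⁻¹ • x) (by rw [← mul_smul, eq_inv_smul_iff, ← mul_smul, ← mul_assoc, e])

theorem three [Finite Ω] {a b : Ω} (hab : a ≠ b) {N : Subgroup G} (hN : IsMinNormal N) (hc : ¬ IsMulCommutative N)
    (hnas : ¬ ∃ T : Subgroup G, T.Normal ∧ IsSimpleGroup T ∧ ¬ IsMulCommutative T ∧ centralizer (T : Set G) = ⊥) :
    ∃ x y z : G, (∀ w : Ω, x • w ≠ w) ∧ (∀ w : Ω, y • w ≠ w) ∧ (∀ w : Ω, z • w ≠ w) ∧ ¬ IsConj x y ∧ ¬ IsConj x z ∧
      ¬ IsConj y z := by
  have := hN.normal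
  have ht := isPretransitive_of_normal (α := Ω) N hN.ne_bot
  obtain ⟨T, hT⟩ := exists_fac hN.ne_bot
  by_cases h0 : ∃ w : Ω, T ⊓ stabilizer G w = ⊥
  · obtain ⟨w, h0⟩ := h0
    have key : ∀ t ∈ T, t ≠ 1 → ∀ x : Ω, t • x ≠ x := fun t h h1 x e => by
      obtain ⟨n, hn, rfl⟩ := exists_regular_smul ht w x
      have : n⁻¹ * t * n⁻¹⁻¹ ∈ T ⊓ stabilizer G w := mem_inf.2 ⟨hT.norm _ (inv_mem hn) t h, by
        rw [mem_stabilizer_iff, inv_inv, mul_smul, mul_smul, e, inv_smul_smul]⟩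
      rw [h0, mem_bot] at this
      exact h1 (conj_eq_one_iff.1 this)
    obtain ⟨x, x1, y, y1, z, z1, x2, y2, z2, h1, h2, h3⟩ := hT.exists_three hN hc
    have ho : ∀ {u v : G}, orderOf u ≠ orderOf v → ¬ IsConj u v := fun h e => by
      obtain ⟨g, rfl⟩ := isConj_iff.1 e
      exact h ((MulAut.conj g).orderOf_eq _).symm
    exact ⟨x, y, z, key x x1 x2, key y y1 y2, key z z1 z2, ho h1, ho h2, ho h3⟩
  push Not at h0
  have hle : ∀ w : Ω, ¬ T ≤ stabilizer G w := fun w h => hT.ne (eq_bot_iff.2 fun t h1 =>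
    mem_bot.2 (FaithfulSMul.eq_of_smul_eq_smul (α := Ω) fun x => by
      obtain ⟨n, hn, rfl⟩ := exists_regular_smul ht w x
      have : (n⁻¹ * t * n⁻¹⁻¹) • w = w := h (hT.norm _ (inv_mem hn) t h1)
      rw [inv_inv, mul_smul, mul_smul, inv_smul_eq_iff] at this
      rw [this, one_smul]))
  have hproj : ∀ t ∈ T, ∀ m ∈ N ⊓ centralizer (T : Set G), ∀ w : Ω, (t * m) • w = w → t • w = w := fun t h m hm w e => by
    obtain ⟨w', hw⟩ := @exists_ne _ ⟨a, b, hab⟩ w
    exact hT.proj_mem hN hc (isCoatom_stabilizer hw.symm) (h0 w) (hle w) h hm e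
  obtain ⟨g, hg⟩ : ∃ g, T ≠ g ⋆ T := by
    by_contra! h
    have hn : T.Normal := ⟨fun t h1 g => (h g).ge (conj_mem_conj.2 h1)⟩
    obtain rfl := hN.eq_of_le hn hT.ne hT.le
    have h2 : centralizer (T : Set G) ≠ ⊥ := fun e => hnas ⟨T, hn, hT.simple hN, hc, e⟩
    refine h0 a (eq_bot_iff.2 fun t h1 => mem_bot.2 ?_)
    exact eq_one_of_centralizes (isPretransitive_of_normal (α := Ω) _ h2) (fun m hm => (hm t h1.1).symm) h1.2
  have hU := hT.conj g
  obtain ⟨t, htT, hd⟩ : ∃ t ∈ T, ∀ x : Ω, t • x ≠ x := by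
    have : Nontrivial (orbit T a) := by
      obtain ⟨t, h1, h2⟩ := SetLike.not_le_iff_exists.1 (hle a)
      exact ⟨⟨t • a, mem_orbit a (⟨t, h1⟩ : T)⟩, ⟨a, mem_orbit_self a⟩, fun e => h2 (congrArg Subtype.val e)⟩
    obtain ⟨t, h⟩ := S3501.exists_derangement T (orbit T a)
    refine ⟨t, t.2, fun x e => ?_⟩
    obtain ⟨n, hn, rfl⟩ := exists_regular_smul ht a x
    obtain ⟨s, hs, m, hm, rfl⟩ := hT.decomp hN hn
    rw [hm.2 s hs, ← mul_smul, ← mul_assoc, hm.2 t t.2, mul_assoc, mul_smul, mul_smul m, smul_left_cancel_iff,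
      mul_smul] at e
    exact h ⟨s • a, mem_orbit a (⟨s, hs⟩ : T)⟩ (Subtype.ext e)
  obtain ⟨s, hs, s1⟩ : ∃ s ∈ g ⋆ T ⊓ stabilizer G a, s ≠ 1 := by
    obtain ⟨⟨s, hs⟩, s1⟩ := ne_bot_iff_exists_ne_one.1 (h0 (g⁻¹ • a))
    refine ⟨g * s * g⁻¹, mem_inf.2 ⟨conj_mem_conj.2 hs.1, ?_⟩, fun e => s1 (Subtype.ext (by simpa using e))⟩
    rw [mem_stabilizer_iff, mul_smul, mul_smul, show s • g⁻¹ • a = g⁻¹ • a from hs.2, smul_inv_smul]
  have t1 : t ≠ 1 := fun e => hd a (by rw [e, one_smul])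
  have hUc := hU.comm hT hg.symm
  have hTc := hT.comm hU hg
  have ht' : g * t * g⁻¹ ∈ g ⋆ T := conj_mem_conj.2 htT
  have P1 : ∀ u ∈ g ⋆ T, u ≠ 1 → ¬ IsConj t (t * u) := fun u hu u1 e => by
    obtain ⟨c, e⟩ := isConj_iff.1 e
    have h1 : t * u ∈ c ⋆ T := e ▸ conj_mem_conj.2 htT
    by_cases h : c ⋆ T = T
    · exact u1 (hT.eq_one hN hc ((mul_mem_cancel_left htT).1 (h ▸ h1)) (hUc hu))
    · exact t1 (hT.eq_one hN hc htT ((mul_mem_cancel_right (hUc hu)).1 ((hT.conj c).comm hT h h1)))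
  refine ⟨t, t * (g * t * g⁻¹), t * s, hd, fun w e => hd w (hproj t htT _ ⟨hU.le ht', hUc ht'⟩ w e),
    fun w e => hd w (hproj t htT _ ⟨hU.le hs.1, hUc hs.1⟩ w e), P1 _ ht' (by simpa using t1), P1 s hs.1 s1, fun e => ?_⟩
  obtain ⟨c, e⟩ := isConj_iff.1 e.symm
  have hV := hU.conj c
  have h1 : c * s * c⁻¹ ∈ c ⋆ g ⋆ T := conj_mem_conj.2 hs.1
  have h2 : c * t * c⁻¹ ∈ centralizer ((c ⋆ g ⋆ T : Subgroup G) : Set G) := by
    rw [← conj_centralizer]; exact conj_mem_conj.2 (hTc htT)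
  have h3 : (c * s * c⁻¹) • c • a = c • a := by
    rw [mul_smul, inv_smul_smul, mul_smul, show s • a = a from hs.2]
  have e' : c * s * c⁻¹ * (c * t * c⁻¹) = t * (g * t * g⁻¹) := by rw [← e, ← hTc htT s hs.1]; group
  by_cases h : c ⋆ g ⋆ T = T
  · rw [h] at h1 h2
    exact hd _ (hT.unique hN hc h1 htT h2 (hUc ht') e' ▸ h3)
  by_cases h' : c ⋆ g ⋆ T = g ⋆ T
  · rw [h'] at h1 h2
    exact der_conj hd g _ (hU.unique hN hc h1 ht' h2 (hTc htT) (e'.trans (hUc ht' t htT)) ▸ h3)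
  have := hV.eq_one hN hc h1 ((mul_mem_cancel_right h2).1
    (e' ▸ mul_mem (hT.comm hV (Ne.symm h) htT) (hU.comm hV (Ne.symm h') ht')))
  exact s1 (by simpa using this)

end

/-- Let a finite group G act faithfully and primitively on a finite set Ω with at least two points, suppose G is not almost simple (no non-abelian simple normal subgroup with trivial centralizer), and suppose the derangements of G form exactly two conjugacy classes. Then either Ω has 3 points and G has order 3; or G has a non-trivial abelian normal subgroup N acting regularly, every non-identity element of G fixes at most one point (so, when n > 3, G is a Frobenius group with kernel N), the number n of points is odd and a point stabilizer has order (n − 1)/2; or G is 2-transitive with a non-trivial abelian regular normal subgroup and some non-identity element fixes at least two points (a non-Frobenius 2-transitive affine group). -/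
theorem result {G : Type*} [Group G] [Finite G] {Ω : Type*} [Fintype Ω] [MulAction G Ω] [FaithfulSMul G Ω] (hΩ : 2 ≤ Fintype.card Ω) (hprim : MulAction.IsPreprimitive G Ω) (hnas : ¬ ∃ T : Subgroup G, T.Normal ∧ IsSimpleGroup T ∧ ¬ IsMulCommutative T ∧ Subgroup.centralizer (T : Set G) = ⊥)
    (hκ : Nat.card {c : ConjClasses G // ∃ g : G, ConjClasses.mk g = c ∧ ∀ ω : Ω, g • ω ≠ ω} = 2) (α : Ω) :
    (Fintype.card Ω = 3 ∧ Nat.card G = 3) ∨
    ((∃ N : Subgroup G, N.Normal ∧ N ≠ ⊥ ∧ IsMulCommutative N ∧ ∀ ω : Ω, MulAction.stabilizer N ω = ⊥) ∧ (∀ g : G, g ≠ 1 → Nat.card (MulAction.fixedBy Ω g) ≤ 1) ∧ ¬ 2 ∣ Fintype.card Ω ∧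
        2 * Nat.card (MulAction.stabilizer G α) = Fintype.card Ω - 1) ∨
    ((∃ N : Subgroup G, N.Normal ∧ N ≠ ⊥ ∧ IsMulCommutative N ∧ ∀ ω : Ω, MulAction.stabilizer N ω = ⊥) ∧ MulAction.IsMultiplyPretransitive G Ω 2 ∧ ∃ g : G, g ≠ 1 ∧ 2 ≤ Nat.card (MulAction.fixedBy Ω g)) := by
  have := hprim
  have : Nonempty Ω := ⟨α⟩
  obtain ⟨d, e, hd, he, hde, hall⟩ : ∃ d e : G, (∀ w : Ω, d • w ≠ w) ∧ (∀ w : Ω, e • w ≠ w) ∧ ¬ IsConj d e ∧
      ∀ g : G, (∀ w : Ω, g • w ≠ w) → IsConj d g ∨ IsConj e g := by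
    obtain ⟨⟨_, d, rfl, hd⟩, ⟨_, e, rfl, he⟩, h1, h2⟩ := Nat.card_eq_two_iff.1 hκ
    refine ⟨d, e, hd, he, fun h => h1 (Subtype.ext (ConjClasses.mk_eq_mk_iff_isConj.2 h)), fun g hg => ?_⟩
    exact (h2.ge (Set.mem_univ ⟨_, g, rfl, hg⟩)).imp (fun h => (ConjClasses.mk_eq_mk_iff_isConj.1
      (congrArg Subtype.val h)).symm) fun h => (ConjClasses.mk_eq_mk_iff_isConj.1 (congrArg Subtype.val h)).symm
  obtain ⟨β, hβ⟩ := Fintype.exists_ne_of_one_lt_card hΩ α
  have : Nontrivial G := ⟨d, 1, fun h => hd α (by rw [h, one_smul])⟩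
  obtain ⟨N, hN⟩ := exists_isMinNormal (G := G)
  have := hN.normal
  have ht := isPretransitive_of_normal (α := Ω) N hN.ne_bot
  by_cases hc : IsMulCommutative N
  swap
  · obtain ⟨x, y, z, hx, hy, hz, h1, h2, h3⟩ := three hβ hN hc hnas
    rcases hall x hx with a | a <;> rcases hall y hy with b | b <;> rcases hall z hz with c | c <;>
      first | exact absurd (a.symm.trans b) h1 | exact absurd (a.symm.trans c) h2 | exact absurd (b.symm.trans c) h3
  have hr := stabilizer_eq_bot_of_comm ht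
  have hr' : ∀ n ∈ N, ∀ w : Ω, n • w = w → n = 1 := fun n hn w h =>
    congrArg Subtype.val (mem_bot.1 ((hr w).le (show (⟨n, hn⟩ : N) ∈ stabilizer N w from h)))
  have hcj : ∀ u ∈ N, ∀ v, IsConj u v → ∀ a : Ω, ∃ k : G, k • a = a ∧ k • u • a = v • a := fun u hu v h a => by
    obtain ⟨g, rfl⟩ := isConj_iff.1 h
    obtain ⟨n, hn, k, hk, rfl⟩ := exists_mul_stabilizer ht a g
    refine ⟨k, hk, ?_⟩
    rw [smul_smul_of_fix hk, show n * k * u * (n * k)⁻¹ = n * (k * u * k⁻¹) * n⁻¹ by group,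
      setLike_mul_comm (s := N) hn (this.conj_mem u hu k), mul_inv_cancel_right]
  refine Or.inr ?_
  by_cases hD : ∀ g : G, (∀ w : Ω, g • w ≠ w) → g ∈ N
  · have h1 := (Misc.transitive_of_derangements_mem N hD).2
    have h2 : ∀ k : G, k • α = α → ∀ w ≠ α, k • w = w → k = 1 := fun k hk w hw e =>
      hr' k (Misc.mem_of_fixes_two h1 hw e hk) α hk
    have h3 : ∀ w ≠ α, (orbit (stabilizer G α) w).ncard = Nat.card (stabilizer G α) := fun w hw => by
      rw [← index_stabilizer, show stabilizer (stabilizer G α) w = ⊥ from eq_bot_iff.2 fun k hk =>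
        mem_bot.2 (Subtype.ext (h2 k k.2 w hw hk)), index_bot]
    have h4 : ({α}ᶜ : Set Ω) = orbit (stabilizer G α) (d • α) ∪ orbit (stabilizer G α) (e • α) := by
      refine Set.Subset.antisymm (fun w hw => ?_) (Set.union_subset ?_ ?_)
      · obtain ⟨n, hn, rfl⟩ := exists_regular_smul ht α w
        exact (hall n fun x h => hw (by rw [hr' n hn x h, one_smul]; rfl)).imp
          (fun h => let ⟨k, h1, h2⟩ := hcj d (hD d hd) n h α; ⟨⟨k, h1⟩, h2⟩)
          fun h => let ⟨k, h1, h2⟩ := hcj e (hD e he) n h α; ⟨⟨k, h1⟩, h2⟩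
      · rintro _ ⟨k, rfl⟩ h
        exact hd α ((smul_left_cancel_iff k).1 (h.trans (show k.1 • α = α from k.2).symm))
      · rintro _ ⟨k, rfl⟩ h
        exact he α ((smul_left_cancel_iff k).1 (h.trans (show k.1 • α = α from k.2).symm))
    have h5 : Disjoint (orbit (stabilizer G α) (d • α)) (orbit (stabilizer G α) (e • α)) := by
      refine (orbit.eq_or_disjoint _ _).resolve_left fun h => hde ?_
      obtain ⟨k, hk⟩ : e • α ∈ orbit (stabilizer G α) (d • α) := h ▸ mem_orbit_self _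
      replace hk : (k : G) • d • α = e • α := hk
      rw [smul_smul_of_fix k.2] at hk
      exact isConj_iff.2 ⟨k, (inv_mul_eq_one.1 (hr' _ (mul_mem (inv_mem (this.conj_mem d (hD d hd) k)) (hD e he)) α
        (by rw [mul_smul, ← hk, inv_smul_smul])))⟩
    have h6 : 2 * Nat.card (stabilizer G α) + 1 = Fintype.card Ω := by
      have := Set.ncard_add_ncard_compl ({α} : Set Ω)
      rw [h4, Set.ncard_union_eq h5, h3 _ (hd α), h3 _ (he α), Set.ncard_singleton, Nat.card_eq_fintype_card (α := Ω)] at this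
      omega
    refine Or.inl ⟨⟨N, this, hN.ne_bot, hc, hr⟩, fun g hg => ?_, by omega, by omega⟩
    by_cases h : g ∈ N
    · rw [show fixedBy Ω g = ∅ from Set.eq_empty_of_forall_notMem fun w hw => hg (hr' g h w hw)]
      simp
    · exact (h1 g h).le
  push Not at hD
  obtain ⟨g, hg, hgN⟩ := hD
  refine Or.inr ⟨⟨N, this, hN.ne_bot, hc, hr⟩, is_two_pretransitive_iff.2 fun {a b c f} hab hcf => ?_, ?_⟩
  · have key : ∀ u ∈ N, u ≠ 1 → ¬ IsConj g u ∧ (IsConj d u ∨ IsConj e u) := fun u hu u1 =>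
      ⟨fun h => by obtain ⟨c, rfl⟩ := isConj_iff.1 h.symm; exact hgN (this.conj_mem u hu c),
        hall u fun x h => u1 (hr' u hu x h)⟩
    obtain ⟨n, hn, rfl⟩ := exists_regular_smul ht a c
    obtain ⟨u, hu, rfl⟩ := exists_regular_smul ht a b
    obtain ⟨v, hv, h⟩ := exists_regular_smul ht a (n⁻¹ • f)
    obtain ⟨h1, h2⟩ := key u hu fun e => hab (by rw [e, one_smul])
    obtain ⟨h3, h4⟩ := key v hv fun e => hcf (by rw [← eq_inv_smul_iff, ← h, e, one_smul])
    obtain ⟨k, k1, k2⟩ := hcj u hu v (by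
      rcases hall g hg with a | a <;> rcases h2 with b | b <;> rcases h4 with c | c <;>
        first | exact absurd (a.symm.trans b) h1 | exact absurd (a.symm.trans c) h3 | exact b.symm.trans c) a
    exact ⟨n * k, by rw [mul_smul, k1], by rw [mul_smul, k2, h, smul_inv_smul]⟩
  · by_contra! h
    obtain ⟨n, hn, k, hk, rfl⟩ := exists_mul_stabilizer ht α g
    have k1 : k ≠ 1 := fun e => hgN (by rwa [e, mul_one])
    let φ : N → N := fun v => ⟨v * (k * v * k⁻¹)⁻¹, mul_mem v.2 (inv_mem (this.conj_mem _ v.2 k))⟩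
    obtain ⟨v, hv⟩ := Finite.injective_iff_surjective.1 (show Function.Injective φ from fun v w e => by
      replace e : v.1 * (k * v * k⁻¹)⁻¹ = w * (k * w * k⁻¹)⁻¹ := congrArg Subtype.val e
      have h1 : k • (w.1⁻¹ * v.1) • α = (w.1⁻¹ * v.1) • α := by
        rw [smul_smul_of_fix hk, show k * (w.1⁻¹ * v.1) * k⁻¹ = w.1⁻¹ * (w * (k * w * k⁻¹)⁻¹) * (k * v * k⁻¹) by group,
          ← e, mul_assoc, inv_mul_cancel_right]
      have h2 := (Finite.card_le_one_iff_subsingleton.1 (Nat.lt_succ_iff.1 (h k k1))).elim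
        (⟨_, h1⟩ : fixedBy Ω k) ⟨α, hk⟩
      exact Subtype.ext (inv_mul_eq_one.1 (hr' _ (mul_mem (inv_mem w.2) v.2) α (congrArg Subtype.val h2))).symm) ⟨n, hn⟩
    replace hv : v.1 * (k * v * k⁻¹)⁻¹ = n := congrArg Subtype.val hv
    exact hg (v.1 • α) (by rw [← hv, ← mul_smul, show v.1 * (k * v * k⁻¹)⁻¹ * k * v = v * k by group, mul_smul, hk])

end Cfsg.Agent.S3520
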