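import Cfsg.Statements.S3549
import Cfsg.Agent.Lib.Misc.Derangement

set_option autoImplicit false
open Cfsg

namespace Cfsg.Agent.S3549



/-- Let G act faithfully, transitively but imprimitively on a finite set with n points, and let D be the subgroup generated by the derangements. Then the index of D in G is at most √n − 1. -/
theorem result {G Ω : Type*} [Group G] [Finite G] [MulAction G Ω] [FaithfulSMul G Ω] [Finite Ω]
    (htrans : MulAction.IsPretransitive G Ω) (himp : ¬ MulAction.IsPreprimitive G Ω) :
    ((Subgroup.closure {g : G | ∀ ω : Ω, g • ω ≠ ω}).index : ℝ) ≤ Real.sqrt (Nat.card Ω) - 1 := by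
  classical
  set D := Subgroup.closure {g : G | ∀ ω : Ω, g • ω ≠ ω} with hDdef
  have hnt : Nontrivial Ω := by
    by_contra h
    rw [not_nontrivial_iff_subsingleton] at h
    exact himp MulAction.IsPreprimitive.of_subsingleton
  have hD : ∀ g : G, (∀ x : Ω, g • x ≠ x) → g ∈ D := fun g hg => Subgroup.subset_closure hg
  obtain ⟨h1, h2⟩ := Cfsg.Lib.Misc.transitive_of_derangements_mem (X := Ω) D hD
  obtain ⟨a⟩ : Nonempty Ω := inferInstance
  have hnc : ¬ IsCoatom (MulAction.stabilizer G a) := fun h =>
    himp ((MulAction.isCoatom_stabilizer_iff_preprimitive G a).1 h)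
  have hne : MulAction.stabilizer G a ≠ ⊤ := by
    intro h
    obtain ⟨b, hb⟩ := exists_ne a
    obtain ⟨g, hg⟩ := MulAction.exists_smul_eq G a b
    have : g ∈ MulAction.stabilizer G a := by rw [h]; trivial
    exact hb (hg.symm.trans this)
  obtain ⟨H, hH1, hH2⟩ : ∃ H : Subgroup G, MulAction.stabilizer G a < H ∧ H ≠ ⊤ := by
    by_contra h; push Not at h; exact hnc ⟨hne, h⟩
  have hk1 : D.index ∣ Nat.card (G ⧸ H) - 1 := by
    apply Cfsg.Lib.Misc.index_dvd_card_sub_one D
    intro g hg
    apply hD
    intro x hx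
    obtain ⟨y, rfl⟩ := MulAction.exists_smul_eq G a x
    apply hg (y : G ⧸ H)
    have : y⁻¹ * g⁻¹ * y ∈ H := by
      apply hH1.le
      rw [MulAction.mem_stabilizer_iff, mul_smul, mul_smul, inv_smul_eq_iff, inv_smul_eq_iff, hx]
    rw [MulAction.Quotient.smul_coe, QuotientGroup.eq]
    simpa using this
  have hm : 1 < Nat.card (G ⧸ H) := Subgroup.one_lt_index_of_ne_top hH2
  have hk1' : D.index + 1 ≤ H.index := by
    have := Nat.le_of_dvd (by omega) hk1
    have e : H.index = Nat.card (G ⧸ H) := rfl
    omega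
  obtain ⟨h, hh, hha⟩ := SetLike.exists_of_lt hH1
  have hk2 : D.index + 1 ≤ (MulAction.orbit H a).ncard := by
    have hb : h • a ≠ a := hha
    have hdv := Cfsg.Lib.Misc.index_dvd_card_suborbit D h2 hb.symm
    have hsub : insert a (MulAction.orbit (MulAction.stabilizer G a) (h • a)) ⊆ MulAction.orbit H a := by
      rintro x (rfl | ⟨g, rfl⟩)
      · exact MulAction.mem_orbit_self _
      · exact ⟨⟨g * h, H.mul_mem (hH1.le g.2) hh⟩, by simp [Subgroup.smul_def, mul_smul]⟩
    have hna : a ∉ MulAction.orbit (MulAction.stabilizer G a) (h • a) := by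
      rintro ⟨g, hg⟩
      apply hb
      have h3 : (g : G) • h • a = (g : G) • a := by rw [g.2]; exact hg
      exact smul_left_cancel _ h3
    have h5 := Set.ncard_le_ncard hsub
    rw [Set.ncard_insert_of_notMem hna] at h5
    have hpos : 0 < (MulAction.orbit (MulAction.stabilizer G a) (h • a)).ncard :=
      (Set.ncard_pos).2 ⟨_, MulAction.mem_orbit_self _⟩
    have := Nat.le_of_dvd hpos hdv
    omega
  have hn : (MulAction.orbit H a).ncard * H.index = Nat.card Ω := by
    rw [← MulAction.index_stabilizer, ← MulAction.index_stabilizer_of_transitive G a]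
    have e : MulAction.stabilizer H a = (MulAction.stabilizer G a).subgroupOf H := by
      ext x; rfl
    rw [e]
    exact Subgroup.relIndex_mul_index hH1.le
  have h6 : (D.index + 1) ^ 2 ≤ Nat.card Ω := by
    rw [← hn, pow_two]; exact Nat.mul_le_mul hk2 hk1'
  rw [le_sub_iff_add_le]
  apply Real.le_sqrt_of_sq_le
  exact_mod_cast h6

end Cfsg.Agent.S3549
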