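import Cfsg.Statements.S3554
import Cfsg.Agent.Lib.Misc.Cyclic

set_option autoImplicit false
open Cfsg

namespace Cfsg.Agent.S3554



/-- Let G act faithfully and transitively on a finite set and suppose G has a non-trivial cyclic normal subgroup. Then some element of G of prime order fixes no point. -/
theorem result {G Ω : Type*} [Group G] [Finite G] [MulAction G Ω] [FaithfulSMul G Ω] [Finite Ω]
    (htrans : MulAction.IsPretransitive G Ω) (C : Subgroup G) (hC : C.Normal) (hC1 : C ≠ ⊥) (hcyc : IsCyclic ↥C) :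
    ∃ g : G, (orderOf g).Prime ∧ ∀ ω : Ω, g • ω ≠ ω := by
  classical
  have hnt : 1 < Nat.card C := (Subgroup.one_lt_card_iff_ne_bot C).mpr hC1
  obtain ⟨p, hp, hpd⟩ := Nat.exists_prime_and_dvd hnt.ne'
  have := Fact.mk hp
  obtain ⟨c, hc⟩ := exists_prime_orderOf_dvd_card' (G := C) p hpd
  have hcG : orderOf (c : G) = p := by rw [Subgroup.orderOf_coe, hc]
  refine ⟨c, by rw [hcG]; exact hp, ?_⟩
  intro ω hω
  have hall : ∀ ω' : Ω, (c : G) • ω' = ω' := by
    intro ω'
    obtain ⟨g, rfl⟩ := MulAction.exists_smul_eq G ω ω'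
    -- g⁻¹ c g is a power of c
    have hmem : g⁻¹ * c * g ∈ C := by simpa using hC.conj_mem _ c.2 g⁻¹
    have hord : orderOf (⟨_, hmem⟩ : C) = p := by
      rw [← Subgroup.orderOf_coe, ← hcG]
      have : IsConj (c : G) (g⁻¹ * c * g) := isConj_iff.mpr ⟨g⁻¹, by simp⟩
      exact (SemiconjBy.orderOf_eq _ this.choose_spec).symm
    obtain ⟨k, hk'⟩ := Cfsg.Lib.Misc.mem_zpowers_of_orderOf_dvd_of_cyclic hcyc hmem c.2 (by
      rw [hcG, ← hord]; exact (Subgroup.orderOf_coe (⟨_, hmem⟩ : C)).dvd)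
    simp only at hk'
    have h1 : (g⁻¹ * c * g) • ω = ω := by
      rw [← hk']; exact (Subgroup.zpow_mem (MulAction.stabilizer G ω) hω k)
    rw [mul_smul, mul_smul, inv_smul_eq_iff] at h1
    exact h1
  have : (c : G) = 1 := FaithfulSMul.eq_of_smul_eq_smul (α := Ω) (fun a => by rw [hall, one_smul])
  rw [this, orderOf_one] at hcG
  exact hp.one_lt.ne hcG

end Cfsg.Agent.S3554
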