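import Cfsg.Statements.S3555
import Cfsg.Agent.Lib.Perm.Zass

set_option autoImplicit false
open Cfsg

namespace Cfsg.Agent.S3555

open MulAction Subgroup Cfsg.Lib.Perm Cfsg.Lib Finset
open scoped Pointwise

theorem sum_sq_le {G Ω : Type*} [Group G] [Fintype G] [MulAction G Ω] [Finite Ω] :
    ∑ g : G, Nat.card (fixedBy Ω (g * g)) ≤ ∑ g : G, Nat.card (fixedBy Ω g) ^ 2 := by
  classical
  have := Fintype.ofFinite Ω
  have e1 : ∀ g : G, Nat.card (fixedBy Ω (g * g)) =
      ∑ p : Ω × Ω, if g • p.1 = p.2 ∧ g • p.2 = p.1 then 1 else 0 := fun g => by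
    rw [sum_boole, Nat.cast_id, Nat.card_eq_fintype_card, Fintype.card_subtype]
    refine card_nbij' (fun x => (x, g • x)) Prod.fst (fun x hx => ?_) (fun p hp => ?_)
      (fun _ _ => rfl) fun p hp => ?_
    · simpa [mul_smul] using hx
    · simp only [coe_filter, mem_univ, true_and, Set.mem_setOf_eq, mem_fixedBy] at hp ⊢
      rw [mul_smul, hp.1, hp.2]
    · simp only [coe_filter, mem_univ, true_and, Set.mem_setOf_eq] at hp
      exact Prod.ext rfl hp.1
  have e2 : ∀ g : G, Nat.card (fixedBy Ω g) ^ 2 =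
      ∑ p : Ω × Ω, if g • p.1 = p.1 ∧ g • p.2 = p.2 then 1 else 0 := fun g => by
    rw [sum_boole, Nat.cast_id, Nat.card_eq_fintype_card, Fintype.card_subtype, sq, ← card_product,
      ← univ_product_univ, ← filter_product]
    rfl
  simp only [e1, e2]
  rw [sum_comm, sum_comm (s := (univ : Finset G))]
  refine sum_le_sum fun p _ => ?_
  rw [sum_boole, sum_boole, Nat.cast_id, Nat.cast_id]
  by_cases h : ∃ t : G, t • p.1 = p.2 ∧ t • p.2 = p.1
  · obtain ⟨t, h1, h2⟩ := h
    refine card_le_card_of_injOn (t * ·) (fun g hg => ?_) (mul_right_injective t).injOn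
    simp only [coe_filter, mem_univ, true_and, Set.mem_setOf_eq] at hg ⊢
    simp [mul_smul, hg.1, hg.2, h1, h2]
  · rw [filter_eq_empty_iff.2 fun g _ hg => h ⟨g, hg⟩]
    exact Nat.zero_le _

/-- Let G act faithfully and transitively on a finite set and suppose every element of G fixing no point is an involution. Then either G is an elementary abelian 2-group, or G is a Frobenius group whose Frobenius kernel is an elementary abelian 2-group: G has a Frobenius complement H, and the elements lying in no conjugate of H, together with the identity, pairwise commute and square to the identity. -/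
theorem result {G Ω : Type*} [Group G] [Finite G] [MulAction G Ω] [FaithfulSMul G Ω] [Finite Ω]
    (htrans : MulAction.IsPretransitive G Ω) (hinv : ∀ g : G, (∀ ω : Ω, g • ω ≠ ω) → orderOf g = 2) :
    (IsMulCommutative G ∧ ∀ g : G, g ^ 2 = 1) ∨
    (∃ H : Subgroup G, Cfsg.IsFrobeniusComplement H ∧
      (∀ x ∈ Cfsg.frobeniusKernel H, x ^ 2 = 1) ∧
      ∀ x ∈ Cfsg.frobeniusKernel H, ∀ y ∈ Cfsg.frobeniusKernel H, x * y = y * x) := by
  classical
  have := Fintype.ofFinite G
  rcases isEmpty_or_nonempty Ω with hΩ | hΩ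
  · have : ∀ g : G, g = 1 := fun g => eq_one_of_forall_smul (α := Ω) fun a => hΩ.elim a
    exact Or.inl ⟨⟨⟨fun x y => by rw [this x, this y]⟩⟩, fun g => this _⟩
  have h1 := sum_card_fixedBy_of_transitive (G := G) (α := Ω)
  have h2 := sum_sq_le (G := G) (Ω := Ω)
  set n := Nat.card Ω
  have hle : ∀ g : G, Nat.card (fixedBy Ω g) ≤ n := fun g => Finite.card_subtype_le _
  have key : ∀ g : G, (Nat.card (fixedBy Ω g) : ℤ) ^ 2 + n ≤
      Nat.card (fixedBy Ω (g * g)) + n * Nat.card (fixedBy Ω g) -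
        (Nat.card (fixedBy Ω g) - 1 : ℕ) * (n - Nat.card (fixedBy Ω g) : ℕ) := fun g => by
    rcases Nat.eq_zero_or_pos (Nat.card (fixedBy Ω g)) with h | h
    · have : g * g = 1 := by
        rw [← sq, ← hinv g fun w hw => (Nat.card_ne_zero.2 ⟨⟨⟨w, hw⟩⟩, inferInstance⟩) h,
          pow_orderOf_eq_one]
      simp [h, this, n]
    · have : Nat.card (fixedBy Ω g) ≤ Nat.card (fixedBy Ω (g * g)) :=
        Set.ncard_le_ncard (fun x hx => by rw [mem_fixedBy, mul_smul, hx, hx]) (Set.toFinite _)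
      rw [Nat.cast_sub h, Nat.cast_sub (hle g)]
      push_cast
      nlinarith
  have h3 := sum_le_sum fun g (_ : g ∈ univ) => key g
  rw [sum_sub_distrib, sum_add_distrib, sum_add_distrib, ← mul_sum, sum_const, card_univ,
    ← Nat.card_eq_fintype_card, ← h1] at h3
  have h4 : ∑ g : G, (Nat.card (fixedBy Ω g) - 1) * (n - Nat.card (fixedBy Ω g)) = 0 := by
    zify at h2 ⊢
    simp only [nsmul_eq_mul, Nat.cast_sum] at h3
    refine le_antisymm (by linarith) (sum_nonneg fun _ _ => by positivity)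
  have h5 : ∀ (g : G) (a b : Ω), a ≠ b → g • a = a → g • b = b → g = 1 := fun g a b hab ha hb => by
    have h6 := sum_eq_zero_iff.1 h4 g (mem_univ g)
    have h7 : 1 < Nat.card (fixedBy Ω g) := Finite.one_lt_card_iff_nontrivial.2
      ⟨⟨a, ha⟩, ⟨b, hb⟩, fun e => hab (congrArg Subtype.val e)⟩
    have h8 : fixedBy Ω g = Set.univ := Set.eq_of_subset_of_ncard_le (Set.subset_univ _) (by
      rw [Set.ncard_univ]
      exact Nat.sub_eq_zero_iff_le.1 ((Nat.mul_eq_zero.1 h6).resolve_left (by omega)))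
    exact eq_one_of_forall_smul fun x => h8.ge (Set.mem_univ x)
  obtain ⟨N, -, hN, -, -⟩ := exists_frobenius_kernel h5
  have hsq : ∀ x ∈ N, x ^ 2 = 1 := fun x hx => by
    rcases (hN x).1 hx with rfl | h
    · simp
    · rw [← hinv x h, pow_orderOf_eq_one]
  have hc : ∀ x ∈ N, ∀ y ∈ N, x * y = y * x := fun x hx y hy =>
    Commute.of_orderOf_dvd_two (G := N) (fun z => orderOf_dvd_of_pow_eq_one (Subtype.ext (hsq z z.2)))
      ⟨x, hx⟩ ⟨y, hy⟩ |> congrArg Subtype.val
  obtain ⟨a⟩ := hΩ
  by_cases h0 : stabilizer G a = ⊥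
  · have : ∀ g, g ∈ N := fun g => (hN g).2 (or_iff_not_imp_right.2 fun h => by
      push Not at h
      obtain ⟨x, hx⟩ := h
      obtain ⟨k, rfl⟩ := exists_smul_eq G a x
      have : k⁻¹ * g * k ∈ stabilizer G a := by
        rw [mem_stabilizer_iff, mul_smul, mul_smul, hx, inv_smul_smul]
      rw [h0, mem_bot] at this
      simpa [mul_assoc, inv_mul_eq_one] using this)
    exact Or.inl ⟨⟨⟨fun x y => hc x (this x) y (this y)⟩⟩, fun g => hsq g (this g)⟩
  have hs : ∀ g : G, MulAut.conj g • stabilizer G a = stabilizer G (g • a) := fun g =>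
    (stabilizer_smul_eq_stabilizer_map_conj g a).symm
  have hK : ∀ x ∈ frobeniusKernel (stabilizer G a), x ∈ N := fun x hx =>
    (hN x).2 (hx.imp_right fun h b hb => by
      obtain ⟨k, rfl⟩ := exists_smul_eq G a b
      exact h k (hs k ▸ hb))
  refine Or.inr ⟨stabilizer G a, ⟨h0, fun e => h0 (eq_bot_iff.2 fun g _ => eq_one_of_forall_smul (α := Ω)
    fun x => ?_), fun g hg => eq_bot_iff.2 fun x hx => h5 x a (g • a) (Ne.symm hg) hx.1 ?_⟩,
    fun x hx => hsq x (hK x hx), fun x hx y hy => hc x (hK x hx) y (hK y hy)⟩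
  · obtain ⟨k, rfl⟩ := exists_smul_eq G a x
    rw [← mul_smul, e.ge (mem_top (g * k)), e.ge (mem_top k)]
  · exact (hs g).le hx.2

end Cfsg.Agent.S3555
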