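import Cfsg.Statements.S3556
import Cfsg.Agent.Lib.Perm.Socle
import Cfsg.Agent.Lib.Misc.Derangement

set_option autoImplicit false
open Cfsg

namespace Cfsg.Agent.S3556

open MulAction Subgroup Lib.Perm Lib.Core

theorem jordan {T : Type*} [Group T] [Finite T] {R : Subgroup T} (h : R ≠ ⊤) :
    ∃ t : T, ∀ g : T, g⁻¹ * t * g ∉ R := by
  by_contra hc
  push Not at hc
  have := (Lib.Misc.transitive_of_derangements_mem (G := T) (X := T ⧸ R) ⊥ fun t ht => by
    obtain ⟨g, hg⟩ := hc t
    refine absurd (QuotientGroup.eq.2 ?_).symm (ht g)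
    exact mul_assoc g⁻¹ t g ▸ hg).1
  refine h (eq_top_iff.2 fun x _ => ?_)
  obtain ⟨⟨g, hg⟩, e⟩ := this.exists_smul_eq ((1 : T) : T ⧸ R) (x : T ⧸ R)
  obtain rfl := mem_bot.1 hg
  simpa using QuotientGroup.eq.1 ((one_smul T ((1 : T) : T ⧸ R)).symm.trans e)

/-- Let G act faithfully and primitively on a finite set with at least two points, and suppose that for some fixed prime p every element of G fixing no point has order a power of p. Then G is of affine type (it has a regular normal subgroup that is an elementary abelian r-group for some prime r) or almost simple (it has a non-abelian simple normal subgroup with trivial centralizer). -/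
theorem result {G Ω : Type*} [Group G] [Finite G] [MulAction G Ω] [FaithfulSMul G Ω] [Finite Ω]
    (hprim : MulAction.IsPreprimitive G Ω) (hΩ : 2 ≤ Nat.card Ω) (p : ℕ) (hp : p.Prime)
    (hder : ∀ g : G, (∀ ω : Ω, g • ω ≠ ω) → ∃ k : ℕ, orderOf g = p ^ k) :
    (∃ (N : Subgroup G) (r : ℕ), r.Prime ∧ N.Normal ∧ Cfsg.IsElementaryAbelian r N ∧
      MulAction.IsPretransitive N Ω ∧ ∀ a : Ω, MulAction.stabilizer N a = ⊥) ∨
    (∃ T : Subgroup G, T.Normal ∧ IsSimpleGroup ↥T ∧ ¬ IsMulCommutative ↥T ∧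
      Subgroup.centralizer (T : Set G) = ⊥) := by
  classical
  have := Fact.mk hp
  have : Nontrivial Ω := Finite.one_lt_card_iff_nontrivial.1 hΩ
  obtain ⟨a, b, hab⟩ := exists_pair_ne Ω
  have : Nontrivial G := by
    obtain ⟨g, hg⟩ := exists_smul_eq G a b
    exact ⟨g, 1, fun e => hab (by rw [← hg, e, one_smul])⟩
  obtain ⟨N, hN⟩ := exists_isMinNormal (G := G)
  have := hN.normal
  have ht := isPretransitive_of_normal (α := Ω) N hN.ne_bot
  by_cases hs : Group.IsSolvable N
  · obtain ⟨r, hr, he⟩ := hN.isElementaryAbelian hs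
    have := he.1
    exact Or.inl ⟨N, r, hr, hN.normal, he, ht, stabilizer_eq_bot_of_comm ht⟩
  right
  obtain ⟨T, _, hT, m, hm, ⟨e⟩⟩ := IsMinNormal.exists_equiv_pi hN
  have hTs : ¬ Group.IsSolvable T := fun h =>
    have : IsMulCommutative T := ⟨⟨IsSimpleGroup.comm_iff_isSolvable.2 h⟩⟩
    have := isMulCommutative_pi (ι := Fin m) (T := T)
    hs (isSolvable_of_comm fun a b => e.injective (by rw [map_mul, map_mul, mul_comm']))
  have : Finite (Fin m → T) := Finite.of_equiv _ e.toEquiv
  have : Finite T := Finite.of_injective (fun t : T => fun _ : Fin m => t) fun a b h =>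
    congrFun h ⟨0, hm⟩
  obtain ⟨s, hs'⟩ : ∃ s : T, ∀ k, s ^ p ^ k ≠ 1 := by
    by_contra hc
    push Not at hc
    have := IsPGroup.isNilpotent (p := p) hc
    exact hTs inferInstance
  let L := (stabilizer N a).map e.toMonoidHom
  have key : ∀ (x : Fin m → T) (j : Fin m), x j = s → ∃ y, y⁻¹ * x * y ∈ L := by
    intro x j hj
    by_contra hc
    push Not at hc
    obtain ⟨k, hk⟩ := hder (e.symm x) fun ω hω => by
      obtain ⟨g, rfl⟩ := exists_smul_eq N a ω
      refine hc (e g) ⟨g⁻¹ * e.symm x * g, ?_, by simp⟩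
      rw [SetLike.mem_coe, mem_stabilizer_iff, mul_smul, mul_smul, inv_smul_eq_iff]
      exact hω
    rw [orderOf_coe, MulEquiv.orderOf_eq] at hk
    exact hs' k (by rw [← hj, ← hk, ← Pi.pow_apply, pow_orderOf_eq_one, Pi.one_apply])
  have hs1 : s ≠ 1 := by simpa using hs' 0
  have hC : centralizer (N : Set G) = ⊥ := by
    by_contra h
    obtain ⟨y, hy⟩ := key (fun _ => s) ⟨0, hm⟩ rfl
    simp only [L, stabilizer_eq_bot_of_le_centralizer (isPretransitive_of_normal (α := Ω) _ h)
      (le_centralizer_iff.1 le_rfl) a, Subgroup.map_bot, mem_bot] at hy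
    rw [mul_assoc, inv_mul_eq_one, eq_comm, mul_eq_right] at hy
    exact hs1 (congrFun hy ⟨0, hm⟩)
  refine ⟨N, hN.normal, ?_, fun h => hs (isSolvable_of_comm h.is_comm.comm), hC⟩
  obtain rfl | hm2 := hm.eq_or_lt
  · exact (e.trans (MulEquiv.piUnique _)).isSimpleGroup
  exfalso
  have : Nontrivial (Fin m) := Fin.nontrivial_iff_two_le.2 hm2
  have hsub : ∀ i t, ∃ l ∈ L, l i = t := by
    intro i
    by_contra hc
    obtain ⟨t, ht⟩ := jordan (R := L.map (Pi.evalMonoidHom (fun _ => T) i)) fun h =>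
      hc fun t => mem_map.1 (h ▸ mem_top t)
    obtain ⟨j, hj⟩ := exists_ne i
    obtain ⟨y, hy⟩ := key (Function.update (fun _ => s) i t) j (by simp [hj])
    exact ht (y i) ⟨_, hy, by simp⟩
  have hall : ∀ i t, Pi.mulSingle i t ∈ L := by
    intro i
    have hc : ∀ (y : Fin m → T) t, y * Pi.mulSingle i t * y⁻¹ = Pi.mulSingle i (y i * t * (y i)⁻¹) := by
      intro y t
      ext j
      by_cases h : j = i
      · subst h; simp
      · simp [h]
    have hn : (L.comap (MonoidHom.mulSingle (fun _ => T) i)).Normal := ⟨fun t ht g => by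
      obtain ⟨l, hl, rfl⟩ := hsub i g
      exact (hc l t ▸ L.mul_mem (L.mul_mem hl ht) (L.inv_mem hl) :)⟩
    refine fun t => ((hn.eq_bot_or_eq_top.resolve_left fun h => ?_) ▸ mem_top t :
      t ∈ L.comap (MonoidHom.mulSingle (fun _ => T) i))
    obtain ⟨y, hy⟩ := key (Pi.mulSingle i s) i (by simp)
    have := hc y⁻¹ s
    rw [inv_inv] at this
    rw [this] at hy
    exact hs1 (conj_eq_one_iff.1 (mem_bot.1 (h.le hy)))
  obtain ⟨g, hg⟩ := exists_smul_eq N a b
  obtain ⟨k, hk, hk'⟩ := mem_of_forall_mulSingle_mem (N := L) (x := e g) fun i => hall i _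
  rw [← e.injective hk', hk] at hg
  exact hab hg

end Cfsg.Agent.S3556
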