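import Cfsg.Statements.S3557
import Cfsg.Agent.Lib.Perm.Prim
import Cfsg.Agent.Lib.Perm.PrimeDegree

set_option autoImplicit false
open Cfsg

namespace Cfsg.Agent.S3557

open MulAction Subgroup Cfsg.Lib.Perm Cfsg.Lib Cfsg.Lib.Core

/-- Let G act faithfully and transitively on a finite set with 2p² points, p a prime, and suppose G is 2-closed: every permutation of the set which, on each ordered pair of points, agrees with some element of G, is itself induced by an element of G. Then some element of G of prime order fixes no point. -/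
theorem result {G Ω : Type*} [Group G] [Finite G] [MulAction G Ω] [FaithfulSMul G Ω] [Finite Ω]
    (htrans : MulAction.IsPretransitive G Ω) (p : ℕ) (hp : p.Prime) (hcard : Nat.card Ω = 2 * p ^ 2)
    (hcl : ∀ σ : Equiv.Perm Ω, (∀ a b : Ω, ∃ g : G, σ a = g • a ∧ σ b = g • b) → ∃ g : G, ∀ a : Ω, σ a = g • a) :
    ∃ g : G, (orderOf g).Prime ∧ ∀ ω : Ω, g • ω ≠ ω := by
  classical
  have := Fact.mk hp
  obtain ⟨P⟩ : Nonempty (Sylow p G) := inferInstance
  have hp2 : 0 < p ^ 2 := pow_pos hp.pos 2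
  have h1 : ∀ x : Ω, p ^ 2 ≤ (orbit P x).ncard := fun x => by
    refine Nat.le_of_dvd ((Set.ncard_pos (Set.toFinite _)).2 ⟨x, mem_orbit_self x⟩) ?_
    refine (Nat.Coprime.pow_left 2 (hp.coprime_iff_not_dvd.2 P.not_dvd_index)).dvd_of_dvd_mul_right ?_
    rw [ncard_orbit_subgroup, ← inf_relIndex_right, relIndex_mul_index inf_le_right,
      ← relIndex_mul_index inf_le_left, index_stabilizer_of_transitive, hcard]
    exact (dvd_mul_left _ _).mul_left _
  obtain ⟨c⟩ := (Nat.card_pos_iff.1 (hcard ▸ by positivity : 0 < Nat.card Ω)).1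
  have hP : (⊤ : Subgroup P) ≠ ⊥ := fun e => by
    have h2 := h1 c
    have h3 := ncard_orbit_mul (A := P) c
    rw [← card_top (G := P), e, card_bot] at h3
    have := Nat.one_lt_pow two_ne_zero hp.one_lt
    rw [Nat.eq_one_of_mul_eq_one_right h3] at h2
    omega
  obtain ⟨z, -, hz, hzo⟩ := PGroup.exists_mem_center_orderOf_eq P.2 ⊤ hP
  by_cases hb : ∀ b : Ω, z • b ≠ b
  · exact ⟨z, by rwa [orderOf_coe, hzo], hb⟩
  push Not at hb
  obtain ⟨b, hb⟩ := hb
  obtain ⟨a, ha⟩ := exists_smul_ne (α := Ω) (g := z) (by rintro rfl; exact hp.one_lt.ne (by simpa using hzo))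
  have hzc : ∀ (s : P) (x : Ω), z • s • x = s • z • x := fun s x => by
    rw [← mul_smul, ← mem_center_iff.1 hz s, mul_smul]
  have hB : ∀ x ∈ orbit P b, z • x = x := by rintro _ ⟨s, rfl⟩; simp only [hzc, hb]
  have hA : ∀ x ∈ orbit P a, z • x ≠ x := by
    rintro _ ⟨s, rfl⟩ e
    exact ha (smul_left_cancel s ((hzc s a).symm.trans e))
  have hd : Disjoint (orbit P a) (orbit P b) := Set.disjoint_left.2 fun x h h' => hA x h (hB x h')
  have h2 := Set.ncard_union_eq hd
  have h3 : (orbit P a ∪ orbit P b).ncard ≤ 2 * p ^ 2 :=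
    hcard ▸ Set.ncard_le_card _
  have h4 := h1 a
  have h5 := h1 b
  have hU : orbit P a ∪ orbit P b = Set.univ :=
    Set.eq_of_subset_of_ncard_le (Set.subset_univ _) (by rw [Set.ncard_univ]; omega)
  have hza : z ∉ stabilizer P a := ha
  have hzn : z ∈ normalizer (stabilizer P a : Set P) := center_le_normalizer _ hz
  have hzp : z ^ p = 1 := (congrArg (z ^ ·) hzo).symm.trans (pow_orderOf_eq_one z)
  have hi := PGroup.relIndex_sup_zpowers (p := p) hzn hza (by rw [hzp]; exact one_mem _)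
  set L := stabilizer P a ⊔ zpowers z
  have hL : L.index = p := by
    have := relIndex_mul_index (show stabilizer P a ≤ L from le_sup_left)
    rw [hi, index_stabilizer, show (orbit P a).ncard = p * p by rw [← sq]; omega] at this
    exact Nat.eq_of_mul_eq_mul_left hp.pos this
  have hLn := PGroup.normal_of_index_eq P.2 hL
  obtain ⟨y, hy, hyK, hyp, hyc⟩ := PGroup.exists_mem_not_mem_pow_mem (S := ⊤)
    (M := fixingSubgroup P (orbit P b)) (N := L) (P.2.to_subgroup ⊤) le_top le_top
    le_normalizer_of_normal fun h => by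
      have := Nat.le_of_dvd hp.pos (hL ▸ index_dvd_of_le (show L ≤ stabilizer P b from fun g hg =>
        (mem_fixingSubgroup_iff P).1 (h hg) b (mem_orbit_self b)))
      rw [index_stabilizer] at this
      nlinarith [hp.one_lt]
  simp only [mem_fixingSubgroup_iff] at hyK hyp hyc
  have hyB : ∀ x ∈ orbit P b, y • x ≠ x := fun x hx e => hyK fun w hw => by
    obtain ⟨s, rfl⟩ : w ∈ orbit P x := (orbit_eq_iff.2 hx).symm ▸ hw
    have := hyc s trivial _ hw
    rw [commutatorElement_def, mul_smul, mul_smul, mul_smul, inv_smul_smul, inv_smul_eq_iff.2 e.symm] at this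
    exact this
  have hm : ∀ (s : P) (x : Ω), s • x ∈ orbit P b ↔ x ∈ orbit P b := fun s x =>
    ⟨fun h => by have := mem_orbit_of_mem_orbit s⁻¹ h; rwa [inv_smul_smul] at this, mem_orbit_of_mem_orbit s⟩
  let σ : Equiv.Perm Ω :=
    { toFun x := if x ∈ orbit P b then y • x else z • x
      invFun x := if x ∈ orbit P b then y⁻¹ • x else z⁻¹ • x
      left_inv x := by by_cases h : x ∈ orbit P b <;> simp [h, hm]
      right_inv x := by by_cases h : x ∈ orbit P b <;> simp [h, hm] }
  have s1 : ∀ x ∈ orbit P b, σ x = y • x := fun x hx => if_pos hx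
  have s2 : ∀ x ∉ orbit P b, σ x = z • x := fun x hx => if_neg hx
  have mix : ∀ x ∉ orbit P b, ∀ w ∈ orbit P b, ∃ g : P, σ x = g • x ∧ σ w = g • w := by
    intro x hx w hw
    obtain ⟨s, rfl⟩ := (hU.ge (Set.mem_univ x)).resolve_right hx
    obtain ⟨u, hu, k, e⟩ := (PGroup.mem_sup_zpowers_iff hzn).1 (hLn.conj_mem' y hy s)
    have hzk : ∀ x ∈ orbit P b, z ^ k • x = x := fun x hx => zpow_mem (mem_stabilizer_iff.2 (hB x hx)) k
    refine ⟨z * (s * u * s⁻¹), ?_, ?_⟩
    · simp only [s2 _ hx, mul_smul, inv_smul_smul, show u • a = a from hu]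
    · rw [s1 w hw, mul_smul, hB _ ((hm _ _).2 hw), show y = s * (s⁻¹ * y * s) * s⁻¹ by group, e]
      simp only [mul_smul, hzk _ ((hm _ _).2 hw)]
  obtain ⟨g, hg⟩ := hcl σ fun x w => by
    by_cases hx : x ∈ orbit P b <;> by_cases hw : w ∈ orbit P b
    · exact ⟨y, s1 x hx, s1 w hw⟩
    · obtain ⟨g, h1, h2⟩ := mix w hw x hx
      exact ⟨g, h2, h1⟩
    · obtain ⟨g, h1, h2⟩ := mix x hx w hw
      exact ⟨g, h1, h2⟩
    · exact ⟨z, s2 x hx, s2 w hw⟩
  have hf : ∀ x, g • x ≠ x := fun x => by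
    rw [← hg]
    by_cases hx : x ∈ orbit P b
    · exact s1 x hx ▸ hyB x hx
    · exact s2 x hx ▸ hA x ((hU.ge (Set.mem_univ x)).resolve_right hx)
  have hpow : ∀ (n : ℕ) (x : Ω), g ^ n • x = if x ∈ orbit P b then y ^ n • x else z ^ n • x := by
    intro n x
    induction n with
    | zero => simp
    | succ n ih =>
      rw [pow_succ', mul_smul, ih, ← hg]
      by_cases hx : x ∈ orbit P b
      · rw [if_pos hx, if_pos hx, s1 _ ((hm _ _).2 hx), pow_succ', mul_smul]
      · rw [if_neg hx, if_neg hx, s2 _ (mt (hm _ _).1 hx), pow_succ', mul_smul]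
  refine ⟨g, ?_, hf⟩
  rwa [orderOf_eq_prime (p := p) (eq_one_of_forall_smul (α := Ω) fun x => ?_)
    (by rintro rfl; exact hf c (one_smul _ _))]
  rw [hpow]
  split_ifs with hx
  · exact hyp x hx
  · rw [hzp, one_smul]

end Cfsg.Agent.S3557
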