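import Cfsg.Statements.S3600
import Cfsg.Agent.S3433
import Cfsg.Agent.Lib.PLocal.SL2Mod
import Cfsg.Agent.Lib.Small.Triangle

set_option autoImplicit false
open Cfsg

namespace Cfsg.Agent.S3600

open Subgroup Matrix Lib Lib.CIT Lib.PLocal Lib.Small
open scoped MatrixGroups commutatorElement

set_option synthInstance.maxSize 1000 in
theorem quad : ∀ a : alternatingGroup (Fin 5), a ^ 4 = 1 → ∀ b, b ^ 4 = 1 → (a * b) ^ 4 = 1 →
    a * a = 1 ∧ (a = 1 ∨ b = 1 ∨ b = a ∨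
      ∃ y, b = y⁻¹ * a * y ∧ y ^ 3 = 1 ∧ y ≠ 1 ∧ (y * a) ^ 3 = 1 ∧ y * a ≠ 1) := by decide +kernel

theorem inv3 : ∃ z : alternatingGroup (Fin 5), z ^ 3 = 1 ∧ z ≠ 1 ∧
    altFiveX * altFiveY * z * (altFiveX * altFiveY)⁻¹ * z = 1 := by decide +kernel

def mk3 {F : Type*} [Field F] (A : Matrix (Fin 2) (Fin 2) F) (v : Fin 2 → F) :
    Matrix (Fin 3) (Fin 3) F := !![A 0 0, A 0 1, v 0; A 1 0, A 1 1, v 1; 0, 0, 1]

theorem det_mk3 {F : Type*} [Field F] (A : Matrix (Fin 2) (Fin 2) F) (v : Fin 2 → F) :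
    (mk3 A v).det = A.det := by simp [mk3, det_fin_three, det_fin_two]

theorem mk3_mul {F : Type*} [Field F] (A B : Matrix (Fin 2) (Fin 2) F) (v w : Fin 2 → F) :
    mk3 A v * mk3 B w = mk3 (A * B) (v + A *ᵥ w) := by
  simp only [mk3, mul_fin_three, Matrix.mul_apply, Fin.sum_univ_two, mulVec, dotProduct, Pi.add_apply]
  simp [add_comm]

theorem affine {G F : Type*} [Group G] [Field F] {L V : Subgroup G} (n : NatSec F L V ⊥) (r : G →* L)
    (hr : ∀ g, g * (r g : G)⁻¹ ∈ V) (hv : ∀ v ∈ V, r v = 1) (hl : ∀ l : L, r l = l)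
    (hi : Function.Injective n.ρ) : Nonempty (G ≃* closure {M : SL(3, F) |
      M.1 2 0 = 0 ∧ M.1 2 1 = 0 ∧ M.1 2 2 = 1}) := by
  let c : G → Fin 2 → F := fun g => n.ψ (g * (r g : G)⁻¹)
  have hc : ∀ g h, c (g * h) = c g + (n.ρ (r g)).1 *ᵥ c h := fun g h => by
    rw [← n.conj _ _ (hr h), ← n.add _ (hr g) _ (n.conj_mem _ (hr h))]
    simp only [c, map_mul, Subgroup.coe_mul]
    congr 1; group
  let θ : G →* SL(3, F) := MonoidHom.mk' (fun g => ⟨mk3 (n.ρ (r g)).1 (c g), by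
    rw [det_mk3, (n.ρ (r g)).2]⟩) fun g h => Subtype.ext (by
      change mk3 _ _ = mk3 _ _ * mk3 _ _
      rw [mk3_mul, hc, map_mul, map_mul]; rfl)
  have h1 : Function.Injective θ := (injective_iff_map_eq_one _).2 fun g hg => by
    have e := fun i j => congrFun (congrFun (congrArg Subtype.val hg) i) j
    have h2 : r g = 1 := hi (by
      rw [map_one]
      ext i j
      fin_cases i <;> fin_cases j
      exacts [e 0 0, e 0 1, e 1 0, e 1 1])
    have := (n.ker _ (hr g)).1 (by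
      ext i
      fin_cases i
      exacts [e 0 2, e 1 2])
    simpa [h2] using this
  refine ⟨(MonoidHom.ofInjective h1).trans (MulEquiv.subgroupCongr (le_antisymm ?_
    ((closure_le _).2 fun M ⟨h2, h3, h4⟩ => ?_)))⟩
  · rintro _ ⟨g, rfl⟩
    exact subset_closure ⟨rfl, rfl, rfl⟩
  · have e : mk3 !![M.1 0 0, M.1 0 1; M.1 1 0, M.1 1 1] ![M.1 0 2, M.1 1 2] = M.1 := by
      ext i j
      fin_cases i <;> fin_cases j <;> simp [mk3, h2, h3, h4]
    obtain ⟨l, hl'⟩ := n.ρ_surj ⟨_, by rw [← det_mk3, e, M.2]⟩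
    obtain ⟨v, h5, h6⟩ := n.surj ![M.1 0 2, M.1 1 2]
    have h7 : r (v * l) = l := by rw [map_mul, hv v h5, hl, one_mul]
    refine ⟨v * l, Subtype.ext ?_⟩
    change mk3 (n.ρ (r _)).1 (n.ψ (_ * (r _ : G)⁻¹)) = _
    rw [h7, hl', mul_inv_cancel_right, h6, e]

/-- A finite group is critical with respect to a set Ω of natural numbers when its set of element orders is Ω while no proper section has Ω as its set of element orders. A finite group critical with respect to {1, 2, 3, 4, 5} (the set of element orders of the alternating group of degree 6) is isomorphic either to the alternating group of degree 6 or to the affine group F² ⋊ SL(2,F) over the field F with four elements (realised as the matrices of SL(3,F) with last row (0, 0, 1)). -/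
theorem result {G : Type*} [Group G] [Finite G]
    (hcrit : Set.range (orderOf : G → ℕ) = ({1, 2, 3, 4, 5} : Set ℕ) ∧
      ∀ (H : Subgroup G) (N : Subgroup ↥H) [N.Normal], (H ≠ ⊤ ∨ N ≠ ⊥) → Set.range (orderOf : (↥H ⧸ N) → ℕ) ≠ ({1, 2, 3, 4, 5} : Set ℕ)) :
    Nonempty (G ≃* alternatingGroup (Fin 6)) ∨
      ∃ (F : Type) (_ : Field F) (_ : Fintype F), Fintype.card F = 4 ∧
        Nonempty (G ≃* ↥(Subgroup.closure {M : Matrix.SpecialLinearGroup (Fin 3) F |
          (M : Matrix (Fin 3) (Fin 3) F) 2 0 = 0 ∧ (M : Matrix (Fin 3) (Fin 3) F) 2 1 = 0 ∧ (M : Matrix (Fin 3) (Fin 3) F) 2 2 = 1})) := by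
  obtain ⟨h, hc⟩ := hcrit
  refine (S3433.result (h.trans (by ext k; simp; omega))).imp_right fun ⟨N, _, hN, ⟨e⟩⟩ => ?_
  have hs : ∀ g : G, orderOf g ≤ 5 := fun g => by
    have := h.le ⟨g, rfl⟩
    simp only [Set.mem_insert_iff, Set.mem_singleton_iff] at this
    omega
  have cit : IsCIT G := isCIT_of_sp fun s h1 h2 ⟨g, hg⟩ => by
    have := hs g
    have := h1.two_le
    omega
  let π := e.toMonoidHom.comp (QuotientGroup.mk' N)
  have hk : ∀ g, π g = 1 ↔ g ∈ N := fun g => by simp [π]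
  have hπ : Function.Surjective π := e.surjective.comp (QuotientGroup.mk'_surjective N)
  have h2 := Inv.elemAb_two_iff.1 hN
  have hm : ∀ a ∈ N, ∀ b ∈ N, a * b = b * a := fun a ha b hb =>
    congrArg Subtype.val (hN.1.is_comm.comm ⟨a, ha⟩ ⟨b, hb⟩)
  have hP : IsPGroup 2 N := fun v => ⟨1, Subtype.ext (hN.2 v v.2)⟩
  have ho : ∀ (p) [Fact p.Prime], Odd p → ∀ g, π g ^ p = 1 → π g ≠ 1 → orderOf g = p :=
    fun p _ hp g h1 h3 => (cit.orderOf_eq_of_map π (by rwa [show π.ker = N from ext hk])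
      (by rwa [orderOf_eq_prime h1 h3]) h3).trans (orderOf_eq_prime h1 h3)
  have := Fact.mk Nat.prime_three
  have := Fact.mk Nat.prime_five
  have ho3 := ho 3 (by decide)
  have hf : ∀ g, orderOf g = 3 → ∀ v ∈ N, g * v = v * g → v = 1 := fun g hg v hv =>
    cit.eq_one_of_pgroup hP (by rw [hg]; decide) (by rintro rfl; simp at hg) hv
  obtain ⟨r1, r2, r3, r4, r5, r6⟩ := altFive_rels
  obtain ⟨f, hfπ⟩ : ∃ f : _ →* G, ∀ s, π (f s) = s := by
    obtain ⟨z', z1, z2, z3⟩ := inv3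
    obtain ⟨z, rfl⟩ := hπ z'
    obtain ⟨x, hx⟩ := hπ altFiveX
    obtain ⟨s, hs⟩ := hπ (altFiveX * altFiveY)
    have hz := ho3 z z1 z2
    have z4 : z * z = z⁻¹ := by
      rw [eq_inv_iff_mul_eq_one, ← pow_three', ← hz, pow_orderOf_eq_one]
    have hu : s * z * s⁻¹ * z ∈ N := (hk _).1 (by simpa [hs] using z3)
    have e1 := cit.three_mul hP hz hu
    have hn := ‹N.Normal›.conj_mem _ hu z⁻¹
    have e3 := inv_eq_of_mul_eq_one_right (h2 _ hn)
    have e2 := hm _ hu _ (‹N.Normal›.conj_mem _ hu z)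
    set u := s * z * s⁻¹ * z with hu'
    rw [z4] at e1
    set t := z⁻¹ * u * z⁻¹⁻¹ * s with ht'
    have ht : π t = altFiveX * altFiveY := by rw [map_mul, (hk _).2 hn, one_mul, hs]
    have e4 : t * z * t⁻¹ = z⁻¹ := by
      calc _ = z⁻¹ * u * z⁻¹⁻¹ * u * z⁻¹ * (z⁻¹ * u * z⁻¹⁻¹)⁻¹ := by rw [ht', hu']; group
        _ = z⁻¹ * u * z⁻¹⁻¹ * (u * ((z * z)⁻¹ * u * (z * z))) * z⁻¹ := by rw [e3]; group
        _ = _ := by rw [z4, inv_inv z, e2, ← mul_assoc, ← inv_inv z, inv_inv z⁻¹]; simpa using e1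
    have e5 : t * t = 1 := hf z hz _ ((hk _).1 (by rw [map_mul, ht, ← sq, r3])) (by
      calc _ = (t * z * t⁻¹)⁻¹ * (t * t) := by rw [e4, inv_inv]
        _ = t * z⁻¹ * t := by group
        _ = _ := by rw [← e4]; group
          )
    have hx3 := ho3 x (hx ▸ r1) (hx ▸ r4)
    have hy : π (x⁻¹ * t) = altFiveY := by rw [map_mul, map_inv, hx, ht, inv_mul_cancel_left]
    have hy5 := ho 5 (by decide) _ (hy ▸ r2) (hy ▸ r5)
    obtain ⟨f, f1, f2⟩ := exists_hom_alt_five (hx3 ▸ pow_orderOf_eq_one x)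
      (hy5 ▸ pow_orderOf_eq_one (x⁻¹ * t)) (by rw [mul_inv_cancel_left, sq, e5])
    exact ⟨f, DFunLike.congr_fun (MonoidHom.eq_of_eqOn_dense closure_altFive (f := π.comp f)
      (g := .id _) (by rintro _ (rfl | rfl) <;> simp [f1, f2, hx, ht]))⟩
  have hfi : Function.Injective f := Function.LeftInverse.injective hfπ
  have hr : ∀ g, g * (f (π g))⁻¹ ∈ N := fun g => (hk _).1 (by simp [hfπ])
  -- nontrivial invariant subgroups contain witnesses of order four
  have hf3 : ∀ s, s ^ 3 = 1 → s ≠ 1 → orderOf (f s) = 3 := fun s h1 h3 =>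
    ho3 _ (by rwa [hfπ]) (by rwa [hfπ])
  have h4 : ∀ U ≤ N, f.range ≤ normalizer (U : Set G) → U ≠ ⊥ →
      ∃ u ∈ U, ∃ s, orderOf (u * f s) = 4 ∧ u * f s ≠ f s * u := fun U hU hn h0 => by
    have : ((centralizer (U : Set G)).comap f).Normal := normalizer_eq_top_iff.1 (eq_top_iff.2
      fun s _ => le_normalizer_comap f (BG.norm_cent hn ⟨s, rfl⟩))
    rcases this.eq_bot_or_eq_top with h1 | h1
    · obtain ⟨u, hu, h3⟩ : ∃ u ∈ U, u * f (altFiveX * altFiveY) ≠ f (altFiveX * altFiveY) * u := by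
        by_contra! h3
        exact r6 (h1.le h3)
      have h5 : f (altFiveX * altFiveY) * f (altFiveX * altFiveY) = 1 := by
        rw [← map_mul, ← sq, r3, map_one]
      refine ⟨u, hu, _, orderOf_eq_prime_pow (p := 2) (n := 1) (fun e => h3 ?_) ?_, h3⟩
      · rw [pow_one, sq, mul_eq_one_iff_eq_inv, _root_.mul_inv_rev, inv_eq_of_mul_eq_one_right h5,
          inv_eq_of_mul_eq_one_right (h2 u (hU hu))] at e
        exact e
      · rw [show 2 ^ (1 + 1) = 2 * 2 from rfl, pow_mul, sq]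
        exact h2 _ ((hk _).1 (by rw [map_pow, map_mul, (hk u).2 (hU hu), one_mul, hfπ, r3]))
    · exact absurd (eq_bot_iff.2 fun u hu => hf _ (hf3 _ r1 r4) u (hU hu)
        (h1.ge (mem_top altFiveX) u hu).symm) h0
  have h0 : N ≠ ⊥ := fun h0 => by
    obtain ⟨g, hg⟩ : 4 ∈ Set.range (orderOf : G → ℕ) := by rw [h]; simp
    have h1 : π g ^ 4 = 1 := by rw [← map_pow, ← hg, pow_orderOf_eq_one, map_one]
    have := orderOf_dvd_of_pow_eq_one (x := g) (n := 2) (h0.le ((hk _).1 (by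
      rw [map_pow, sq, (quad _ h1 1 (one_pow _) (by rwa [mul_one])).1])))
    rw [hg] at this
    omega
  obtain ⟨F, _, _, hF, _⟩ : ∃ (F : Type) (_ : Field F) (_ : Fintype F), Nat.card F = 4 ∧ CharP F 2 :=
    ⟨GaloisField 2 2, _, Fintype.ofFinite _, GaloisField.card 2 2 two_ne_zero, inferInstance⟩
  obtain ⟨e1⟩ := PSL2.equiv_psl_alt_five (.inl hF)
  obtain ⟨e2⟩ := PSL2.equiv_sl_psl_of_even (F := F) (by rw [hF]; decide)
  let e3 := (MonoidHom.ofInjective hfi).symm.trans (e2.trans e1).symm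
  obtain ⟨T, -, hT⟩ := exists_sylIn_ge (p := 2) IsPGroup.of_bot (bot_le (a := f.range))
  obtain ⟨n⟩ := nonempty_natSec_of_irreducible hN ((normalizer_eq_top N).ge.trans' le_top) e3
    (fun U hU hn => by
      by_contra! h1
      let ι := (U ⊔ f.range).subtype.comp (QuotientGroup.quotientBot (G := ↥(U ⊔ f.range))).toMonoidHom
      have hι := orderOf_injective ι (Subtype.val_injective.comp (MulEquiv.injective _))
      have h3 : ∀ u ∈ U, ∀ s, orderOf (u * f s) ∈ Set.range (orderOf : _ ⧸ (⊥ : Subgroup ↥(U ⊔ f.range)) → ℕ) :=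
        fun u hu s => ⟨QuotientGroup.mk ⟨_, mul_mem_sup hu ⟨s, rfl⟩⟩, (hι _).symm⟩
      have h5 := fun s k (e : orderOf s = k) => e ▸ orderOf_injective f hfi s ▸ one_mul (f s) ▸
        h3 1 U.one_mem s
      refine hc (U ⊔ f.range) ⊥ (.inl fun h5 => h1.2 (hU.antisymm fun v hv => ?_)) (Set.Subset.antisymm
        (by rintro _ ⟨g, rfl⟩; exact h.le ⟨_, hι g⟩) ?_)
      · obtain ⟨u, hu, _, ⟨s, rfl⟩, rfl⟩ := (BG.mem_sup_left_norm hn).1 (h5.ge (mem_top v))
        have := (hk _).2 hv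
        rw [map_mul, (hk u).2 (hU hu), one_mul, hfπ] at this
        rwa [this, map_one, mul_one]
      obtain ⟨u, hu, s, h6, -⟩ := h4 U hU hn h1.1
      rintro _ (rfl | rfl | rfl | rfl | rfl)
      exacts [⟨1, orderOf_one⟩, h5 _ _ (orderOf_eq_prime r3 r6), h5 _ _ (orderOf_eq_prime r1 r4),
        h6 ▸ h3 u hu s, h5 _ _ (orderOf_eq_prime r2 r5)])
    (fun h1 => by
      obtain ⟨u, hu, s, -, h3⟩ := h4 N le_rfl ((normalizer_eq_top N).ge.trans' le_top) h0
      exact h3 (commutator_eq_bot_iff_le_centralizer.1 h1 hu _ ⟨s, rfl⟩).symm) hT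
    (.inl (commutator_eq_bot_iff_le_centralizer.2 (commutator_le.2 fun v hv a ha b hb => by
      have h1 : ∀ s, f s ∈ T → s ^ 4 = 1 := fun s h1 => by
        obtain ⟨k, h3⟩ := (Core.isPGroup_subgroup_iff.1 hT.2.1 _ h1)
        obtain ⟨j, -, h5⟩ := (Nat.dvd_prime_pow Nat.prime_two).1 (orderOf_dvd_of_pow_eq_one h3)
        have h6 := hs (f s)
        rw [← orderOf_dvd_iff_pow_eq_one, ← orderOf_injective f hfi, h5]
        exact pow_dvd_pow 2 (show j ≤ 2 by
          by_contra! h7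
          have := Nat.pow_le_pow_right two_pos h7
          omega)
      obtain ⟨a, rfl⟩ := hT.1 ha
      obtain ⟨b, rfl⟩ := hT.1 hb
      obtain ⟨h3, h5⟩ := quad a (h1 a ha) b (h1 b hb) (h1 _ (map_mul f a b ▸ mul_mem ha hb))
      have hw := ‹N.Normal›.conj_mem _ (N.inv_mem hv) (f a)
      have h6 : f a * ⁅v, f a⁆ * (f a)⁻¹ = ⁅v, f a⁆ := by
        have e1 : (f a)⁻¹ = f a := inv_eq_of_mul_eq_one_right (by rw [← map_mul, h3, map_one])
        have e2 := inv_eq_of_mul_eq_one_right (h2 v hv)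
        calc _ = f a * v * (f a)⁻¹ * (f a * f a * v⁻¹ * ((f a)⁻¹ * (f a)⁻¹)) := by group
          _ = v * (f a * v⁻¹ * (f a)⁻¹) := by
            rw [hm _ hv _ hw, e2, e1, ← map_mul, h3, map_one, one_mul, mul_one]
          _ = _ := by group
      rcases h5 with rfl | rfl | rfl | ⟨y, rfl, y1, y2, y3, y4⟩
      · simp
      · simp
      · exact mul_inv_eq_iff_eq_mul.1 h6
      have hw' : ⁅v, f a⁆ ∈ N := by
        rw [commutatorElement_def, mul_assoc, mul_assoc, ← mul_assoc (f a)]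
        exact mul_mem hv hw
      have h7 := (cit.three_mul hP (hf3 _ y1 y2) hw').trans (cit.three_mul hP (hf3 _ y3 y4) hw').symm
      generalize ⁅v, f a⁆ = w at *
      rw [map_mul, show f y * f a * w * (f y * f a)⁻¹ = f y * (f a * w * (f a)⁻¹) * (f y)⁻¹ by group,
        h6, mul_left_inj, mul_left_inj] at h7
      rw [map_mul, map_mul, map_inv, ← mul_inv_eq_iff_eq_mul]
      calc _ = (f y)⁻¹ * f a * f y * (f a * w * (f a)⁻¹) * ((f y)⁻¹ * f a * f y)⁻¹ := by rw [h6]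
        _ = (f y * f y)⁻¹ * (f y * f a * (f y * f a) * w * (f y * f a * (f y * f a))⁻¹) *
          (f y * f y) := by group
        _ = _ := by rw [← h7]; group)))
  exact ⟨F, _, _, Nat.card_eq_fintype_card.symm.trans hF, affine n (f.rangeRestrict.comp π) hr
    (fun v hv => by rw [MonoidHom.comp_apply, (hk v).2 hv, map_one])
    (by rintro ⟨_, s, rfl⟩; exact Subtype.ext (congrArg f (hfπ s)))
    ((Finite.injective_iff_surjective_of_equiv e3.toEquiv).2 n.ρ_surj)⟩

end Cfsg.Agent.S3600
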