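import Cfsg.Statements.S3662
import Cfsg.Agent.S2520
import Cfsg.Agent.Lib.Unitary.PrimeGraph

set_option autoImplicit false
open Cfsg

namespace Cfsg.Agent.S3662

open Cfsg.Lib Cfsg.Lib.Oct Cfsg.Lie Matrix Polynomial

theorem eq_smul_one {F : Type*} [Field F] [Fintype F] [CharP F 2] {s : G2 F} {m : ℕ} (hs : s ^ m = 1)
    (hm : (m : F) ≠ 0) (h1 : s ^ (Fintype.card F - 1) ≠ 1) (h2 : s ^ (Fintype.card F + 1) ≠ 1) {z : Fin 8 → F}
    (hz : s • z = z) (ht : tr z = 0) : z = z 0 • one F := by
  obtain ⟨K, _, _, _⟩ : ∃ (K : Type _) (_ : Field K) (_ : Algebra F K), IsAlgClosed K :=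
    ⟨AlgebraicClosure F, _, inferInstance, inferInstance⟩
  let φ := algebraMap F K
  have := charP_of_injective_ringHom φ.injective 2
  obtain ⟨h, D, hD⟩ := exists_conj_sl φ hs hm
  by_cases h3 : (D.1 - 1).det = 0
  · obtain ⟨b, hb⟩ := IsAlgClosed.exists_root (C 1 * X ^ 2 + C (1 - D.1.trace) * X + C 1)
      (by rw [degree_quadratic one_ne_zero]; simp)
    simp only [IsRoot.def, eval_add, eval_mul, eval_pow, eval_X, eval_C] at hb
    have h0 : b ≠ 0 := by rintro rfl; simp at hb
    obtain ⟨M, hM⟩ := isConj_iff.1 (isConj_up_dg (m := m) (sl_injective (by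
      rw [map_pow, ← hD, conj_pow, ← map_pow, hs]; simp)) (by rwa [← map_natCast φ, _root_.map_ne_zero]) h3 h0
      (mul_left_cancel₀ h0 (by linear_combination -hb - mul_inv_cancel₀ h0)))
    obtain ⟨k, hk⟩ : ∃ k, k * mapG φ s * k⁻¹ = psi (gamR (dg b h0)) :=
      ⟨(sl M)⁻¹ * h, by
        rw [← sl_up, _root_.mul_inv_rev, mul_assoc, mul_assoc, ← mul_assoc _ h⁻¹, ← mul_assoc h, ← mul_assoc h, hD,
          ← hM]; simp [mul_assoc]⟩
    have H : ∀ N, b ^ N = 1 → s ^ N = 1 := fun N hN => mapG_injective φ (MulAut.conj k |>.injective (by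
      rw [map_pow, map_pow, MulAut.conj_apply, hk, ← map_pow, ← map_pow, dg_pow_eq_one h0 hN]; simp))
    let σ := (FiniteField.frobeniusAlgHom F K).toRingHom
    have h6 := eigen_of_conj σ h0 (fun e => h1 (H _ (by simp [e]))) (n := mapG σ k * k⁻¹) (by
      simp [← hk, mapG_mapG, show σ.comp φ = φ from (FiniteField.frobeniusAlgHom F K).comp_algebraMap, mul_assoc])
    rw [mul_eq_zero, sub_eq_zero, sub_eq_zero, show σ b = b ^ Fintype.card F from rfl] at h6
    refine (h6.elim (fun e => h1 (H _ (mul_right_cancel₀ h0 ?_))) fun e => h2 (H _ ?_)).elim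
    · rw [pow_sub_one_mul Fintype.card_ne_zero, one_mul, ← e]
    · rw [pow_succ, ← e, inv_mul_cancel₀ h0]
  obtain ⟨α, a, b, β, e⟩ := exists_mk (h • (φ ∘ z))
  have h4 : sl D • mk α a b β = mk α a b β := by rw [← e, ← hD, mul_smul, inv_smul_smul, mul_smul, mapG_smul, hz]
  rw [sl_smul_mk, mk_inj] at h4
  have ha : a = 0 := eq_zero_of_mulVec_eq_zero h3 (by rw [sub_mulVec, h4.2.1, one_mulVec, sub_self])
  have hb : b = 0 := eq_zero_of_mulVec_eq_zero (M := (ctr D).1 - 1) (by rwa [det_ctr_sub_one, neg_ne_zero])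
    (by rw [sub_mulVec, h4.2.2.1, one_mulVec, sub_self])
  have h5 : α + β = 0 := by rw [← tr_mk α β a b, ← e, tr_smul, tr_comp, ht, map_zero]
  have h6 : φ ∘ z = α • one K := by
    rw [← smul_left_cancel_iff h, e, smul_smul', smul_one', Oct.one, mk_smul, ha, hb, CharTwo.add_eq_zero.1 h5]; simp
  have h7 : φ (z 0) = α := by simpa [Oct.one] using congrFun h6 0
  refine funext fun i => φ.injective ((congrFun h6 i).trans ?_)
  rw [← h7, ← comp_one φ]; exact (map_mul φ _ _).symm

/-- The prime graph of a finite group has the prime divisors of its order as vertices, two distinct primes p, q being joined when the group has an element of order pq; two groups have the same prime graph when they have the same prime divisors and the same joined pairs. Let F be the field with 4 elements and L the Chevalley group of type G₂ over F. There are finite groups of arbitrarily large order with the same prime graph as L. -/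
theorem result {F : Type*} [Field F] [Fintype F] (hF : Fintype.card F = 4) (N : ℕ) :
    ∃ (H : Type) (_ : Group H) (_ : Finite H), N < Nat.card H ∧
      ((∀ p : ℕ, p.Prime → (p ∣ Nat.card ↥(Cfsg.Lie.chevG2.group F) ↔ p ∣ Nat.card H)) ∧
      (∀ p q : ℕ, p.Prime → q.Prime → p ≠ q → ((∃ g : ↥(Cfsg.Lie.chevG2.group F), orderOf g = p * q) ↔ (∃ g : H, orderOf g = p * q)))) := by
  obtain ⟨e⟩ := nonempty_chev_equiv (F := F)
  have := S2520.charP_of_card (a := 2) Nat.prime_two hF
  have := Fact.mk Nat.prime_two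
  have hc := Nat.card_eq_fintype_card.trans hF
  have h6 : 6 ∈ Spec.sp (G2 F) := GLC.mem_range_orderOf_iff.2 (by simpa only [hc] using has_mul_sub F 2)
  have h10 : 10 ∈ Spec.sp (G2 F) := GLC.mem_range_orderOf_iff.2 (by simpa only [hc] using has_mul_add F 2)
  obtain ⟨S, h1, h2⟩ := Unitary.unb_samePG_cusp (G := G2 F) Nat.prime_two {7, 13}
    (f := fun g => bl (g • mk (0 : F) ![1, 0, 0] 0 0) (mk 0 0 ![1, 0, 0] 0)) (fun h => by simpa using congrFun h 1)
    (fun _ => CharTwo.two_nsmul _) (fun t ht x hx y w => by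
      have h1 := hx ▸ pow_orderOf_eq_one x
      have h2 := eq_smul_one (z := ∑ i ∈ .range t, x ^ i • w • mk (0 : F) ![1, 0, 0] 0 0) h1
        (by rcases ht with rfl | rfl <;> exact mt (CharP.cast_eq_zero_iff F 2 _).1 (by decide))
        (by rw [Ne, ← orderOf_dvd_iff_pow_eq_one, hx, hF]; rcases ht with rfl | rfl <;> decide)
        (by rw [Ne, ← orderOf_dvd_iff_pow_eq_one, hx, hF]; rcases ht with rfl | rfl <;> decide)
        (add_right_cancel (b := x ^ 0 • w • mk (0 : F) ![1, 0, 0] 0 0) (by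
          simp only [Finset.smul_sum, ← mul_smul x, ← pow_succ']
          rw [← Finset.sum_range_succ' fun i => x ^ i • w • mk (0 : F) ![1, 0, 0] 0 0, Finset.sum_range_succ, h1,
            pow_zero])) (by simp)
      simp only [mul_smul, ← LinearMap.sum_apply, ← map_sum, ← Finset.smul_sum]
      rw [h2]; simp [smul_smul'])
    (Spec.mem_sp_of_dvd h6 (by decide)) fun s hs h2 h h3 => by
      have h4 := Spec.dvd_card_of_mem_sp h
      rw [card_G2, hc] at h4
      have h5 : s ∣ 2 * 3 * 5 * 7 * 13 := hs.dvd_of_dvd_pow (n := 12) (h4.trans (by norm_num))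
      simp only [hs.dvd_mul, Nat.prime_dvd_prime_iff_eq hs, Nat.prime_two, Nat.prime_three, Nat.prime_five,
        Nat.prime_seven, show Nat.Prime 13 by norm_num] at h5
      rcases h5 with (((rfl | rfl) | rfl) | rfl) | rfl <;> simp_all
  exact h1.primeGraph (Spec.sp_congr e ▸ h2) N

end Cfsg.Agent.S3662
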