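import Cfsg.Statements.S3681
import Cfsg.Agent.Lib.Perm.Sym2

set_option autoImplicit false
open Cfsg

namespace Cfsg.Agent.S3681

open Cfsg.Lib Cfsg.Lib.Perm Equiv Equiv.Perm Subgroup MulAction

theorem isPreprimitive_range {G Ω : Type*} [Group G] [MulAction G Ω] (h : IsPreprimitive G Ω) :
    IsPreprimitive (toPermHom G Ω).range Ω :=
  IsPreprimitive.of_surjective (φ := (toPermHom G Ω).rangeRestrict) (f := ⟨id, fun _ _ => by rfl⟩)
    Function.surjective_id

theorem card_range {G Ω : Type*} [Group G] [MulAction G Ω] [FaithfulSMul G Ω] :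
    Nat.card (toPermHom G Ω).range = Nat.card G :=
  (Nat.card_congr (MonoidHom.ofInjective toPerm_injective).toEquiv).symm

/-- Bochert's bound for primitive groups. Let a finite group G act faithfully and primitively on a finite set Ω with n elements, and suppose the image of G in the symmetric group of Ω does not contain the alternating group of Ω. Then |G| · ⌊(n + 1)/2⌋! ≤ n!, that is, the index of G in the symmetric group is at least ⌊(n + 1)/2⌋!. -/
theorem result {G Ω : Type*} [Group G] [Finite G] [MulAction G Ω] [FaithfulSMul G Ω] [Fintype Ω] [DecidableEq Ω]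
    (hprim : MulAction.IsPreprimitive G Ω) (hA : ¬ alternatingGroup Ω ≤ (MulAction.toPermHom G Ω).range) :
    Nat.card G * Nat.factorial ((Fintype.card Ω + 1) / 2) ≤ Nat.factorial (Fintype.card Ω) := by
  classical
  rw [← card_range (Ω := Ω)]
  have hp := isPreprimitive_range hprim
  generalize (toPermHom G Ω).range = H at hA hp
  obtain ⟨D, hD, hmax⟩ := Finset.exists_max_image
    (Finset.univ.filter fun D : Finset Ω => ∀ g ∈ H, g.support ⊆ D → g = 1) Finset.card
    ⟨∅, by simp +contextual⟩
  simp only [Finset.mem_filter, Finset.mem_univ, true_and] at hD hmax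
  have h1 : Fintype.card Ω ≤ 2 * D.card := by
    by_contra! h
    have key : ∀ E : Finset Ω, D.card < E.card → ∃ g ∈ H, g.support ⊆ E ∧ g ≠ 1 := fun E hE => by
      by_contra! h; exact (hmax E h).not_gt hE
    obtain ⟨g, hg, g1, g2⟩ := key Dᶜ (by rw [Finset.card_compl]; omega)
    obtain ⟨a, ha⟩ := exists_smul_ne (α := Ω) g2
    have haD : a ∉ D := Finset.mem_compl.1 (g1 (mem_support.2 ha))
    obtain ⟨k, hk, k1, k2⟩ := key (insert a D) (by rw [Finset.card_insert_of_notMem haD]; omega)
    refine hA (alternatingGroup_le_of_isPreprimitive_of_isThreeCycle_mem hp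
      (isThreeCycle_commutator (h := k) ha (fun e => k2 (hD k hk fun x hx => ?_)) fun x hx => ?_)
      (H.mul_mem (H.mul_mem (H.mul_mem hg hk) (H.inv_mem hg)) (H.inv_mem hk)))
    · exact (Finset.mem_insert.1 (k1 hx)).resolve_left (by rintro rfl; exact mem_support.1 hx e)
    · by_contra! h
      exact Finset.mem_compl.1 (g1 (mem_support.2 h.1))
        ((Finset.mem_insert.1 (k1 (mem_support.2 h.2))).resolve_left hx)
  have h2 := Nat.card_le_card_of_injective _ (mul_injective_of_disjoint
    (H₁ := H) (H₂ := (ofSubtype : Perm {x // x ∈ D} →* _).range)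
    (disjoint_def.2 fun h1 h2 => hD _ h1 (mem_range_ofSubtype_iff.1 h2)))
  rw [Nat.card_prod, ← Nat.card_congr (MonoidHom.ofInjective ofSubtype_injective).toEquiv, Nat.card_perm,
    Nat.card_perm, Nat.card_eq_finsetCard, Nat.card_eq_fintype_card (α := Ω)] at h2
  exact (Nat.mul_le_mul_left _ (Nat.factorial_le (by omega))).trans h2

end Cfsg.Agent.S3681
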