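import Cfsg.Statements.S3694
import Cfsg.Agent.Lib.WB.Tr
import Cfsg.Agent.Lib.WB.LdU
import Cfsg.Agent.Lib.WB.C3
import Cfsg.Agent.S3385
import Cfsg.Agent.S3684

set_option autoImplicit false
open Cfsg

namespace Cfsg.Agent.S3694

open Cfsg.Lib.WB Cfsg.Lib.Perm Cfsg.Lib.Transfer MulAction Subgroup

theorem num_le {d : ℕ} (h : 4 ≤ d) : 31104 ≤ d.factorial * (d - 1).factorial ^ d := by
  have h1 : (4 : ℕ).factorial ≤ d.factorial := Nat.factorial_le h
  have h2 : (3 : ℕ).factorial ≤ (d - 1).factorial := Nat.factorial_le (by omega)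
  have h3 : (3 : ℕ).factorial ^ 4 ≤ (d - 1).factorial ^ d :=
    (Nat.pow_le_pow_left h2 4).trans (Nat.pow_le_pow_right (Nat.factorial_pos _) h)
  exact le_trans (by decide) (Nat.mul_le_mul h1 h3)

/-- An explicit form of the Sims conjecture for linear and unitary socles. Let a finite group G with a non-abelian simple normal subgroup N of trivial centralizer act faithfully and primitively on a set Ω, where N is isomorphic to a projective special linear group PSL(n, q) or a projective special unitary group PSU(n, q). If the stabilizer of a point a has an orbit of length d ≥ 2, then the order of that stabilizer is at most d! · ((d - 1)!)^d. -/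
theorem result {G Ω : Type*} [Group G] [Finite G] [MulAction G Ω] [FaithfulSMul G Ω] [Finite Ω]
    (N : Subgroup G) (hNn : N.Normal) (hNs : IsSimpleGroup N) (hNa : ¬ IsMulCommutative N) (hNc : Subgroup.centralizer (N : Set G) = ⊥) (hsoc : Cfsg.IsPSL N ∨ Cfsg.IsPSU N)
    (hprim : MulAction.IsPreprimitive G Ω) (a b : Ω) (d : ℕ) (hd : Nat.card (MulAction.orbit (MulAction.stabilizer G a) b) = d) (h2 : 2 ≤ d) :
    Nat.card (MulAction.stabilizer G a) ≤ Nat.factorial d * (Nat.factorial (d - 1)) ^ d := by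
  rcases Nat.lt_or_ge d 4 with h4 | h4
  · rcases (by omega : d = 2 ∨ d = 3) with rfl | rfl
    · rw [(S3684.result hprim a b hd).1]
      decide
    · obtain ⟨k, hk, e⟩ := S3385.result hprim a b hd
      rw [e]
      have : 2 ^ k ≤ 2 ^ 4 := Nat.pow_le_pow_right (by decide) hk
      have e2 : Nat.factorial 3 * Nat.factorial (3 - 1) ^ 3 = 2 ^ 4 * 3 := by decide
      omega
  have hdd : (stabilizer G b).relIndex (stabilizer G a) = d := (card_suborbit a b).symm.trans hd
  have hne : stabilizer G a ≠ stabilizer G b := fun e => by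
    rw [e, relIndex_self] at hdd
    omega
  have hab : a ≠ b := fun e => hne (by rw [e])
  have : Nontrivial Ω := ⟨a, b, hab⟩
  have hN0 : N ≠ ⊥ := fun e => by
    have := hNs.toNontrivial
    rw [e] at this
    exact not_nontrivial _ this
  have hfix : ∀ c : Ω, ¬ N ≤ stabilizer G c := fun c hc => hN0 (eq_bot_iff.2 fun x hx => by
    refine mem_bot.2 (eq_of_smul_eq_smul (α := Ω) fun y => ?_)
    obtain ⟨t, rfl⟩ := exists_smul_eq G c y
    have := hc (hNn.conj_mem' x hx t)
    rw [mem_stabilizer_iff, mul_smul, mul_smul, inv_smul_eq_iff] at this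
    rw [one_smul, this])
  have htr : IsPretransitive N Ω := IsQuasiPreprimitive.isPretransitive_of_normal (fun e => hfix a fun x hx => by
    have : a ∈ fixedPoints N Ω := e ▸ Set.mem_univ a
    exact this ⟨x, hx⟩)
  obtain ⟨⟨g, hg⟩, hga⟩ := exists_smul_eq N a b
  change g • a = b at hga
  have hga' : g⁻¹ • b = a := by rw [← hga, inv_smul_smul]
  have e1 : stabilizer G b = g ⋆ stabilizer G a := by rw [← hga, stabilizer_smul_eq_conj]
  have e2 : stabilizer G a = g⁻¹ ⋆ stabilizer G b := by rw [← hga', stabilizer_smul_eq_conj]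
  have hc : Nat.card (stabilizer G a) = Nat.card (stabilizer G b) := by rw [e1, card_conj]
  have hi := relIndex_comm_of_card_eq hc
  have hpos : 0 < d.factorial * (d - 1).factorial ^ d :=
    Nat.mul_pos (Nat.factorial_pos _) (Nat.pow_pos (Nat.factorial_pos _))
  by_cases h1 : PP G a b = ⊥
  · have := relIndex_coreIn_two_dvd hi
    change (PP G a b).relIndex _ ∣ _ at this
    rw [h1, relIndex_bot_left, hdd] at this
    exact Nat.le_of_dvd hpos this
  by_cases h1' : PP G b a = ⊥
  · have := relIndex_coreIn_two_dvd hi.symm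
    change (PP G b a).relIndex _ ∣ _ at this
    rw [h1', relIndex_bot_left, hi, ← hc, hdd] at this
    exact Nat.le_of_dvd hpos this
  obtain ⟨p, hp, f1, f2, g1, g2⟩ := thompson_wielandt (isPrimSub_stabilizer a) (isPrimSub_stabilizer b) hne
    (fun q => by rw [e1, ← Cfsg.Lib.Loc.conj_core, card_conj]) h1 ((coreIn_le_right _ _).trans inf_le_right)
    (le_normalizer_coreIn _ _) h1' ((coreIn_le_right _ _).trans inf_le_right) (le_normalizer_coreIn _ _)
  obtain ⟨K, _, _, n, W, ⟨D⟩⟩ := exists_ld hNc hsoc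
  have hnorm := D.range_normal
  have hmin := le_of_normal hNs hNc
  by_cases i1 : PP G a b ⊓ D.π.range = ⊥
  swap
  · obtain ⟨E, c⟩ := exists_cf (G₀ := D.π.range) (IsPreprimitive.isCoatom_stabilizer_of_isPreprimitive G a) (hfix a) hg
      (e1 ▸ hne) hp f1 (e1 ▸ g1) (e1 ▸ i1)
    have := D.card_le c hmin
    rw [card_conj] at this
    exact this.trans (num_le h4)
  by_cases i2 : PP G b a ⊓ D.π.range = ⊥
  swap
  · obtain ⟨E, c⟩ := exists_cf (G₀ := D.π.range) (IsPreprimitive.isCoatom_stabilizer_of_isPreprimitive G b) (hfix b)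
      (inv_mem hg) (e2 ▸ hne.symm) hp f2 (e2 ▸ g2) (e2 ▸ i2)
    have := D.card_le c hmin
    rw [card_conj, ← hc] at this
    exact this.trans (num_le h4)
  obtain ⟨φ, hφ⟩ := D.out
  have c : C2 D.π.range p a b g :=
    ⟨hprim, hne, hnorm, D.N_le_range hg, hga, hφ ▸ comm_of_hom φ, hφ ▸ cyc_of_hom φ, hp, h1, h1', g1, g2, i1, i2,
      h4.trans_eq hdd.symm⟩
  exact hdd ▸ c.card_le

end Cfsg.Agent.S3694
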