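import Cfsg.Statements.S3702
import Cfsg.Agent.Lib.Loc3.Nine

set_option autoImplicit false
open Cfsg

namespace Cfsg.Agent.S3702

open Cfsg.Lib.Loc3 Cfsg.Lib.Calc Subgroup

/-- Let K ≤ Sym(9) be generated by (1 2 3), (1 4 7)(2 5 8)(3 6 9), (1 2)(4 5) and (1 4)(2 5)(3 6)(7 8) (the normalizer in Alt(9) of the elementary abelian group generated by (1 2 3), (4 5 6), (7 8 9)). Let G be a finite group with a subgroup H ≅ K and J = O₃(H). If C_G(j) ≤ H for every j ≠ 1 in J and J is strongly closed in H with respect to G (a G-conjugate of an element of J lying in H lies in J), then G = H. -/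
theorem result {G : Type*} [Group G] [Finite G] (H : Subgroup G)
    (hH : Nonempty (↥H ≃* ↥(Subgroup.closure ({Equiv.swap (0 : Fin 9) 1 * Equiv.swap 1 2,
        Equiv.swap (0 : Fin 9) 3 * Equiv.swap 3 6 * (Equiv.swap (1 : Fin 9) 4 * Equiv.swap 4 7) * (Equiv.swap (2 : Fin 9) 5 * Equiv.swap 5 8),
        Equiv.swap (0 : Fin 9) 1 * Equiv.swap 3 4, Equiv.swap (0 : Fin 9) 3 * Equiv.swap 1 4 * Equiv.swap 2 5 * Equiv.swap 6 7} : Set (Equiv.Perm (Fin 9))))))
    (J : Subgroup G) (hJ : J = (Cfsg.pCore 3 ↥H).map H.subtype)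
    (hC : ∀ j ∈ J, j ≠ 1 → Subgroup.centralizer ({j} : Set G) ≤ H) (hsc : Cfsg.IsStronglyClosed J H) : H = ⊤ := by
  obtain ⟨e⟩ := hH
  obtain ⟨h1, h2, h3, h4, h5, h6⟩ := n9_gam
  generalize hK : Subgroup.closure (G := Equiv.Perm (Fin 9)) _ = K at e
  have m : ∀ x ∈ _, x ∈ K := fun x a => hK.le (Subgroup.subset_closure a)
  simp only [Set.mem_insert_iff, Set.mem_singleton_iff, forall_eq_or_imp, forall_eq] at m
  obtain ⟨m1, m4, m5, m6⟩ := m
  obtain rfl : n9.K 0 = K := by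
    refine le_antisymm (genW_le.2 ?_) ?_
    · have t : ∀ {a b : Equiv.Perm (Fin 9)}, a ∈ K → a = b → b ∈ K := fun m e => e ▸ m
      have m2 := mul_mem (mul_mem m4 m1) (inv_mem m4)
      have m3 := mul_mem (mul_mem (inv_mem m4) m1) m4
      simp only [show n9.ws 0 = [.l 1, .l 2, .l 3, .l 4, .l 5, .l 6] from rfl, List.forall_mem_cons, W.ev, h1, h2, h3, h4, h5, h6]
      exact ⟨m1, t m2 (by decide +kernel), t m3 (by decide +kernel), m4, m5, m6, by simp⟩
    · refine hK.ge.trans ((Subgroup.closure_le _).2 ?_)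
      rintro _ (rfl | rfl | rfl | rfl)
      exacts [h1 ▸ n9_ok.mem 1, h4 ▸ n9_ok.mem 4, h5 ▸ n9_ok.mem 5, h6 ▸ n9_ok.mem 6]
  obtain ⟨γ, g, rfl⟩ := exists_n9 e
  rw [n9_core g] at hJ
  subst hJ
  exact N9.top ⟨g, hC, hsc.2⟩

end Cfsg.Agent.S3702
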