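import Cfsg.Statements.S3710
import Cfsg.Agent.Lib.Pres.PhanStd4

set_option autoImplicit false
open Cfsg

namespace Cfsg.Agent.S3710

/-- Recognition of unitary groups over the field with 9 elements from a weak Phan system. Let F be a field with 9 elements and n ≥ 4. Let G be a group with subgroups U_0, …, U_{n−1}, each isomorphic to SU(2, 9), and, for consecutive indices, subgroups V_{i,i+1} in which U_i and U_{i+1} form a standard pair (via an isomorphism from SU(3, 9) or PSU(3, 9) carrying the block-diagonal subgroups, or their images, onto U_i and U_{i+1}); suppose U_i and U_j commute elementwise whenever the indices differ by at least 2, that G is generated by the U_i and the V_{i,i+1}, and moreover that for each i the subgroup generated by V_{i,i+1} and V_{i+1,i+2} is a homomorphic image of SU(4, 9). Then G is a homomorphic image of SU(n+1, 9). (G is not assumed finite.) -/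
theorem result {G : Type*} [Group G] (n : ℕ) (hn : 4 ≤ n)
    (F : Type*) [Field F] [Fintype F] (hF : Fintype.card F = 9)
    (U : Fin n → Subgroup G) (e : ∀ i, ↥(Cfsg.SU 2 F 3) ≃* ↥(U i))
    (V : Fin n → Fin n → Subgroup G)
    (h1 : ∀ i j : Fin n, (i : ℕ) + 2 ≤ j → ∀ x ∈ U i, ∀ y ∈ U j, x * y = y * x)
    (h2 : ∀ i j : Fin n, (i : ℕ) + 1 = j → Cfsg.IsStandardUnitaryPair (V i j) (U i) (U j) F 3)
    (hgen : (⨆ i, U i) ⊔ (⨆ (i : Fin n) (j : Fin n) (_ : (i : ℕ) + 1 = j), V i j) = ⊤)
    (h4 : ∀ i j k : Fin n, (i : ℕ) + 1 = j → (j : ℕ) + 1 = k →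
      ∃ g : ↥(Cfsg.SU 4 F 3) →* ↥(V i j ⊔ V j k), Function.Surjective g) :
    ∃ f : ↥(Cfsg.SU (n + 1) F 3) →* G, Function.Surjective f := by
  obtain ⟨σ, hσ⟩ := Cfsg.Lib.Unitary.exists_isBar (q := 3) hF
  obtain ⟨f, hf, hf'⟩ := Cfsg.Lib.Pres.phan_four hσ (by omega) (U := U) (V := V)
    (fun i j k a b => by
      obtain ⟨π, p, r⟩ := Cfsg.Lib.Pres.exists_std3 hσ (h2 i j a)
      obtain ⟨π', p', r'⟩ := Cfsg.Lib.Pres.exists_std3 hσ (h2 j k b)
      have := h4 i j k a b
      rw [← r, ← r'] at this ⊢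
      obtain ⟨g, hg⟩ := this
      exact Cfsg.Lib.Pres.exists_std4 hσ (.inr rfl) p p' (h1 i k (by omega)) g hg)
    (fun i j k a b x hx y hy => by
      obtain ⟨π, p, r⟩ := Cfsg.Lib.Pres.exists_std3 hσ (h2 j k a)
      have : U j ⊔ U k ≤ Subgroup.centralizer {x} := sup_le
        (fun z hz => Subgroup.mem_centralizer_singleton_iff.2 (h1 i j b x hx z hz).symm)
        fun z hz => Subgroup.mem_centralizer_singleton_iff.2 (h1 i k (by omega) x hx z hz).symm
      exact (Subgroup.mem_centralizer_singleton_iff.1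
        (this (p.range_le hσ (by omega) (r.ge hy)))).symm)
    (fun h => by omega) fun h => by omega
  exact ⟨f, MonoidHom.range_eq_top.1 (top_le_iff.1 (hgen.ge.trans (sup_le (iSup_le hf)
    (iSup_le fun i => iSup_le fun j => iSup_le (hf' i j)))))⟩

end Cfsg.Agent.S3710
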