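import Cfsg.Statements.S3711
import Cfsg.Agent.Lib.Pres.PhanStd4

set_option autoImplicit false
open Cfsg

namespace Cfsg.Agent.S3711

/-- Recognition of unitary groups over the field with 4 elements from a weak Phan system. Let F be a field with 4 elements and n ≥ 4. Let G be a group with subgroups U_0, …, U_{n−1}, each isomorphic to SU(2, 4), and, for consecutive indices, subgroups V_{i,i+1} in which U_i and U_{i+1} form a standard pair (via an isomorphism from SU(3, 4) or PSU(3, 4) carrying the block-diagonal subgroups, or their images, onto U_i and U_{i+1}); suppose U_i and U_j commute elementwise whenever the indices differ by at least 2, that G is generated by the U_i and the V_{i,i+1}, that for each i the subgroup generated by V_{i,i+1} and V_{i+1,i+2} is a homomorphic image of SU(4, 4), that U_i and V_{j,j+1} commute elementwise whenever i ≤ j − 2 or i ≥ j + 3, and that V_{i,i+1} and V_{k,k+1} commute elementwise whenever k ≥ i + 3.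 Then G is a homomorphic image of SU(n+1, 4). (G is not assumed finite.) -/
theorem result {G : Type*} [Group G] (n : ℕ) (hn : 4 ≤ n)
    (F : Type*) [Field F] [Fintype F] (hF : Fintype.card F = 4)
    (U : Fin n → Subgroup G) (e : ∀ i, ↥(Cfsg.SU 2 F 2) ≃* ↥(U i))
    (V : Fin n → Fin n → Subgroup G)
    (h1 : ∀ i j : Fin n, (i : ℕ) + 2 ≤ j → ∀ x ∈ U i, ∀ y ∈ U j, x * y = y * x)
    (h2 : ∀ i j : Fin n, (i : ℕ) + 1 = j → Cfsg.IsStandardUnitaryPair (V i j) (U i) (U j) F 2)
    (hgen : (⨆ i, U i) ⊔ (⨆ (i : Fin n) (j : Fin n) (_ : (i : ℕ) + 1 = j), V i j) = ⊤)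
    (h4 : ∀ i j k : Fin n, (i : ℕ) + 1 = j → (j : ℕ) + 1 = k →
      ∃ g : ↥(Cfsg.SU 4 F 2) →* ↥(V i j ⊔ V j k), Function.Surjective g)
    (h5 : ∀ i j k : Fin n, (j : ℕ) + 1 = k → ((i : ℕ) + 2 ≤ j ∨ (k : ℕ) + 2 ≤ i) →
      ∀ x ∈ U i, ∀ y ∈ V j k, x * y = y * x)
    (h6 : ∀ i j k l : Fin n, (i : ℕ) + 1 = j → (k : ℕ) + 1 = l → (j : ℕ) + 2 ≤ k →
      ∀ x ∈ V i j, ∀ y ∈ V k l, x * y = y * x) :
    ∃ f : ↥(Cfsg.SU (n + 1) F 2) →* G, Function.Surjective f := by
  obtain ⟨σ, hσ⟩ := Cfsg.Lib.Unitary.exists_isBar (q := 2) hF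
  obtain ⟨f, hf, hf'⟩ := Cfsg.Lib.Pres.phan_four hσ (by omega) (U := U) (V := V)
    (fun i j k a b => by
      obtain ⟨π, p, r⟩ := Cfsg.Lib.Pres.exists_std3 hσ (h2 i j a)
      obtain ⟨π', p', r'⟩ := Cfsg.Lib.Pres.exists_std3 hσ (h2 j k b)
      have := h4 i j k a b
      rw [← r, ← r'] at this ⊢
      obtain ⟨g, hg⟩ := this
      exact Cfsg.Lib.Pres.exists_std4 hσ (.inl rfl) p p' (h1 i k (by omega)) g hg)
    (fun i j k a b => h5 i j k a (.inl b)) (fun _ i j k a b => h5 i j k a (.inr b)) fun _ => h6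
  exact ⟨f, MonoidHom.range_eq_top.1 (top_le_iff.1 (hgen.ge.trans (sup_le (iSup_le hf)
    (iSup_le fun i => iSup_le fun j => iSup_le (hf' i j)))))⟩

end Cfsg.Agent.S3711
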