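import Cfsg.Statements.S3730
import Cfsg.Agent.Lib.BG.Hall
import Cfsg.Agent.Lib.FGS.EvenCyc
import Cfsg.Agent.S2202

set_option autoImplicit false
open Cfsg

namespace Cfsg.Agent.S3730

/-- Let G be a nontrivial finite group with no nontrivial solvable normal subgroup, such that for every cyclic subgroup X of even order and every nontrivial subgroup Y of X one has N_G(X) = N_G(Y) (every nontrivial subgroup of a cyclic subgroup of even order has the same normalizer as the whole cyclic subgroup). Then G is isomorphic to PSL(2, q) or to PGL(2, q) for some prime power q > 3. -/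
theorem result
    {G : Type*} [Group G] [Finite G] [Nontrivial G]
    (hss : ∀ N : Subgroup G, N.Normal → Group.IsSolvable ↥N → N = ⊥)
    (hii : ∀ X : Subgroup G, IsCyclic ↥X → Even (Nat.card ↥X) → ∀ Y : Subgroup G, Y ≤ X → Y ≠ ⊥ →
      Subgroup.normalizer (X : Set G) = Subgroup.normalizer (Y : Set G)) :
    ∃ (F : Type) (_ : Field F) (_ : Fintype F), 3 < Fintype.card F ∧
      (Nonempty (G ≃* Matrix.ProjectiveSpecialLinearGroup (Fin 2) F) ∨
        Nonempty (G ≃* Matrix.ProjGenLinGroup (Fin 2) F)) := by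
  open Subgroup Cfsg.Lib Cfsg.Lib.BG Cfsg.Lib.Transfer in
  open Cfsg.Lib.FGS Cfsg.Lib.GW in
  have h : EC G := fun x y hx hy h1 => hii _ inferInstance (by rwa [Nat.card_zpowers]) _ (zpowers_le.2 hy)
    (by rwa [Ne, zpowers_eq_bot])
  have hns : ¬ Group.IsSolvable G := fun _ => top_ne_bot (hss ⊤ inferInstance inferInstance)
  have he : Even (Nat.card G) := Nat.not_odd_iff_even.1 fun e => hns (Coprime.isSolvable_of_not_two_dvd
    (Nat.two_dvd_ne_zero.2 (Nat.odd_iff.1 e)))
  obtain ⟨t, ht⟩ := Inv.exists_involution_of_even he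
  rcases h.dc_or hss with hd | hd
  swap
  · obtain ⟨P⟩ : Nonempty (Sylow 2 G) := inferInstance
    rcases S2202.result he hd with h1 | h1 | ⟨F, _, _, A, _, _, h1, h2, ⟨e⟩⟩
    · obtain ⟨g, h2, h3⟩ := exists_conj_comm hss ht
      have hV := fourGen_of (ordc ht g) ht h3 (mem_cent1.1 h2)
      obtain ⟨Q, hQ⟩ := (four_pgroup hV).exists_le_sylow
      exact absurd (PGroup.isCyclic_of_le hQ (h1 Q)) (four_not_cyclic hV)
    · exact absurd (by simpa [hss _ (h1 P) (nil_sol (pgroup_nil P.isPGroup'))] using even_iff_two_dvd.1 he) P.not_dvd_index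
    have h3 := (MonoidHom.ker_eq_bot_iff _).1 (hss ((MonoidHom.fst _ _).comp e.toMonoidHom).ker inferInstance
      (abelian_sol ⟨⟨fun a b => Subtype.ext (e.injective (by
        simp only [Subgroup.coe_mul, map_mul]
        exact Prod.ext (by rw [Prod.fst_mul, Prod.fst_mul, show (e a).1 = 1 from a.2, show (e b).1 = 1 from b.2])
          (mul_comm _ _)))⟩⟩))
    obtain ⟨e'⟩ := PSL2.equiv_sl_psl_of_even (F := F) (by
      obtain ⟨n, -, hn⟩ := FiniteField.card F 2
      rw [Nat.card_eq_fintype_card, hn, Nat.not_odd_iff_even, Nat.even_pow]; exact ⟨even_two, n.ne_zero⟩)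
    have e1 := (MulEquiv.ofBijective _ ⟨h3, Prod.fst_surjective.comp e.surjective⟩).trans e'
    refine ⟨F, inferInstance, inferInstance, not_le.1 fun h4 => hns ?_, .inl ⟨e1⟩⟩
    haveI := PSL2.isSolvable_psl (F := F) (Nat.card_eq_fintype_card (α := F) ▸ h4)
    exact Group.isSolvable_of_isSolvable_injective (f := e1.toMonoidHom) e1.injective
  rcases cf_cases hd (Od_top_eq G ▸ hss _ (Nml.top_iff.1 (Od_nml ⊤)) (Od_sol ⊤))
    (fun e => hns (haveI := e.isNilpotent; inferInstance)) with ⟨⟨e⟩⟩ | ⟨F, _, _, E, hE⟩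
  · have key : ∀ k t t' g : alternatingGroup (Fin 7), orderOf t = 2 → orderOf t' = 2 → orderOf k = 3 →
        k * t = t * k → k * t' = t' * k → g * t = t * g → g * t' = t' * g := fun k t t' g h1 h2 h3 h4 h5 h6 => by
      have c : ∀ a b, a * b = b * a → e.symm a ∈ 𝐂[e.symm b] := fun a b h => mem_cent1.2 (by rw [← map_mul, h, map_mul])
      have h7 : Odd (orderOf (e.symm k)) := by rw [e.symm.orderOf_eq, h3]; decide
      have h8 : e.symm k ≠ 1 := fun e' => by simp [e.symm.map_eq_one_iff.1 e'] at h3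
      have := c g t h6
      rw [← h.f1 ((e.symm.orderOf_eq t).trans h1) (c k t h4) h7 h8, h.f1 ((e.symm.orderOf_eq t').trans h2) (c k t' h5) h7 h8,
        mem_cent1, ← map_mul, ← map_mul] at this
      exact e.symm.injective this
    haveI := Fact.mk Nat.prime_three
    exact absurd (key ⟨Equiv.swap 0 1 * Equiv.swap 1 2, Equiv.Perm.mem_alternatingGroup.2 (by decide)⟩
      ⟨Equiv.swap 3 4 * Equiv.swap 5 6, Equiv.Perm.mem_alternatingGroup.2 (by decide)⟩
      ⟨Equiv.swap 3 5 * Equiv.swap 4 6, Equiv.Perm.mem_alternatingGroup.2 (by decide)⟩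
      ⟨Equiv.swap 0 1 * Equiv.swap 3 4, Equiv.Perm.mem_alternatingGroup.2 (by decide)⟩
      (orderOf_eq_prime (by decide) (by decide)) (orderOf_eq_prime (by decide) (by decide))
      (orderOf_eq_prime (by decide) (by decide)) (by decide) (by decide) (by decide)) (by decide)
  obtain ⟨τ, f, hM⟩ := hE.model hd
  haveI := hE.nml
  obtain ⟨x, hx, s, -, hV⟩ := hE.exists_four
  have hx2 := ord_of_mem_four hV hV.left_mem hV.ne_one
  have h2 : ∀ T : Subgroup G, IsPGroup 2 T → T ≤ τ.ker := fun T hT => by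
    obtain ⟨S, hS⟩ := (four_pgroup hV).exists_le_sylow
    obtain ⟨a, b, m, h1⟩ := (hd S S.isPGroup').resolve_left fun e => four_not_cyclic hV (PGroup.isCyclic_of_le hS e)
    obtain ⟨c, hc⟩ := exists_conj_le_sylow S hT
    have hb := hM.inv b (by simpa using h1.sq)
    refine (conj_le_iff_le_inv_conj.1 (hc.trans (h1.le_of_mem ?_ hb))).trans (conj_eq_of_norm (le_normalizer_of_normal (mem_top _))).le
    exact (mul_mem_cancel_right hb).1 (hM.inv (a * b) (by simpa using h1.refl_sq 1))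
  have h3 : 𝐂[x] ≤ τ.ker := Syl.le_of_forall fun q hq _ => by
    haveI := Fact.mk hq
    obtain ⟨P, hP⟩ := Syl.exists (p := q) 𝐂[x]
    refine ⟨P, hP, fun k hk => ?_⟩
    rcases eq_or_ne q 2 with rfl | h5
    · exact h2 P hP.pgroup hk
    rcases eq_or_ne k 1 with rfl | h6
    · exact one_mem _
    exact hM.ker (hM.f1c hE.odd hx2 hq h5 (pgroup_of_le hP.pgroup (zpowers_le.2 hk)) (zpowers_le.2 (hP.le hk))
      (h.f1 hx2 (hP.le hk) (odd_of_syl hq h5 hP hk) h6).ge (mem_zpowers k))
  have h4 : ∀ g, g ∈ τ.ker := fun g => by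
    obtain ⟨c, hc, e⟩ := hM.conj hx (hE.nml.conj_mem x hx g) hx2 (ordc hx2 g)
    refine (mul_mem_cancel_left (inv_mem (hM.ker hc))).1 (h3 (cent_of_conj ?_))
    rw [show c⁻¹ * g * x * (c⁻¹ * g)⁻¹ = c⁻¹ * (g * x * g⁻¹) * c by group, ← e]; group
  have e1 : G ≃* MonoidHom.range f := (topEquiv.symm.trans (MulEquiv.subgroupCongr (eq_top_iff.2 (fun g _ => h4 g)).symm)).trans
    (MonoidHom.ofInjective hM.inj)
  refine ⟨F, inferInstance, inferInstance, Nat.card_eq_fintype_card (α := F) ▸ hE.three_lt hd hns, ?_⟩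
  rcases PSL2.eq_pslSub_or_top (H := f.range) (fun y hy => by
    obtain ⟨g, hg, rfl⟩ := hM.surj y hy
    exact ⟨_, (bar_mk (h4 g)).symm⟩) with e | e
  · exact .inl ⟨(e1.trans (MulEquiv.subgroupCongr e)).trans (PSL2.pslEquiv F).symm⟩
  · exact .inr ⟨(e1.trans (MulEquiv.subgroupCongr e)).trans topEquiv⟩

end Cfsg.Agent.S3730
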