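import Cfsg.Statements.S3806
import Cfsg.Agent.Lib.MaxC.TwoStep

set_option autoImplicit false
open Cfsg

namespace Cfsg.Agent.S3806

open Cfsg.Lib Cfsg.Lib.MaxC Cfsg.Lib.RegP Subgroup
open scoped commutatorElement

/-- Let p be a prime and S a finite p-group of order pⁿ (n ≥ 2) of maximal nilpotency class n − 1 whose sectional p-rank is exactly k (every section has p-rank at most k, and some section has p-rank k). If p ≥ k + 2 then the order of S is at most p^(2k). -/
theorem result {S : Type*} [Group S] [Finite S] (p : ℕ) [Fact p.Prime] (hS : IsPGroup p S) [Group.IsNilpotent S]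
    (n : ℕ) (hn : 2 ≤ n) (hcard : Nat.card S = p ^ n) (hmax : Group.nilpotencyClass S = n - 1)
    (k : ℕ) (hk : 1 ≤ k) (hsr : Cfsg.SectionalPRankLE p k S ∧ ¬ Cfsg.SectionalPRankLE p (k - 1) S)
    (hpk : k + 2 ≤ p) : Nat.card S ≤ p ^ (2 * k) := by
  have hp : p.Prime := Fact.out
  obtain ⟨n, rfl⟩ : ∃ m, n = m + 2 := ⟨n - 2, by omega⟩
  have m : MC p n S := ⟨hcard, (PGroup.maxClass_iff hcard).1 hmax⟩
  obtain ⟨s, u⟩ := m.exists_mu
  have key : ∀ (H N : Subgroup S) [N.Normal], N ≤ H → ⁅H, H⁆ ≤ N → (∀ x ∈ H, x ^ p ∈ N) →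
      Nat.card H ≤ p ^ k * Nat.card N := fun H N _ h0 h1 h2 => by
    have := hsr.1 H (N.subgroupOf H) ⊤ ⟨⟨fun ⟨a, _⟩ ⟨b, _⟩ => Subtype.ext (by
      induction a using QuotientGroup.induction_on with | H a => ?_
      induction b using QuotientGroup.induction_on with | H b => ?_
      refine commutatorElement_eq_one_iff_mul_comm.1 ((QuotientGroup.eq_one_iff ⁅a, b⁆).2 ?_)
      exact h1 (commutator_mem_commutator a.2 b.2))⟩⟩ (by
      intro a _
      induction a using QuotientGroup.induction_on with | H a => ?_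
      rw [← QuotientGroup.mk_pow, QuotientGroup.eq_one_iff]
      exact h2 a a.2)
    rw [card_top] at this
    rw [← Core.card_mul_relIndex h0, mul_comm]
    exact Nat.mul_le_mul_right _ this
  rw [hcard]
  refine Nat.pow_le_pow_right hp.pos (not_lt.1 fun h => ?_)
  rcases hk.eq_or_lt with rfl | hk
  · obtain ⟨n, rfl⟩ : ∃ m, n = m + 1 := ⟨n - 1, by omega⟩
    have := key ⊤ (lc S 1) le_top le_rfl fun x _ =>
      (PGroup.maxClass_frattini hcard m.ne).le (PGroup.pow_mem_frattini hS x)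
    rw [card_top, hcard, m.card_lc, ← pow_add, Nat.pow_le_pow_iff_right hp.one_lt] at this
    omega
  · obtain ⟨j, rfl⟩ : ∃ j, k = j + 2 := ⟨k - 2, by omega⟩
    obtain ⟨a, ha, ha'⟩ := SetLike.not_le_iff_exists.1 (m.not_le (j := j) (by omega))
    have h1 : ∀ y ∈ lc S (j + 1), lc S (j + 2) ≤ cmod y (lc S (2 * j + 3 + 1)) := fun y hy b hb =>
      mem_cmod.2 (lc_anti (by omega) (comm_lcs_le ⊤ (j + 1) (j + 2) (commutator_mem_commutator hy hb)))
    have := key (lc S (j + 1)) (lc S (2 * j + 3 + 1)) (lc_anti (by omega))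
      (commutator_le.2 fun y hy z hz => mem_cmod.1 (m.le_of_mem ha ha' (h1 y hy) (mem_cmod.2
        (commutatorElement_inv a y ▸ inv_mem (mem_cmod.1 (m.le_of_mem ha ha' (h1 a ha)
          (mem_cmod.2 (by simp)) hy)))) hz))
      fun x hx => lc_anti (show 2 * j + 3 + 1 ≤ j + p + 1 - 1 by omega) (u.uni.pow_mem (j := j) hx)
    rw [m.card_lc, m.card_lc, ← pow_add, Nat.pow_le_pow_iff_right hp.one_lt] at this
    omega

end Cfsg.Agent.S3806
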