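import Cfsg.Statements.S3866
import Cfsg.Agent.Lib.Schur.Metacyclic
import Cfsg.Agent.Lib.Core.Basic

set_option autoImplicit false
open Cfsg

namespace Cfsg.Agent.S3866

/-- Let A be a commutative normal subgroup of the finite group G with G generated by A and an element x. Then a ↦ x a x⁻¹ a⁻¹ is a surjective homomorphism from A onto the commutator subgroup of G whose kernel is the centralizer of x in A; in particular the commutator subgroup has order equal to the index in A of that centralizer. -/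
theorem result {G : Type*} [Group G] [Finite G] (A : Subgroup G) [A.Normal] (hA : IsMulCommutative A) (x : G) (hgen : A ⊔ Subgroup.zpowers x = ⊤) : (∀ a ∈ A, x * a * x⁻¹ * a⁻¹ ∈ commutator G) ∧ (∀ c ∈ commutator G, ∃ a ∈ A, x * a * x⁻¹ * a⁻¹ = c) ∧ (∀ a ∈ A, ∀ b ∈ A, x * (a * b) * x⁻¹ * (a * b)⁻¹ = (x * a * x⁻¹ * a⁻¹) * (x * b * x⁻¹ * b⁻¹)) ∧ Nat.card (commutator G) * Nat.card ↥(A ⊓ Subgroup.centralizer ({x} : Set G)) = Nat.card A := by
  open Cfsg.Lib Subgroup in
  open scoped commutatorElement in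
  have hc : ∀ a ∈ A, ∀ b ∈ A, a * b = b * a := fun a ha b hb =>
    congrArg Subtype.val (hA.is_comm.comm (⟨a, ha⟩ : A) ⟨b, hb⟩)
  have hm : ∀ a ∈ A, x * a * x⁻¹ * a⁻¹ ∈ A := fun a ha =>
    mul_mem (‹A.Normal›.conj_mem a ha x) (inv_mem ha)
  have h3 : ∀ a ∈ A, ∀ b ∈ A, x * (a * b) * x⁻¹ * (a * b)⁻¹ =
      (x * a * x⁻¹ * a⁻¹) * (x * b * x⁻¹ * b⁻¹) := fun a ha b hb => by
    rw [mul_assoc (x * a * x⁻¹) a⁻¹, hc _ (inv_mem ha) _ (hm b hb)]; group
  let φ : A →* G := MonoidHom.mk' (fun a => x * a * x⁻¹ * (a : G)⁻¹) fun a b => h3 a a.2 b b.2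
  have hle : φ.range ≤ A := by rintro _ ⟨a, rfl⟩; exact hm a a.2
  have hn : φ.range.Normal := by
    rw [← normalizer_eq_top_iff, eq_top_iff, ← hgen]
    refine sup_le (fun a ha => mem_normalizer_fintype fun n hn => ?_)
      (zpowers_le.mpr (mem_normalizer_fintype ?_))
    · rwa [hc a ha n (hle hn), mul_inv_cancel_right]
    · rintro _ ⟨a, rfl⟩
      refine ⟨⟨_, ‹A.Normal›.conj_mem a a.2 x⟩, ?_⟩
      show x * (x * a * x⁻¹) * x⁻¹ * (x * a * x⁻¹)⁻¹ = x * (x * a * x⁻¹ * (a : G)⁻¹) * x⁻¹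
      group
  have h1 : ∀ a ∈ A, x * a * x⁻¹ * a⁻¹ ∈ _root_.commutator G := fun a _ =>
    commutator_mem_commutator (mem_top x) (mem_top a)
  have heq : _root_.commutator G = φ.range := by
    refine le_antisymm (Schur.commutator_le_of_closure (s := (A : Set G) ∪ {x}) ?_ _ ?_) ?_
    · rw [Subgroup.closure_union, closure_eq, ← zpowers_eq_closure, hgen]
    · rintro a (ha | rfl) b (hb | rfl)
      · rw [commutatorElement_eq_one_iff_mul_comm.mpr (hc a ha b hb)]; exact one_mem _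
      · rw [← commutatorElement_inv]; exact inv_mem ⟨⟨a, ha⟩, rfl⟩
      · exact ⟨⟨b, hb⟩, rfl⟩
      · rw [commutatorElement_self]; exact one_mem _
    · rintro _ ⟨a, rfl⟩; exact h1 a a.2
  refine ⟨h1, fun c hc => ?_, h3, ?_⟩
  · obtain ⟨a, rfl⟩ := heq.le hc
    exact ⟨a, a.2, rfl⟩
  · have hk : φ.ker = (centralizer ({x} : Set G)).subgroupOf A := by
      ext a
      rw [MonoidHom.mem_ker, mem_subgroupOf, mem_centralizer_singleton_iff, eq_comm (a := _ * x)]
      exact commutatorElement_eq_one_iff_mul_comm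
    rw [heq, inf_comm, ← Core.card_subgroupOf, ← hk, ← index_ker, index_mul_card]

end Cfsg.Agent.S3866
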