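import Cfsg.Statements.S3807
import Cfsg.Agent.S3866
import Cfsg.Agent.Lib.FGS.Count

set_option autoImplicit false
open Cfsg

namespace Cfsg.Agent.S3807

/-- Let S be a non-abelian finite p-group with an abelian subgroup A of index p. Then [S : Z(S)] = p·#[S,S], and either [S,S] has order p, S/Z(S) is elementary abelian of order p², and S has exactly p + 1 abelian subgroups of index p; or [S,S] has order at least p² and A is the only abelian subgroup of index p in S. -/
theorem result {S : Type*} [Group S] [Finite S] (p : ℕ) [Fact p.Prime] (hS : IsPGroup p S) (hna : ¬ IsMulCommutative S)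
    (A : Subgroup S) (hA : IsMulCommutative ↥A) (hAi : A.index = p) :
    (Subgroup.center S).index = p * Nat.card (commutator S) ∧
      ((Nat.card (commutator S) = p ∧ Cfsg.IsElementaryAbelian p (⊤ : Subgroup (S ⧸ Subgroup.center S)) ∧
          Nat.card (S ⧸ Subgroup.center S) = p ^ 2 ∧
          Nat.card {B : Subgroup S // IsMulCommutative ↥B ∧ B.index = p} = p + 1) ∨
        (p ^ 2 ≤ Nat.card (commutator S) ∧ ∀ B : Subgroup S, IsMulCommutative ↥B → B.index = p → B = A)) := by
  open Cfsg.Lib Cfsg.Lib.FGS Subgroup in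
  have hp : p.Prime := Fact.out
  have hcen : ∀ B : Subgroup S, IsMulCommutative B → B.index = p → center S ≤ B := fun B hB hBi => by
    by_contra h
    have h1 := (PGroup.isCoatom_of_index_prime (hBi ▸ hp)).2 (B ⊔ center S)
      (left_lt_sup.mpr h)
    have h2 := PGroup.isMulCommutative_sup hB (PGroup.isMulCommutative_of_le_center le_rfl)
      (le_centralizer_iff.mpr (center_le_centralizer _))
    rw [h1] at h2
    exact hna ⟨⟨fun a b => PGroup.isMulCommutative_iff.mp h2 a trivial b trivial⟩⟩
  have hAn := PGroup.normal_of_index_eq hS hAi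
  have hAc := PGroup.isCoatom_of_index_prime (hAi ▸ hp)
  obtain ⟨x, hx⟩ : ∃ x, x ∉ A := not_forall.mp fun h => hAc.1 ((eq_top_iff' A).mpr h)
  have hgen : A ⊔ zpowers x = ⊤ := hAc.2 _ (left_lt_sup.mpr fun h => hx (h (mem_zpowers x)))
  have h1 := (Cfsg.Agent.S3866.result A hA x hgen).2.2.2
  have h2 : A ⊓ centralizer ({x} : Set S) = center S := by
    refine le_antisymm ?_ (le_inf (hcen A hA hAi) (center_le_centralizer _))
    rw [← centralizer_univ, ← coe_top, ← hgen, Core.centralizer_sup, Core.centralizer_zpowers]
    exact inf_le_inf_right _ (le_centralizer A)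
  rw [h2] at h1
  have h3 : (center S).index = p * Nat.card (_root_.commutator S) := by
    have e1 := (center S).index_mul_card
    have e2 := A.index_mul_card
    rw [hAi, ← h1, ← mul_assoc, ← e1] at e2
    exact (Nat.eq_of_mul_eq_mul_right Nat.card_pos e2).symm
  refine ⟨h3, ?_⟩
  obtain ⟨k, hk⟩ := (hS.to_subgroup (_root_.commutator S)).exists_card_eq
  rcases k with _ | _ | k
  · rw [hk, pow_zero, mul_one] at h3
    exact absurd (isMulCommutative_of_index_center_dvd_prime hp le_rfl h3.dvd) hna
  · left
    rw [zero_add, pow_one] at hk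
    have h4 : Nat.card (S ⧸ center S) = p ^ 2 := by rw [← index, h3, hk, sq]
    have h5 : IsElementaryAbelian p (⊤ : Subgroup (S ⧸ center S)) := by
      refine (PGroup.isCyclic_or_elemAb_of_card_eq_sq (by rw [card_top, h4])).resolve_left fun h => ?_
      have : IsCyclic (S ⧸ center S) := isCyclic_of_surjective _ topEquiv.surjective
      exact hna ((QuotientGroup.mk' (center S)).isMulCommutative_of_isCyclic_of_ker_le_center
        (QuotientGroup.ker_mk' _).le)
    refine ⟨hk, h5, h4, ?_⟩
    have h6 := card_subgroup_prime_of_exponent (fun g => h5.2 g trivial)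
    have h7 : Nat.card {C : Subgroup (S ⧸ center S) // Nat.card C = p} = p + 1 := by
      refine Nat.eq_of_mul_eq_mul_left (Nat.sub_pos_of_lt hp.one_lt) ?_
      obtain ⟨q, rfl⟩ := Nat.exists_eq_add_of_lt hp.pos
      rw [h4] at h6
      simp only [zero_add, Nat.add_sub_cancel] at h6 ⊢
      nlinarith
    have h8 : ∀ C : Subgroup (S ⧸ center S), Nat.card C = p ↔ C.index = p := fun C => by
      have := C.card_mul_index
      rw [h4, sq] at this
      constructor
      · intro h; rw [h] at this; exact Nat.eq_of_mul_eq_mul_left hp.pos this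
      · intro h; rw [h] at this; exact Nat.eq_of_mul_eq_mul_right hp.pos this
    rw [← h7]
    symm
    refine Nat.card_eq_of_bijective (fun C => ⟨C.1.comap (QuotientGroup.mk' _), ?_, ?_⟩) ⟨?_, ?_⟩
    · have : IsCyclic C.1 := isCyclic_of_prime_card C.2
      refine ((QuotientGroup.mk' (center S)).subgroupComap C.1).isMulCommutative_of_isCyclic_of_ker_le_center
        fun y hy => mem_center_iff.mpr fun g => Subtype.ext ?_
      exact mem_center_iff.mp ((QuotientGroup.eq_one_iff _).mp (congrArg Subtype.val hy)) g
    · rw [index_comap_of_surjective _ (QuotientGroup.mk'_surjective _), ← h8, C.2]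
    · intro C D h
      exact Subtype.ext (comap_injective (QuotientGroup.mk'_surjective _) (congrArg Subtype.val h))
    · rintro ⟨B, hB, hBi⟩
      have h9 : (B.map (QuotientGroup.mk' (center S))).comap (QuotientGroup.mk' _) = B := by
        rw [Core.comap_map_mk', sup_eq_left.mpr (hcen B hB hBi)]
      refine ⟨⟨B.map (QuotientGroup.mk' _), ?_⟩, Subtype.ext h9⟩
      rw [h8, ← index_comap_of_surjective _ (QuotientGroup.mk'_surjective _), h9, hBi]
  · right
    refine ⟨hk ▸ Nat.pow_le_pow_right hp.pos (by omega), fun B hB hBi => ?_⟩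
    by_contra hne
    have h4 : A ⊔ B = ⊤ := hAc.2 _ (left_lt_sup.mpr fun h => hne
      ((PGroup.isCoatom_of_index_prime (hBi ▸ hp)).le_iff.mp h |>.resolve_left hAc.1).symm)
    have h5 : A ⊓ B ≤ center S := by
      rw [← centralizer_univ, ← coe_top, ← h4, Core.centralizer_sup]
      exact inf_le_inf (le_centralizer A) (le_centralizer B)
    have h6 := (Nat.le_of_dvd (Nat.pos_of_ne_zero index_ne_zero_of_finite)
      (index_dvd_of_le h5)).trans index_inf_le
    rw [h3, hk, hAi, hBi] at h6
    have h7 := Nat.le_of_mul_le_mul_left h6 hp.pos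
    have h8 : p ^ 1 < p ^ (k + 1 + 1) := Nat.pow_lt_pow_right hp.one_lt (by omega)
    rw [pow_one] at h8
    omega

end Cfsg.Agent.S3807
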