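import Cfsg.Statements.S3808
import Cfsg.Agent.Lib.Extraspecial.Basic

set_option autoImplicit false
open Cfsg Cfsg.Lib Subgroup

namespace Cfsg.Agent.S3808

/-- Let S be a finite p-group with an extraspecial subgroup Q of index p. Then either Z(S) = Z(Q), or S = Q·Z(S) and Z(S) has order p². -/
theorem result {S : Type*} [Group S] [Finite S] (p : ℕ) [Fact p.Prime] (hS : IsPGroup p S) (Q : Subgroup S) (hQ : Cfsg.IsExtraspecial p ↥Q) (hQi : Q.index = p) :
    Subgroup.center S = (Subgroup.center ↥Q).map Q.subtype ∨
      (Q ⊔ Subgroup.center S = ⊤ ∧ Nat.card (Subgroup.center S) = p ^ 2) := by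
  have hp := (Fact.out : p.Prime)
  have hn : Q.Normal := PGroup.normal_of_index_eq hS hQi
  have h1 : ((center Q).map Q.subtype).Normal := inferInstance
  have h2 : Nat.card ((center Q).map Q.subtype) = p := by
    rw [card_map_of_injective Q.subtype_injective, hQ.2]
  have h3 := PGroup.le_center_of_card_eq hS _ h2
  have h4 : Q ⊓ center S = (center Q).map Q.subtype := by
    refine le_antisymm ?_ (le_inf (map_subtype_le _) h3)
    rw [PGroup.map_subtype_center]
    exact inf_le_inf_left _ (center_le_centralizer _)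
  by_cases h : center S ≤ Q
  · left
    rw [← h4, inf_eq_right.2 h]
  · right
    have h5 : Q ⊔ center S = ⊤ :=
      (PGroup.isCoatom_of_index_prime (hQi ▸ hp)).2 _ (left_lt_sup.2 h)
    refine ⟨h5, ?_⟩
    have h6 := PGroup.card_sup_mul_card_inf (H := Q) (K := center S) (by
      rw [normalizer_eq_top]; exact le_top)
    rw [h5, h4, h2, card_top, ← Q.card_mul_index, hQi, mul_assoc] at h6
    rw [← Nat.eq_of_mul_eq_mul_left Nat.card_pos h6, sq]

end Cfsg.Agent.S3808
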