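import Cfsg.Statements.S3809
import Cfsg.Agent.Lib.Extraspecial.Basic

set_option autoImplicit false
open Cfsg Cfsg.Lib Subgroup

namespace Cfsg.Agent.S3809

/-- Let S be a finite p-group with an extraspecial subgroup of index p. Then S has order p^(2+2n) for some n ≥ 1, derived length at most 3, and exponent dividing p³. -/
theorem result {S : Type*} [Group S] [Finite S] (p : ℕ) [Fact p.Prime] (hS : IsPGroup p S) (Q : Subgroup S) (hQ : Cfsg.IsExtraspecial p ↥Q) (hQi : Q.index = p) :
    (∃ n : ℕ, 1 ≤ n ∧ Nat.card S = p ^ (2 + 2 * n)) ∧ derivedSeries S 3 = ⊥ ∧ ∀ x : S, x ^ (p ^ 3) = 1 := by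
  have hn : Q.Normal := PGroup.normal_of_index_eq hS hQi
  obtain ⟨n, h1, h2⟩ := ES.exists_card_eq_of_isExtraspecial hQ
  refine ⟨⟨n, h1, by rw [← Q.card_mul_index, h2, hQi]; ring⟩, ?_, fun x => ?_⟩
  · have h3 : derivedSeries S 1 ≤ Q := PGroup.commutator_le_of_index_prime Q hQi
    have h4 : derivedSeries S 2 ≤ Q ⊓ centralizer (Q : Set S) := by
      rw [← PGroup.map_subtype_center, ← hQ.1.2.2, map_subtype_commutator]
      exact commutator_mono h3 h3
    rw [derivedSeries_succ, commutator_eq_bot_iff_le_centralizer]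
    exact (h4.trans inf_le_right).trans (centralizer_le (h4.trans inf_le_left))
  · have h3 : x ^ p ∈ Q := hQi ▸ Q.pow_index_mem x
    have := congrArg Subtype.val (ES.pow_sq_eq_one hQ ⟨_, h3⟩)
    rw [pow_succ', pow_mul]
    exact this

end Cfsg.Agent.S3809
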