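import Cfsg.Statements.S3810
import Cfsg.Agent.Lib.Extraspecial.Basic
import Cfsg.Agent.Lib.PGroup.Alperin
import Cfsg.Agent.Lib.PGroup.MaxClass

set_option autoImplicit false
open Cfsg Cfsg.Lib Subgroup

namespace Cfsg.Agent.S3810

/-- Let S be a finite p-group with an extraspecial subgroup of index p. Then S has an abelian subgroup of index p if and only if S has order p⁴. -/
theorem result {S : Type*} [Group S] [Finite S] (p : ℕ) [Fact p.Prime] (hS : IsPGroup p S) (Q : Subgroup S) (hQ : Cfsg.IsExtraspecial p ↥Q) (hQi : Q.index = p) :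
    (∃ A : Subgroup S, IsMulCommutative ↥A ∧ A.index = p) ↔ Nat.card S = p ^ 4 := by
  have hp := (Fact.out : p.Prime)
  have hn : Q.Normal := PGroup.normal_of_index_eq hS hQi
  obtain ⟨n, h1, h2⟩ := ES.exists_card_eq_of_isExtraspecial hQ
  have hc : Nat.card S = p ^ (2 * n + 2) := by rw [← Q.card_mul_index, h2, hQi]; ring
  constructor
  · rintro ⟨A, hA, hAi⟩
    have h3 := ES.card_le_of_isMulCommutative hQ h2 (A := A.subgroupOf Q) inferInstance
    have h4 : (A.subgroupOf Q).index ≤ p := by
      have hA' : A.Normal := PGroup.normal_of_index_eq hS hAi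
      exact hAi ▸ Nat.le_of_dvd (by rw [hAi]; exact hp.pos) (relIndex_dvd_index_of_normal A Q)
    have h5 : p ^ (2 * n + 1) ≤ p ^ (n + 1 + 1) := by
      rw [← h2, ← (A.subgroupOf Q).card_mul_index, pow_succ p (n + 1)]
      exact Nat.mul_le_mul h3 h4
    rw [Nat.pow_le_pow_iff_right hp.one_lt] at h5
    obtain rfl : n = 1 := by omega
    exact hc
  · intro h
    obtain ⟨N, hN, -, hNc⟩ := PGroup.exists_normal_le_card_eq_pow hS ⊤ (k := 2) (by
      rw [card_top, h]; exact Nat.pow_le_pow_right hp.pos (by norm_num))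
    have hNa : IsMulCommutative N := PGroup.isMulCommutative_of_card_le_sq (hS.to_subgroup N) hNc.le
    have h3 := PGroup.card_le_mul_card_inf_centralizer_sq (P := ⊤) (hS.to_subgroup ⊤)
      (by rw [normalizer_eq_top]) hNc
    rw [top_inf_eq, card_top, h, pow_succ'] at h3
    have h4 := Nat.le_of_mul_le_mul_left h3 hp.pos
    have h5 : ¬ centralizer (N : Set S) ≤ N := fun h5 => by
      have := h4.trans (card_le_of_le h5)
      rw [hNc, Nat.pow_le_pow_iff_right hp.one_lt] at this
      omega
    have h6 : N < centralizer (N : Set S) := lt_of_le_not_ge N.le_centralizer h5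
    obtain ⟨x, hx, hxN, hxp, hxn⟩ := PGroup.exists_mem_normalizer_of_lt (hS.to_subgroup _) h6
    refine ⟨N ⊔ zpowers x, PGroup.isMulCommutative_sup_zpowers hx, ?_⟩
    have h7 := (N ⊔ zpowers x).card_mul_index
    rw [PGroup.card_sup_zpowers hxn hxN hxp, hNc, h, ← pow_succ', pow_succ p 3] at h7
    exact Nat.eq_of_mul_eq_mul_left (pow_pos hp.pos _) h7

end Cfsg.Agent.S3810
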