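import Cfsg.Statements.S3811
import Cfsg.Agent.Lib.Transfer.SylowIn
import Cfsg.Agent.Lib.Core.Basic

set_option autoImplicit false
open Cfsg

namespace Cfsg.Agent.S3811

open Subgroup Cfsg.Lib Cfsg.Lib.Transfer
open scoped commutatorElement

universe u

section
variable {P : Type*} [Group P] [Finite P] {p : ℕ} [hp : Fact p.Prime] (hP : IsPGroup p P) {A B K L E : Subgroup P}

/-- The stabiliser of the coset `b A` in `N(A)`. -/
def cst (A : Subgroup P) (b : P) : Subgroup P where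
  carrier := {k | k ∈ normalizer (A : Set P) ∧ b⁻¹ * (k * b * k⁻¹) ∈ A}
  one_mem' := ⟨one_mem _, by simp⟩
  mul_mem' := fun {k l} hk hl => ⟨mul_mem hk.1 hl.1, by
    simpa [mul_assoc] using mul_mem hk.2 ((mem_normalizer_iff.1 hk.1 _).1 hl.2)⟩
  inv_mem' := fun {k} hk => ⟨inv_mem hk.1, by
    simpa [mul_assoc] using (mem_normalizer_iff''.1 hk.1 _).1 (inv_mem hk.2)⟩

theorem orb (hA : K ≤ normalizer (A : Set P)) (hB : K ≤ normalizer (B : Set P)) {b : P} (hb : b ∈ B) (hb' : b ∉ A) :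
    (cst A b).relIndex K < A.relIndex B := by
  have := Fintype.ofFinite (K ⧸ (cst A b).subgroupOf K)
  have := Fintype.ofFinite (B ⧸ A.subgroupOf B)
  rw [relIndex, relIndex, index, index, Nat.card_eq_fintype_card, Nat.card_eq_fintype_card]
  refine Fintype.card_lt_of_injective_of_notMem
    (fun q => ((⟨_, (mem_normalizer_iff.1 (hB q.out.2) b).1 hb⟩ : B) : B ⧸ A.subgroupOf B)) (fun q r e => ?_)
    (b := ((1 : B) : B ⧸ A.subgroupOf B)) fun ⟨q, e⟩ => hb' ?_
  · rw [← q.out_eq', ← r.out_eq', QuotientGroup.eq]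
    refine ⟨hA (q.out⁻¹ * r.out).2, ?_⟩
    have h := QuotientGroup.eq.1 e
    simpa [mul_assoc] using (mem_normalizer_iff''.1 (hA q.out.2) _).1 h
  · exact (mem_normalizer_iff.1 (hA q.out.2) b).2 (by simpa [mem_subgroupOf] using QuotientGroup.eq.1 e.symm)

theorem eq_of_prime (h : A.relIndex B = p) (h1 : A < L) (h2 : L ≤ B) : L = B := by
  refine le_antisymm h2 (relIndex_eq_one.1 ?_)
  rcases (Nat.dvd_prime hp.out).1 (Dvd.intro_left _ ((relIndex_mul_relIndex A L B h1.le h2).trans h)) with e | e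
  · exact e
  have := relIndex_mul_relIndex A L B h1.le h2
  rw [e, h] at this
  exact absurd (relIndex_eq_one.1 (Nat.eq_of_mul_eq_mul_right hp.out.pos (this.trans (one_mul p).symm))) h1.not_ge

include hP

theorem sec (hA : K ≤ normalizer (A : Set P)) (hB : K ≤ normalizer (B : Set P)) (h : A.relIndex B ≤ p) {b k : P}
    (hb : b ∈ B) (hk : k ∈ K) : b⁻¹ * (k * b * k⁻¹) ∈ A := by
  by_cases hb' : b ∈ A
  · exact mul_mem (inv_mem hb') ((mem_normalizer_iff.1 (hA hk) b).1 hb')
  obtain ⟨n, hn⟩ := (hP.to_subgroup K).index ((cst A b).subgroupOf K)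
  have := (orb hA hB hb hb').trans_le h
  rw [relIndex, hn] at this
  rw [Nat.lt_one_iff.1 ((Nat.pow_lt_pow_iff_right hp.out.one_lt).1 (this.trans_eq (pow_one p).symm))] at hn
  exact (relIndex_eq_one.1 hn hk).2

theorem le_of_lt (h : A.relIndex (normalizer (A : Set P)) = p) (h1 : A < L) : normalizer (A : Set P) ≤ L :=
  inf_eq_right.1 (eq_of_prime h (lt_inf_normalizer_of_lt (hP.to_subgroup L) h1) inf_le_right)

theorem chain (h : (K ⊓ L).relIndex (normalizer ((K ⊓ L : Subgroup P) : Set P)) = p) : K ≤ L ∨ L ≤ K := by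
  by_contra! hc
  exact hp.out.one_lt.ne' (h.symm.trans (relIndex_eq_one.2
    (le_inf (le_of_lt hP h (inf_lt_left.2 hc.1)) (le_of_lt hP h (inf_lt_right.2 hc.2)))))

variable (hEL : E ≤ L) (hK : normalizer (L : Set P) = K) (hi : L.relIndex K = p)
  (ih : ∀ M, E ≤ M → M ≤ L → M.relIndex (normalizer (M : Set P)) = p) {y : P} (hy : y ∈ normalizer (K : Set P)) (hy' : y ∉ K)
include hEL hK hi ih hy hy'

theorem facts : K ≤ normalizer ((y ⋆ L : Subgroup P) : Set P) ∧ (∀ k ∈ K, ∃ d ∈ y ⋆ L, ∃ e ∈ E, k = d * e) ∧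
    ∀ b ∈ K, ∀ k ∈ K, b⁻¹ * (k * b * k⁻¹) ∈ L ⊓ y ⋆ L := by
  have h0 := conj_eq_self_iff.2 hy
  have hLK : L ≤ K := hK ▸ le_normalizer
  have h1 : K ≤ normalizer ((y ⋆ L : Subgroup P) : Set P) := by rw [← conj_normalizer, hK, h0]
  have h2 : (y ⋆ L).relIndex K = p := by rw [← hi, ← relIndex_conj y L, h0]
  have h3 : ¬ E ≤ y ⋆ L := fun h => hy' (hK ▸ conj_eq_self_iff.1 (by
    rcases chain hP (ih _ (le_inf hEL h) inf_le_left) with e | e
    · exact (eq_of_le_of_card_ge e (card_conj y L).le).symm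
    · exact eq_of_le_of_card_ge e (card_conj y L).ge))
  refine ⟨h1, fun k hk => exists_mul_of_mem_sup ((hEL.trans hLK).trans h1) ((eq_of_prime h2 (left_lt_sup.2 h3)
    (sup_le (h0 ▸ conj_mono y hLK) (hEL.trans hLK))).ge hk), fun b hb k hk =>
      ⟨sec hP hK.ge le_normalizer hi.le hb hk, sec hP h1 le_normalizer h2.le hb hk⟩⟩

variable (hc : ∀ a ∈ E, ∀ b ∈ E, a * b = b * a) (hC : centralizer (E : Set P) ≤ E)
  (hN : E.relIndex (normalizer (E : Set P)) = p) (hNL : normalizer (E : Set P) ≤ L)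
include hc hC hN hNL

theorem half (h : ¬ L ⊓ y ⋆ L ⊓ centralizer ((L ⊓ y ⋆ L : Subgroup P) : Set P) ≤ E) :
    ∀ a ∈ normalizer (E : Set P), ∀ b ∈ normalizer (E : Set P), ⁅a, b⁆ ∈ centralizer (K : Set P) := by
  obtain ⟨h1, -, h2⟩ := facts hP hEL hK hi ih hy hy'
  have hEK : E ≤ K := hEL.trans (hK ▸ le_normalizer)
  have hD : K ≤ normalizer ((L ⊓ y ⋆ L : Subgroup P) : Set P) := (le_inf hK.ge h1).trans inf_normalizer_le_normalizer_inf
  generalize L ⊓ y ⋆ L = D at h h2 hD
  have hV : K ≤ normalizer ((D ⊓ centralizer (D : Set P) : Subgroup P) : Set P) :=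
    (le_inf hD (hD.trans (normalizer_le_normalizer_centralizer' D))).trans inf_normalizer_le_normalizer_inf
  set V := D ⊓ centralizer (D : Set P)
  have cv : ∀ k ∈ K, ∀ v ∈ V, k * v * k⁻¹ ∈ V := fun k hk v hv => (mem_normalizer_iff.1 (hV hk) v).1 hv
  have key : ∀ k ∈ K, ∀ v ∈ V, ∀ e ∈ E, ⁅k * v * k⁻¹, e⁆ = k * ⁅v, e⁆ * k⁻¹ := fun k hk v hv e he => by
    have := (cv k hk v hv).2 _ (h2 e (hEK he) k hk)
    calc _ = k * v * k⁻¹ * e * (e⁻¹ * (k * e * k⁻¹) * ((e⁻¹ * (k * e * k⁻¹))⁻¹ * (k * v * k⁻¹)⁻¹)) * e⁻¹ := by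
          rw [commutatorElement_def]; group
      _ = _ := by rw [← mul_inv_rev, ← this, commutatorElement_def]; group
  have cve : ∀ v ∈ V, ∀ e ∈ E, ⁅v, e⁆ ∈ V := fun v hv e he => by
    simpa [commutatorElement_def, mul_assoc] using mul_mem hv (cv e (hEK he) _ (inv_mem hv))
  have h3 : K ≤ normalizer ((V ⊓ E : Subgroup P) : Set P) := fun k hk => mem_normalizer_fintype fun v hv =>
    ⟨cv k hk v hv.1, hC fun e he => (commutatorElement_eq_one_iff_mul_comm.1 (by
      rw [key k hk v hv.1 e he, commutatorElement_eq_one_iff_mul_comm.2 (hc v hv.2 e he)]; simp)).symm⟩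
  have h4 : K ≤ normalizer ((V ⊓ normalizer (E : Set P) : Subgroup P) : Set P) := fun k hk =>
    mem_normalizer_fintype fun v hv => ⟨cv k hk v hv.1, mem_normalizer_fintype fun e he => by
      have := ((mem_normalizer_iff.1 (h3 hk) _).1 (mem_inf.2 ⟨cve v hv.1 e he,
        mul_mem ((mem_normalizer_iff.1 hv.2 e).1 he) (inv_mem he) |> fun h => by
          simpa [commutatorElement_def, mul_assoc] using h⟩)).2
      rw [← key k hk v hv.1 e he] at this
      simpa [commutatorElement_def] using E.mul_mem this he⟩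
  have h5 : ∀ v ∈ V ⊓ normalizer (E : Set P), ∀ e ∈ E, ⁅v, e⁆ ∈ centralizer (K : Set P) := fun v hv e he k hk => by
    have := sec hP h3 h4 (by
      rw [show V ⊓ E = E ⊓ (V ⊓ normalizer (E : Set P)) by rw [inf_left_comm, inf_eq_left.2 le_normalizer],
        inf_relIndex_right]
      exact (relIndex_le_of_le_right inf_le_right (hN ▸ hp.out.ne_zero)).trans hN.le) hv hk
    rw [← mul_inv_eq_iff_eq_mul, ← key k hk v hv.1 e he, ← mul_inv_cancel_left v (k * v * k⁻¹), commutatorElement_def,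
      mul_assoc v, hc _ this.2 e he, commutatorElement_def]
    group
  have dec : ∀ a ∈ normalizer (E : Set P), ∃ v ∈ V ⊓ normalizer (E : Set P), ∃ e ∈ E, a = v * e := fun a ha => by
    obtain ⟨v, hv, e, he, rfl⟩ := exists_mul_of_mem_sup (hEK.trans hV) (le_of_lt hP hN (right_lt_sup.2 h) ha)
    exact ⟨v, ⟨hv, (mul_mem_cancel_right (le_normalizer he)).1 ha⟩, e, he, rfl⟩
  intro a ha b hb
  obtain ⟨v, hv, e, he, rfl⟩ := dec a ha
  obtain ⟨w, hw, f, hf, rfl⟩ := dec b hb
  have hvK : ∀ v ∈ V ⊓ normalizer (E : Set P), v ∈ K := fun v hv => hK ▸ le_normalizer (hNL hv.2)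
  rw [show ⁅v * e, w * f⁆ = v * ⁅w, e⁆⁻¹ * v⁻¹ * (w * ⁅v, f⁆ * w⁻¹) by
    simp only [commutatorElement_def]
    calc _ = v * e * w * (f * e⁻¹) * v⁻¹ * f⁻¹ * w⁻¹ := by group
      _ = v * (e * w * e⁻¹ * w⁻¹) * (w * v⁻¹) * (v * f * v⁻¹ * f⁻¹) * w⁻¹ := by rw [hc f hf _ (inv_mem he)]; group
      _ = _ := by rw [(centralizer _).inv_mem hv.1.2 w hw.1.1]; group,
    (centralizer _).inv_mem (h5 w hw e he) v (hvK v hv), h5 v hv f hf w (hvK w hw), mul_inv_cancel_right, mul_inv_cancel_right]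
  exact mul_mem (inv_mem (h5 w hw e he)) (h5 v hv f hf)

theorem step (h : ∀ a ∈ normalizer (E : Set P), ∀ b ∈ normalizer (E : Set P), ⁅a, b⁆ ∈ centralizer (L : Set P)) :
    ∀ a ∈ normalizer (E : Set P), ∀ b ∈ normalizer (E : Set P), ⁅a, b⁆ ∈ centralizer (K : Set P) := by
  by_contra hn
  have h2 := not_not.1 (mt (half hP hEL hK hi ih (inv_mem hy) (mt inv_mem_iff.1 hy') hc hC hN hNL) hn)
  obtain ⟨-, -, c1⟩ := facts hP hEL hK hi ih hy hy'
  obtain ⟨-, d2, -⟩ := facts hP hEL hK hi ih (inv_mem hy) (mt inv_mem_iff.1 hy')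
  replace h2 := conj_mono y h2
  rw [conj_inf, conj_centralizer, conj_inf, conj_inv_conj, inf_comm (y ⋆ L)] at h2
  refine hn fun a ha b hb k hk => ?_
  have hLK : L ≤ K := hK ▸ le_normalizer
  have h3 : ⁅a, b⁆ ∈ y ⋆ E := h2 ⟨by
    simpa [commutatorElement_def, mul_assoc] using c1 _ (inv_mem (hLK (hNL ha))) _ (hLK (hNL hb)),
    fun x hx => h a ha b hb x hx.1⟩
  obtain ⟨d, hd, e, he, e1⟩ := d2 _ ((mem_normalizer_iff''.1 hy k).1 hk)
  have h4 : y * d * y⁻¹ ∈ L := by simpa using mem_conj.1 hd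
  have h5 := hc _ he _ (mem_conj.1 h3)
  calc _ = y * d * y⁻¹ * (y * (e * (y⁻¹ * ⁅a, b⁆ * y)) * y⁻¹) := by rw [← inv_mul_eq_iff_eq_mul.2 e1]; group
    _ = y * d * y⁻¹ * ⁅a, b⁆ * (y * e * y⁻¹) := by rw [h5]; group
    _ = _ := by rw [h a ha b hb _ h4, ← inv_mul_eq_iff_eq_mul.2 e1]; group

omit hEL hK hi ih hy hy' hNL in
theorem base {y : P} (hy : y ∈ normalizer ((normalizer (E : Set P) : Subgroup P) : Set P)) (hy' : y ∉ normalizer (E : Set P)) :
    (∀ a ∈ normalizer (E : Set P), ∀ b ∈ normalizer (E : Set P), ⁅a, b⁆ ∈ centralizer (normalizer (E : Set P) : Set P)) ∧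
    (normalizer (E : Set P)).relIndex (normalizer ((normalizer (E : Set P) : Subgroup P) : Set P)) = p := by
  obtain ⟨-, d, c⟩ := facts hP le_rfl rfl hN (fun M h1 h2 => le_antisymm h1 h2 ▸ hN) hy hy'
  set N := normalizer (E : Set P)
  have h1 : E ⊓ y ⋆ E ≤ centralizer (N : Set P) := fun x hx k hk => by
    obtain ⟨_, ⟨u, hu, rfl⟩, e, he, rfl⟩ := d k hk
    obtain ⟨v, hv, rfl⟩ := hx.2
    rw [mul_assoc, hc e he _ hx.1, ← mul_assoc, ← map_mul, hc u hu v hv, map_mul, mul_assoc]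
  refine ⟨fun a ha b hb => h1 (by simpa [commutatorElement_def, mul_assoc] using c _ (inv_mem ha) _ hb), ?_⟩
  have hne : ¬ N ≤ E := fun h => hp.out.one_lt.ne' (hN.symm.trans (relIndex_eq_one.2 h))
  obtain ⟨e, he, he'⟩ : ∃ e ∈ E, e ∉ N ⊓ centralizer (N : Set P) := by
    by_contra! h
    exact hne fun n hn => hC fun e he => ((h e he).2 n hn).symm
  have h2 : N ⊓ centralizer {e} = E := by
    have : E ≤ N ⊓ centralizer {e} := le_inf le_normalizer fun x hx => mem_centralizer_singleton_iff.2 (hc x hx e he)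
    refine (this.eq_of_not_lt fun h => he' ⟨le_normalizer he, fun n hn => ?_⟩).symm
    exact mem_centralizer_singleton_iff.1 ((eq_of_prime hN h inf_le_left).ge hn).2
  have h3 := orb ((le_inf le_rfl (normalizer_le_normalizer_centralizer' N)).trans inf_normalizer_le_normalizer_inf) le_rfl
    (le_normalizer he) he'
  have h4 : (N ⊓ centralizer (N : Set P)).relIndex N ≤ p * p := by
    rw [inf_relIndex_left]
    refine (relIndex_le_of_le_left h1 (Nat.card_pos.ne')).trans (relIndex_inf_le.trans_eq ?_)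
    rw [hN, ← conj_eq_self_iff.2 hy, relIndex_conj, hN]
  have h5 : N.relIndex (normalizer (N : Set P)) ≤ (cst (N ⊓ centralizer (N : Set P)) e).relIndex (normalizer (N : Set P)) := by
    rw [← inf_relIndex_right (cst _ _)]
    refine relIndex_le_of_le_left (fun k hk => mem_normalizer_fintype fun x hx => h2.le ?_) Nat.card_pos.ne'
    have h6 := (mem_normalizer_iff.1 hk.2 x).1 (le_normalizer hx)
    refine ⟨h6, mem_centralizer_singleton_iff.2 ?_⟩
    calc _ = k * (x * e) * k⁻¹ * (e⁻¹ * (k * e * k⁻¹))⁻¹ := by group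
      _ = e * (e⁻¹ * (k * e * k⁻¹) * (k * x * k⁻¹)) * (e⁻¹ * (k * e * k⁻¹))⁻¹ := by rw [hc x hx e he]; group
      _ = _ := by rw [← hk.1.2.2 _ h6]; group
  obtain ⟨n, hn⟩ := (hP.to_subgroup _).index (N.subgroupOf (normalizer (N : Set P)))
  have h6 := (Nat.pow_lt_pow_iff_right hp.out.one_lt).1 (hn.ge.trans_lt (h5.trans_lt (h3.trans_le (h4.trans_eq (sq p).symm))))
  rcases n with _ | n
  · exact absurd (relIndex_eq_one.1 hn hy) hy'
  · rw [relIndex, hn, show n = 0 by omega, zero_add, pow_one]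

end

theorem main (p : ℕ) [hp : Fact p.Prime] (n : ℕ) : ∀ (P : Type u) [Group P] [Finite P], Nat.card P = n → IsPGroup p P →
    ∀ E : Subgroup P, (∀ a ∈ E, ∀ b ∈ E, a * b = b * a) → centralizer (E : Set P) ≤ E →
    E.relIndex (normalizer (E : Set P)) = p → ∀ K : Subgroup P, E ≤ K → K ≠ ⊤ →
    K.relIndex (normalizer (K : Set P)) = p ∧ ∀ i, E.relIndex K = p ^ i → Group.nilpotencyClass K = i + 1 := by
  induction n using Nat.strong_induction_on with | _ n IH => ?_
  intro P _ _ hn hP E hc hC hN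
  have hne : ¬ normalizer (E : Set P) ≤ E := fun h => hp.out.one_lt.ne' (hN.symm.trans (relIndex_eq_one.2 h))
  suffices h : ∀ m, ∀ K : Subgroup P, Nat.card K = m → E ≤ K → K ≠ ⊤ → (K.relIndex (normalizer (K : Set P)) = p ∧
      ∀ i, E.relIndex K = p ^ i → Group.nilpotencyClass K = i + 1) ∧ (normalizer (E : Set P) ≤ K →
      ∀ a ∈ normalizer (E : Set P), ∀ b ∈ normalizer (E : Set P), ⁅a, b⁆ ∈ centralizer (K : Set P)) from
    fun K h1 h2 => (h _ K rfl h1 h2).1
  intro m
  induction m using Nat.strong_induction_on with | _ m ih => ?_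
  intro K hm hEK hK
  have : Nontrivial K := (nontrivial_iff_ne_bot K).2 fun e => hne fun x _ => hC fun y hy => by
    simp [mem_bot.1 (e.le (hEK hy))]
  have := (hP.to_subgroup K).isNilpotent
  rcases hEK.eq_or_lt with rfl | hlt
  · refine ⟨⟨hN, fun i hi => ?_⟩, fun h => absurd h hne⟩
    rw [relIndex_self, eq_comm, Nat.pow_eq_one, or_iff_right hp.out.one_lt.ne'] at hi
    have h1 := Group.IsNilpotent.nilpotencyClass_le_one_iff.2 (⟨⟨fun a b => Subtype.ext (hc a a.2 b b.2)⟩⟩ : IsMulCommutative E)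
    have h2 := mt (nilpotencyClass_zero_iff_subsingleton (G := E)).1 (not_subsingleton E)
    omega
  replace ih := fun M (h1 : E ≤ M) (h2 : M < K) => ih _ (hm ▸ card_lt_of_lt h2) M rfl h1 h2.ne_top
  have hNK := le_of_lt hP hN hlt
  obtain ⟨y, hy, hy'⟩ := SetLike.exists_of_lt (lt_inf_normalizer_of_lt (hP.to_subgroup ⊤) hK.lt_top)
  obtain ⟨L, ⟨hEL, hLK⟩, hmax⟩ := (wellFounded_gt (α := Subgroup P)).has_min {L | E ≤ L ∧ L < K} ⟨E, le_rfl, hlt⟩
  have hi := (ih L hEL hLK).1.1
  have hL : normalizer (L : Set P) = K := (le_of_lt hP hi hLK).eq_of_not_lt fun h => hmax _ ⟨hEL.trans le_normalizer, h⟩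
    (lt_of_le_of_ne le_normalizer fun e => hp.out.one_lt.ne' (hi.symm.trans (relIndex_eq_one.2 e.ge)))
  have hcom : ∀ a ∈ normalizer (E : Set P), ∀ b ∈ normalizer (E : Set P), ⁅a, b⁆ ∈ centralizer (K : Set P) := by
    rcases hEL.eq_or_lt with rfl | h
    · subst hL
      exact (base hP hc hC hN hy.2 hy').1
    exact step hP hEL hL (hL ▸ hi) (fun M h1 h2 => (ih M h1 (h2.trans_lt hLK)).1.1) hy.2 hy' hc hC hN (le_of_lt hP hN h)
      ((ih L hEL hLK).2 (le_of_lt hP hN h))
  refine ⟨?_, fun _ => hcom⟩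
  set N := normalizer (E : Set P) with hNdef
  have hN2 : N.relIndex (normalizer (N : Set P)) = p ∧ normalizer (N : Set P) ≤ normalizer (K : Set P) := by
    rcases hNK.eq_or_lt with e | h
    · subst e
      exact ⟨(base hP hc hC hN hy.2 hy').2, le_rfl⟩
    · exact ⟨(ih N le_normalizer h).1.1, (le_of_lt hP (ih N le_normalizer h).1.1 h).trans le_normalizer⟩
  set Z := K ⊓ centralizer (K : Set P)
  have hZE : Z ≤ E := fun z hz => hC fun e he => hz.2 e (hEK he)
  have : (Z.subgroupOf (normalizer (K : Set P))).Normal := (normal_subgroupOf_iff_le_normalizer (inf_le_left.trans le_normalizer)).2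
    ((le_inf le_rfl (normalizer_le_normalizer_centralizer' K)).trans inf_normalizer_le_normalizer_inf)
  let π := QuotientGroup.mk' (Z.subgroupOf (normalizer (K : Set P)))
  have hk : ∀ x, π x = 1 ↔ x.1 ∈ Z := fun x => QuotientGroup.eq_one_iff x
  have hπ : ∀ X : Subgroup P, Z ≤ X → ((X.subgroupOf _).map π).comap π = X.subgroupOf _ := fun X h =>
    comap_map_eq_self (by rw [QuotientGroup.ker_mk']; exact comap_mono h)
  have hrel : ∀ X Y : Subgroup P, Z ≤ X → Y ≤ normalizer (K : Set P) →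
      ((X.subgroupOf _).map π).relIndex ((Y.subgroupOf _).map π) = X.relIndex Y := fun X Y h h' => by
    rw [← relIndex_comap, hπ X h, relIndex_subgroupOf h']
  have hnor : ∀ X : Subgroup P, Z ≤ X → X ≤ normalizer (K : Set P) → normalizer (((X.subgroupOf _).map π : Subgroup _) : Set _) =
      ((normalizer (X : Set P)).subgroupOf _).map π := fun X h h' => by
    rw [subgroupOf_normalizer_eq h', ← hπ X h, ← comap_normalizer_eq_of_surjective _ (QuotientGroup.mk'_surjective _), hπ X h,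
      map_comap_eq_self_of_surjective (QuotientGroup.mk'_surjective _)]
  let f : K →* (K.subgroupOf _).map π := (π.comp (inclusion le_normalizer)).codRestrict _ fun k => ⟨_, k.2, rfl⟩
  have hf : f.ker = center K := by
    ext k
    refine Subtype.ext_iff.trans ((hk _).trans ⟨fun h => mem_center_iff.2 fun g => Subtype.ext (h.2 g g.2), fun h =>
      mem_inf.2 ⟨k.2, fun g hg => congrArg Subtype.val (mem_center_iff.1 h ⟨g, hg⟩)⟩⟩)
  have hZ : Z ≠ ⊥ := fun e => by
    obtain ⟨⟨z, hz⟩, h⟩ := @exists_ne _ (hP.to_subgroup K).center_nontrivial 1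
    exact h (Subtype.ext (Subtype.ext (e.le (mem_inf.2 ⟨z.2, fun g hg => congrArg Subtype.val (mem_center_iff.1 hz ⟨g, hg⟩)⟩))))
  obtain ⟨h1, h2⟩ := IH _ (by
      have := card_eq_card_quotient_mul_card_subgroup (Z.subgroupOf (normalizer (K : Set P)))
      have h1 := (one_lt_card_iff_ne_bot _).2 (mt (subgroupOf_eq_bot.1 · |>.eq_bot_of_le (inf_le_left.trans le_normalizer)) hZ)
      exact ((Nat.lt_mul_iff_one_lt_right Nat.card_pos).2 h1).trans_le (this.ge.trans (hn ▸ card_le_card_group _)))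
    _ rfl ((hP.to_subgroup _).to_quotient _) ((N.subgroupOf _).map π) (by
      rintro _ ⟨a, ha, rfl⟩ _ ⟨b, hb, rfl⟩
      rw [← commutatorElement_eq_one_iff_mul_comm, ← map_commutatorElement]
      exact (hk _).2 ⟨hNK (N.mul_mem (N.mul_mem (N.mul_mem ha hb) (N.inv_mem ha)) (N.inv_mem hb)), hcom a ha b hb⟩) (fun x hx => by
      obtain ⟨x, rfl⟩ := QuotientGroup.mk'_surjective _ x
      refine ⟨x, mem_normalizer_fintype fun e he => ?_, rfl⟩
      have := hx _ ⟨⟨e, le_normalizer (hEK he)⟩, (le_normalizer he :), rfl⟩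
      rw [← commutatorElement_eq_one_iff_mul_comm, ← map_commutatorElement] at this
      simpa [commutatorElement_def, mul_assoc] using mul_mem (inv_mem (hZE ((hk _).1 this))) he)
    (by rw [hnor N (hZE.trans le_normalizer) (hNK.trans le_normalizer), hrel _ _ (hZE.trans le_normalizer) hN2.2, hN2.1])
    ((K.subgroupOf _).map π) (map_mono (comap_mono hNK)) fun e =>
      hy' ((hπ K inf_le_left).le (show (⟨y, hy.2⟩ : normalizer (K : Set P)) ∈ _ from e.ge (mem_top _)))
  rw [hnor K inf_le_left le_normalizer, hrel _ _ inf_le_left le_rfl] at h1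
  refine ⟨h1, fun i hi => ?_⟩
  rw [← relIndex_mul_relIndex E N K le_normalizer hNK, hN] at hi
  rcases i with _ | i
  · exact absurd (Nat.eq_one_of_mul_eq_one_right hi) hp.out.one_lt.ne'
  let e := (QuotientGroup.quotientMulEquivOfEq hf.symm).trans (QuotientGroup.quotientKerEquivOfSurjective f (by
    rintro ⟨_, k, hk, rfl⟩; exact ⟨⟨k, hk⟩, rfl⟩))
  have := nilpotent_of_mulEquiv e
  rw [nilpotencyClass_eq_quotient_center_plus_one, ← h2 i (by
    rw [hrel _ _ (hZE.trans le_normalizer) le_normalizer]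
    exact Nat.eq_of_mul_eq_mul_left hp.out.pos (hi.trans (pow_succ' p i))),
    le_antisymm (nilpotencyClass_le_of_surjective e.symm.toMonoidHom e.symm.surjective)
      (nilpotencyClass_le_of_surjective e.toMonoidHom e.surjective)]

/-- Let P be a finite p-group and E an abelian subgroup of P that contains its centralizer, has index p in its normalizer, and has index at least p² in P. Then the subgroups of P containing E are totally ordered by inclusion, each proper one has index p in its normalizer (so they form the normalizer tower of E, with all steps of index p), and the i-th member of the tower above E has nilpotency class i + 1 whenever it is a proper subgroup of P. -/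
theorem result {P : Type*} [Group P] [Finite P] (p : ℕ) [Fact p.Prime] (hP : IsPGroup p P)
    (E : Subgroup P) (hEab : IsMulCommutative ↥E) (hC : Subgroup.centralizer (E : Set P) ≤ E)
    (hN : (E.subgroupOf (Subgroup.normalizer (E : Set P))).index = p) (hidx : p ^ 2 ≤ E.index) :
    (∀ K L : Subgroup P, E ≤ K → E ≤ L → K ≤ L ∨ L ≤ K) ∧
      (∀ K : Subgroup P, E ≤ K → K ≠ ⊤ → (K.subgroupOf (Subgroup.normalizer (K : Set P))).index = p) ∧
      ∀ (i : ℕ) (K : Subgroup P) [Group.IsNilpotent ↥K], E ≤ K → K ≠ ⊤ → K.index * p ^ i = E.index →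
        Group.nilpotencyClass ↥K = i + 1 := by
  have h := main p _ P rfl hP E (fun a ha b hb => setLike_mul_comm ha hb) hC hN
  refine ⟨fun K L hK hL => ?_, fun K h1 h2 => (h K h1 h2).1, fun i K _ h1 h2 h3 => (h K h1 h2).2 i ?_⟩
  · by_cases e : K ⊓ L = ⊤
    · exact Or.inl (le_top.trans (e.ge.trans inf_le_right))
    · exact chain hP (h _ (le_inf hK hL) e).1
  · exact Nat.eq_of_mul_eq_mul_right (Nat.pos_of_ne_zero K.index_ne_zero_of_finite)
      ((relIndex_mul_index h1).trans (h3.symm.trans (mul_comm _ _)))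

end Cfsg.Agent.S3811
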