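import Cfsg.Statements.S3824
import Cfsg.Agent.Lib.Char.Burnside
import Cfsg.Agent.Lib.BG.Hall

set_option autoImplicit false
open Cfsg

namespace Cfsg.Agent.S3824

open Subgroup Cfsg.Lib Cfsg.Lib.BG

theorem relIndex_dvd_index_of_normal' {G : Type*} [Group G] [Finite G] (A N : Subgroup G)
    [N.Normal] : A.relIndex N ∣ A.index := by
  have h1 := relIndex_mul_relIndex (A ⊓ N) N (A ⊔ N) inf_le_right le_sup_right
  have h2 := relIndex_mul_relIndex (A ⊓ N) A (A ⊔ N) inf_le_left le_sup_left
  rw [inf_relIndex_right, relIndex_sup_right] at h1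
  rw [inf_relIndex_left, ← h1, mul_comm] at h2
  rw [← Nat.eq_of_mul_eq_mul_right (Nat.pos_of_ne_zero index_ne_zero_of_finite) h2]
  exact relIndex_dvd_index_of_le le_sup_left

universe u in
theorem aux (n : ℕ) : ∀ (G : Type u) [Group G] [Finite G], Nat.card G = n → ∀ A : Subgroup G,
    IsMulCommutative A → (∃ k, A.index = 2 ^ k) → Group.IsSolvable G := by
  induction' n using Nat.strong_induction_on with n ih
  intro G _ _ hn A hA ⟨k, hk⟩
  have key : ∀ m, m ∣ 2 ^ k → ∃ j, m = 2 ^ j := fun m hm =>
    ((Nat.dvd_prime_pow Nat.prime_two).1 hm).imp fun _ h => h.2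
  by_cases hs : IsSimpleGroup G
  · by_cases h1 : A = ⊥
    · rw [h1, index_bot] at hk
      have := (IsPGroup.of_card hk).isNilpotent
      infer_instance
    obtain ⟨⟨a, ha⟩, ha1⟩ := ne_bot_iff_exists_ne_one.1 h1
    obtain ⟨j, hj⟩ := key (centralizer {a}).index (hk ▸ index_dvd_of_le fun b hb =>
      mem_centralizer_singleton_iff.2 (setLike_mul_comm hb ha))
    have := Fact.mk (Char.card_prime_of_simple_of_index_prime_pow
      (fun e => ha1 (Subtype.ext e)) Nat.prime_two hj)
    have := isCyclic_of_prime_card (α := G) rfl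
    exact Group.isSolvable_of_comm fun a b => this.isMulCommutative.is_comm.comm a b
  rcases subsingleton_or_nontrivial G with h | h
  · infer_instance
  obtain ⟨N, hN, h1, h2⟩ : ∃ N : Subgroup G, N.Normal ∧ N ≠ ⊥ ∧ N ≠ ⊤ := by
    by_contra hc
    push Not at hc
    exact hs ⟨fun N hN => or_iff_not_imp_left.2 (hc N hN)⟩
  have h3 := ih _ (hn ▸ Core.card_lt_of_ne_top h2) N rfl (A.subgroupOf N) inferInstance
    (key _ (hk ▸ relIndex_dvd_index_of_normal' A N))
  have h4 := ih _ (hn ▸ Core.card_quotient_lt h1) (G ⧸ N) rfl (A.map (QuotientGroup.mk' N))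
    inferInstance (key _ (hk ▸ index_map_dvd A (QuotientGroup.mk'_surjective N)))
  exact Group.isSolvable_of_ker_le_range N.subtype (QuotientGroup.mk' N) (by simp)

/-- Every finite group having an abelian subgroup whose index is a power of 2 is solvable. -/
theorem result {G : Type*} [Group G] [Finite G]
    (A : Subgroup G) (hA : IsMulCommutative A) (hidx : ∃ k : ℕ, A.index = 2 ^ k) : Group.IsSolvable G := by
  exact aux _ G rfl A hA hidx

end Cfsg.Agent.S3824
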