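import Cfsg.Statements.S4014
import Cfsg.Agent.Lib.Perm.Multi
import Cfsg.Agent.Lib.PGroup.Frattini

set_option autoImplicit false
open Cfsg

namespace Cfsg.Agent.S4014

open Cfsg.Lib Subgroup MulAction Equiv
open scoped commutatorElement

theorem le_of_index {p : ℕ} [hp : Fact p.Prime] (j : ℕ) : ∀ (P : Type) [Group P] [Finite P], IsPGroup p P →
    ∀ H : Subgroup P, H.index < p ^ (j + 1) → derivedSeries P j ≤ H := by
  induction j with
  | zero =>
    intro P _ _ hP H h
    obtain ⟨k, hk⟩ := hP.index H
    rw [hk, Nat.pow_lt_pow_iff_right hp.out.one_lt] at h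
    exact (index_eq_one.1 (by rw [hk, Nat.lt_one_iff.1 h, pow_zero])).ge
  | succ j ih =>
    intro P _ _ hP H h
    rcases eq_top_or_exists_le_coatom H with rfl | ⟨M, hM, hHM⟩
    · exact le_top
    have := PGroup.normal_of_isCoatom hP hM
    have h1 := PGroup.index_eq_of_isCoatom hP hM
    have h2 : ∀ i, derivedSeries P (i + 1) ≤ (derivedSeries M i).map M.subtype := fun i => by
      induction i with
      | zero => simpa [← MonoidHom.range_eq_map] using PGroup.commutator_le_of_index_prime M h1
      | succ i ih => rw [derivedSeries_succ M, map_commutator]; exact commutator_mono ih ih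
    rw [← relIndex_mul_index hHM, h1, pow_succ, Nat.mul_lt_mul_right hp.out.pos] at h
    exact (h2 j).trans ((map_mono (ih M (hP.to_subgroup M) _ h)).trans (map_subgroupOf_eq_of_le hHM).le)

theorem upper {p : ℕ} [hp : Fact p.Prime] {Ω : Type} [Finite Ω] (P : Subgroup (Perm Ω)) (hP : IsPGroup p P)
    {j : ℕ} (h : Nat.card Ω < p ^ (j + 1)) : derivedSeries P j = ⊥ :=
  eq_bot_iff.2 fun g hg => Subtype.ext (Equiv.ext fun x => le_of_index j P hP (stabilizer P x)
    (by rw [index_stabilizer]; exact (Set.ncard_le_card _).trans_lt h) hg)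

theorem wreath {D Q : Type*} [Group D] [Group Q] [Nontrivial Q] (i : ℕ) (h : derivedSeries D i ≠ ⊥) :
    derivedSeries (D ≀ᵣ Q) (i + 1) ≠ ⊥ := by
  classical
  let B := (RegularWreathProduct.rightHom : D ≀ᵣ Q →* Q).ker
  let ev : B →* D := MonoidHom.mk' (fun w => w.1.left 1) fun a b => by
    simp [show a.1.right = 1 from a.2]
  have key : ∀ i, derivedSeries D i ≤ ((derivedSeries (D ≀ᵣ Q) (i + 1)).subgroupOf B).map ev := fun i => by
    induction i with
    | zero =>
      intro d _
      obtain ⟨q, hq⟩ := exists_ne (1 : Q)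
      refine ⟨⟨⁅(⟨Pi.mulSingle 1 d, 1⟩ : D ≀ᵣ Q), RegularWreathProduct.inl q⁆, by
        simp [B, commutatorElement_def]⟩, commutator_mem_commutator (mem_top _) (mem_top _), ?_⟩
      simp [ev, commutatorElement_def, hq]
    | succ i ih =>
      refine (commutator_mono ih ih).trans ?_
      rw [← map_commutator]
      exact map_mono (commutator_le.2 fun a ha b hb => commutator_mem_commutator ha hb)
  exact fun e => h (eq_bot_iff.2 ((key i).trans (by rw [e]; simp)))

theorem iter (G : Type) [Group G] [Nontrivial G] (k : ℕ) :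
    derivedSeries (IteratedWreathProduct G (k + 1)) k ≠ ⊥ := by
  induction k with
  | zero =>
    have : Nontrivial (PUnit ≀ᵣ G) := (Function.RightInverse.surjective RegularWreathProduct.fun_id).nontrivial
    exact (top_ne_bot : (⊤ : Subgroup (PUnit ≀ᵣ G)) ≠ ⊥)
  | succ k ih => exact wreath k ih

/-- Let p be a prime, n ≥ 1, and P a Sylow p-subgroup of the symmetric group on n letters. Then the derived length of P is exactly k = ⌊log_p n⌋ (the largest k with p^k ≤ n): the k-th derived subgroup of P is trivial and, when k ≥ 1, the (k−1)-st is not. -/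
theorem result (p : ℕ) [Fact p.Prime] (n : ℕ) (hn : 1 ≤ n) (P : Sylow p (Equiv.Perm (Fin n))) : derivedSeries ↥(P : Subgroup (Equiv.Perm (Fin n))) (Nat.log p n) = ⊥ ∧ (1 ≤ Nat.log p n → derivedSeries ↥(P : Subgroup (Equiv.Perm (Fin n))) (Nat.log p n - 1) ≠ ⊥) := by
  have hp : p.Prime := Fact.out
  refine ⟨upper _ P.2 (by simpa using Nat.lt_pow_succ_log_self hp.one_lt n), fun h e => ?_⟩
  obtain ⟨k, hk⟩ := Nat.exists_eq_add_of_le' h
  let G := Multiplicative (ZMod p)
  have hG : Nat.card G = p := Nat.card_zmod p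
  have := Fintype.ofFinite (Fin (k + 1) → G)
  obtain ⟨ι⟩ := Function.Embedding.nonempty_of_card_le (α := Fin (k + 1) → G) (β := Fin n) (by
    rw [← Nat.card_eq_fintype_card, Nat.card_fun, hG, Nat.card_fin, Fintype.card_fin, ← hk]; exact Nat.pow_log_le_self p (by omega))
  let f := (Perm.viaEmbeddingHom ι).comp (iteratedWreathToPermHom G (k + 1))
  have hf : Function.Injective f := (Perm.viaEmbeddingHom_injective ι).comp (iteratedWreathToPermHomInj G _)
  obtain ⟨Q, hQ⟩ := ((IsPGroup.of_card (by rw [IteratedWreathProduct.card, hG])).of_surjective _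
    f.rangeRestrict_surjective).exists_le_sylow
  let g := (Q.equiv P).toMonoidHom.comp (f.codRestrict Q fun x => hQ ⟨x, rfl⟩)
  have := map_derivedSeries_le_derivedSeries g k
  rw [hk, Nat.add_sub_cancel] at e
  rw [e, le_bot_iff, map_eq_bot_iff_of_injective _ ((Q.equiv P).injective.comp fun a b h =>
    hf (congrArg Subtype.val h))] at this
  exact iter G k this

end Cfsg.Agent.S4014
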