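import Cfsg.Statements.S3835
import Cfsg.Agent.Lib.PLocal.QdFacts
import Cfsg.Agent.Lib.PLocal.SL2Mod
import Cfsg.Agent.S4014

set_option autoImplicit false
open Cfsg

namespace Cfsg.Agent.S3835

open Cfsg.Lib Cfsg.Lib.PLocal Cfsg.Lib.Root Subgroup MulAction Equiv Matrix
open scoped MatrixGroups

variable {p : ℕ}

def act (g : qd p) (v : Fin 2 → ZMod p) : Fin 2 → ZMod p :=
  ![g.1.1 0 0 * v 0 + g.1.1 0 1 * v 1 + g.1.1 0 2, g.1.1 1 0 * v 0 + g.1.1 1 1 * v 1 + g.1.1 1 2]

theorem act_qdElt (A : SL(2, ZMod p)) (t v : Fin 2 → ZMod p) : act (qdElt A t) v = t + A.1 *ᵥ v := by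
  ext i
  fin_cases i <;> simp [act, qdElt, affMat, mulVec, dotProduct, add_comm]

@[reducible] def mulAct : MulAction (qd p) (Fin 2 → ZMod p) where
  smul := act
  one_smul v := by change act 1 v = v; rw [← qdElt_one, act_qdElt]; simp
  mul_smul g h v := by
    obtain ⟨A, s, rfl⟩ := exists_qdElt g
    obtain ⟨B, t, rfl⟩ := exists_qdElt h
    change act _ v = act _ (act _ v)
    rw [qdElt_mul, act_qdElt, act_qdElt, act_qdElt, mulVec_add, add_assoc, mulVec_mulVec]
    rfl

theorem hom_eq_one [Fact p.Prime] (hp : p ≠ 2) (s : qd p →* ℤˣ) (g : qd p) : s g = 1 := by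
  have h2 : (2 : ZMod p) ≠ 0 := fun h => hp ((Nat.prime_dvd_prime_iff_eq Fact.out Nat.prime_two).1
    ((ZMod.natCast_eq_zero_iff 2 p).1 h))
  have := NeZero.mk h2
  obtain ⟨A, v, rfl⟩ := exists_qdElt g
  have h1 : qdElt A v = qdElt 1 ((2⁻¹ : ZMod p) • v) * qdElt 1 ((2⁻¹ : ZMod p) • v) * qdElt A 0 := by
    simp [qdElt_mul, ← two_smul (ZMod p), smul_smul, h2]
  rw [h1, map_mul, map_mul, Int.units_mul_self, one_mul]
  have h3 : ∀ B : SL(2, ZMod p), s (qdElt (B * B) 0) = 1 := fun B => by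
    rw [← Int.units_mul_self (s (qdElt B 0)), ← map_mul, qdElt_mul]; simp
  refine sl2_induction (P := fun A => s (qdElt A 0) = 1) (fun B C hB hC => ?_) (fun t => ?_) (fun t => ?_) A
  · simpa [← map_mul, qdElt_mul] using congrArg₂ (· * ·) hB hC
  · rw [← h3 (xU (t / 2)), ← xU_add, add_halves]
  · rw [← h3 (xL (t / 2)), ← xL_add, add_halves]

/-- Let p be an odd prime and n a natural number. The alternating group of degree n has a subgroup isomorphic to Qd(p) (the natural semidirect product of an elementary abelian group of order p² by SL₂(p)) if and only if n ≥ p²; and if n < p² then Qd(p) is not even involved in it. -/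
theorem result {p : ℕ} [Fact p.Prime] (hp : p ≠ 2) (n : ℕ) : ((∃ H : Subgroup (alternatingGroup (Fin n)), Nonempty (↥H ≃* ↥(Cfsg.qd p))) ↔ p ^ 2 ≤ n) ∧ (n < p ^ 2 → ¬ Cfsg.Involves ↥(Cfsg.qd p) ↥(alternatingGroup (Fin n))) := by
  have hpp : p.Prime := Fact.out
  have key : n < p ^ 2 → ¬ Involves (qd p) (alternatingGroup (Fin n)) := by
    rintro hn ⟨K, R, _, ⟨e⟩⟩
    let f : K →* qd p := e.toMonoidHom.comp (QuotientGroup.mk' _)
    have hf : Function.Surjective f := e.surjective.comp (QuotientGroup.mk'_surjective _)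
    obtain ⟨Q, hQ⟩ := (isPGroup_qdT (p := p)).exists_le_sylow
    obtain ⟨P, rfl⟩ := Sylow.mapSurjective_surjective hf p Q
    obtain ⟨x, hx, ex⟩ := hQ (heis_mem 1 0 0)
    obtain ⟨y, hy, ey⟩ := hQ (heis_mem 0 0 1)
    let i : K →* Perm (Fin n) := (alternatingGroup _).subtype.comp K.subtype
    have h1 := S4014.upper (j := 1) _ (P.2.map i) (by simpa using hn)
    have h2 := commutatorElement_eq_one_iff_mul_comm.1 (mem_bot.1 (h1.le (commutator_mem_commutator
      (mem_top ⟨i x, x, hx, rfl⟩) (mem_top ⟨i y, y, hy, rfl⟩))))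
    have h3 : x * y = y * x := Subtype.ext (Subtype.ext (congrArg Subtype.val h2 :))
    have h4 := congrArg f h3
    rw [map_mul, map_mul, ex, ey, heis_mul, heis_mul] at h4
    simpa using (heis_inj h4).2.1
  refine ⟨⟨fun ⟨H, ⟨e⟩⟩ => not_lt.1 fun hn => key hn ⟨H, ⊥, inferInstance,
    ⟨((QuotientGroup.quotientMulEquivOfEq (bot_subgroupOf H)).trans QuotientGroup.quotientBot).trans e⟩⟩,
    fun hn => ?_⟩, key⟩
  obtain ⟨ι⟩ := Function.Embedding.nonempty_of_card_le (α := Fin 2 → ZMod p) (β := Fin n) (by simpa using hn)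
  letI := mulAct (p := p)
  let f := (Perm.viaEmbeddingHom ι).comp (toPermHom (qd p) (Fin 2 → ZMod p))
  have hf : Function.Injective f := by
    refine (Perm.viaEmbeddingHom_injective ι).comp ((injective_iff_map_eq_one _).2 fun g hg => ?_)
    obtain ⟨A, t, rfl⟩ := exists_qdElt g
    have h : ∀ v, t + A.1 *ᵥ v = v := fun v => (act_qdElt A t v).symm.trans (DFunLike.congr_fun hg v)
    obtain rfl : t = 0 := by simpa using h 0
    rw [show A = 1 from Subtype.ext (Matrix.ext_of_mulVec_single fun i => 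
      ((zero_add _).symm.trans (h _)).trans (one_mulVec _).symm),
      qdElt_one]
  let g : qd p →* alternatingGroup (Fin n) := f.codRestrict _ fun g =>
    Perm.mem_alternatingGroup.2 (hom_eq_one hp (Perm.sign.comp f) g)
  exact ⟨g.range, ⟨(MonoidHom.ofInjective fun a b h => hf (congrArg Subtype.val h)).symm⟩⟩

end Cfsg.Agent.S3835
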