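import Cfsg.Statements.S3869
import Cfsg.Agent.Lib.BG.Hall
import Cfsg.Agent.Lib.FGS.MinClosed
import Cfsg.Agent.Lib.FGS.Sylow

set_option autoImplicit false
open Cfsg

namespace Cfsg.Agent.S3869

/-- Let p and q be distinct primes and G a finite non-abelian group with a normal elementary abelian q-subgroup A that is a minimal normal subgroup of G and has index p. Then A has order q^e with e the multiplicative order of q modulo p, and G is minimal non-p-closed: its Sylow p-subgroups are not normal, while in every proper subgroup and in every proper quotient of G the Sylow p-subgroups are normal. -/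
theorem result {G : Type*} [Group G] [Finite G] {p q : ℕ} [Fact p.Prime] (hq : q.Prime) (hpq : q ≠ p)
    (hna : ¬ IsMulCommutative G) (A : Subgroup G) [A.Normal] (hA : Cfsg.IsElementaryAbelian q A) (hidx : A.index = p)
    (hmin : ∀ B : Subgroup G, B.Normal → B ≤ A → B = ⊥ ∨ B = A) :
    Nat.card ↥A = q ^ orderOf (q : ZMod p) ∧ ¬ Cfsg.IsPClosed p G ∧ (∀ H : Subgroup G, H ≠ ⊤ → Cfsg.IsPClosed p ↥H) ∧
      ∀ (N : Subgroup G) [N.Normal], N ≠ ⊥ → Cfsg.IsPClosed p (G ⧸ N) := by
  open Subgroup Cfsg.Lib Cfsg.Lib.BG Cfsg.Lib.Transfer in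
  open Cfsg.Lib.FGS in
  have hp : p.Prime := Fact.out
  haveI := Fact.mk hq
  have hAq := Core.isPGroup_of_isElementaryAbelian hA
  have hcop : (Nat.card A).Coprime p := by
    obtain ⟨k, hk⟩ := hAq.exists_card_eq
    exact hk ▸ ((Nat.coprime_primes hq hp).2 hpq).pow_left k
  have hco : IsCoatom A := PGroup.isCoatom_of_index_prime (hidx ▸ hp)
  have hAc : A ≤ 𝐂(A) := le_centralizer_iff_isMulCommutative.2 hA.1
  have hsup : ∀ H : Subgroup G, ¬ H ≤ A → H ⊔ A = ⊤ := fun H h => Core.sup_eq_top_of_isCoatom hco h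
  have hnc : ∀ y, y ∉ A → y ∉ 𝐂(A) := fun y h1 h2 => hna (Solv.isMulCommutative_of_top
    (hsup _ (mt zpowers_le.1 h1) ▸ Solv.isMulCommutative_sup inferInstance hA.1 (zpowers_le.2 h2)))
  have hpow : ∀ g : G, g ^ p ∈ A := fun g => hidx ▸ A.pow_index_mem g
  have hinv : ∀ H B : Subgroup G, ¬ H ≤ A → B ≤ A → H ≤ 𝐍(B) → B = ⊥ ∨ B = A := fun H B h1 h2 h3 =>
    hmin B (normalizer_eq_top_iff.1 (top_le_iff.1 (hsup H h1 ▸ sup_le h3
      ((le_centralizer_iff.1 (h2.trans hAc)).trans (centralizer_le_normalizer _))))) h2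
  obtain ⟨x, hx⟩ := exists_prime_orderOf_dvd_card' (G := G) p (hidx ▸ A.index_dvd_card)
  have hxA : x ∉ A := fun h => hp.one_lt.ne' (hcop.symm.eq_one_of_dvd (hx ▸ A.orderOf_dvd_natCard h))
  refine ⟨card_eq_pow_orderOf hq hA (hx ▸ pow_orderOf_eq_one x) (hnc x hxA) fun B h1 h2 =>
    hinv _ B (mt zpowers_le.1 hxA) h1 (zpowers_le.2 h2), fun h => hnc x hxA ?_, fun H hH => ?_, fun N _ hN => ?_⟩
  · exact cent_of_isPClosed (Loc.isPClosed_top_iff.2 h) le_top
      (isPGroup_zpowers_of_pow (k := 1) (by rw [pow_one, ← hx, pow_orderOf_eq_one])) le_top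
      le_normalizer_of_normal hcop (mem_zpowers x)
  · by_cases h : H ≤ A
    · exact Loc.isPClosed_of_coprime (hcop.coprime_dvd_left (card_dvd_of_le h))
    rcases hinv H (H ⊓ A) h inf_le_right
      ((le_inf le_normalizer le_normalizer_of_normal).trans inf_normalizer_le_normalizer_inf) with e | e
    · refine Loc.isPClosed_of_isPGroup fun g => ⟨1, Subtype.ext ?_⟩
      have : (g : G) ^ p ∈ H ⊓ A := ⟨pow_mem g.2 p, hpow g⟩
      simpa [e] using this
    · exact absurd (by rw [← hsup H h, sup_eq_left.2 (inf_eq_right.1 e)]) hH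
  · rcases hmin (N ⊓ A) inferInstance inf_le_right with e | e
    · obtain ⟨⟨y, hy⟩, hy1⟩ := ne_bot_iff_exists_ne_one.1 hN
      refine absurd (cent_of_norm_of_disjoint le_normalizer_of_normal le_normalizer_of_normal e hy)
        (hnc y fun h => hy1 (Subtype.ext ?_))
      exact mem_bot.1 (e ▸ (⟨hy, h⟩ : y ∈ N ⊓ A))
    · refine Loc.isPClosed_top_iff.1 (Loc.isPClosed_of_isPGroup fun g => ⟨1, Subtype.ext ?_⟩)
      obtain ⟨g, -⟩ := g
      obtain ⟨g, rfl⟩ := QuotientGroup.mk_surjective g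
      simpa using (QuotientGroup.eq_one_iff (g ^ p)).2 (inf_eq_right.1 e (hpow g))

end Cfsg.Agent.S3869
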