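import Cfsg.Statements.S3870
import Cfsg.Agent.Lib.FGS.Sylow

set_option autoImplicit false
open Cfsg

namespace Cfsg.Agent.S3870

/-- Let G be a finite simple group whose Sylow p-subgroups are not normal but such that every proper subgroup of G has a normal Sylow p-subgroup. Then any two distinct Sylow p-subgroups of G intersect trivially, and for every Sylow p-subgroup P the normalizer of every non-identity subgroup of P lies in the normalizer of P. -/
theorem result {G : Type*} [Group G] [Finite G] [IsSimpleGroup G] {p : ℕ} [Fact p.Prime]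
    (hnc : ¬ Cfsg.IsPClosed p G) (hsub : ∀ H : Subgroup G, H ≠ ⊤ → Cfsg.IsPClosed p ↥H) :
    (∀ P Q : Sylow p G, P ≠ Q → (P : Subgroup G) ⊓ (Q : Subgroup G) = ⊥) ∧
      ∀ (P : Sylow p G) (R : Subgroup G), R ≤ P → R ≠ ⊥ →
        Subgroup.normalizer (R : Set G) ≤ Subgroup.normalizer ((P : Subgroup G) : Set G) := by
  open Cfsg.Lib Cfsg.Lib.Transfer Cfsg.Lib.FGS Subgroup in
  have h1 : ∀ P Q : Sylow p G, P ≠ Q → (P : Subgroup G) ⊓ (Q : Subgroup G) = ⊥ := by
    refine sylow_ti_of_local fun R hR h0 A B hA hB _ _ hA' hB' => ?_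
    have hn : normalizer (R : Set G) ≠ ⊤ := fun h => by
      rcases (normalizer_eq_top_iff.mp h).eq_bot_or_eq_top with h | h
      · exact h0 h
      · refine hnc fun P => ?_
        rw [← eq_sylow_of_le P hR (h ▸ le_top), h]
        infer_instance
    obtain ⟨S⟩ : Nonempty (Sylow p (normalizer (R : Set G))) := inferInstance
    exact isPGroup_sup_of_normal_sylow S (hsub _ hn S) hA hB hA' hB'
  refine ⟨h1, fun P R hR h0 g hg => ?_⟩
  by_contra h
  refine h0 (eq_bot_iff.mpr ?_)
  rw [← h1 (g • P) P fun h' => h (smul_eq_self_iff.mp h')]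
  exact le_inf (conj_eq_self_iff.mpr hg ▸ conj_mono g hR) hR

end Cfsg.Agent.S3870
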