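import Cfsg.Statements.S3872
import Cfsg.Agent.Lib.BG.Hall
import Cfsg.Agent.Lib.FGS.MinClosed
import Cfsg.Agent.Lib.FGS.Sylow
import Cfsg.Agent.Lib.FGS.Regular
import Cfsg.Agent.Lib.PGroup.MaxClass
import Cfsg.Agent.Lib.PGroup.RankOne

set_option autoImplicit false
open Cfsg

namespace Cfsg.Agent.S3872

/-- Say that a finite group is p-exponent closed when its elements of order dividing p form a subgroup. Let G be a finite p-group that is not p-exponent closed, but all of whose proper subgroups and proper quotients are. Then G is generated by two elements, has nilpotency class at least p, has exponent p², has cyclic center, and has order at least p^(p+1). -/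
theorem result {G : Type*} [Group G] [Finite G] {p : ℕ} [Fact p.Prime] (hG : IsPGroup p G)
    (hnc : ¬ (∃ H : Subgroup G, (H : Set G) = {g : G | g ^ p = 1})) (hsub : ∀ K : Subgroup G, K ≠ ⊤ → (∃ H : Subgroup ↥K, (H : Set ↥K) = {g : ↥K | g ^ p = 1}))
    (hquo : ∀ (N : Subgroup G) [N.Normal], N ≠ ⊥ → (∃ H : Subgroup (G ⧸ N), (H : Set (G ⧸ N)) = {g : (G ⧸ N) | g ^ p = 1})) :
    (∃ x y : G, Subgroup.closure ({x, y} : Set G) = ⊤) ∧ (⊤ : Subgroup G).lowerCentralSeries (p - 1) ≠ ⊥ ∧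
      Monoid.exponent G = p ^ 2 ∧ IsCyclic ↥(Subgroup.center G) ∧ p ^ (p + 1) ≤ Nat.card G := by
  open Subgroup Cfsg.Lib Cfsg.Lib.BG Cfsg.Lib.Transfer in
  open Cfsg.Lib.FGS in
  have hp : p.Prime := Fact.out
  have hq := pow_mem_of_min_exp hnc hsub hquo
  have hcl : (⊤ : Subgroup G).lowerCentralSeries (p - 1) ≠ ⊥ := fun h =>
    hnc ⟨(RegP.reg_of_class hG h).om1, Set.ext fun _ => (RegP.reg_of_class hG h).mem_om1⟩
  obtain ⟨g, hg⟩ : ∃ g : G, g ^ p ≠ 1 := by
    by_contra! h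
    exact hnc ⟨⊤, Set.ext fun x => ⟨fun _ => h x, fun _ => mem_top x⟩⟩
  have hZ : ∀ z ∈ center G, (zpowers z).Normal := fun z hz => ⟨fun a ha g => by
    rwa [mem_center_iff.1 (zpowers_le.2 hz ha) g, mul_inv_cancel_right]⟩
  have hzp : ∀ z ∈ center G, z ≠ 1 → z ^ p = 1 → ∀ x : G, x ^ p ∈ zpowers z := fun z hz h1 _ x =>
    haveI := hZ z hz
    hq _ (mt zpowers_eq_bot.1 h1) x
  haveI : Nontrivial G := ⟨⟨g, 1, fun e => hg (by rw [e, one_pow])⟩⟩
  haveI := hG.center_nontrivial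
  obtain ⟨z, hz, hzo⟩ := Core.exists_mem_orderOf_eq_prime (H := center G) hp
    ((hG.to_subgroup _).card_eq_or_dvd.resolve_left Finite.one_lt_card.ne')
  have hz1 : z ≠ 1 := fun e => hp.one_lt.ne (by rw [← hzo, e, orderOf_one])
  have hzp1 : z ^ p = 1 := hzo ▸ pow_orderOf_eq_one z
  refine ⟨?_, hcl, ?_, ?_, ?_⟩
  · by_contra! h
    refine hnc ⟨⟨⟨⟨{g | g ^ p = 1}, fun {x y} hx hy => ?_⟩, one_pow p⟩, fun {x} hx => ?_⟩, rfl⟩
    · obtain ⟨L, hL⟩ := hsub _ (h x y)
      have h1 : (⟨x, RegP.left_mem x y⟩ : closure {x, y}) ∈ (L : Set _) := by rw [hL]; exact Subtype.ext hx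
      have h2 : (⟨y, RegP.right_mem x y⟩ : closure {x, y}) ∈ (L : Set _) := by rw [hL]; exact Subtype.ext hy
      have h3 := SetLike.mem_coe.2 (L.mul_mem h1 h2)
      rw [hL] at h3
      exact congrArg Subtype.val h3
    · change x⁻¹ ^ p = 1
      rw [inv_pow, show x ^ p = 1 from hx, inv_one]
  · have h1 : Monoid.exponent G ∣ p ^ 2 := Monoid.exponent_dvd_of_forall_pow_eq_one fun x => by
      obtain ⟨k, hk⟩ := hzp z hz hz1 hzp1 x
      rw [sq, pow_mul, ← hk, ← zpow_natCast, ← zpow_mul, mul_comm, zpow_mul, zpow_natCast, hzp1, one_zpow]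
    obtain ⟨k, hk, e⟩ := (Nat.dvd_prime_pow hp).1 h1
    rw [e]
    congr 1
    by_contra hk2
    exact hg (orderOf_dvd_iff_pow_eq_one.1 ((Monoid.order_dvd_exponent g).trans
      (e ▸ (pow_dvd_pow p (by omega : k ≤ 1)).trans (pow_one p).dvd)))
  · refine PGroup.isCyclic_of_isMulCommutative_of_pRankLE_one (hG.to_subgroup _) inferInstance
      fun A _ hA => ?_
    have hgo : orderOf (g ^ p) = p := by
      obtain ⟨k, hk⟩ := hzp z hz hz1 hzp1 g
      refine orderOf_eq_prime ?_ hg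
      rw [← hk, ← zpow_natCast, ← zpow_mul, mul_comm, zpow_mul, zpow_natCast, hzp1, one_zpow]
    rw [pow_one, ← hgo, ← Nat.card_zpowers, ← card_subtype (center G) A]
    refine card_le_of_le ?_
    rintro _ ⟨a, ha, rfl⟩
    by_cases h1 : (a : G) = 1
    · rw [coe_subtype, h1]; exact one_mem _
    have h2 : (a : G) ^ p = 1 := congrArg Subtype.val (hA a ha)
    have h3 := eq_of_le_of_card_ge (zpowers_le.2 (hzp a a.2 h1 h2 g))
      (by rw [Nat.card_zpowers, Nat.card_zpowers, hgo, orderOf_eq_prime h2 h1])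
    exact h3 ▸ mem_zpowers _
  · obtain ⟨n, hn⟩ := hG.exists_card_eq
    rw [hn]
    refine Nat.pow_le_pow_right hp.pos ?_
    by_contra h
    obtain ⟨k, hk⟩ : ∃ k, p = k + 2 := ⟨p - 2, by have := hp.two_le; omega⟩
    refine hcl (by
      have := PGroup.lowerCentralSeries_eq_bot_of_card_le (H := ⊤) (hG.to_subgroup _) (k := k)
        (by rw [card_top, hn]; exact Nat.pow_le_pow_right hp.pos (by omega))
      rwa [show p - 1 = k + 1 by omega])

end Cfsg.Agent.S3872
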