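import Cfsg.Statements.S3873
import Cfsg.Agent.Lib.BG.Hall
import Cfsg.Agent.Lib.FGS.MinClosed
import Cfsg.Agent.Lib.FGS.Sylow

set_option autoImplicit false
open Cfsg

namespace Cfsg.Agent.S3873

/-- Say that a finite group is p-exponent closed when its elements of order dividing p form a subgroup. Let G be a finite group that is not p-exponent closed, but all of whose proper subgroups and proper quotients are, and suppose G is neither simple nor a p-group. Then there is a prime q ≠ p such that G has order p · q^e, where e is the multiplicative order of q modulo p, and G has a normal elementary abelian subgroup of order q^e that is a minimal normal subgroup of G. -/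
theorem result {G : Type*} [Group G] [Finite G] {p : ℕ} [Fact p.Prime]
    (hnc : ¬ (∃ H : Subgroup G, (H : Set G) = {g : G | g ^ p = 1})) (hsub : ∀ K : Subgroup G, K ≠ ⊤ → (∃ H : Subgroup ↥K, (H : Set ↥K) = {g : ↥K | g ^ p = 1}))
    (hquo : ∀ (N : Subgroup G) [N.Normal], N ≠ ⊥ → (∃ H : Subgroup (G ⧸ N), (H : Set (G ⧸ N)) = {g : (G ⧸ N) | g ^ p = 1}))
    (hns : ¬ IsSimpleGroup G) (hnp : ¬ IsPGroup p G) :
    ∃ q : ℕ, q.Prime ∧ q ≠ p ∧ Nat.card G = p * q ^ orderOf (q : ZMod p) ∧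
      ∃ A : Subgroup G, A.Normal ∧ Nat.card ↥A = q ^ orderOf (q : ZMod p) ∧ Cfsg.IsElementaryAbelian q A ∧
        ∀ B : Subgroup G, B.Normal → B ≤ A → B = ⊥ ∨ B = A := by
  open Subgroup Cfsg.Lib Cfsg.Lib.BG Cfsg.Lib.Transfer in
  open Cfsg.Lib.FGS in
  have hp : p.Prime := Fact.out
  have hq := pow_mem_of_min_exp hnc hsub hquo
  haveI : Nontrivial G := by
    by_contra h
    rw [not_nontrivial_iff_subsingleton] at h
    exact hnp fun g => ⟨0, Subsingleton.elim _ _⟩
  obtain ⟨N₀, hN₀, h0, h1⟩ : ∃ N : Subgroup G, N.Normal ∧ N ≠ ⊥ ∧ N ≠ ⊤ := by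
    by_contra! h
    exact hns ⟨fun N hN => or_iff_not_imp_left.2 (h N hN)⟩
  obtain ⟨N, hN, hNN⟩ := Core.exists_isMinNormal_le hN₀ h0
  haveI := hN.normal
  obtain ⟨E, hE⟩ := hsub N fun e => h1 (top_le_iff.1 (e ▸ hNN))
  have hE' : ∀ x : N, x ∈ E ↔ x ^ p = 1 := fun x => by rw [← SetLike.mem_coe, hE]; rfl
  have hN1 : ∀ x ∈ N, x ^ p = 1 → x = 1 := by
    rcases hN.min_invariant (E.map N.subtype) (fun g _ => mem_normalizer_of_conj_le (conj_le_iff.2 (by
      rintro _ ⟨y, hy, rfl⟩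
      refine ⟨⟨_, Normal.conj_mem ‹_› _ y.2 g⟩, (hE' _).2 (Subtype.ext ?_), rfl⟩
      have := congrArg Subtype.val ((hE' y).1 hy)
      simp only [SubgroupClass.coe_pow, OneMemClass.coe_one, conj_pow] at this ⊢
      simp [this]))) (map_subtype_le E) with e | e
    · exact fun x hx h => mem_bot.1 (e ▸ mem_map_of_mem N.subtype ((hE' ⟨x, hx⟩).2 (Subtype.ext h)))
    · refine absurd (fun g => ⟨2, ?_⟩) hnp
      obtain ⟨y, hy, e'⟩ : g ^ p ∈ E.map N.subtype := by rw [e]; exact hq N hN.ne_bot g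
      rw [sq, pow_mul, ← e', ← map_pow, (hE' y).1 hy, map_one]
  have hexp : ∀ (k : ℕ) (g : G), g ^ p ^ k = 1 → g ^ p = 1 := by
    intro k
    induction k with
    | zero => intro g hg; rw [pow_zero, pow_one] at hg; rw [hg, one_pow]
    | succ k ih =>
      intro g hg
      rw [pow_succ', pow_mul] at hg
      exact hN1 _ (hq N hN.ne_bot g) (ih _ hg)
  refine min_not_isPClosed (fun h => hnc ⟨pCore p G, Set.ext fun x => ⟨fun hx => ?_, fun hx => ?_⟩⟩)
    (fun H hH => ?_) (fun M _ hM => ?_) hns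
  · obtain ⟨k, hk⟩ := exists_pow_of_mem (Core.pCore_isPGroup p G) hx
    exact hexp k x hk
  · exact Loc.isPClosed_iff_top.1 h _ (isPGroup_zpowers_of_pow (k := 1) (by rwa [pow_one])) (mem_zpowers x)
  · obtain ⟨L, hL⟩ := hsub H hH
    have hL' : ∀ x : H, x ∈ L ↔ x ^ p = 1 := fun x => by rw [← SetLike.mem_coe, hL]; rfl
    refine Loc.isPClosed_iff_top.2 fun T hT => le_trans (fun x hx => ?_) (Core.le_pCore (N := L) ⟨fun x hx g => ?_⟩
      fun x => ⟨1, Subtype.ext (by simpa using (hL' x).1 x.2)⟩)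
    · obtain ⟨k, hk⟩ := exists_pow_of_mem hT hx
      exact (hL' x).2 (Subtype.ext (hexp k x (congrArg Subtype.val hk)))
    · rw [hL'] at hx ⊢
      rw [conj_pow, hx]; simp
  · refine Loc.isPClosed_top_iff.1 (Loc.isPClosed_of_isPGroup fun g => ⟨1, Subtype.ext ?_⟩)
    obtain ⟨g, -⟩ := g
    obtain ⟨g, rfl⟩ := QuotientGroup.mk_surjective g
    simpa using (QuotientGroup.eq_one_iff (g ^ p)).2 (hq M hM g)

end Cfsg.Agent.S3873
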