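import Cfsg.Statements.S3875
import Cfsg.Agent.Lib.FGS.MinClosed
import Cfsg.Agent.Lib.Cyc.Brauer2
import Cfsg.Agent.Lib.PSL2.Proper

set_option autoImplicit false
open Cfsg

namespace Cfsg.Agent.S3875

open Subgroup Cfsg.Lib Cfsg.Lib.Cyc in
theorem lower (p : ℕ) [hp : Fact p.Prime] (m : ℕ)
    (hleast : ∀ k : ℕ, IsPrimePow k → k % p = 1 → m ≤ k) (n : ℕ) :
    ∀ (H : Type) [Group H] [Finite H], Nat.card H = n → ¬ IsPClosed p H →
      min (p * m) (p * (p ^ 2 - 1) / 2) ≤ n := by
  induction n using Nat.strong_induction_on with | _ n ih => ?_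
  intro H _ _ hn h
  by_cases h1 : ∃ K : Subgroup H, K ≠ ⊤ ∧ ¬ IsPClosed p K
  · obtain ⟨K, h1, h2⟩ := h1
    have h3 : Nat.card K < n := hn ▸ (card_le_card_group K).lt_of_ne fun e =>
      h1 (eq_top_of_card_eq K e)
    exact (ih _ h3 K rfl h2).trans h3.le
  by_cases h2 : ∃ (N : Subgroup H) (_ : N.Normal), N ≠ ⊥ ∧ ¬ IsPClosed p (H ⧸ N)
  · obtain ⟨N, _, h2, h3⟩ := h2
    have h4 : Nat.card (H ⧸ N) < n := by
      rw [← hn, card_eq_card_quotient_mul_card_subgroup N]
      exact lt_mul_of_one_lt_right Nat.card_pos ((one_lt_card_iff_ne_bot N).2 h2)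
    exact (ih _ h4 _ rfl h3).trans h4.le
  push Not at h1 h2
  by_cases hs : IsSimpleGroup H
  · refine (min_le_right _ _).trans ?_
    obtain ⟨P, hP⟩ := not_forall.1 h
    by_cases h3 : n < p ^ 3
    · have h4 : commutator H = ⊤ := (hs.eq_bot_or_eq_top_of_normal _ inferInstance).resolve_left
        fun e => hP ⟨fun a ha g => by
          have : g * a * g⁻¹ * a⁻¹ = 1 := mem_bot.1 (e ▸ commutator_mem_commutator (mem_top g) (mem_top a))
          rwa [mul_inv_eq_one.1 this]⟩
      have h5 := brauer_of_lt_cube h4 (hn ▸ h3) P hP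
      have h6 : Nat.card (H ⧸ pPrimeCore p H) ≤ n := hn ▸ Nat.le_of_dvd Nat.card_pos
        (card_quotient_dvd_card _)
      refine le_trans ?_ h6
      rcases h5.card with h7 | h7
      · omega
      · rw [h7]
        obtain ⟨q, rfl⟩ := Nat.exists_eq_add_of_le' (show 4 ≤ p from h5.1)
        rcases q with _ | q
        · exact absurd hp.out (by norm_num)
        refine Nat.div_le_of_le_mul ?_
        rw [show (q + 1 + 4) ^ 2 = (q + 4) * (q + 6) + 1 by ring, Nat.add_sub_cancel,
          show q + 1 + 4 - 1 = q + 4 from rfl, show q + 1 + 4 - 2 = q + 3 from rfl]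
        nlinarith [Nat.zero_le (q * q * q), Nat.zero_le (q * q)]
    · refine (Nat.div_le_self _ _).trans (le_trans ?_ (not_lt.1 h3))
      rw [pow_succ' p 2]
      exact Nat.mul_le_mul_left _ (Nat.sub_le _ _)
  · obtain ⟨q, hq, hqp, h3, -⟩ := FGS.min_not_isPClosed h h1 (fun N _ => h2 N _) hs
    refine (min_le_left _ _).trans (hn ▸ h3 ▸ Nat.mul_le_mul_left _ (hleast _ ?_ ?_))
    · have h4 : (q : ZMod p) ≠ 0 := fun e =>
        hqp ((Nat.prime_dvd_prime_iff_eq hp.out hq).1 ((ZMod.natCast_eq_zero_iff q p).1 e)).symm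
      exact hq.isPrimePow.pow (isOfFinOrder_iff_pow_eq_one.2
        ⟨p - 1, Nat.sub_pos_of_lt hp.out.one_lt, ZMod.pow_card_sub_one_eq_one h4⟩).orderOf_pos.ne'
    · have h4 := pow_orderOf_eq_one (q : ZMod p)
      rw [← Nat.cast_pow, ← Nat.cast_one, ZMod.natCast_eq_natCast_iff', Nat.mod_eq_of_lt hp.out.one_lt] at h4
      exact h4

/-- The affine action of the roots of unity. -/
noncomputable def act (p : ℕ) (F : Type) [Field F] : rootsOfUnity p F →* MulAut (Multiplicative F) :=
  (MulAutMultiplicative F).symm.toMonoidHom.comp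
    ((AddAut.mulLeft (R := F)).comp (rootsOfUnity p F).subtype)

theorem exists_affine (p : ℕ) [hp : Fact p.Prime] (m : ℕ) (hm : IsPrimePow m) (hm1 : m % p = 1) :
    ∃ (H : Type) (_ : Group H) (_ : Finite H), Nat.card H = p * m ∧ ¬ IsPClosed p H := by
  obtain ⟨q, k, hq, hk, rfl⟩ := (isPrimePow_nat_iff m).1 hm
  haveI := Fact.mk hq
  let F := GaloisField q k
  have hF : Nat.card F = q ^ k := GaloisField.card q k hk.ne'
  have h1 : p ∣ Nat.card Fˣ := by
    rw [Nat.card_units, hF]
    exact (Nat.modEq_iff_dvd' (Nat.pos_of_ne_zero (pow_ne_zero _ hq.ne_zero))).1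
      (by rw [Nat.ModEq, hm1, Nat.mod_eq_of_lt hp.out.one_lt])
  obtain ⟨z, hz⟩ := exists_prime_orderOf_dvd_card' p h1
  have hz' : IsPrimitiveRoot z p := hz ▸ IsPrimitiveRoot.orderOf z
  haveI : NeZero p := ⟨hp.out.ne_zero⟩
  have h2 : Nat.card (rootsOfUnity p F) = p := hz'.card_rootsOfUnity'
  refine ⟨Multiplicative F ⋊[act p F] rootsOfUnity p F, inferInstance,
    Finite.of_equiv _ SemidirectProduct.equivProd.symm, ?_, fun h => ?_⟩
  · rw [SemidirectProduct.card, h2, mul_comm]
    exact congrArg _ hF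
  · let ζ : rootsOfUnity p F := ⟨z, (mem_rootsOfUnity p z).2 hz'.pow_eq_one⟩
    let a : Multiplicative F ⋊[act p F] rootsOfUnity p F := .inr ζ
    let b : Multiplicative F ⋊[act p F] rootsOfUnity p F := .inl (.ofAdd 1)
    obtain ⟨P, hP⟩ := (IsPGroup.of_card (p := p) (n := 1) (G := (SemidirectProduct.inr (φ := act p F)).range)
      (by rw [pow_one, ← Nat.card_congr (MonoidHom.ofInjective
        SemidirectProduct.inr_injective).toEquiv, h2])
      ).exists_le_sylow
    have h3 : a ∈ (P : Subgroup _) := hP ⟨ζ, rfl⟩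
    have h4 := mul_mem ((h P).conj_mem a h3 b) (inv_mem h3)
    have h5 : b * a * b⁻¹ * a⁻¹ = .inl (.ofAdd (1 - (z : F))) := by
      rw [mul_assoc, mul_assoc, ← mul_assoc a, ← map_inv SemidirectProduct.inl,
        ← map_inv SemidirectProduct.inr, ← SemidirectProduct.inl_aut,
        ← map_mul, sub_eq_add_neg, ofAdd_add]
      congr 2
      change Multiplicative.ofAdd ((z : F) * -1) = _
      rw [mul_neg_one]
    rw [h5] at h4
    obtain ⟨j, hj⟩ := P.isPGroup' ⟨_, h4⟩
    have h6 : ((p ^ j : ℕ) : F) * (1 - z) = 0 := by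
      have := congrArg Subtype.val hj
      simp only [SubmonoidClass.mk_pow, OneMemClass.coe_one, ← map_pow] at this
      have h7 := SemidirectProduct.inl_injective (this.trans (map_one _).symm)
      rw [← ofAdd_nsmul, ofAdd_eq_one] at h7
      rwa [← nsmul_eq_mul]
    rcases mul_eq_zero.1 h6 with h7 | h7
    · have h8 := (Nat.prime_dvd_prime_iff_eq hq hp.out).1
        (hq.dvd_of_dvd_pow ((CharP.cast_eq_zero_iff F q _).1 h7))
      rw [← h8, Nat.mod_eq_zero_of_dvd (dvd_pow_self q hk.ne')] at hm1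
      exact zero_ne_one hm1
    · exact hz'.ne_one hp.out.one_lt (Units.ext (sub_eq_zero.1 h7).symm)

open Cfsg.Lib in
theorem exists_psl (p : ℕ) [hp : Fact p.Prime] (h : 3 < p) :
    ∃ (H : Type) (_ : Group H) (_ : Finite H), Nat.card H = p * (p ^ 2 - 1) / 2 ∧
      ¬ IsPClosed p H := by
  have h1 := PSL2.card_PSL2_mul (K := ZMod p)
  rw [Nat.card_zmod, Nat.gcd_eq_left (by have := hp.out.eq_two_or_odd; omega)] at h1
  have := PSL2.isSimpleGroup_psl (F := ZMod p) (by rw [Nat.card_zmod]; omega)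
  refine ⟨Matrix.ProjectiveSpecialLinearGroup (Fin 2) (ZMod p), inferInstance, inferInstance,
    by omega, fun h2 => ?_⟩
  obtain ⟨P⟩ : Nonempty (Sylow p (Matrix.ProjectiveSpecialLinearGroup (Fin 2) (ZMod p))) :=
    inferInstance
  have h3 := PSL2.card_dvd_card_psl (F := ZMod p)
  rw [Nat.card_zmod] at h3
  rcases this.eq_bot_or_eq_top_of_normal _ (h2 P) with h4 | h4
  · exact P.ne_bot_of_dvd_card h3 h4
  · obtain ⟨k, hk⟩ := IsPGroup.iff_card.1 P.isPGroup'
    rw [h4, Subgroup.card_top] at hk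
    have h5 : p ^ 2 - 1 + 1 = p * p := by rw [Nat.sub_add_cancel (Nat.one_le_pow _ _ hp.out.pos), sq]
    rw [hk] at h1 h3
    rcases k with _ | _ | k
    · exact hp.out.not_dvd_one h3
    · have h6 : p * (p ^ 2 - 1) = p * 2 := by rw [← h1]; ring
      rw [Nat.eq_of_mul_eq_mul_left hp.out.pos h6] at h5
      nlinarith
    · have h6 : p * (p ^ 2 - 1) = p * (p * (2 * p ^ k)) := by rw [← h1]; ring
      exact hp.out.not_dvd_one ((Nat.dvd_add_right ⟨_, Nat.eq_of_mul_eq_mul_left hp.out.pos h6⟩).1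
        ⟨p, h5⟩)

/-- Let p be an odd prime and let m be the least prime power congruent to 1 modulo p. Then the least order of a finite group whose Sylow p-subgroups are not normal is the smaller of p · m and p(p² − 1)/2: every finite group whose Sylow p-subgroups are not normal has at least that order, and some group of exactly that order has non-normal Sylow p-subgroups. -/
theorem result (p : ℕ) [Fact p.Prime] (hp : p ≠ 2) (m : ℕ) (hm : IsPrimePow m) (hm1 : m % p = 1)
    (hleast : ∀ k : ℕ, IsPrimePow k → k % p = 1 → m ≤ k) :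
    (∀ (H : Type) [Group H] [Finite H], ¬ Cfsg.IsPClosed p H → min (p * m) (p * (p ^ 2 - 1) / 2) ≤ Nat.card H) ∧
      ∃ (H : Type) (_ : Group H) (_ : Finite H), Nat.card H = min (p * m) (p * (p ^ 2 - 1) / 2) ∧ ¬ Cfsg.IsPClosed p H := by
  refine ⟨fun H _ _ h => lower p m hleast _ H rfl h, ?_⟩
  rcases le_total (p * m) (p * (p ^ 2 - 1) / 2) with h | h
  · rw [min_eq_left h]
    exact exists_affine p m hm hm1
  · have h2 := (Fact.out : p.Prime).two_le
    rcases (show 3 ≤ p by omega).eq_or_lt with rfl | h3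
    · have h4 := hleast 4 (by decide) rfl
      rw [min_eq_left (by omega)]
      exact exists_affine 3 m hm hm1
    · rw [min_eq_right h]
      exact exists_psl p h3

end Cfsg.Agent.S3875
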