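import Cfsg.Statements.S3889

set_option autoImplicit false
open Cfsg

namespace Cfsg.Agent.S3889

/-- A finite abelian group that is the union of a family of proper subgroups any two of which intersect trivially is elementary abelian: its exponent is a prime. -/
theorem result {G : Type*} [CommGroup G] [Finite G] (𝓑 : Set (Subgroup G)) (hprop : ∀ B ∈ 𝓑, B ≠ ⊤)
    (hcov : ∀ g : G, ∃ B ∈ 𝓑, g ∈ B) (hdisj : ∀ B ∈ 𝓑, ∀ C ∈ 𝓑, B ≠ C → B ⊓ C = ⊥) :
    (Monoid.exponent G).Prime := by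
  open Subgroup in
  have key : ∀ B ∈ 𝓑, ∀ x ∉ B, ∀ y ∈ B, y ^ orderOf x = 1 := by
    intro B hB x hx y hy
    obtain ⟨C, hC, hxy⟩ := hcov (x * y)
    have h1 : y ^ orderOf x ∈ B ⊓ C := ⟨pow_mem hy _, by
      have := pow_mem hxy (orderOf x)
      rwa [mul_pow, pow_orderOf_eq_one, one_mul] at this⟩
    rwa [hdisj B hB C hC (by rintro rfl; exact hx ((mul_mem_cancel_right hy).mp hxy))] at h1
  obtain ⟨B₁, hB₁, -⟩ := hcov 1
  have : Nontrivial G := by
    by_contra h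
    exact hprop B₁ hB₁ (@Subsingleton.elim _ (subsingleton_iff.mpr (not_nontrivial_iff_subsingleton.mp h)) _ _)
  obtain ⟨p, hp, hd⟩ := Nat.exists_prime_and_dvd (Finite.one_lt_card (α := G)).ne'
  have : Fact p.Prime := ⟨hp⟩
  obtain ⟨z, hz⟩ := exists_prime_orderOf_dvd_card' p hd
  obtain ⟨B, hB, hzB⟩ := hcov z
  have h1 : ∀ y ∉ B, y ^ p = 1 := fun y hy => by
    obtain ⟨C, hC, hyC⟩ := hcov y
    refine hz ▸ key C hC z (fun hzC => ?_) y hyC
    have h2 : z ∈ B ⊓ C := ⟨hzB, hzC⟩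
    rw [hdisj B hB C hC (by rintro rfl; exact hy hyC), mem_bot] at h2
    rw [h2, orderOf_one] at hz
    exact hp.one_lt.ne hz
  have h2 : ∀ y : G, y ^ p = 1 := fun y => by
    by_cases hy : y ∈ B
    · obtain ⟨x, hx⟩ : ∃ x, x ∉ B := not_forall.mp fun h => hprop B hB ((eq_top_iff' B).mpr h)
      obtain ⟨c, hc⟩ := orderOf_dvd_of_pow_eq_one (h1 x hx)
      rw [hc, pow_mul, key B hB x hx y hy, one_pow]
    · exact h1 y hy
  rwa [Nat.dvd_antisymm (Monoid.exponent_dvd_of_forall_pow_eq_one h2)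
    (hz ▸ Monoid.order_dvd_exponent z)]

end Cfsg.Agent.S3889
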