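import Cfsg.Statements.S3890
import Cfsg.Agent.S3889
import Cfsg.Agent.Lib.Core.MinNormal
import Cfsg.Agent.Lib.FGS.Sylow
import Cfsg.Agent.Lib.PGroup.Omega
import Cfsg.Agent.Lib.Transfer.NormalComplement

set_option autoImplicit false
open Cfsg

namespace Cfsg.Agent.S3890

section
open Cfsg.Lib Cfsg.Lib.Transfer Cfsg.Lib.FGS Subgroup
open scoped IsMulCommutative

variable {G : Type*} [Group G] [Finite G] {𝓐 : Finset (Subgroup G)}

theorem sup_eq_top_of_min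
    (h1 : (∀ A ∈ 𝓐, A ≠ ⊤) ∧ (∀ g : G, ∃ A ∈ 𝓐, g ∈ A))
    (h2 : ∀ 𝓑 : Finset (Subgroup G), (∀ A ∈ 𝓑, A ≠ ⊤) ∧ (∀ g : G, ∃ A ∈ 𝓑, g ∈ A) → 𝓐.card ≤ 𝓑.card)
    {A B : Subgroup G} (hA : A ∈ 𝓐) (hB : B ∈ 𝓐) (hAB : A ≠ B) : A ⊔ B = ⊤ := by
  classical
  by_contra h
  have h3 := h2 (insert (A ⊔ B) ((𝓐.erase A).erase B)) ⟨fun C hC => ?_, fun g => ?_⟩
  · have h4 := Finset.card_insert_le (A ⊔ B) ((𝓐.erase A).erase B)
    have h5 : B ∈ 𝓐.erase A := Finset.mem_erase.mpr ⟨hAB.symm, hB⟩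
    rw [Finset.card_erase_of_mem h5, Finset.card_erase_of_mem hA] at h4
    have h6 := Finset.card_pos.mpr ⟨B, h5⟩
    rw [Finset.card_erase_of_mem hA] at h6
    omega
  · rcases Finset.mem_insert.mp hC with rfl | hC
    · exact h
    · exact h1.1 C (Finset.mem_of_mem_erase (Finset.mem_of_mem_erase hC))
  · obtain ⟨C, hC, hg⟩ := h1.2 g
    by_cases hCA : C = A
    · exact ⟨_, Finset.mem_insert_self _ _, mem_sup_left (hCA ▸ hg)⟩
    by_cases hCB : C = B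
    · exact ⟨_, Finset.mem_insert_self _ _, mem_sup_right (hCB ▸ hg)⟩
    exact ⟨C, Finset.mem_insert_of_mem (by simp [hC, hCA, hCB]), hg⟩

theorem le_centralizer_of_nilpotent {p : ℕ} [Fact p.Prime] (P : Sylow p G)
    (hab : IsMulCommutative (P : Subgroup G)) {A Q : Subgroup G} (hA : Group.IsNilpotent A)
    (hQ : IsPGroup p Q) (hQA : Q ≤ A) : A ≤ centralizer (Q : Set G) := by
  rw [← Core.pCoreOf_sup_pPrimeCoreOf hA p]
  refine sup_le ?_ ?_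
  · have h1 : IsPGroup p ↥((pCore p A).map A.subtype ⊔ Q) :=
      isPGroup_sup_of_le_nilpotent hA (map_subtype_le _) hQA ((Core.pCore_isPGroup p A).map _) hQ
    obtain ⟨g, hg⟩ := exists_conj_le_sylow P h1
    intro a ha b hb
    have := congrArg Subtype.val (mul_comm (⟨_, conj_le_iff.mp hg b (mem_sup_right hb)⟩ : (P : Subgroup G))
      ⟨_, conj_le_iff.mp hg a (mem_sup_left ha)⟩)
    have h' : g * b * a = g * a * b := by simpa [← mul_assoc] using this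
    rwa [mul_assoc, mul_assoc, mul_left_cancel_iff] at h'
  · refine Core.le_centralizer_of_coprime_of_le hA (map_subtype_le _) hQA ?_
    rw [Core.card_map_subtype]
    exact (Core.coprime_card_of_isPGroup hQ (Core.pPrimeCore_coprime p A)).symm

theorem eq_of_mem (hZ : Subgroup.center G = ⊥)
    (h𝓐 : ((∀ A ∈ 𝓐, A ≠ ⊤) ∧ (∀ g : G, ∃ A ∈ 𝓐, g ∈ A)) ∧ (∀ 𝓑 : Finset (Subgroup G), (∀ A ∈ 𝓑, A ≠ ⊤) ∧ (∀ g : G, ∃ A ∈ 𝓑, g ∈ A) → 𝓐.card ≤ 𝓑.card) ∧ (∀ A ∈ 𝓐, Group.IsNilpotent ↥A)) {p : ℕ} [Fact p.Prime] (P : Sylow p G) (hab : IsMulCommutative ↥(P : Subgroup G))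
    {A B : Subgroup G} (hA : A ∈ 𝓐) (hB : B ∈ 𝓐) {x : G} (hx : x ≠ 1) {k : ℕ} (hk : x ^ p ^ k = 1)
    (hxA : x ∈ A) (hxB : x ∈ B) : A = B := by
  by_contra h
  have h1 := sup_le (le_centralizer_of_nilpotent P hab (h𝓐.2.2 A hA) (isPGroup_zpowers_of_pow hk)
    (zpowers_le.mpr hxA)) (le_centralizer_of_nilpotent P hab (h𝓐.2.2 B hB)
    (isPGroup_zpowers_of_pow hk) (zpowers_le.mpr hxB))
  rw [sup_eq_top_of_min h𝓐.1 h𝓐.2.1 hA hB h] at h1
  refine hx (mem_bot.mp (hZ ▸ mem_center_iff.mpr fun g => ?_))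
  exact (h1 (mem_top g) x (mem_zpowers x)).symm

theorem centralizer_mem (hZ : Subgroup.center G = ⊥)
    (h𝓐 : ((∀ A ∈ 𝓐, A ≠ ⊤) ∧ (∀ g : G, ∃ A ∈ 𝓐, g ∈ A)) ∧ (∀ 𝓑 : Finset (Subgroup G), (∀ A ∈ 𝓑, A ≠ ⊤) ∧ (∀ g : G, ∃ A ∈ 𝓑, g ∈ A) → 𝓐.card ≤ 𝓑.card) ∧ (∀ A ∈ 𝓐, Group.IsNilpotent ↥A)) {p : ℕ} [Fact p.Prime] (P : Sylow p G) (hab : IsMulCommutative ↥(P : Subgroup G))
    (h0 : (P : Subgroup G) ≠ ⊥)
    (h : ¬ (Cfsg.IsElementaryAbelian p (P : Subgroup G) ∧ p < Nat.card ↥(P : Subgroup G))) :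
    centralizer ((P : Subgroup G) : Set G) ∈ 𝓐 := by
  have hp : p.Prime := Fact.out
  obtain ⟨A, hA, hPA⟩ : ∃ A ∈ 𝓐, ↑P ≤ A := by
    by_contra hcon
    push Not at hcon
    apply h
    have h1 := Cfsg.Agent.S3889.result (G := (P : Subgroup G))
      ((fun A : Subgroup G => A.subgroupOf P) '' 𝓐)
      (by rintro _ ⟨A, hA, rfl⟩ h; exact hcon A hA (subgroupOf_eq_top.mp h))
      (fun g => by
        obtain ⟨A, hA, hg⟩ := h𝓐.1.2 g
        exact ⟨_, ⟨A, hA, rfl⟩, hg⟩)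
      (by
        rintro _ ⟨A, hA, rfl⟩ _ ⟨B, hB, rfl⟩ hAB
        rw [eq_bot_iff]
        rintro x ⟨hxA, hxB⟩
        by_contra hx
        obtain ⟨k, hk⟩ := exists_pow_of_mem P.isPGroup' x.2
        exact hAB (congrArg (fun A : Subgroup G => A.subgroupOf P)
          (eq_of_mem hZ h𝓐 P hab hA hB (fun h => hx (Subtype.ext h)) hk hxA hxB)))
    obtain ⟨k, hk⟩ := P.isPGroup'.exists_card_eq
    have h2 : Monoid.exponent (P : Subgroup G) = p :=
      (Nat.prime_dvd_prime_iff_eq h1 hp).mp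
        (h1.dvd_of_dvd_pow (hk ▸ Group.exponent_dvd_nat_card))
    refine ⟨⟨hab, fun a ha => congrArg Subtype.val
      (h2 ▸ Monoid.pow_exponent_eq_one (⟨a, ha⟩ : (P : Subgroup G)))⟩, ?_⟩
    by_contra h3
    have h4 : k ≤ 1 := (Nat.pow_le_pow_iff_right hp.one_lt).mp (by rw [← hk, pow_one]; omega)
    have : IsCyclic (P : Subgroup G) := isCyclic_of_card_dvd_prime (p := p)
      (by rw [hk]; exact (pow_dvd_pow p h4).trans (pow_one p).dvd)
    obtain ⟨g, hg⟩ := IsCyclic.exists_generator (α := (P : Subgroup G))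
    obtain ⟨A, hA, hgA⟩ := h𝓐.1.2 g
    refine hcon A hA fun x hx => ?_
    obtain ⟨n, hn⟩ := hg ⟨x, hx⟩
    have h5 : (g : G) ^ n = x := congrArg Subtype.val hn
    exact h5 ▸ zpow_mem hgA n
  have h1 := le_centralizer_of_nilpotent P hab (h𝓐.2.2 A hA) P.isPGroup' hPA
  rwa [le_antisymm (fun c hc => ?_) h1]
  obtain ⟨a, ha, b, hb, ⟨k, hk⟩, hbo, rfl⟩ := exists_p_part_mul_p'_part (p := p) c
  have haP : a ∈ (P : Subgroup G) := mem_sylow_of_mem_normalizer P hk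
    (centralizer_le_normalizer _ (zpowers_le.mpr hc ha))
  refine mul_mem (hPA haP) ?_
  obtain ⟨⟨x, hxP⟩, hx1⟩ := (ne_bot_iff_exists_ne_one.mp h0)
  have hx1' : x ≠ 1 := fun h => hx1 (Subtype.ext h)
  obtain ⟨j, hj⟩ := exists_pow_of_mem P.isPGroup' hxP
  have hbx : Commute x b := zpowers_le.mpr hc hb x hxP
  obtain ⟨B, hB, hxb⟩ := h𝓐.1.2 (x * b)
  have hxB : x ∈ B := by
    have h2 := pow_mem hxb (orderOf b)
    rw [hbx.mul_pow, pow_orderOf_eq_one, mul_one] at h2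
    exact mem_of_pow_mem_of_coprime h2 (Nat.Coprime.coprime_dvd_left (orderOf_dvd_of_pow_eq_one hj)
      (Nat.Coprime.pow_left j hbo.symm))
  rw [eq_of_mem hZ h𝓐 P hab hA hB hx1' hj (hPA hxP) hxB]
  exact (mul_mem_cancel_left hxB).mp hxb

theorem conj_centralizer_mem (hZ : Subgroup.center G = ⊥)
    (h𝓐 : ((∀ A ∈ 𝓐, A ≠ ⊤) ∧ (∀ g : G, ∃ A ∈ 𝓐, g ∈ A)) ∧ (∀ 𝓑 : Finset (Subgroup G), (∀ A ∈ 𝓑, A ≠ ⊤) ∧ (∀ g : G, ∃ A ∈ 𝓑, g ∈ A) → 𝓐.card ≤ 𝓑.card) ∧ (∀ A ∈ 𝓐, Group.IsNilpotent ↥A)) {p : ℕ} [Fact p.Prime] (P : Sylow p G) (hab : IsMulCommutative ↥(P : Subgroup G))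
    (h0 : (P : Subgroup G) ≠ ⊥)
    (h : ¬ (Cfsg.IsElementaryAbelian p (P : Subgroup G) ∧ p < Nat.card ↥(P : Subgroup G))) (g : G) :
    g ⋆ centralizer ((P : Subgroup G) : Set G) ∈ 𝓐 := by
  rw [conj_centralizer]
  refine centralizer_mem hZ h𝓐 (g • P) (map_isMulCommutative _ _) (conj_eq_bot_iff.not.mpr h0) ?_
  rwa [coe_smul_sylow, card_conj, PGroup.elemAb_map_iff_of_injective (MulAut.conj g).injective]

theorem mem_normalizer_of_eq {p : ℕ} [Fact p.Prime] (P : Sylow p G)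
    (hab : IsMulCommutative ↥(P : Subgroup G))
    (hn : Group.IsNilpotent (centralizer ((P : Subgroup G) : Set G))) {g : G}
    (h : g ⋆ centralizer ((P : Subgroup G) : Set G) = centralizer ((P : Subgroup G) : Set G)) :
    g ∈ normalizer ((P : Subgroup G) : Set G) := by
  have h1 : (P : Subgroup G) ≤ centralizer ((P : Subgroup G) : Set G) := le_centralizer _
  exact mem_normalizer_of_conj_le (le_sylow_of_isPGroup_sup P (isPGroup_sup_of_le_nilpotent hn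
    (h ▸ conj_mono g h1) h1 (isPGroup_conj P.isPGroup' g) P.isPGroup'))

theorem le_normalizer_of_ne_top (hZ : Subgroup.center G = ⊥)
    (h𝓐 : ((∀ A ∈ 𝓐, A ≠ ⊤) ∧ (∀ g : G, ∃ A ∈ 𝓐, g ∈ A)) ∧ (∀ 𝓑 : Finset (Subgroup G), (∀ A ∈ 𝓑, A ≠ ⊤) ∧ (∀ g : G, ∃ A ∈ 𝓑, g ∈ A) → 𝓐.card ≤ 𝓑.card) ∧ (∀ A ∈ 𝓐, Group.IsNilpotent ↥A)) {p : ℕ} [Fact p.Prime] (P : Sylow p G) (hab : IsMulCommutative ↥(P : Subgroup G))
    (h0 : (P : Subgroup G) ≠ ⊥)
    (h : ¬ (Cfsg.IsElementaryAbelian p (P : Subgroup G) ∧ p < Nat.card ↥(P : Subgroup G)))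
    {M : Subgroup G} (hM : M ≠ ⊤) (hle : centralizer ((P : Subgroup G) : Set G) ≤ M) :
    M ≤ normalizer ((P : Subgroup G) : Set G) := by
  intro g hg
  have h1 := centralizer_mem hZ h𝓐 P hab h0 h
  refine mem_normalizer_of_eq P hab (h𝓐.2.2 _ h1) ?_
  by_contra h2
  exact hM (eq_top_iff.mpr ((sup_eq_top_of_min h𝓐.1 h𝓐.2.1 (conj_centralizer_mem hZ h𝓐 P hab h0 h g)
    h1 h2).ge.trans (sup_le (Core.map_conj_le_of_mem hle hg) hle)))

end

/-- A cover of a group is a finite set of proper subgroups whose union is the whole group; it is minimal when no cover has fewer members, and nilpotent when all its members are nilpotent. Let G be a finite group with trivial center admitting a nilpotent minimal cover 𝓐, and let P be an abelian Sylow p-subgroup of G that is not normal. Then either P is elementary abelian of order greater than p, or P is a Sylow p-subgroup of some member A of 𝓐, the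 normalizer N of P is a maximal subgroup of G, N meets each of its conjugates by elements outside N in a subgroup of order prime to p, and the centralizer of P equals A. -/
theorem result {G : Type*} [Group G] [Finite G] (hZ : Subgroup.center G = ⊥) (𝓐 : Finset (Subgroup G))
    (h𝓐 : ((∀ A ∈ 𝓐, A ≠ ⊤) ∧ (∀ g : G, ∃ A ∈ 𝓐, g ∈ A)) ∧ (∀ 𝓑 : Finset (Subgroup G), (∀ A ∈ 𝓑, A ≠ ⊤) ∧ (∀ g : G, ∃ A ∈ 𝓑, g ∈ A) → 𝓐.card ≤ 𝓑.card) ∧ (∀ A ∈ 𝓐, Group.IsNilpotent ↥A)) {p : ℕ} [Fact p.Prime] (P : Sylow p G) (hab : IsMulCommutative ↥(P : Subgroup G))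
    (hnn : ¬ (P : Subgroup G).Normal) :
    (Cfsg.IsElementaryAbelian p (P : Subgroup G) ∧ p < Nat.card ↥(P : Subgroup G)) ∨
    (∃ A ∈ 𝓐, (P : Subgroup G) ≤ A ∧ ¬ p ∣ ((P : Subgroup G).subgroupOf A).index ∧
      IsCoatom (Subgroup.normalizer ((P : Subgroup G) : Set G)) ∧
      (∀ g : G, g ∉ Subgroup.normalizer ((P : Subgroup G) : Set G) →
        ¬ p ∣ Nat.card ↥(Subgroup.normalizer ((P : Subgroup G) : Set G) ⊓
          (Subgroup.normalizer ((P : Subgroup G) : Set G)).map (MulAut.conj g).toMonoidHom)) ∧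
      Subgroup.centralizer ((P : Subgroup G) : Set G) = A) := by
  open Cfsg.Lib Cfsg.Lib.Transfer Cfsg.Lib.FGS Subgroup in
  open scoped IsMulCommutative in
  refine or_iff_not_imp_left.mpr fun h => ?_
  have h0 : (P : Subgroup G) ≠ ⊥ := fun h => hnn (h ▸ normal_bot)
  have h1 := centralizer_mem hZ h𝓐 P hab h0 h
  have h2 : (P : Subgroup G) ≤ centralizer ((P : Subgroup G) : Set G) := le_centralizer _
  refine ⟨_, h1, h2, sylow_not_dvd_relIndex P h2, ⟨fun h => hnn (normalizer_eq_top_iff.mp h),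
    fun M hM => ?_⟩, fun g hg hd => hg ?_, rfl⟩
  · by_contra hM'
    exact hM.not_ge (le_normalizer_of_ne_top hZ h𝓐 P hab h0 h hM'
      ((centralizer_le_normalizer _).trans hM.le))
  · obtain ⟨x, ⟨hx1, hx2⟩, hxo⟩ := Core.exists_mem_orderOf_eq_prime Fact.out hd
    have hx : x ^ p ^ 1 = 1 := by rw [pow_one, ← hxo, pow_orderOf_eq_one]
    have hx0 : x ≠ 1 := by
      rintro rfl
      exact (Fact.out : p.Prime).one_lt.ne ((orderOf_one).symm.trans hxo)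
    rw [conj_normalizer] at hx2
    exact mem_normalizer_of_eq P hab (h𝓐.2.2 _ h1) (eq_of_mem hZ h𝓐 P hab
      (conj_centralizer_mem hZ h𝓐 P hab h0 h g) h1 hx0 hx
      (conj_mono g h2 (mem_sylow_of_mem_normalizer (g • P) hx hx2))
      (h2 (mem_sylow_of_mem_normalizer P hx hx1)))

end Cfsg.Agent.S3890
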