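import Cfsg.Statements.S3892
import Cfsg.Agent.Lib.Perm.Sym3
import Cfsg.Agent.S4014
import Cfsg.Agent.S3890

set_option autoImplicit false
open Cfsg

namespace Cfsg.Agent.S3892

open Cfsg.Lib Cfsg.Lib.Perm Subgroup Equiv Equiv.Perm
open scoped Pointwise

def NMC (G : Type*) [Group G] : Prop := ∃ 𝓐 : Finset (Subgroup G), ((∀ A ∈ 𝓐, A ≠ ⊤) ∧ (∀ g : G, ∃ A ∈ 𝓐, g ∈ A)) ∧
  (∀ 𝓑 : Finset (Subgroup G), (∀ A ∈ 𝓑, A ≠ ⊤) ∧ (∀ g : G, ∃ A ∈ 𝓑, g ∈ A) → 𝓐.card ≤ 𝓑.card) ∧
  (∀ A ∈ 𝓐, Group.IsNilpotent A)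

theorem key {G : Type*} [Group G] {n p : ℕ} (hp : p.Prime) (hn : n < p ^ 2) (f : G →* Perm (Fin n))
    (hf : Function.Injective f) {x y : G} (hx : x ^ p = 1) (hy : y ^ p = 1) (h : x * y ≠ y * x) {M : Subgroup G}
    (hM : M ≠ ⊤) (h1 : ∀ g, g * x = x * g → g ∈ M) (h2 : ∀ g, g * y = y * g → g ∈ M) : ¬ NMC G := by
  rintro ⟨𝓐, c1, c2, c3⟩
  have := Finite.of_injective f hf
  have := Fact.mk hp
  obtain ⟨P⟩ : Nonempty (Sylow p G) := inferInstance
  have h3 := S4014.upper (j := 1) _ (P.2.map f) (by simpa using hn)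
  have h4 : IsMulCommutative (P : Subgroup G) := ⟨⟨fun a b => Subtype.ext (hf (by
    rw [Subgroup.coe_mul, Subgroup.coe_mul, map_mul, map_mul]
    exact congrArg Subtype.val (commutatorElement_eq_one_iff_mul_comm.1 (mem_bot.1 (h3.le (commutator_mem_commutator
      (mem_top ⟨f a, a, a.2, rfl⟩) (mem_top ⟨f b, b, b.2, rfl⟩)))))))⟩⟩
  have h5 : ∀ x : G, x ^ p = 1 → ∃ A ∈ 𝓐, x ∈ A ∧ ∀ g ∈ A, g * x = x * g := fun x hx => by
    obtain ⟨A, hA, hxA⟩ := c1.2 x
    exact ⟨A, hA, hxA, fun g hg => (S3890.le_centralizer_of_nilpotent P h4 (c3 A hA)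
      (IsPGroup.of_card_dvd_pow (n := 1) (by rw [Nat.card_zpowers, pow_one]; exact orderOf_dvd_of_pow_eq_one hx))
      (zpowers_le.2 hxA) hg x (mem_zpowers x)).symm⟩
  obtain ⟨A, hA, xA, a⟩ := h5 x hx
  obtain ⟨B, hB, yB, b⟩ := h5 y hy
  exact hM (eq_top_iff.2 ((S3890.sup_eq_top_of_min c1 c2 hA hB (by rintro rfl; exact h (b x xA))).ge.trans
    (sup_le (fun g hg => h1 g (a g hg)) fun g hg => h2 g (b g hg))))

theorem big {G : Type*} [Group G] {n : ℕ} (hn : 6 ≤ n) (f : G →* Perm (Fin n)) (hf : Function.Injective f)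
    (hA : alternatingGroup _ ≤ f.range) : ¬ NMC G := by
  obtain ⟨p, hp, h1, h2⟩ := Nat.exists_prime_lt_and_le_two_mul (n / 2) (by omega)
  have h3 := hp.odd_of_ne_two (by omega)
  have h4 := Nat.odd_iff.1 h3
  obtain ⟨σ, o1, s1⟩ := exists_orderOf_card_support (Ω := Fin n) (j := 1) hp one_pos (by simp; omega)
  obtain ⟨a, ha⟩ := Finset.card_pos.1 (show 0 < σ.support.card by omega)
  obtain ⟨c, -, hc⟩ := Finset.exists_mem_notMem_of_card_lt_card (s := σ.support) (t := Finset.univ) (by simp; omega)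
  have ha' := mem_support.1 ha
  have hk : ∀ k, 0 < k → k < p → (σ ^ k) a ≠ a := fun k k1 k2 e => ha' (zpowers_le.2
    (show σ ^ k ∈ MulAction.stabilizer _ a from e) (mem_zpowers_pow_iff.2 (by
      rw [o1]; exact (Nat.coprime_of_lt_prime k1.ne' k2 hp).symm)))
  have ev : ∀ τ : Perm (Fin n), orderOf τ = p → ∃ x, f x = τ ∧ x ^ p = 1 := fun τ h => by
    obtain ⟨x, rfl⟩ := hA (show τ ∈ alternatingGroup _ by
      refine mem_alternatingGroup.2 ((Int.units_eq_one_or _).resolve_right fun e => ?_)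
      have := congrArg sign (pow_orderOf_eq_one τ)
      rw [map_pow, e, h, h3.neg_one_pow, map_one] at this
      exact absurd this (by decide))
    exact ⟨x, rfl, hf (by rw [map_pow, ← h, pow_orderOf_eq_one, map_one])⟩
  obtain ⟨x, rfl, hx⟩ := ev σ o1
  obtain ⟨y, ey, hy⟩ := ev (swap a (f x a) * f x * (swap a (f x a))⁻¹) (((MulAut.conj _).orderOf_eq _).trans o1)
  have cm : ∀ g z : G, g * z = z * g → ConjAct.toConjAct (f g) • f z = f z := fun g z h => by
    rw [ConjAct.toConjAct_smul, ← map_mul, h, map_mul, mul_inv_cancel_right]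
  refine key hp (by nlinarith [show n < 2 * p by omega, hp.two_le]) f hf hx hy (fun e => hk 3 (by omega) (by omega) ?_)
    (M := (MulAction.stabilizer _ (f x).support).comap f) (fun e => ?_) (fun g h => ?_) fun g h => ?_
  · have := DFunLike.congr_fun (congrArg f e) a
    have h2 : f x (f x a) ≠ a := hk 2 (by omega) (by omega)
    simpa [pow_succ, ey, swap_apply_of_ne_of_ne h2 ((f x).injective.ne ha')] using this
  · have hca : c ≠ a := by rintro rfl; exact hc ha
    have hca' : c ≠ f x a := by rintro rfl; exact hc (apply_mem_support.2 ha)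
    obtain ⟨z, hz⟩ := hA (isThreeCycle_swap_mul_swap_same ha'.symm hca.symm hca'.symm).mem_alternatingGroup
    have : f z • (f x).support = (f x).support := e.ge (mem_top z)
    refine hc (this ▸ Finset.mem_smul_finset.2 ⟨a, ha, ?_⟩)
    simp [hz, swap_apply_of_ne_of_ne hca hca']
  · exact (support_conj_eq_smul_support _ _).symm.trans (congrArg _ (cm g x h))
  · have : (f y).support = (f x).support := by
      rw [ey, support_conj]
      refine Finset.eq_of_subset_of_card_le (Finset.map_subset_iff_subset_preimage.2 fun z hz => ?_) (by simp)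
      simp only [Finset.mem_preimage, Equiv.coe_toEmbedding, swap_apply_def]
      split_ifs
      exacts [apply_mem_support.2 ha, ha, hz]
    rw [← this]
    exact (support_conj_eq_smul_support _ _).symm.trans (congrArg _ (cm g y h))

/-- A cover of a group is a finite set of proper subgroups whose union is the whole group; it is minimal when no cover has fewer members, and nilpotent when all its members are nilpotent. The alternating groups of degree at least 5 and the symmetric groups of degree at least 4 have no nilpotent minimal cover. -/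
theorem result (n : ℕ) :
    (5 ≤ n → ¬ ∃ 𝓐 : Finset (Subgroup ↥(alternatingGroup (Fin n))), ((∀ A ∈ 𝓐, A ≠ ⊤) ∧ (∀ g : ↥(alternatingGroup (Fin n)), ∃ A ∈ 𝓐, g ∈ A)) ∧ (∀ 𝓑 : Finset (Subgroup ↥(alternatingGroup (Fin n))), (∀ A ∈ 𝓑, A ≠ ⊤) ∧ (∀ g : ↥(alternatingGroup (Fin n)), ∃ A ∈ 𝓑, g ∈ A) → 𝓐.card ≤ 𝓑.card) ∧ (∀ A ∈ 𝓐, Group.IsNilpotent ↥A)) ∧
    (4 ≤ n → ¬ ∃ 𝓐 : Finset (Subgroup (Equiv.Perm (Fin n))), ((∀ A ∈ 𝓐, A ≠ ⊤) ∧ (∀ g : (Equiv.Perm (Fin n)), ∃ A ∈ 𝓐, g ∈ A)) ∧ (∀ 𝓑 : Finset (Subgroup (Equiv.Perm (Fin n))), (∀ A ∈ 𝓑, A ≠ ⊤) ∧ (∀ g : (Equiv.Perm (Fin n)), ∃ A ∈ 𝓑, g ∈ A) → 𝓐.card ≤ 𝓑.card) ∧ (∀ A ∈ 𝓐, Group.IsNilpotent ↥A)) := by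
  refine ⟨fun h => ?_, fun h => ?_⟩
  · obtain rfl | h := h.eq_or_lt
    · exact key Nat.prime_three (by norm_num) (alternatingGroup _).subtype (subtype_injective _)
        (x := ⟨swap 0 1 * swap 0 2, mem_alternatingGroup.2 (by decide)⟩) (y := ⟨swap 0 1 * swap 0 3, mem_alternatingGroup.2 (by decide)⟩) (by decide) (by decide)
        (by decide) (M := MulAction.stabilizer _ (4 : Fin 5))
        (fun e => absurd (e.ge (mem_top ⟨swap 0 1 * swap 0 4, mem_alternatingGroup.2 (by decide)⟩))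
          (show (swap 0 1 * swap 0 4 : Perm (Fin 5)) 4 ≠ 4 by decide))
        (by decide +kernel) (by decide +kernel)
    · exact big h _ (subtype_injective _) (range_subtype _).ge
  obtain rfl | h := h.eq_or_lt
  · exact key Nat.prime_three (by norm_num) (MonoidHom.id _) Function.injective_id
      (x := swap 0 1 * swap 0 2) (y := swap 0 1 * swap 0 3) (by decide) (by decide)
      (by decide) (M := alternatingGroup _) (fun e => absurd (e.ge (mem_top (swap 0 1))) (by simp))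
      (by simp only [mem_alternatingGroup]; decide +kernel) (by simp only [mem_alternatingGroup]; decide +kernel)
  obtain rfl | h := (Nat.succ_le_of_lt h).eq_or_lt
  · exact key Nat.prime_five (by norm_num) (MonoidHom.id _) Function.injective_id
      (x := swap 0 1 * swap 0 2 * swap 0 3 * swap 0 4) (y := swap 0 1 * swap 0 2 * swap 0 4 * swap 0 3)
      (by decide) (by decide) (by decide) (M := alternatingGroup _)
      (fun e => absurd (e.ge (mem_top (swap 0 1))) (by simp)) (by simp only [mem_alternatingGroup]; decide +kernel) (by simp only [mem_alternatingGroup]; decide +kernel)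
  · exact big h (MonoidHom.id _) Function.injective_id fun x _ => ⟨x, rfl⟩

end Cfsg.Agent.S3892
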