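import Cfsg.Statements.S3893
import Cfsg.Agent.Lib.Sz.Tori
import Cfsg.Agent.Lib.Sz.Overgroups

set_option autoImplicit false
open Cfsg

namespace Cfsg.Agent.S3893

open Cfsg.Lib.Sz

/-- A cover of a group is a finite set of proper subgroups whose union is the whole group; it is minimal when no cover has fewer members, and nilpotent when all its members are nilpotent. The Suzuki groups Sz(q), q = 2^(2m+1) with m ≥ 1, have no nilpotent minimal cover. -/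
theorem result {F : Type*} [Field F] [Fintype F] (m : ℕ) (hm : 1 ≤ m) (hF : Fintype.card F = 2 ^ (2 * m + 1)) :
    ¬ ∃ 𝓐 : Finset (Subgroup ↥(Cfsg.Lie.Sz F (2 ^ (m + 1)))), ((∀ A ∈ 𝓐, A ≠ ⊤) ∧ (∀ g : ↥(Cfsg.Lie.Sz F (2 ^ (m + 1))), ∃ A ∈ 𝓐, g ∈ A)) ∧ (∀ 𝓑 : Finset (Subgroup ↥(Cfsg.Lie.Sz F (2 ^ (m + 1)))), (∀ A ∈ 𝓑, A ≠ ⊤) ∧ (∀ g : ↥(Cfsg.Lie.Sz F (2 ^ (m + 1))), ∃ A ∈ 𝓑, g ∈ A) → 𝓐.card ≤ 𝓑.card) ∧ (∀ A ∈ 𝓐, Group.IsNilpotent ↥A) := by
  classical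
  rintro ⟨𝓐, ⟨hne, hcov⟩, hmin, hnil⟩
  generalize lieModel hF = M
  obtain ⟨μ, hμ⟩ := Model.exists_h_ne_one (exists_ne_zero_ne_one hm hF)
  have hμ' : M.h μ ≠ 1 := fun h => hμ (M.h_eq_one.1 h)
  have := Fintype.ofFinite M.Pt
  have h1 : ∀ p : M.Pt, ∃ A ∈ 𝓐, A ≠ ⊥ ∧ A ≤ M.Up p := by
    intro p
    obtain ⟨x, rfl⟩ := M.exists_smul_inf_eq p
    have h1 : x * M.u 0 1 * x⁻¹ ∈ M.Up (x • M.inf) := by
      rw [M.conj_mem_Up, M.Up_inf]; exact M.u_mem_U 0 1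
    have h2 : x * M.u 0 1 * x⁻¹ ≠ 1 := by simp [conj_eq_one_iff, M.u_eq_one]
    obtain ⟨A, hA, h3⟩ := hcov (x * M.u 0 1 * x⁻¹)
    have h4 : A ≠ ⊥ := fun h => h2 (Subgroup.mem_bot.1 (h ▸ h3))
    obtain ⟨z, hz, hz1, hc⟩ := exists_central_of_nilpotent (hnil A hA) h4
    exact ⟨A, hA, h4, fun a ha =>
      M.mem_Up_of_commute (M.mem_Up_of_commute h1 h2 (hc _ h3).symm) hz1 (hc a ha)⟩
  choose f hf hf1 hf2 using h1
  obtain ⟨A, hA, hAh⟩ := hcov (M.h μ)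
  have hAH : A ≤ M.H := by
    obtain ⟨z, hz, hz1, hc⟩ := exists_central_of_nilpotent (hnil A hA)
      (fun h => hμ' (Subgroup.mem_bot.1 (h ▸ hAh)))
    have h2 : z ∈ M.H := by
      rw [← M.centralizer_of_mem_H (M.h_mem_H μ) hμ', Subgroup.mem_centralizer_singleton_iff]
      exact (hc _ hAh).symm
    intro a ha
    rw [← M.centralizer_of_mem_H h2 hz1, Subgroup.mem_centralizer_singleton_iff]
    exact hc a ha
  have hinj : Function.Injective f := by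
    intro p p' h
    obtain ⟨⟨a, ha⟩, ha1⟩ := Subgroup.ne_bot_iff_exists_ne_one.1 (hf1 p)
    exact M.eq_of_mem_Up (hf2 p' (h ▸ ha)) (fun h => ha1 (Subtype.ext h)) (hf2 p ha).1
  have h2 := hmin (Finset.univ.image (fun p : M.Pt => MulAction.stabilizer _ p) ∪
      𝓐.filter (fun A => ∃ g ∈ A, M.Ell g)) ⟨?_, ?_⟩
  · have h3 := Finset.card_union_le (Finset.univ.image (fun p : M.Pt =>
      MulAction.stabilizer (Cfsg.Lie.Sz F (2 ^ (m + 1))) p)) (𝓐.filter (fun A => ∃ g ∈ A, M.Ell g))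
    have h4 := Finset.card_image_le (s := Finset.univ) (f := fun p : M.Pt =>
      MulAction.stabilizer (Cfsg.Lie.Sz F (2 ^ (m + 1))) p)
    have h5 := Finset.card_filter_add_card_filter_not (s := 𝓐) (fun A => ∃ g ∈ A, M.Ell g)
    have h6 : insert A (Finset.univ.image f) ⊆ 𝓐.filter (fun A => ¬ ∃ g ∈ A, M.Ell g) := by
      intro B hB
      rw [Finset.mem_insert, Finset.mem_image] at hB
      rw [Finset.mem_filter]
      rcases hB with rfl | ⟨p, -, rfl⟩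
      · exact ⟨hA, fun ⟨g, hg, h⟩ => h _ (M.H_le_B (hAH hg))⟩
      · exact ⟨hf p, fun ⟨g, hg, h⟩ => h _ (hf2 p hg).1⟩
    have h7 := Finset.card_le_card h6
    rw [Finset.card_insert_of_notMem, Finset.card_image_of_injective _ hinj] at h7
    · omega
    · rw [Finset.mem_image]
      rintro ⟨p, -, rfl⟩
      exact hμ (M.h_pow_four_eq_one (hf2 p hAh).2)
  · intro B hB
    rw [Finset.mem_union, Finset.mem_image, Finset.mem_filter] at hB
    rcases hB with ⟨p, -, rfl⟩ | hB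
    · exact (M.isCoatom_stabilizer p).1
    · exact hne B hB.1
  · intro g
    by_cases hg : M.Ell g
    · obtain ⟨B, hB, h⟩ := hcov g
      exact ⟨B, Finset.mem_union_right _ (Finset.mem_filter.2 ⟨hB, g, h, hg⟩), h⟩
    · simp only [Model.Ell, not_forall, not_not] at hg
      obtain ⟨p, hp⟩ := hg
      exact ⟨_, Finset.mem_union_left _ (Finset.mem_image_of_mem _ (Finset.mem_univ p)), hp⟩

end Cfsg.Agent.S3893
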