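import Cfsg.Statements.S3894
import Cfsg.Agent.Lib.PSL2.Structure
import Cfsg.Agent.Lib.Core.Fitting

set_option autoImplicit false
open Cfsg

namespace Cfsg.Agent.S3894

section
open Subgroup Cfsg.Lib Cfsg.Lib.Core Cfsg.Lib.PSL2 Matrix MulAction
open scoped MatrixGroups LinearAlgebra.Projectivization

/-- `G` has a nilpotent minimal cover. -/
def NMC (G : Type*) [Group G] : Prop :=
  ∃ 𝓐 : Finset (Subgroup G), ((∀ A ∈ 𝓐, A ≠ ⊤) ∧ (∀ g : G, ∃ A ∈ 𝓐, g ∈ A)) ∧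
    (∀ 𝓑 : Finset (Subgroup G), (∀ A ∈ 𝓑, A ≠ ⊤) ∧ (∀ g : G, ∃ A ∈ 𝓑, g ∈ A) → 𝓐.card ≤ 𝓑.card) ∧
    (∀ A ∈ 𝓐, Group.IsNilpotent A)

variable {Γ : Type*} [Group Γ] {G : Subgroup Γ}

theorem nil_map {A : Subgroup G} (h : Group.IsNilpotent A) : Group.IsNilpotent (A.map G.subtype) :=
  Group.nilpotent_of_mulEquiv (A.equivMapOfInjective _ G.subtype_injective)

theorem drop (hG : NMC G) {z : Γ} (hz : z ∈ G) (ψ : Subgroup Γ → Subgroup Γ)
    (h : ∀ g ∈ G, ∃ x ∈ G, ∀ A : Subgroup Γ, Group.IsNilpotent A → x ∈ A →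
      z ∉ A ∧ ¬ G ≤ ψ A ∧ g ∈ ψ A) : False := by
  classical
  obtain ⟨𝓐, ⟨-, h2⟩, h3, h4⟩ := hG
  obtain ⟨A, hA, hzA⟩ := h2 ⟨z, hz⟩
  have := h3 (((𝓐.erase A).image fun B => (ψ (B.map G.subtype)).subgroupOf G).filter (· ≠ ⊤))
    ⟨fun B hB => (Finset.mem_filter.1 hB).2, fun g => by
      obtain ⟨x, hx, h5⟩ := h g g.2
      obtain ⟨B, hB, hxB⟩ := h2 ⟨x, hx⟩
      obtain ⟨h6, h7, h8⟩ := h5 _ (nil_map (h4 B hB)) ⟨_, hxB, rfl⟩
      exact ⟨_, Finset.mem_filter.2 ⟨Finset.mem_image_of_mem _ (Finset.mem_erase.2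
        ⟨fun e => h6 ⟨_, e ▸ hzA, rfl⟩, hB⟩), mt subgroupOf_eq_top.1 h7⟩, h8⟩⟩
  have h5 := this.trans ((Finset.card_filter_le _ _).trans Finset.card_image_le)
  exact absurd (Finset.card_erase_lt_of_mem hA) (not_lt.2 h5)

theorem two (hG : NMC G) {x z : Γ} (hx : x ∈ G) (hz : z ∈ G) {M : Subgroup Γ} (hM : ¬ G ≤ M)
    (h1 : ∀ A : Subgroup Γ, Group.IsNilpotent A → x ∈ A → A ≤ M ∧ z ∉ A)
    (h2 : ∀ A : Subgroup Γ, Group.IsNilpotent A → z ∈ A → A ≤ M) : False := by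
  classical
  obtain ⟨𝓐, ⟨h0, h3⟩, h4, h5⟩ := hG
  obtain ⟨A, hA, hzA⟩ := h3 ⟨z, hz⟩
  obtain ⟨B, hB, hxB⟩ := h3 ⟨x, hx⟩
  obtain ⟨h6, h7⟩ := h1 _ (nil_map (h5 B hB)) ⟨_, hxB, rfl⟩
  have h8 := h2 _ (nil_map (h5 A hA)) ⟨_, hzA, rfl⟩
  have h9 : B ∈ 𝓐.erase A := Finset.mem_erase.2 ⟨fun e => h7 ⟨_, e ▸ hzA, rfl⟩, hB⟩
  have := h4 (insert (M.subgroupOf G) ((𝓐.erase A).erase B)) ⟨fun C hC => by
      rcases Finset.mem_insert.1 hC with rfl | hC
      · exact mt subgroupOf_eq_top.1 hM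
      · exact h0 C (Finset.mem_of_mem_erase (Finset.mem_of_mem_erase hC)), fun g => by
      obtain ⟨C, hC, hg⟩ := h3 g
      by_cases e : C = A
      · exact ⟨_, Finset.mem_insert_self _ _, h8 ⟨_, e ▸ hg, rfl⟩⟩
      by_cases e' : C = B
      · exact ⟨_, Finset.mem_insert_self _ _, h6 ⟨_, e' ▸ hg, rfl⟩⟩
      exact ⟨C, Finset.mem_insert_of_mem (Finset.mem_erase.2 ⟨e', Finset.mem_erase.2 ⟨e, hC⟩⟩), hg⟩⟩
  have h10 := Finset.card_insert_le (M.subgroupOf G) ((𝓐.erase A).erase B)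
  have h11 := Finset.card_erase_lt_of_mem hA
  have h12 := Finset.card_erase_lt_of_mem h9
  omega

theorem le_of_nil {A B : Subgroup Γ} (hA : Group.IsNilpotent A)
    (h : ∀ s ∈ A, (∀ c ∈ A, c ∈ B → s * c * s⁻¹ ∈ B) → s ∈ B) : A ≤ B := by
  by_contra e
  obtain ⟨s, h1, h2⟩ := SetLike.exists_of_lt (Group.normalizerCondition_of_isNilpotent
    (B.subgroupOf A) (lt_top_iff_ne_top.2 (mt subgroupOf_eq_top.1 e)))
  exact h2 (h s s.2 fun c hc hcB => (mem_normalizer_iff.1 h1 ⟨c, hc⟩).1 hcB)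

theorem comm_of_nil [Finite Γ] {A : Subgroup Γ} (hA : Group.IsNilpotent A) {x y : Γ} (hx : x ∈ A)
    (hy : y ∈ A) (h : (orderOf x).Coprime (orderOf y)) : Commute x y :=
  congrArg Subtype.val (commute_of_coprime_orderOf (x := (⟨x, hx⟩ : A)) (y := ⟨y, hy⟩)
    (by simpa only [orderOf_mk] using h)).eq

variable {F : Type*} [Field F] [Finite F]

theorem le_unip {A : Subgroup PGL(2, F)} (hA : Group.IsNilpotent A) {x : P1 F} {u : PGL(2, F)}
    (hu : u ∈ unip x) (h1 : u ≠ 1) (huA : u ∈ A) : A ≤ unip x := le_of_nil hA fun s hs h => by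
  obtain ⟨p, _⟩ := CharP.exists F
  haveI := Fact.mk (CharP.char_is_prime F p)
  by_contra e
  have h2 := smul_eq_of_conj_mem_unip hu h1 (h u huA hu)
  obtain ⟨y, hy, h3⟩ := exists_fixed_ne_of_not_mem_unip h2 e
  refine e (mem_unip_of_commute hu h1 (comm_of_nil hA hs huA ?_))
  rw [orderOf_of_mem_unip p hu h1]
  exact coprime_orderOf_of_fix_two p (isOfFinOrder_of_finite s) hy.symm h2 h3

theorem le_torus {K : Type*} [Field K] [Algebra F K] {A : Subgroup PGL(2, F)}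
    (hA : Group.IsNilpotent A) {a b : P1 K} (hab : a ≠ b) {y : PGL(2, F)} (hy : y ∈ torus F a b)
    (h1 : y ≠ 1) (ho : Odd (orderOf y)) (hyA : y ∈ A) : A ≤ torus F a b :=
  le_of_nil hA fun s hs h => by
    by_contra e
    have h2 : toK K y ≠ 1 := by rwa [Ne, map_eq_one_iff _ toK_injective]
    have h3 := swap_of_mem_pairStab (mem_pairStab_of_conj_mem (h := toK K s) hab hy h2
      (by simpa using mem_torus.1 (h y hyA hy))) e
    have h4 : s ^ 2 = 1 := toK_injective (K := K) (by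
      simpa [sq] using mul_self_of_swap hab h3.1 h3.2)
    refine e (mem_fix2_of_commute hab hy (fun e => h1 ?_) ((comm_of_nil hA hs hyA
      (Nat.Coprime.coprime_dvd_left (orderOf_dvd_of_pow_eq_one h4) ho.coprime_two_left)).map _))
    have h5 : y ^ 2 = 1 := toK_injective (K := K) (by simpa [sq] using e)
    exact orderOf_eq_one_iff.1 (Nat.eq_one_of_dvd_coprimes ho.coprime_two_left
      (orderOf_dvd_of_pow_eq_one h5) dvd_rfl)

theorem exists_odd {K : Type*} [Field K] [Algebra F K] {a b : P1 K} {m r : ℕ}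
    (h : TorusPair F a b m) (hr : r.Prime) (h2 : r ≠ 2) (hm : r ∣ m) :
    ∃ y ∈ torus F a b, y ∈ pslSub F ∧ y ≠ 1 ∧ Odd (orderOf y) := by
  haveI := Fact.mk hr
  obtain ⟨⟨y, hy⟩, ho⟩ := exists_prime_orderOf_dvd_card' (G := torus F a b) r (h.card_torus ▸ hm)
  rw [orderOf_mk] at ho
  have h3 : Odd (orderOf y) := ho ▸ hr.odd_of_ne_two h2
  refine ⟨y, hy, ?_, fun e => hr.ne_one (by rw [← ho, e, orderOf_one]), h3⟩
  obtain ⟨k, hk⟩ := h3
  have : y = y ^ (k + 1) * y ^ (k + 1) := by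
    rw [← pow_add, show k + 1 + (k + 1) = 2 * k + 1 + 1 by ring, pow_succ, ← hk,
      pow_orderOf_eq_one, one_mul]
  rw [this]
  exact sq_mem_pslSub _

theorem exists_unip (x : P1 F) : ∃ u ∈ unip x, u ≠ 1 :=
  let ⟨⟨u, hu⟩, h⟩ := ne_bot_iff_exists_ne_one.1 (unip_ne_bot x)
  ⟨u, hu, fun e => h (Subtype.ext e)⟩

theorem not_le_stab {G : Subgroup PGL(2, F)} (hG : pslSub F ≤ G) (x : P1 F) :
    ¬ G ≤ stabilizer PGL(2, F) x := fun e => by
  obtain ⟨y, hy⟩ := exists_ne_P1 x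
  obtain ⟨u, hu, h1⟩ := exists_unip y
  exact h1 (eq_one_of_mem_unip hu hy.symm (e (hG (unip_le_pslSub y hu))))

theorem dim_two (hq : 4 ≤ Nat.card F) {G : Subgroup PGL(2, F)} (hG : pslSub F ≤ G) : ¬ NMC G := by
  classical
  intro h
  by_cases h1 : ∃ r : ℕ, r.Prime ∧ r ≠ 2 ∧ r ∣ Nat.card F - 1
  · obtain ⟨r, hr, h2, h3⟩ := h1
    have h4 := torusPair_emb (K := F) (inf_ne_pt (0 : F))
    obtain ⟨y, hy, h5, h6, h7⟩ := exists_odd h4 hr h2 h3
    obtain ⟨u, hu, h8⟩ := exists_unip (inf : P1 F)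
    refine two h (hG (unip_le_pslSub _ hu)) (hG h5) (not_le_stab hG inf) (fun A hA e => ?_)
      fun A hA e => ?_
    · have := le_unip hA hu h8 e
      refine ⟨this.trans (unip_le_stabilizer _), fun e' => h6 ?_⟩
      rw [torus_emb] at hy
      exact eq_one_of_mem_unip (this e') (inf_ne_pt 0).symm hy.2
    · exact (le_torus hA h4.1 hy h6 h7 e).trans (by rw [torus_emb]; exact inf_le_left)
  obtain ⟨r, hr, h2, h3⟩ : ∃ r : ℕ, r.Prime ∧ r ≠ 2 ∧ r ∣ Nat.card F + 1 := by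
    by_contra e
    push Not at h1 e
    have h2 := Nat.eq_prime_pow_of_unique_prime_dvd (p := 2) (by omega : Nat.card F - 1 ≠ 0)
      fun hd hd' => by_contra fun e => h1 _ hd e hd'
    have h3 := Nat.eq_prime_pow_of_unique_prime_dvd (p := 2) (by omega : Nat.card F + 1 ≠ 0)
      fun hd hd' => by_contra fun e' => e _ hd e' hd'
    have h4 : ∀ k, 2 < 2 ^ k → 4 ∣ 2 ^ k := fun k hk =>
      pow_dvd_pow 2 (show 2 ≤ k from (Nat.pow_lt_pow_iff_right (a := 2) (n := 1) (by norm_num)).1 hk)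
    have h5 := h4 _ (by rw [← h2]; omega)
    have h6 := h4 _ (by rw [← h3]; omega)
    rw [← h2] at h5
    rw [← h3] at h6
    omega
  let K := AlgebraicClosure F
  obtain ⟨t, ht, ht'⟩ := (torusPair_emb (K := K) (inf_ne_pt (0 : F))).exists_zpowers_eq
  rw [torus_emb] at ht'
  have h4 : t * t ∈ fix2 (inf : P1 F) (pt 0) := ht' ▸ mul_mem (mem_zpowers t) (mem_zpowers t)
  have h5 : t * t ≠ 1 := fun e => by
    have := Nat.le_of_dvd two_pos (orderOf_dvd_of_pow_eq_one (by rwa [sq]) : orderOf t ∣ 2)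
    omega
  refine drop h (hG (sq_mem_pslSub t)) (fun A => if e : ∃ x, A ≤ unip x then
    stabilizer PGL(2, F) e.choose else centralizer A) fun g hg => ?_
  by_cases h6 : ∃ x : P1 F, g • x = x
  · obtain ⟨x, hx⟩ := h6
    obtain ⟨u, hu, h8⟩ := exists_unip x
    refine ⟨u, hG (unip_le_pslSub _ hu), fun A hA e => ?_⟩
    have h9 := le_unip hA hu h8 e
    have h10 : ∃ x, A ≤ unip x := ⟨x, h9⟩
    have h11 : h10.choose = x := (eq_of_mem_unip (h10.choose_spec e) h8 hu.1).symm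
    simp only [dif_pos h10, h11]
    refine ⟨fun e' => h5 ?_, not_le_stab hG x, hx⟩
    have : t * t ∈ fix2 inf (pt 0) ⊓ unip x := ⟨h4, h9 e'⟩
    rwa [fix2_inf_unip (inf_ne_pt 0), mem_bot] at this
  rcases exists_unip_or_torus K (g := g) (fun e => h6 ⟨inf, by simp [e]⟩) with
    ⟨x, hx⟩ | ⟨a, b, m, hab, hg'⟩
  · exact absurd ⟨x, hx.1⟩ h6
  rcases hab.eq_or_eq with rfl | rfl
  · obtain ⟨x, y, -, rfl, rfl⟩ := torusPair_split_iff.1 hab
    rw [torus_emb] at hg'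
    exact absurd ⟨x, hg'.1⟩ h6
  obtain ⟨y, hy, h7, h8, h9⟩ := exists_odd hab hr h2 h3
  refine ⟨y, hG h7, fun A hA e => ?_⟩
  have h10 := le_torus hA hab.1 hy h8 h9 e
  have h11 : ¬ ∃ x, A ≤ unip x := fun ⟨x, hx⟩ => h8 (hab.eq_one_of_smul_eq hy (hx e).1)
  simp only [dif_neg h11]
  refine ⟨fun e' => h5 (hab.eq_one_of_smul_eq (h10 e') h4.1), fun e' => ?_,
    mem_centralizer_iff.2 fun c hc => toK_injective (K := K) (by
      simpa using (commute_of_mem_fix2 hab.1 (h10 hc) hg').eq)⟩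
  obtain ⟨u, hu, h12⟩ := exists_unip (inf : P1 F)
  exact h8 (hab.eq_one_of_smul_eq hy (mem_unip_of_commute hu h12
    (mem_centralizer_iff.1 (e' (hG (unip_le_pslSub _ hu))) y e)).1)

theorem exists_fix {p : ℕ} [Fact p.Prime] [CharP F p] {n : ℕ} {P : Type*} [Group P]
    (hP : IsPGroup p P) (f : P → Matrix (Fin (n + 1)) (Fin (n + 1)) F) (h1 : f 1 = 1)
    (h2 : ∀ a b, f (a * b) = f a * f b) : ∃ v ≠ 0, ∀ a, (f a).mulVec v = v := by
  letI : MulAction P (Fin (n + 1) → F) :=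
    { smul := fun a v => (f a).mulVec v
      one_smul := fun v => show (f 1).mulVec v = v by rw [h1, one_mulVec]
      mul_smul := fun a b v => show (f (a * b)).mulVec v = (f a).mulVec ((f b).mulVec v) by
        rw [h2, mulVec_mulVec] }
  obtain ⟨v, hv, h⟩ := hP.exists_fixed_point_of_prime_dvd_card_of_fixed_point (Fin (n + 1) → F)
    (by
      rw [Nat.card_fun, Nat.card_fin]
      exact (char_dvd_card p).trans (dvd_pow_self _ (by omega))) (a := 0)
    (fun a => show (f a).mulVec 0 = 0 from mulVec_zero _)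
  exact ⟨v, h.symm, hv⟩

/-- The nilpotent Jordan block. -/
def jb (n : ℕ) (F : Type*) [Field F] : Matrix (Fin n) (Fin n) F :=
  of fun i j => if (j : ℕ) = i + 1 then 1 else 0

omit [Finite F] in
theorem jb_tri (n : ℕ) : (jb n F).BlockTriangular id := fun i j h => if_neg (by
  have : (j : ℕ) < i := h
  omega)

omit [Finite F] in
theorem jb_pow (n : ℕ) : jb n F ^ n = 0 := by
  have := (jb n F).aeval_self_charpoly
  rw [charpoly_of_upperTriangular _ (jb_tri n)] at this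
  simpa [jb] using this

omit [Finite F] in
theorem jb_det (n : ℕ) : (1 + jb n F).det = 1 := by
  rw [det_of_upperTriangular (blockTriangular_one.add (jb_tri n))]
  simp [jb]

omit [Finite F] in
theorem jb_fix {n : ℕ} {v : Fin (n + 1) → F} (h : (1 + jb _ F).mulVec v = v) :
    v = v 0 • Pi.single 0 1 := by
  ext j
  rcases Fin.eq_zero_or_eq_succ j with rfl | ⟨j, rfl⟩
  · simp
  have := congrFun h j.castSucc
  rw [add_mulVec, one_mulVec, Pi.add_apply, add_eq_left, mulVec, dotProduct,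
    Finset.sum_eq_single j.succ (fun k _ hk => by
      rw [jb, of_apply, if_neg (fun e => hk (Fin.ext (by simpa using e))), zero_mul])
      (by simp)] at this
  simpa [jb] using this

omit [Finite F] in
theorem jb_fix' {n : ℕ} {v : Fin (n + 1) → F} (h : (1 + jb _ F)ᵀ.mulVec v = v) (j : Fin n) :
    v j.castSucc = 0 := by
  have := congrFun h j.succ
  rw [transpose_add, transpose_one, add_mulVec, one_mulVec, Pi.add_apply, add_eq_left, mulVec,
    dotProduct, Finset.sum_eq_single j.castSucc (fun k _ hk => by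
      rw [transpose_apply, jb, of_apply, if_neg (fun e => hk (Fin.ext (by simpa using e.symm))),
        zero_mul]) (by simp)] at this
  simpa [jb] using this

theorem dim_big {n : ℕ} {G : Subgroup (ProjGenLinGroup (Fin (n + 3)) F)}
    (hG : ∀ s : GL (Fin (n + 3)) F, s.1.det = 1 → ProjGenLinGroup.mk s ∈ G) : ¬ NMC G := by
  classical
  intro h
  obtain ⟨p, _⟩ := CharP.exists F
  have hp := CharP.char_is_prime F p
  haveI := Fact.mk hp
  have hex : ∀ M : Matrix (Fin (n + 3)) (Fin (n + 3)) F, M.det = 1 →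
      ∃ s : GL (Fin (n + 3)) F, s.1 = M := fun M hM => ⟨SpecialLinearGroup.toGL ⟨M, hM⟩, rfl⟩
  have hl : Fin.last (n + 2) ≠ 1 := fun e => by simpa using congrArg Fin.val e
  obtain ⟨X, eX⟩ := hex _ (jb_det _)
  obtain ⟨S, eS⟩ := hex _ (det_transvection_of_ne _ _ hl 1)
  obtain ⟨T, eT⟩ := hex _ (det_transvection_of_ne 1 0 (by simp) 1)
  have hX : X ^ p ^ (n + 3) = 1 := Units.ext (by
    rw [Units.val_pow_eq_pow_val, eX, add_pow_char_pow_of_commute _ _ (Commute.one_left _), one_pow,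
      pow_eq_zero_of_le (Nat.lt_pow_self hp.one_lt).le (jb_pow _), add_zero, Units.val_one])
  have he : (Pi.single 0 1 : Fin (n + 3) → F) ≠ 0 := fun e => by simpa using congrFun e 0
  have hS : S.1.mulVec (Pi.single 0 1) = Pi.single 0 1 := by
    ext i
    simp [eS, transvection, one_apply, Pi.single_apply]
  have key : ∀ A : Subgroup (ProjGenLinGroup (Fin (n + 3)) F), Group.IsNilpotent A →
      ∃ P : Subgroup (GL (Fin (n + 3)) F), IsPGroup p P ∧
      (∀ s, s ^ p ^ (n + 3) = 1 → ProjGenLinGroup.mk s ∈ A → s ∈ P) ∧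
      ∀ g, ProjGenLinGroup.mk g ∈ A → g ∈ normalizer (P : Set (GL (Fin (n + 3)) F)) := fun A hA => by
    have h1 : Group.IsNilpotent (A.comap ProjGenLinGroup.mk) :=
      Subgroup.isNilpotent_of_ker_le_center (ProjGenLinGroup.mk.subgroupComap A) fun g hg =>
        mem_center_iff.2 fun k => Subtype.ext (mem_center_iff.1
          (ProjGenLinGroup.mk_eq_one.1 (congrArg Subtype.val hg)) k)
    refine ⟨_, pCoreOf_isPGroup p (A.comap ProjGenLinGroup.mk), fun s hs e =>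
      le_pCoreOf_of_isNilpotent h1 (zpowers_le.2 e) ?_ (mem_zpowers _),
      fun g hg => le_normalizer_pCoreOf p _ hg⟩
    obtain ⟨j, -, hj⟩ := (Nat.dvd_prime_pow hp).1 (orderOf_dvd_of_pow_eq_one hs)
    exact IsPGroup.of_card (by rw [Nat.card_zpowers, hj])
  have hM : ∀ s : GL (Fin (n + 3)) F, s ^ p ^ (n + 3) = 1 →
      (∀ v, s.1.mulVec v = v → ∃ c : F, v = c • Pi.single 0 1) →
      ∀ A : Subgroup (ProjGenLinGroup (Fin (n + 3)) F), Group.IsNilpotent A →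
      ProjGenLinGroup.mk s ∈ A →
      A ≤ stabilizer _ (Projectivization.mk F _ he) := fun s hs h1 A hA e g hg => by
    obtain ⟨P, hP, h2, h3⟩ := key A hA
    induction g using ProjGenLinGroup.induction_on with | mk g =>
    obtain ⟨v, hv, h4⟩ := exists_fix hP (fun a => a.1.1) rfl fun _ _ => rfl
    obtain ⟨c, rfl⟩ := h1 v (h4 ⟨_, h2 s hs e⟩)
    have hc : c ≠ 0 := fun e => hv (by simp [e])
    have h5 : (g⁻¹ * s * g).1.mulVec _ = _ :=
      h4 ⟨_, (mem_normalizer_iff''.1 (h3 g hg) _).1 (h2 s hs e)⟩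
    obtain ⟨d, hd⟩ := h1 (g.1.mulVec (Pi.single 0 1)) (by
      rw [mulVec_smul] at h5
      conv_rhs => rw [← smul_right_injective _ hc h5]
      rw [mulVec_mulVec, mulVec_mulVec, ← Units.val_mul, ← Units.val_mul, mul_assoc,
        mul_inv_cancel_left])
    rw [mem_stabilizer_iff, Projectivization.PGL.mk_smul_mk, Projectivization.mk_eq_mk_iff']
    exact ⟨d, hd.symm⟩
  have hY : (S * X * S⁻¹) ^ p ^ (n + 3) = 1 := by rw [conj_pow, hX]; simp
  refine two h (hG X (eX ▸ jb_det _)) (hG (S * X * S⁻¹) (by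
      rw [Units.val_mul, Units.val_mul, det_units_conj, eX, jb_det]))
    (M := stabilizer _ (Projectivization.mk F _ he))
    (fun e => ?_) (fun A hA e => ⟨hM X hX (fun v hv => ⟨_, jb_fix (eX ▸ hv)⟩) A hA e, fun e' => ?_⟩)
    (hM _ hY fun v hv => ?_)
  · have := e (hG T (eT ▸ det_transvection_of_ne 1 0 (by simp) 1))
    rw [mem_stabilizer_iff, Projectivization.PGL.mk_smul_mk, Projectivization.mk_eq_mk_iff'] at this
    obtain ⟨d, hd⟩ := this
    simpa [transvection, Units.smul_def, eT] using congrFun hd 1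
  · obtain ⟨P, hP, h2, -⟩ := key A hA
    obtain ⟨v, hv, h4⟩ := exists_fix hP (fun a => (a.1⁻¹).1ᵀ) (by simp) fun _ _ => by simp
    have h5 : X.1ᵀ.mulVec v = v := by simpa only [inv_inv] using h4 ⟨_, P.inv_mem (h2 X hX e)⟩
    have h6 : (S * X * S⁻¹).1ᵀ.mulVec v = v := by
      simpa only [inv_inv] using h4 ⟨_, P.inv_mem (h2 _ hY e')⟩
    have h7 : X.1ᵀ.mulVec (S.1ᵀ.mulVec v) = S.1ᵀ.mulVec v := by
      conv_rhs => rw [← h6]
      rw [mulVec_mulVec, mulVec_mulVec, ← transpose_mul, ← transpose_mul,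
        ← Units.val_mul, ← Units.val_mul, inv_mul_cancel_right]
    have h8 := jb_fix' (eX ▸ h7) 1
    have h9 := jb_fix' (eX ▸ h5)
    have h10 := h9 1
    refine hv (funext fun j => ?_)
    rcases Fin.eq_castSucc_or_eq_last j with ⟨j, rfl⟩ | rfl
    · exact h9 j
    · simp only [Fin.castSucc_one] at h8 h10
      simpa [eS, transvection, add_mulVec, single_mulVec, h10] using h8
  · have h1 : X.1.mulVec ((S⁻¹).1.mulVec v) = (S⁻¹).1.mulVec v := by
      conv_rhs => rw [← hv]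
      rw [mulVec_mulVec, mulVec_mulVec, ← Units.val_mul, ← Units.val_mul,
        mul_assoc S, inv_mul_cancel_left]
    have h2 := congrArg S.1.mulVec (jb_fix (eX ▸ h1))
    rw [mulVec_smul, hS, mulVec_mulVec, ← Units.val_mul, mul_inv_cancel, Units.val_one,
      one_mulVec] at h2
    exact ⟨_, h2⟩

end

/-- A cover of a group is a finite set of proper subgroups whose union is the whole group; it is minimal when no cover has fewer members, and nilpotent when all its members are nilpotent. Let F be a finite field with q elements and n ≥ 3, or n = 2 and q ≥ 4. Then no subgroup of PGL_n(F) = GL_n(F)/Z(GL_n(F)) containing the image of SL_n(F) has a nilpotent minimal cover. -/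
theorem result {F : Type*} [Field F] [Fintype F] (n : ℕ) (hn : 3 ≤ n ∨ (n = 2 ∧ 4 ≤ Fintype.card F))
    (G : Subgroup (GL (Fin n) F ⧸ Subgroup.center (GL (Fin n) F)))
    (hG : ((Matrix.SpecialLinearGroup.toGL : Matrix.SpecialLinearGroup (Fin n) F →* GL (Fin n) F).range).map
      (QuotientGroup.mk' (Subgroup.center (GL (Fin n) F))) ≤ G) :
    ¬ ∃ 𝓐 : Finset (Subgroup ↥G), ((∀ A ∈ 𝓐, A ≠ ⊤) ∧ (∀ g : ↥G, ∃ A ∈ 𝓐, g ∈ A)) ∧ (∀ 𝓑 : Finset (Subgroup ↥G), (∀ A ∈ 𝓑, A ≠ ⊤) ∧ (∀ g : ↥G, ∃ A ∈ 𝓑, g ∈ A) → 𝓐.card ≤ 𝓑.card) ∧ (∀ A ∈ 𝓐, Group.IsNilpotent ↥A) := by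
  rcases hn with hn | ⟨rfl, hn⟩
  · obtain ⟨n, rfl⟩ := Nat.exists_eq_add_of_le' hn
    exact dim_big (G := G) fun s hs => hG ⟨s, ⟨⟨s.1, hs⟩, Units.ext rfl⟩, rfl⟩
  · refine dim_two (G := G) (by rwa [Nat.card_eq_fintype_card]) fun g hg => ?_
    obtain ⟨s, rfl⟩ := Cfsg.Lib.PSL2.mem_pslSub_iff.1 hg
    exact hG ⟨_, ⟨s, rfl⟩, rfl⟩

end Cfsg.Agent.S3894
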