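import Cfsg.Statements.S3903
import Cfsg.Agent.S4040
import Cfsg.Agent.S0556

set_option autoImplicit false
open Cfsg

namespace Cfsg.Agent.S3903

open Subgroup

theorem pgroup_cent {G : Type*} [Group G] [Finite G] (N : Subgroup G) [N.Normal]
    (h : ∀ x : G, x ∉ N → IsPrimePow (orderOf x)) {x : G} (hx : x ∉ N) {p k : ℕ} (hp : p.Prime)
    (hk : orderOf x = p ^ k) : IsPGroup p (centralizer ({x} : Set G)) := by
  haveI : Fact p.Prime := ⟨hp⟩
  rw [IsPGroup.iff_card]
  refine ⟨_, (Nat.eq_prime_pow_of_unique_prime_dvd Nat.card_pos.ne' ?_)⟩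
  intro q hq hqd
  by_contra hne
  haveI : Fact q.Prime := ⟨hq⟩
  obtain ⟨y, hy⟩ := exists_prime_orderOf_dvd_card' q hqd
  have hyo : orderOf (y : G) = q := by rw [Subgroup.orderOf_coe, hy]
  have hc : Commute x (y : G) := by
    have := y.2
    rw [mem_centralizer_singleton_iff] at this
    exact this.symm
  have hcop : (orderOf x).Coprime (orderOf (y : G)) := by
    rw [hk, hyo]
    exact Nat.Coprime.pow_left _ ((Nat.coprime_primes hp hq).2 (Ne.symm hne))
  have hxy : x * y ∉ N := by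
    intro hm
    have h1 : (x * y) ^ q ∈ N := N.pow_mem hm q
    rw [hc.mul_pow, ← hyo, pow_orderOf_eq_one, mul_one] at h1
    apply hx
    have h2 : x ∈ zpowers (x ^ orderOf (y : G)) := mem_zpowers_pow_iff.2 (by rw [Nat.gcd_comm]; exact hcop)
    exact (zpowers_le.2 h1) h2
  have ho := hc.orderOf_mul_eq_mul_orderOf_of_coprime hcop
  obtain ⟨r, j, hr, hj, hrj⟩ := (isPrimePow_nat_iff _).1 (h _ hxy)
  rw [ho, hk, hyo] at hrj
  have hk0 : k ≠ 0 := by
    rintro rfl
    rw [pow_zero, orderOf_eq_one_iff] at hk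
    exact hx (hk ▸ N.one_mem)
  have e1 : p ∣ r ^ j := by rw [hrj]; exact Dvd.dvd.mul_right (dvd_pow_self p hk0) q
  have e2 : q ∣ r ^ j := by rw [hrj]; exact Dvd.intro_left _ rfl
  have f1 := (Nat.prime_dvd_prime_iff_eq hp hr).1 (hp.dvd_of_dvd_pow e1)
  have f2 := (Nat.prime_dvd_prime_iff_eq hq hr).1 (hq.dvd_of_dvd_pow e2)
  exact hne (f2.trans f1.symm)

/-- Let N be a proper normal subgroup of the finite group G such that every element x of G outside N has prime power order and has centralizer C_G(x) a maximal subgroup of G. Then N is solvable. -/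
theorem result {G : Type*} [Group G] [Finite G] (N : Subgroup G) [N.Normal] (hN : N ≠ ⊤)
    (h : ∀ x : G, x ∉ N → IsPrimePow (orderOf x) ∧ IsCoatom (Subgroup.centralizer ({x} : Set G))) : Group.IsSolvable ↥N := by
  classical
  by_cases hodd : ∃ x : G, x ∉ N ∧ ∃ p k : ℕ, p.Prime ∧ p ≠ 2 ∧ orderOf x = p ^ k
  · obtain ⟨x, hx, p, k, hp, hp2, hk⟩ := hodd
    haveI : Fact p.Prime := ⟨hp⟩
    have hP := pgroup_cent N (fun y hy => (h y hy).1) hx hp hk
    have hs : Group.IsSolvable G := by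
      refine Cfsg.Agent.S4040.result _ (h x hx).2 hP.isNilpotent ?_
      obtain ⟨n, hn⟩ := IsPGroup.iff_card.1 hP
      rw [hn]
      exact (hp.odd_of_ne_two hp2).pow
    infer_instance
  have h2 : ∀ x : G, x ∉ N → IsPGroup 2 (centralizer ({x} : Set G)) := by
    intro x hx
    obtain ⟨p, k, hp, -, hk⟩ := (isPrimePow_nat_iff _).1 (h x hx).1
    have : p = 2 := by
      by_contra hne
      exact hodd ⟨x, hx, p, k, hp, hne, hk.symm⟩
    subst this
    exact pgroup_cent N (fun y hy => (h y hy).1) hx hp hk.symm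
  obtain ⟨x₀, hx₀⟩ : ∃ x, x ∉ N := by
    by_contra hh
    push Not at hh
    exact hN (eq_top_iff.2 fun x _ => hh x)
  by_cases hG : IsPGroup 2 G
  · haveI := hG.isNilpotent
    infer_instance
  have hsyl : ∀ x : G, x ∉ N → ∃ S : Sylow 2 G, (S : Subgroup G) = centralizer ({x} : Set G) := by
    intro x hx
    obtain ⟨S, hS⟩ := (h2 x hx).exists_le_sylow
    refine ⟨S, ?_⟩
    rcases hS.lt_or_eq with hlt | heq
    · exfalso
      have := (h x hx).2.2 _ hlt
      apply hG
      have hS2 := S.isPGroup'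
      rw [this] at hS2
      exact hS2.of_equiv Subgroup.topEquiv
    · exact heq.symm
  obtain ⟨S, hS⟩ := hsyl x₀ hx₀
  set P : Subgroup G := (S : Subgroup G) with hPdef
  have hPmax : IsCoatom P := hS ▸ (h x₀ hx₀).2
  by_cases hNP : N ≤ P
  · have : IsPGroup 2 N := S.isPGroup'.to_le hNP
    haveI := this.isNilpotent
    infer_instance
  have htop : P ⊔ N = ⊤ := hPmax.2 _ (left_lt_sup.2 hNP)
  -- counting
  let Z : Set G := {z | z ∈ P ∧ z ∉ N ∧ ∀ u ∈ P, u * z = z * u}
  let A : Set G := {z | z ∈ P ∧ z ∉ N}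
  let T : Set G := {z | z ∉ N}
  have hZA : Z ⊆ A := fun z hz => ⟨hz.1, hz.2.1⟩
  have hsurj : Nat.card T ≤ P.index * Nat.card Z := by
    rw [index, ← Nat.card_prod]
    let f : (G ⧸ P) × Z → T := fun a => ⟨a.1.out * a.2 * a.1.out⁻¹, fun hm => a.2.2.2.1 (by
      have := ‹N.Normal›.conj_mem _ hm a.1.out⁻¹
      simpa [mul_assoc] using this)⟩
    refine Nat.card_le_card_of_surjective f ?_
    rintro ⟨y, hy⟩
    obtain ⟨S', hS'⟩ := hsyl y hy
    obtain ⟨g, hg⟩ := MulAction.exists_smul_eq G S S'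
    have hmem : ∀ u : G, u ∈ P ↔ g * u * g⁻¹ ∈ centralizer ({y} : Set G) := by
      intro u
      rw [← hS', ← hg, Sylow.smul_def, Sylow.pointwise_smul_def, Subgroup.mem_pointwise_smul_iff_inv_smul_mem]
      simp [mul_assoc, hPdef]
    have hz : g⁻¹ * y * g ∈ Z := by
      refine ⟨(hmem _).2 ?_, fun hm => hy ?_, fun u hu => ?_⟩
      · simp [mul_assoc, mem_centralizer_singleton_iff]
      · have := ‹N.Normal›.conj_mem _ hm g
        simpa [mul_assoc] using this
      · have := (hmem u).1 hu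
        rw [mem_centralizer_singleton_iff] at this
        calc u * (g⁻¹ * y * g) = g⁻¹ * (g * u * g⁻¹ * y) * g := by group
          _ = g⁻¹ * (y * (g * u * g⁻¹)) * g := by rw [this]
          _ = _ := by group
    refine ⟨((g : G ⧸ P), ⟨_, hz⟩), Subtype.ext ?_⟩
    obtain ⟨u, hu⟩ := QuotientGroup.mk_out_eq_mul P g
    simp only [f, hu]
    have := hz.2.2 u u.2
    calc g * u * (g⁻¹ * y * g) * (g * u)⁻¹ = g * (u * (g⁻¹ * y * g)) * (g * u)⁻¹ := by group
      _ = g * ((g⁻¹ * y * g) * u) * (g * u)⁻¹ := by rw [this]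
      _ = y := by group
  have c1 : Nat.card T + Nat.card N = Nat.card G := by
    have := Set.ncard_add_ncard_compl (N : Set G)
    rw [add_comm] at this
    exact this
  have c2 : Nat.card A + Nat.card (P ⊓ N : Subgroup G) = Nat.card P := by
    have := Set.ncard_inter_add_ncard_sdiff_eq_ncard (P : Set G) (N : Set G)
    rw [add_comm] at this
    exact this
  have c3 : Nat.card P * P.index = Nat.card G := P.card_mul_index
  have c4 : Nat.card (P ⊓ N : Subgroup G) * P.index = Nat.card N := by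
    have e1 : N.relIndex P = N.index := by
      rw [← relIndex_sup_right, htop, relIndex_top_right]
    have e2 : Nat.card (P ⊓ N : Subgroup G) * N.relIndex P = Nat.card P := by
      rw [relIndex, ← card_mul_index (N.subgroupOf P)]
      congr 1
      rw [← Subgroup.inf_subgroupOf_left, Nat.card_congr (subgroupOfEquivOfLe (inf_le_left : P ⊓ N ≤ P)).toEquiv]
    have e3 : Nat.card N * N.index = Nat.card G := N.card_mul_index
    have hpos : 0 < N.index := Nat.pos_of_ne_zero N.index_ne_zero_of_finite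
    apply Nat.eq_of_mul_eq_mul_right hpos
    rw [e3, ← c3, ← e2, e1]; ring
  have hle : Nat.card A ≤ Nat.card Z := by
    have hpos : 0 < P.index := Nat.pos_of_ne_zero P.index_ne_zero_of_finite
    apply Nat.le_of_mul_le_mul_left _ hpos
    have : Nat.card T = P.index * Nat.card A := by
      have : Nat.card T + Nat.card N = P.index * Nat.card A + Nat.card N := by
        rw [c1, ← c3, ← c4, ← c2]; ring
      omega
    omega
  have hZeq : Z = A := Set.eq_of_subset_of_ncard_le hZA hle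
  have hx₀P : x₀ ∈ P := by rw [hS, mem_centralizer_singleton_iff]
  have hcomm : ∀ z ∈ P, ∀ u ∈ P, u * z = z * u := by
    intro z hz u hu
    by_cases hzN : z ∈ N
    · have h1 : x₀ * z ∈ Z := hZeq ▸ ⟨P.mul_mem hx₀P hz, fun hm => hx₀ (by
        simpa using N.mul_mem hm (N.inv_mem hzN))⟩
      have h0 : x₀ ∈ Z := hZeq ▸ ⟨hx₀P, hx₀⟩
      have e1 := h1.2.2 u hu
      have e0 := h0.2.2 u hu
      rw [← mul_assoc, e0, mul_assoc, mul_assoc] at e1
      exact mul_left_cancel e1
    · have : z ∈ Z := hZeq ▸ ⟨hz, hzN⟩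
      exact this.2.2 u hu
  haveI : IsMulCommutative P := ⟨⟨fun a b => Subtype.ext (hcomm _ b.2 _ a.2)⟩⟩
  haveI : Group.IsSolvable G := ⟨⟨3, Cfsg.Agent.S0556.result P hPmax⟩⟩
  infer_instance

end Cfsg.Agent.S3903
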