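import Cfsg.Statements.S3901
import Cfsg.Agent.S3903
import Cfsg.Agent.S0225
import Cfsg.Agent.S0205
import Cfsg.Agent.S0033
import Cfsg.Agent.Lib.Char.Burnside
import Cfsg.Agent.Lib.Core.Frattini

set_option autoImplicit false
open Cfsg

namespace Cfsg.Agent.S3901

open Subgroup Cfsg.Lib.Core

section
variable {G : Type*} [Group G] [Finite G] {N : Subgroup G} [N.Normal]

theorem pgroup_cent' (h : ∀ x : G, x ∉ N → IsPrimePow (orderOf x)) {x : G} (hx : x ∉ N) {p : ℕ} (hp : p.Prime)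
    (hk : x ^ p ∈ N) : IsPGroup p (centralizer ({x} : Set G)) := by
  obtain ⟨r, j, hr, -, hrj⟩ := (isPrimePow_nat_iff _).1 (h _ hx)
  by_cases e : r = p
  · exact Cfsg.Agent.S3903.pgroup_cent N h hx hp (e ▸ hrj.symm)
  · refine absurd ((zpowers_le.2 hk) (mem_zpowers_pow_iff.2 ?_)) hx
    rw [← hrj]
    exact Nat.Coprime.pow_right _ ((Nat.coprime_primes hp hr).2 (Ne.symm e))

theorem eq_one_of_commute (h : ∀ x : G, x ∉ N → IsPrimePow (orderOf x)) {x : G} (hx : x ∉ N) {p : ℕ}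
    (hp : p.Prime) (hk : x ^ p ∈ N) {A : Subgroup G} (hA : p.Coprime (Nat.card A)) {y : G} (hy : y ∈ A)
    (hc : x * y * x⁻¹ = y) : y = 1 := by
  have hm : y ∈ centralizer ({x} : Set G) := by
    rw [mem_centralizer_singleton_iff]
    calc y * x = x * y * x⁻¹ * x := by rw [hc]
      _ = x * y := by group
  obtain ⟨k, hk⟩ := pgroup_cent' h hx hp hk ⟨y, hm⟩
  have h1 : orderOf y ∣ p ^ k := orderOf_dvd_of_pow_eq_one (congrArg Subtype.val hk)
  exact orderOf_eq_one_iff.1 (Nat.eq_one_of_dvd_coprimes (hA.pow_left k) h1 (A.orderOf_dvd_natCard hy))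

theorem inverts (h : ∀ x : G, x ∉ N → IsPrimePow (orderOf x)) {a : G} (ha : a ∉ N) (ha2 : a ^ 2 ∈ N)
    {A : Subgroup G} (hA : Nat.Coprime 2 (Nat.card A)) (hn : a ∈ normalizer (A : Set G))
    (hc : ∀ y ∈ A, Commute (a ^ 2) y) {y : G} (hy : y ∈ A) : a * y * a⁻¹ = y⁻¹ := by
  let φ : MulAut A := A.normalizerMonoidHom ⟨a, hn⟩
  have hφ : ∀ y : A, (φ y : G) = a * y * a⁻¹ := fun _ => rfl
  have h1 : MonoidHom.FixedPointFree φ := fun y e =>
    Subtype.ext (eq_one_of_commute h ha Nat.prime_two ha2 hA y.2 ((hφ y).symm.trans (congrArg Subtype.val e)))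
  have h2 : Function.Involutive φ := fun y => Subtype.ext (by
    rw [hφ, hφ]
    calc a * (a * y * a⁻¹) * a⁻¹ = a ^ 2 * y * (a ^ 2)⁻¹ := by rw [pow_two]; group
      _ = y := by rw [(hc y y.2).eq, mul_inv_cancel_right])
  exact (hφ ⟨y, hy⟩).symm.trans (congrArg Subtype.val (congrFun (h1.coe_eq_inv_of_involutive h2) ⟨y, hy⟩))

theorem two_group (h : ∀ x : G, x ∉ N → IsPrimePow (orderOf x)) {a b : G} (ha : a ∉ N) (ha2 : a ^ 2 ∈ N)
    (hb : b ∉ N) (hb2 : b ^ 2 ∈ N) (hab : a * b ∉ N) (hab2 : (a * b) ^ 2 ∈ N) {W : Subgroup G}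
    (hW : Group.IsNilpotent W) (haW : a ^ 2 ∈ W) (hbW : b ^ 2 ∈ W) (han : a ∈ normalizer (W : Set G))
    (hbn : b ∈ normalizer (W : Set G)) {s : ℕ} (hs : s.Prime) (hd : s ∣ Nat.card W) : s = 2 := by
  by_contra hne
  haveI : Fact s.Prime := ⟨hs⟩
  obtain ⟨y, hy⟩ := exists_prime_orderOf_dvd_card' s hd
  let A : Subgroup G := (pCore s W).map W.subtype
  have hAW : A ≤ W := map_subtype_le _
  have hAp : IsPGroup s A := (pCore_isPGroup s W).map _
  have hA : Nat.Coprime 2 (Nat.card A) := by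
    obtain ⟨k, hk⟩ := IsPGroup.iff_card.1 hAp
    rw [hk]
    exact ((Nat.coprime_primes Nat.prime_two hs).2 (Ne.symm hne)).pow_right k
  have hyA : (y : G) ∈ A := le_pCoreOf_of_isNilpotent hW (zpowers_le.2 y.2)
    (IsPGroup.of_card (n := 1) (by rw [Nat.card_zpowers, Subgroup.orderOf_coe, hy, pow_one])) (mem_zpowers _)
  have key : ∀ c : G, c ∉ N → c ^ 2 ∈ N → c ^ 2 ∈ W → ∀ z ∈ A, Commute (c ^ 2) z := by
    intro c hc hc2 hcW z hz
    have hm : c ^ 2 ∈ centralizer ({c} : Set G) := by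
      rw [mem_centralizer_singleton_iff]; exact ((Commute.refl c).pow_left 2).eq
    obtain ⟨k, hk⟩ := pgroup_cent' h hc Nat.prime_two hc2 ⟨_, hm⟩
    have h1 : orderOf (c ^ 2) ∣ 2 ^ k := orderOf_dvd_of_pow_eq_one (congrArg Subtype.val hk)
    have h2 := commute_of_coprime_orderOf (x := (⟨c ^ 2, hcW⟩ : W)) (y := ⟨z, hAW hz⟩) (by
      rw [← Subgroup.orderOf_coe, ← Subgroup.orderOf_coe]
      exact Nat.Coprime.coprime_dvd_left h1 ((hA.pow_left k).coprime_dvd_right (A.orderOf_dvd_natCard hz)))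
    exact congrArg Subtype.val h2.eq
  have h1 := inverts h hb hb2 hA (normalizer_le_normalizer_pCoreOf s W hbn) (key b hb hb2 hbW) hyA
  have h2 := inverts h ha ha2 hA (normalizer_le_normalizer_pCoreOf s W han) (key a ha ha2 haW) (A.inv_mem hyA)
  have h3 : (y : G) = 1 := eq_one_of_commute h hab Nat.prime_two hab2 hA hyA (by
    calc a * b * y * (a * b)⁻¹ = a * (b * y * b⁻¹) * a⁻¹ := by group
      _ = y := by rw [h1, h2, inv_inv])
  rw [← Subgroup.orderOf_coe, h3, orderOf_one] at hy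
  exact hs.one_lt.ne hy

theorem exists_four (h : ∀ x : G, x ∉ N → IsPrimePow (orderOf x)) (hs : ¬ Group.IsSolvable (G ⧸ N)) :
    ∃ E : Subgroup (G ⧸ N), IsKleinFour E := by
  by_contra hE
  push Not at hE
  obtain ⟨z, hz, M, hM, hMo, hc⟩ := Cfsg.Agent.S0225.result
    (Nat.not_odd_iff_even.1 fun e => hs (Cfsg.Agent.S0205.result e)) hE
  haveI := Cfsg.Agent.S0205.result hMo
  have hz1 : orderOf (QuotientGroup.mk z : (G ⧸ N) ⧸ M) = 2 := by
    refine orderOf_eq_prime (by rw [← QuotientGroup.mk_pow, ← hz, pow_orderOf_eq_one]; rfl) fun e => ?_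
    have := M.orderOf_dvd_natCard ((QuotientGroup.eq_one_iff z).1 e)
    rw [hz] at this
    exact (Nat.not_even_iff_odd.2 hMo) (even_iff_two_dvd.2 this)
  have hp : IsPGroup 2 ((G ⧸ N) ⧸ M) := by
    rw [IsPGroup.iff_card]
    refine ⟨_, Nat.eq_prime_pow_of_unique_prime_dvd Nat.card_pos.ne' fun {q} hq hd => ?_⟩
    by_contra hne
    haveI : Fact q.Prime := ⟨hq⟩
    obtain ⟨g, hg⟩ := exists_prime_orderOf_dvd_card' q hd
    obtain ⟨g, rfl⟩ := QuotientGroup.mk_surjective g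
    have hcm : Commute (QuotientGroup.mk z : (G ⧸ N) ⧸ M) (QuotientGroup.mk g) := by
      rw [← commutatorElement_eq_one_iff_commute]
      exact (QuotientGroup.eq_one_iff (z * g * z⁻¹ * g⁻¹)).2 (hc g)
    have ho := hcm.orderOf_mul_eq_mul_orderOf_of_coprime
      (by rw [hz1, hg]; exact (Nat.coprime_primes Nat.prime_two hq).2 (Ne.symm hne))
    rw [hz1, hg, ← QuotientGroup.mk_mul] at ho
    obtain ⟨y, hy⟩ := QuotientGroup.mk_surjective (z * g)
    have hyN : y ∉ N := fun e => by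
      rw [← hy, (QuotientGroup.eq_one_iff y).2 e, QuotientGroup.mk_one, orderOf_one] at ho
      omega
    obtain ⟨r, j, hr, -, hrj⟩ := (isPrimePow_nat_iff _).1 (h _ hyN)
    have h1 : 2 * q ∣ r ^ j := by
      rw [← ho, hrj, ← hy]
      exact (orderOf_map_dvd (QuotientGroup.mk' M) _).trans (orderOf_map_dvd (QuotientGroup.mk' N) y)
    have f1 := (Nat.prime_dvd_prime_iff_eq Nat.prime_two hr).1
      (Nat.prime_two.dvd_of_dvd_pow ((Dvd.intro _ rfl).trans h1))
    have f2 := (Nat.prime_dvd_prime_iff_eq hq hr).1 (hq.dvd_of_dvd_pow ((Dvd.intro_left _ rfl).trans h1))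
    exact hne (f2.trans f1.symm)
  haveI := hp.isNilpotent
  exact hs (Group.isSolvable_of_ker_le_range M.subtype (QuotientGroup.mk' M) (by simp))

end

/-- Let N be a non-trivial normal subgroup of the finite group G such that every element of G outside N has prime power order. If N is not solvable, then G/N is solvable. -/
theorem result {G : Type*} [Group G] [Finite G] (N : Subgroup G) [N.Normal] (hN : N ≠ ⊥) (hns : ¬ Group.IsSolvable ↥N)
    (h : ∀ x : G, x ∉ N → IsPrimePow (orderOf x)) : Group.IsSolvable (G ⧸ N) := by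
  classical
  by_contra hs
  obtain ⟨r, hr, hrd, hr2⟩ : ∃ r : ℕ, r.Prime ∧ r ∣ Nat.card N ∧ r ≠ 2 := by
    by_contra e
    push Not at e
    have hp : IsPGroup 2 N := IsPGroup.iff_card.2
      ⟨_, Nat.eq_prime_pow_of_unique_prime_dvd Nat.card_pos.ne' fun {q} hq hd => e q hq hd⟩
    haveI := hp.isNilpotent
    exact hns inferInstance
  haveI : Fact r.Prime := ⟨hr⟩
  obtain ⟨P⟩ : Nonempty (Sylow r N) := inferInstance
  set R : Subgroup G := (P : Subgroup N).map N.subtype with hR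
  have hRN : R ≤ N := map_subtype_le _
  have hRp : IsPGroup r R := P.isPGroup'.map _
  have hrR : r ∣ Nat.card R := by
    rw [hR, card_map_of_injective N.subtype_injective]
    exact P.dvd_card_of_dvd_card hrd
  obtain ⟨L, hLR, hL, hD⟩ := exists_supplement_inf_le_frattiniOf N (normalizer (R : Set G))
  rw [sup_comm N (normalizer _), P.normalizer_sup_eq_top] at hL
  have hDn : Group.IsNilpotent ↥(N ⊓ L) := isNilpotent_of_le hD (isNilpotent_frattiniOf L)
  have hLD : L ≤ normalizer ((N ⊓ L : Subgroup G) : Set G) :=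
    le_normalizer_inf le_normalizer_of_normal le_normalizer
  have lift : ∀ x : G ⧸ N, ∃ y ∈ L, (y : G ⧸ N) = x := by
    intro x
    obtain ⟨x, rfl⟩ := QuotientGroup.mk_surjective x
    have hx : x ∈ ((N ⊔ L : Subgroup G) : Set G) := by rw [hL]; trivial
    rw [Subgroup.normal_mul] at hx
    obtain ⟨n, hn, y, hy, rfl⟩ := hx
    exact ⟨y, hy, by
      change (y : G ⧸ N) = ((n * y : G) : G ⧸ N)
      rw [QuotientGroup.mk_mul, (QuotientGroup.eq_one_iff n).2 hn, one_mul]⟩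
  obtain ⟨E, hE⟩ := exists_four h hs
  obtain ⟨a, b, ha1, hb1, hab⟩ : ∃ a b : E, a ≠ 1 ∧ b ≠ 1 ∧ a * b ≠ 1 := by
    have h3 : 2 < Nat.card E := by rw [hE.card_four]; norm_num
    obtain ⟨a, ha⟩ : ∃ a : E, a ≠ 1 := by
      haveI : Nontrivial E := Finite.one_lt_card_iff_nontrivial.1 (by omega)
      exact exists_ne 1
    haveI := Fintype.ofFinite E
    rw [Nat.card_eq_fintype_card] at h3
    obtain ⟨b, hb⟩ := Finset.exists_mem_notMem_of_card_lt_card (s := {1, a⁻¹}) (t := Finset.univ)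
      (Finset.card_le_two.trans_lt h3)
    simp only [Finset.mem_univ, Finset.mem_insert, Finset.mem_singleton, true_and, not_or] at hb
    exact ⟨a, b, ha, hb.1, fun e => hb.2 (eq_inv_of_mul_eq_one_right e)⟩
  have sq : ∀ (c : E) (y : G), (y : G ⧸ N) = c → c ≠ 1 → y ∉ N ∧ y ^ 2 ∈ N := by
    intro c y e hc
    refine ⟨fun hy => hc (Subtype.ext (e.symm.trans ((QuotientGroup.eq_one_iff y).2 hy))), ?_⟩
    rw [← QuotientGroup.eq_one_iff, QuotientGroup.mk_pow, e, ← Subgroup.coe_pow, pow_two,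
      IsKleinFour.mul_self]
    rfl
  obtain ⟨a', haL, ha'⟩ := lift a
  obtain ⟨b', hbL, hb'⟩ := lift b
  obtain ⟨a1, a2⟩ := sq a a' ha' ha1
  obtain ⟨b1, b2⟩ := sq b b' hb' hb1
  obtain ⟨c1, c2⟩ := sq (a * b) (a' * b') (by rw [QuotientGroup.mk_mul, ha', hb']; rfl) hab
  have haD : a' ^ 2 ∈ N ⊓ L := ⟨a2, L.pow_mem haL 2⟩
  have hbD : b' ^ 2 ∈ N ⊓ L := ⟨b2, L.pow_mem hbL 2⟩
  have hD2 := fun (s : ℕ) => two_group (s := s) h a1 a2 b1 b2 c1 c2 hDn haD hbD (hLD haL) (hLD hbL)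
  obtain ⟨p, hp, hpd, hp2, hpr⟩ : ∃ p : ℕ, p.Prime ∧ p ∣ Nat.card (G ⧸ N) ∧ p ≠ 2 ∧ p ≠ r := by
    by_contra e
    push Not at e
    exact hs (Cfsg.Lib.Char.isSolvable_of_forall_prime_dvd _ 2 r fun q hq hd => by
      by_cases h2 : q = 2
      · exact Or.inl h2
      · exact Or.inr (e q hq hd h2))
  haveI : Fact p.Prime := ⟨hp⟩
  obtain ⟨x, hx⟩ := exists_prime_orderOf_dvd_card' p hpd
  obtain ⟨x, hxL, rfl⟩ := lift x
  have x1 : x ∉ N := fun e => by
    rw [(QuotientGroup.eq_one_iff x).2 e, orderOf_one] at hx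
    exact hp.one_lt.ne hx
  have x2 : x ^ p ∈ N := by
    rw [← QuotientGroup.eq_one_iff, QuotientGroup.mk_pow, ← hx, pow_orderOf_eq_one]
  set W : Subgroup G := (N ⊓ L) ⊔ R with hW
  have hWc : p.Coprime (Nat.card W) := by
    refine Nat.Coprime.coprime_dvd_right (card_sup_dvd (inf_le_right.trans hLR)) (Nat.Coprime.mul_right ?_ ?_)
    · exact (hp.coprime_iff_not_dvd).2 fun e => hp2 (hD2 p hp e)
    · obtain ⟨k, hk⟩ := IsPGroup.iff_card.1 hRp
      rw [hk]
      exact ((Nat.coprime_primes hp hr).2 hpr).pow_right k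
  have hLW : L ≤ normalizer (W : Set G) := le_normalizer_sup hLD hLR
  have x3 : x ^ p = 1 := eq_one_of_commute h x1 hp x2 hWc
    (le_sup_left (a := N ⊓ L) (b := R) ⟨x2, L.pow_mem hxL p⟩) (by group)
  let φ : MulAut W := W.normalizerMonoidHom ⟨x, hLW hxL⟩
  have hφ : ∀ y : W, (φ y : G) = x * y * x⁻¹ := fun _ => rfl
  have h1 : MonoidHom.FixedPointFree (φ : W →* W) := fun y e =>
    Subtype.ext (eq_one_of_commute h x1 hp x2 hWc y.2 ((hφ y).symm.trans (congrArg Subtype.val e)))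
  have hrW : r ∣ Nat.card W := hrR.trans (card_dvd_of_le le_sup_right)
  have h2 : orderOf φ = p := by
    refine orderOf_eq_prime ?_ fun e => ?_
    · rw [← map_pow]
      exact (congrArg _ (Subtype.ext x3)).trans (map_one _)
    · obtain ⟨y, hy⟩ := exists_prime_orderOf_dvd_card' r hrW
      have : y = 1 := h1 y (by rw [e]; rfl)
      rw [this, orderOf_one] at hy
      exact hr.one_lt.ne hy
  exact hr2 (two_group h a1 a2 b1 b2 c1 c2 (Cfsg.Agent.S0033.result φ h1 p hp h2) (le_sup_left (b := R) haD)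
    (le_sup_left (b := R) hbD) (hLW haL) (hLW hbL) hr hrW)

end Cfsg.Agent.S3901
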