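import Cfsg.Statements.S3920
import Cfsg.Agent.Lib.Misc.Cyclic

set_option autoImplicit false
open Cfsg

namespace Cfsg.Agent.S3920

section
open DihedralGroup

/-- The dihedral subgroup attached to `d`. -/
def dih (n : ℕ) (d : ZMod n) : Subgroup (DihedralGroup n) where
  carrier := {x | ∃ i, d * i = 0 ∧ (x = r i ∨ x = sr i)}
  mul_mem' := by
    rintro _ _ ⟨i, hi, rfl | rfl⟩ ⟨j, hj, rfl | rfl⟩
    · exact ⟨i + j, by rw [mul_add, hi, hj, add_zero], Or.inl rfl⟩
    · exact ⟨j - i, by rw [mul_sub, hi, hj, sub_zero], Or.inr rfl⟩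
    · exact ⟨i + j, by rw [mul_add, hi, hj, add_zero], Or.inr rfl⟩
    · exact ⟨j - i, by rw [mul_sub, hi, hj, sub_zero], Or.inl rfl⟩
  one_mem' := ⟨0, mul_zero _, Or.inl rfl⟩
  inv_mem' := by
    rintro _ ⟨i, hi, rfl | rfl⟩
    · exact ⟨-i, by rw [mul_neg, hi, neg_zero], Or.inl rfl⟩
    · exact ⟨i, hi, Or.inr rfl⟩

theorem r_mem_dih {n : ℕ} {d i : ZMod n} : r i ∈ dih n d ↔ d * i = 0 :=
  ⟨by rintro ⟨j, hj, h | h⟩ <;> simp_all, fun h => ⟨i, h, Or.inl rfl⟩⟩

theorem sr_mem_dih {n : ℕ} {d i : ZMod n} : sr i ∈ dih n d ↔ d * i = 0 :=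
  ⟨by rintro ⟨j, hj, h | h⟩ <;> simp_all, fun h => ⟨i, h, Or.inr rfl⟩⟩

theorem not_comm_dih {n : ℕ} {d i : ZMod n} (h : d * i = 0) (h2 : i + i ≠ 0) : ¬ IsMulCommutative (dih n d) := by
  intro hc
  have := congrArg Subtype.val (hc.is_comm.comm ⟨r i, r_mem_dih.2 h⟩ ⟨sr 0, sr_mem_dih.2 (mul_zero _)⟩)
  simp only [Subgroup.coe_mul, r_mul_sr, sr_mul_r, sr.injEq] at this
  exact h2 (by linear_combination -this)

theorem exists_of_not_cyclic {n : ℕ} [NeZero n] {H : Subgroup (DihedralGroup n)} (h : ¬ IsCyclic H) :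
    ∃ i j : ZMod n, sr i ∈ H ∧ r j ∈ H ∧ j ≠ 0 := by
  have h1 : ∃ i, sr i ∈ H := by
    by_contra hc
    push Not at hc
    have : H ≤ Subgroup.zpowers (r 1) := by
      rintro (i | i) hi
      · exact ⟨i.val, by simp [r_one_pow]⟩
      · exact absurd hi (hc i)
    exact h (Subgroup.isCyclic_of_le this)
  obtain ⟨i, hi⟩ := h1
  by_contra hc
  push Not at hc
  have : H ≤ Subgroup.zpowers (sr i) := by
    rintro (j | j) hj
    · rw [hc i j hi hj]; exact one_mem _
    · have := hc i (j - i) hi (mul_mem hi hj)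
      rw [sub_eq_zero.1 this]; exact Subgroup.mem_zpowers _
  exact h (Subgroup.isCyclic_of_le this)

theorem natCast_ne_zero {n a : ℕ} (h0 : 0 < a) (h : a < n) : (a : ZMod n) ≠ 0 := by
  rw [Ne, ZMod.natCast_eq_zero_iff]
  exact Nat.not_dvd_of_pos_of_lt h0 h

end

/-- Say that a group has self-centralizing non-cyclic subgroups when every non-cyclic subgroup H satisfies C_G(H) ≤ H. For n ≥ 3, the dihedral group of order 2n has self-centralizing non-cyclic subgroups if and only if n is odd or a power of 2. -/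
theorem result (n : ℕ) (hn : 3 ≤ n) : (∀ H : Subgroup (DihedralGroup n), ¬ IsCyclic ↥H → Subgroup.centralizer (H : Set (DihedralGroup n)) ≤ H) ↔ (Odd n ∨ ∃ k : ℕ, n = 2 ^ k) := by
  open DihedralGroup in
  haveI : NeZero n := ⟨by omega⟩
  constructor
  · intro h
    by_contra hc
    push Not at hc
    obtain ⟨p, hp, hpn, hp2⟩ := (Nat.eq_two_pow_or_exists_odd_prime_and_dvd n).resolve_left fun ⟨k, hk⟩ => hc.2 k hk
    obtain ⟨m, hm⟩ := Nat.not_odd_iff_even.1 hc.1
    obtain ⟨c, hc'⟩ := hpn
    have hp3 : 3 ≤ p := by obtain ⟨t, rfl⟩ := hp2; have := hp.two_le; omega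
    have hc0 : 0 < c := Nat.pos_of_ne_zero fun e => by simp [e] at hc'; omega
    have h1 : ¬ IsMulCommutative (dih n p) := not_comm_dih (i := c)
      (by rw [← Nat.cast_mul, ← hc', ZMod.natCast_self])
      (by rw [← Nat.cast_add]; exact natCast_ne_zero (by omega) (by nlinarith))
    have hm2 : (m : ZMod n) + m = 0 := by rw [← Nat.cast_add, ← hm, ZMod.natCast_self]
    have h2 : r (m : ZMod n) ∈ dih n p := h _ (fun hcy => h1 hcy.isMulCommutative) (by
      rintro (i | i) _
      · simp [add_comm]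
      · simp only [r_mul_sr, sr_mul_r, sr.injEq]; linear_combination hm2)
    obtain ⟨t, rfl⟩ := hp2
    have h3 := r_mem_dih.1 h2
    push_cast at h3
    exact natCast_ne_zero (n := n) (a := m) (by omega) (by omega) (by linear_combination h3 - t * hm2)
  · intro h H hH
    obtain ⟨i, j, hi, hj, hj0⟩ := exists_of_not_cyclic hH
    have key : ∀ l : ZMod n, l + l = 0 → j + j = 0 ∨ True → r l ∈ H := by
      intro l hl _
      rcases h with h | ⟨k, hk⟩
      · have h2 : IsUnit (2 : ZMod n) := by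
          exact_mod_cast (ZMod.isUnit_iff_coprime 2 n).2 (Nat.coprime_two_left.2 h)
        have : l = 0 := h2.mul_right_eq_zero.1 (by linear_combination hl)
        rw [this]; exact one_mem H
      · by_cases hl0 : l = 0
        · rw [hl0]; exact one_mem H
        have hcy : IsCyclic (Subgroup.zpowers (r 1 : DihedralGroup n)) := inferInstance
        have hm : ∀ i : ZMod n, r i ∈ Subgroup.zpowers (r 1 : DihedralGroup n) := fun i => ⟨i.val, by simp [r_one_pow]⟩
        have o1 : orderOf (r l : DihedralGroup n) = 2 := orderOf_eq_prime (by rw [pow_two, r_mul_r, hl]; rfl)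
          (fun e => hl0 (r.inj e))
        have o2 : orderOf (r j : DihedralGroup n) ∣ 2 ^ k := by
          have := Subgroup.orderOf_dvd_natCard _ (hm j)
          rw [Nat.card_zpowers, orderOf_r_one] at this
          exact this.trans hk.dvd
        obtain ⟨s, -, hs⟩ := (Nat.dvd_prime_pow Nat.prime_two).1 o2
        have o3 : 2 ∣ orderOf (r j : DihedralGroup n) := by
          rw [hs]
          refine dvd_pow_self 2 fun e => hj0 ?_
          rw [e, pow_zero, orderOf_eq_one_iff] at hs
          exact r.inj hs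
        exact Subgroup.zpowers_le.2 hj (Cfsg.Lib.Misc.mem_zpowers_of_orderOf_dvd_of_cyclic hcy (hm l) (hm j) (o1 ▸ o3))
    rintro (l | l) hl
    · have := hl _ hi
      simp only [r_mul_sr, sr_mul_r, sr.injEq] at this
      exact key l (by linear_combination this) (Or.inr trivial)
    · have := hl _ hi
      simp only [sr_mul_sr, r.injEq] at this
      have h2 := mul_mem hi (key (l - i) (by linear_combination this) (Or.inr trivial))
      simpa using h2

end Cfsg.Agent.S3920
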