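import Cfsg.Statements.S3921
import Cfsg.Agent.Lib.CIT.Main
import Cfsg.Agent.Lib.ZStar.Main
import Cfsg.Agent.Lib.Sig.AbSyl
import Cfsg.Agent.Lib.PSL2.Extra

set_option autoImplicit false
open Cfsg

namespace Cfsg.Agent.S3921

section
open Subgroup Cfsg.Lib Cfsg.Lib.Inv Cfsg.Lib.PSL2 Cfsg.Lib.CIT

open scoped MatrixGroups

theorem cit {G : Type*} [Group G] [Finite G] [IsSimpleGroup G] (hna : ¬ IsMulCommutative G)
    (h : ∀ H : Subgroup G, ¬ IsCyclic H → centralizer (H : Set G) ≤ H) : IsCIT G := by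
  intro t x ht hx ho
  have ht2 := mul_self_of_orderOf ht
  obtain ⟨s, hs, hst, hc⟩ : ∃ s, orderOf s = 2 ∧ s ≠ t ∧ t * s = s * t := by
    by_contra! e
    have h1 : t ∈ center G := mem_center_iff.2 fun g => by
      have := ZStar.zstar ⟨ht, fun g hg => by_contra fun e' =>
        e _ ((orderOf_conj' g t).trans ht) e' hg⟩ g
      rw [Sig.oddCore_eq_bot_of_simple hna, mem_bot] at this
      exact (commutatorElement_eq_one_iff_mul_comm.1 this).symm
    rcases (inferInstance : (center G).Normal).eq_bot_or_eq_top with e | e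
    · exact ne_one_of_orderOf ht (mem_bot.1 (e ▸ h1))
    · exact hna ⟨⟨fun a b => mem_center_iff.1 (e.ge (mem_top b)) a⟩⟩
  have hQ : ∀ s ∈ centralizer ({t} : Set G), s * s = 1 →
      s ∈ (pCore 2 (centralizer ({t} : Set G))).map (centralizer {t}).subtype := fun s hs h2 => by
    by_contra e
    obtain ⟨y, hy, y1, yo, hi⟩ := exists_odd_inverted_of_not_mem_pCore_map hs h2 e
    have h3 : ¬ Commute s y := fun e => y1 (by
      rw [e.eq, mul_inv_cancel_right, eq_inv_iff_mul_eq_one, ← sq, ← orderOf_dvd_iff_pow_eq_one] at hi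
      exact orderOf_eq_one_iff.1 (Nat.Coprime.eq_one_of_dvd yo.coprime_two_right hi))
    have h4 : s ∈ normalizer (zpowers y : Set G) := PGroup.mem_normalizer_of_commutator_mem <| by
      rintro _ ⟨k, rfl⟩
      simp only [commutatorElement_def, ← conj_zpow, hi]
      exact mul_mem (zpow_mem (inv_mem (mem_zpowers y)) k) (inv_mem (zpow_mem (mem_zpowers y) k))
    obtain ⟨_, ⟨k, rfl⟩, j, e1⟩ := (PGroup.mem_sup_zpowers_iff h4).1
      (h (zpowers y ⊔ zpowers s) (fun hc => h3 (PGroup.isMulCommutative_iff.1 hc.isMulCommutative _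
        (mem_sup_right (mem_zpowers s)) _ (mem_sup_left (mem_zpowers y))))
        (le_centralizer_iff.1 (sup_le (zpowers_le.2 hy) (zpowers_le.2 hs) |>.trans
          (by simp [zpowers_eq_closure, centralizer_closure])) (mem_zpowers t)))
    rcases (mem_zpowers_iff_of_mul_self h2).1 (zpow_mem (mem_zpowers s) j) with e2 | e2
    · have := orderOf_dvd_of_mem_zpowers (show t ∈ zpowers y from ⟨k, by simp [e1, e2]⟩)
      exact (Nat.not_even_iff_odd.2 yo) (even_iff_two_dvd.2 (ht ▸ this))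
    · have h5 : Commute y (y ^ k * s) := by
        rw [← e2, ← e1]; exact mem_centralizer_singleton_iff.1 hy
      exact h3 (by simpa using (((Commute.refl y).zpow_right k).inv_right.mul_right h5).symm)
  have hV := k4_sup ht hs hst.symm hc
  have hVc := h _ (PGroup.elemAb_not_isCyclic (k4_elemAb hV) hV.card_four.ge)
  have h1 := hQ t (mem_centralizer_singleton_iff.2 rfl) ht2
  have h2 := hQ s (mem_centralizer_singleton_iff.2 hc.symm) (mul_self_of_orderOf hs)
  have h3 := sup_le (zpowers_le.2 h1) (zpowers_le.2 h2)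
  obtain ⟨S, hS⟩ := ((Core.pCore_isPGroup 2 (centralizer ({t} : Set G))).map
    (centralizer {t}).subtype).exists_le_sylow
  have h4 := Core.le_normalizer_map_subtype (pCore 2 (centralizer ({t} : Set G)))
    (mem_centralizer_singleton_iff.2 hx.symm)
  have h5 : x ∈ centralizer (((pCore 2 (centralizer ({t} : Set G))).map
      (centralizer {t}).subtype : Subgroup G) : Set G) := by
    by_contra e
    obtain ⟨a, b, m, ε, δ, hm⟩ : ∃ a b m ε δ, MC (S : Subgroup G) a b m ε δ := by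
      rcases OddChar.dih_or_qd hna (h3.trans hS) hV.card_four (inf_le_right.trans hVc) with
        ⟨a, b, m, hm⟩ | ⟨a, b, m, hm⟩ <;> exact ⟨_, _, _, _, _, hm⟩
    rcases hm.odd_aut hS h4 ho e with h6 | h6
    · exact e (k4_mem_centralizer_of_odd h6 h4 ho h1 (ne_one_of_orderOf ht)
        (mul_inv_eq_iff_eq_mul.2 hx.symm))
    · exact hst (q8_inv_unique h6 h2 h1 (ne_one_of_orderOf hs) (ne_one_of_orderOf ht)
        (mul_self_of_orderOf hs) ht2)
  have h6 := k4_mul_self hV (hVc (centralizer_le (SetLike.coe_subset_coe.2 h3) h5))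
  rw [← sq, ← orderOf_dvd_iff_pow_eq_one] at h6
  exact orderOf_eq_one_iff.1 (Nat.Coprime.eq_one_of_dvd ho.coprime_two_right h6)

theorem num {q m : ℕ} (hq : q = 4 ∨ q = 9 ∨ q.Prime ∧ ∃ k, q = 2 ^ k + 1 ∨ q = 2 ^ k - 1)
    (hm : m = q - 1 ∨ m = q + 1) (h : 2 ∣ m / Nat.gcd 2 (q - 1)) :
    ∃ j, m / Nat.gcd 2 (q - 1) = 2 ^ j := by
  rcases hq with rfl | rfl | ⟨hp, k, hk⟩
  · rcases hm with rfl | rfl <;> simp at h
  · rcases hm with rfl | rfl
    · exact ⟨2, rfl⟩
    · simp at h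
  have h2 := hp.two_le
  rcases k with _ | _ | k
  · obtain rfl : q = 2 := by omega
    rcases hm with rfl | rfl <;> simp at h
  · obtain rfl : q = 3 := by omega
    rcases hm with rfl | rfl
    exacts [⟨0, rfl⟩, ⟨1, rfl⟩]
  have := Nat.two_pow_pos k
  rw [pow_succ, pow_succ] at hk
  rw [Nat.gcd_eq_left (by omega)] at h ⊢
  exact ⟨k + 1, by rw [pow_succ]; omega⟩

theorem psl {F : Type} [Field F] [Finite F] (hq : Nat.card F = 4 ∨ Nat.card F = 9 ∨
    (Nat.card F).Prime ∧ ∃ k, Nat.card F = 2 ^ k + 1 ∨ Nat.card F = 2 ^ k - 1)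
    (H : Subgroup PSL(2, F)) (hH : ¬ IsCyclic H) : centralizer (H : Set PSL(2, F)) ≤ H := by
  intro c hc
  rcases eq_or_ne c 1 with rfl | c1
  · exact one_mem _
  have h0 : H ≤ centralizer {c} := fun x hx => mem_centralizer_singleton_iff.2 (hc x hx)
  rcases exists_unipL_or_torusL (AlgebraicClosure F) c1 with ⟨x, hx⟩ | ⟨a, b, m, hm, hx⟩
  · rw [centralizer_of_mem_unipL hx c1] at h0
    have h1 := card_dvd_of_le h0
    rw [card_unipL] at h1
    obtain ⟨r, k, hr, hk, e⟩ : ∃ r k : ℕ, r.Prime ∧ k ≤ 2 ∧ Nat.card F = r ^ k := by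
      rcases hq with e | e | ⟨e, -⟩
      exacts [⟨2, 2, Nat.prime_two, le_rfl, e⟩, ⟨3, 2, Nat.prime_three, le_rfl, e⟩,
        ⟨_, 1, e, one_le_two, (pow_one _).symm⟩]
    obtain ⟨j, hj, e'⟩ := (Nat.dvd_prime_pow hr).1 (e ▸ h1)
    have := Fact.mk hr
    by_cases h2 : j = 2
    · rwa [Core.eq_of_le_of_card_eq h0 (by rw [card_unipL, e, e']; congr 1; omega)]
    · exact (hH (isCyclic_of_card_dvd_prime (p := r) (by
        rw [e']; simpa using pow_dvd_pow r (show j ≤ 1 by omega)))).elim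
  by_cases h2 : c * c = 1
  swap
  · exact (hH (isCyclic_of_le_torusL hm.1 (centralizer_of_mem_torusL hm.1 hx h2 ▸ h0))).elim
  rw [centralizer_of_involutionL hm.1 hx c1 h2] at h0
  have h3 := orderOf_eq_two_iff.2 ⟨c1, h2⟩
  obtain ⟨j, hj⟩ := num hq hm.eq_or_eq (h3.symm.dvd.trans (hm.orderOf_dvdL hx))
  obtain ⟨t, ht, t2⟩ := exists_involution_mem_of_isPGroup (P := H ⊓ torusL F a b)
    ((IsPGroup.of_card (hm.card_torusL.trans hj)).to_le inf_le_right) fun e => by
      have := card_of_le_dihL hm.1 h0 fun e => hH (isCyclic_of_le_torusL hm.1 e)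
      rw [e, card_bot] at this
      exact hH (isCyclic_of_prime_card (p := 2) this)
  exact eq_of_isCyclic_of_orderOf_two (isCyclic_torusL hm.1) ht.2 hx t2 h3 ▸ ht.1

end

/-- Say that a group has self-centralizing non-cyclic subgroups when every non-cyclic subgroup H satisfies C_G(H) ≤ H. A non-abelian finite simple group has self-centralizing non-cyclic subgroups if and only if it is isomorphic to PSL₂(q) with q = 4, q = 9, or q a prime of the form 2^k + 1 or 2^k − 1. -/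
theorem result {G : Type*} [Group G] [Finite G] [IsSimpleGroup G] (hna : ¬ IsMulCommutative G) :
    (∀ H : Subgroup G, ¬ IsCyclic ↥H → Subgroup.centralizer (H : Set G) ≤ H) ↔ ∃ (F : Type) (_ : Field F) (_ : Fintype F),
      (Fintype.card F = 4 ∨ Fintype.card F = 9 ∨ ((Fintype.card F).Prime ∧ ∃ k : ℕ, Fintype.card F = 2 ^ k + 1 ∨ Fintype.card F = 2 ^ k - 1)) ∧
      Nonempty (G ≃* Matrix.ProjectiveSpecialLinearGroup (Fin 2) F) := by
  open Subgroup Cfsg.Lib Cfsg.Lib.Inv Cfsg.Lib.PSL2 Cfsg.Lib.CIT in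
  refine ⟨fun h => ?_, fun ⟨F, _, _, hq, ⟨e⟩⟩ H hH => ?_⟩
  · have hc := cit hna h
    obtain ⟨S⟩ : Nonempty (Sylow 2 G) := inferInstance
    obtain ⟨V, hS, hV⟩ := OddChar.exists_k4_le_sylow hna S (Sig.even_of_simple hna)
    rcases OddChar.dih_or_qd hna hS hV.card_four (inf_le_right.trans (h _
      (PGroup.elemAb_not_isCyclic (k4_elemAb hV) hV.card_four.ge))) with ⟨a, b, m, hm⟩ | ⟨a, b, m, hm⟩
    · rcases GW.gorenstein_walter hm with ⟨F, _, _, ho, h3, ⟨e⟩⟩ | ⟨⟨e⟩⟩
      · exact ⟨F, _, _, .inr ((psl2_cases ho (hc.of_equiv e.symm)).imp_right fun ⟨h1, k, h2⟩ =>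
          ⟨h1, k, by omega⟩), ⟨e⟩⟩
      · exact (not_cit_alt_seven (hc.of_equiv e.symm)).elim
    · obtain ⟨y, z, h3, h4, h5⟩ := OddChar.qd_exists_six hna hm
      rw [hc z y h4 (mem_centralizer_singleton_iff.1 h5) (by rw [h3]; decide), orderOf_one] at h3
      omega
  · intro c hc
    rw [← Nat.card_eq_fintype_card] at hq
    obtain ⟨y, hy, e1⟩ := psl hq (H.map e.toMonoidHom) (fun h1 => hH
      ((H.equivMapOfInjective e.toMonoidHom e.injective).isCyclic.2 h1)) (x := e c) (by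
        rintro _ ⟨x, hx, rfl⟩
        simpa using congrArg e (hc x hx))
    exact e.injective e1 ▸ hy

end Cfsg.Agent.S3921
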