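import Cfsg.Statements.S3928
import Cfsg.Agent.S3264
import Cfsg.Agent.Lib.Solv.Huppert
import Cfsg.Agent.Lib.Schur.Basic

set_option autoImplicit false
open Cfsg

namespace Cfsg.Agent.S3928

open Subgroup S3264
open scoped commutatorElement

variable {X Y : Type} [Group X] [Group Y] [Finite X] [Finite Y] {t : X}

/-- elements of odd order inverted by `t` -/
def I (t : X) : Set X := {x | Odd (orderOf x) ∧ t * x * t⁻¹ = x⁻¹}

omit [Finite X] in
theorem inv_w (ht : t * t = 1) (g : X) : t * (g * t * g⁻¹ * t⁻¹) * t⁻¹ = (g * t * g⁻¹ * t⁻¹)⁻¹ := by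
  rw [mul_assoc, mul_assoc _ t⁻¹, ← mul_inv_rev, ht]
  simp only [mul_inv_rev, inv_inv, inv_eq_of_mul_eq_one_right ht, inv_one, mul_one, mul_assoc]

theorem root {y : Y} (h : Odd (orderOf y)) (k : ℕ) : ∃ n : ℕ, (y ^ n) ^ 2 ^ k = y := by
  obtain ⟨n, hn⟩ := exists_pow_eq_self_of_coprime (x := y) (n := 2 ^ k)
    ((Nat.coprime_two_left.2 h).pow_left k)
  exact ⟨n, by rw [← pow_mul, mul_comm, pow_mul, hn]⟩

theorem lift (ht : t * t = 1) (f : X →* Y) {y : Y} {g : X} (h : f t * f g * (f t)⁻¹ = (f g)⁻¹)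
    (e : f g ^ 2 ^ (Nat.card X + 1) = y) :
    (g * t * g⁻¹ * t⁻¹) ^ 2 ^ Nat.card X ∈ I t ∧ f ((g * t * g⁻¹ * t⁻¹) ^ 2 ^ Nat.card X) = y := by
  refine ⟨⟨odd_pow _, by rw [← conj_pow, inv_w ht, inv_pow]⟩, ?_⟩
  rw [← e, pow_succ', pow_mul, map_pow, sq]
  congr 1
  simp only [map_mul, map_inv, mul_assoc]
  rw [← mul_assoc (f t), show f t * (f g)⁻¹ * (f t)⁻¹ = (f t * f g * (f t)⁻¹)⁻¹ by group, h, inv_inv]

theorem surj (ht : t * t = 1) {f : X →* Y} (hf : Function.Surjective f) : I (f t) = f '' I t := by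
  refine le_antisymm (fun y hy => ?_) ?_
  · obtain ⟨n, hn⟩ := root hy.1 (Nat.card X + 1)
    obtain ⟨g, hg⟩ := hf (y ^ n)
    exact ⟨_, lift ht f (by rw [hg, ← conj_pow, hy.2, inv_pow]) (hg ▸ hn)⟩
  · rintro _ ⟨x, hx, rfl⟩
    exact ⟨hx.1.of_dvd_nat (orderOf_map_dvd f x), by rw [← map_inv, ← map_inv, ← hx.2, map_mul, map_mul]⟩

theorem cent (ht : t * t = 1) {f : X →* Y} (h : Set.InjOn f (I t)) : f.ker ≤ centralizer (I t) := by
  intro b hb x hx
  obtain ⟨n, hn⟩ := root hx.1 (Nat.card X + 1)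
  have e : f (b * x ^ n) = f (x ^ n) := by rw [map_mul, hb, one_mul]
  obtain ⟨h1, h2⟩ := lift ht f (g := b * x ^ n) (y := f x)
    (by rw [e, ← map_inv, ← map_inv, ← map_mul, ← map_mul, ← conj_pow, hx.2, inv_pow]) (by rw [e, ← map_pow, hn])
  have h3 := h h1 hx h2
  have h4 : (b * x ^ n)⁻¹ * x * (b * x ^ n) ∈ I t := by
    refine ⟨by simpa only [MulAut.conj_inv_apply] using
      (MulEquiv.orderOf_eq (MulAut.conj (b * x ^ n))⁻¹ x).symm ▸ hx.1, ?_⟩
    generalize b * x ^ n = g at h3
    have ti := inv_eq_of_mul_eq_one_right ht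
    rw [← h3, show ∀ w : X, g⁻¹ * w * g = g⁻¹ * w * g⁻¹⁻¹ by simp, ← conj_pow, ← conj_pow, ← inv_pow]
    congr 1
    simp only [mul_inv_rev, inv_inv, ti, mul_assoc, inv_mul_cancel_left, mul_inv_cancel_left]
    rw [← mul_assoc t t, ht, one_mul]
  have h5 := h h4 hx (by
    rw [map_mul, map_mul, map_inv, e, ← map_inv, ← map_mul, ← map_mul]; congr 1; group)
  calc x * b = b * x ^ n * ((b * x ^ n)⁻¹ * x * (b * x ^ n)) * (x ^ n)⁻¹ := by group
    _ = b * x := by rw [h5]; group

/-- fibres of `a ↦ [a, t]` are cosets of `C(t)` -/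
theorem card_le (A : Subgroup X) {S : Set X} (h : ∀ a ∈ A, a * t * a⁻¹ * t⁻¹ ∈ S) :
    Nat.card A ≤ S.ncard * Nat.card (centralizer ({t} : Set X)) := by
  let C := centralizer ({t} : Set X)
  rw [← (C.subgroupOf A).index_mul_card]
  refine Nat.mul_le_mul ?_ (Nat.card_le_card_of_injective (fun x => (⟨x.1.1, x.2⟩ : C))
    fun _ _ e => Subtype.ext (Subtype.ext (Subtype.mk.inj e)))
  refine Nat.card_le_card_of_injective (fun q => (⟨_, h q.out.1 q.out.2⟩ : S)) fun q r e => ?_
  rw [← q.out_eq, ← r.out_eq]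
  refine Quotient.sound (QuotientGroup.leftRel_apply.2 (mem_centralizer_singleton_iff.2 ?_))
  have e' : q.out.1 * t * q.out.1⁻¹ = r.out.1 * t * r.out.1⁻¹ := mul_right_cancel (congrArg Subtype.val e)
  calc (q.out.1⁻¹ * r.out.1) * t = q.out.1⁻¹ * (r.out.1 * t * r.out.1⁻¹) * r.out.1 := by group
    _ = t * (q.out.1⁻¹ * r.out.1) := by rw [← e']; group

theorem abel (ht : t * t = 1) {n : ℕ} (hn : ∀ B : Subgroup X, B.Normal → B ≠ ⊥ → B.index ≤ n)
    {A : Subgroup X} [hA : A.Normal] (h1 : A ≠ ⊥) (h2 : A ≤ centralizer A) :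
    Nat.card X ≤ n * (((I t).ncard + Nat.card (centralizer ({t} : Set X))) * Nat.card (centralizer ({t} : Set X))) := by
  obtain ⟨p, hp, hd⟩ := Nat.exists_prime_and_dvd (mt card_eq_one.1 h1)
  haveI := Fact.mk hp
  obtain ⟨a, ha⟩ := exists_prime_orderOf_dvd_card' p hd
  let B : Subgroup X :=
    { carrier := {x | x ∈ A ∧ x ^ p = 1}
      one_mem' := ⟨one_mem _, one_pow _⟩
      mul_mem' := fun {x y} hx hy => ⟨mul_mem hx.1 hy.1, by
        rw [Commute.mul_pow (h2 hy.1 x hx.1), hx.2, hy.2, one_mul]⟩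
      inv_mem' := fun {x} hx => ⟨inv_mem hx.1, by rw [inv_pow, hx.2, inv_one]⟩ }
  have hB : B.Normal := ⟨fun x hx g => ⟨hA.1 x hx.1 g, by rw [conj_pow, hx.2]; simp⟩⟩
  rw [← B.index_mul_card]
  refine Nat.mul_le_mul (hn B hB fun e => hp.one_lt.ne' ?_) ((card_le B (S := I t ∪ centralizer ({t} : Set X))
    fun b hb => ?_).trans (Nat.mul_le_mul_right _ (Set.ncard_union_le _ _)))
  · rw [← ha, orderOf_eq_one_iff]
    exact Subtype.ext (e.le ⟨a.2, by rw [← ha, ← coe_pow, pow_orderOf_eq_one, coe_one]⟩)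
  · have hw : b * t * b⁻¹ * t⁻¹ ∈ B := by
      simpa only [mul_assoc] using mul_mem hb (hB.1 _ (inv_mem hb) t)
    rcases hp.eq_two_or_odd' with rfl | ho
    · refine .inr (mem_centralizer_singleton_iff.2 (mul_inv_eq_iff_eq_mul.1 ?_).symm)
      rw [inv_w ht, inv_eq_of_mul_eq_one_right ((sq _).symm.trans hw.2)]
    · exact .inl ⟨ho.of_dvd_nat (orderOf_dvd_of_pow_eq_one hw.2), inv_w ht b⟩

theorem brauer_fowler (ht : t * t = 1) {m c n : ℕ} (hm : (I t).ncard ≤ m)
    (hc : Nat.card (centralizer ({t} : Set X)) ≤ c) (hn : ∀ B : Subgroup X, B.Normal → B ≠ ⊥ → B.index ≤ n) :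
    Nat.card X ≤ 2 * c * m + n * (2 * c * c).factorial + n * ((m + c) * c) := by
  let C := centralizer ({t} : Set X)
  by_cases h : ∃ z ∈ C, z ≠ 1 ∧ (centralizer ({z} : Set X)).index ≤ 2 * c * c
  · obtain ⟨z, -, z1, hz⟩ := h
    let B := normalClosure ({z} : Set X)
    have hB : B ≠ ⊥ := fun e => z1 (e.le (subset_normalClosure rfl))
    by_cases e : B ⊓ centralizer B = ⊥
    · refine le_trans ?_ (Nat.le_add_right _ _ |>.trans' (Nat.le_add_left _ _))
      rw [← B.index_mul_card]
      refine Nat.mul_le_mul (hn B inferInstance hB) ?_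
      have h1 : (centralizer ({z} : Set X)).normalCore ≤ centralizer B :=
        le_centralizer_iff.1 (normalClosure_le_normal (by
          rintro _ rfl y hy
          exact (mem_centralizer_singleton_iff.1 (normalCore_le _ hy))))
      refine le_trans ?_ ((Nat.le_of_dvd (Nat.factorial_pos _) ((index_dvd_of_le h1).trans
        (Lib.Solv.index_normalCore_dvd_factorial _))).trans (Nat.factorial_le hz))
      rw [← relIndex_bot_left, ← e, inf_comm, inf_relIndex_right]
      exact Nat.le_of_dvd (Nat.pos_of_ne_zero index_ne_zero_of_finite) (relIndex_dvd_index_of_normal _ _)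
    · exact ((abel ht hn e fun x hx y hy => hx.2 y hy.1).trans (by gcongr)).trans (Nat.le_add_left _ _)
  · push Not at h
    classical
    haveI := Fintype.ofFinite X
    let s := Finset.univ.filter fun z : X => z ∈ C ∧ z ≠ 1
    have h1 := card_le (t := t) ⊤ (S := I t ∪ ⋃ z ∈ s, centralizer ({z} : Set X)) fun a _ => by
      set w := a * t * a⁻¹ * t⁻¹
      by_cases o : Odd (orderOf w)
      · exact .inl ⟨o, inv_w ht a⟩
      obtain ⟨k, hk⟩ := Nat.not_odd_iff_even.1 o
      have k0 := orderOf_pos w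
      refine .inr (Set.mem_biUnion (x := w ^ k) (Finset.mem_filter.2 ⟨Finset.mem_univ _,
        mem_centralizer_singleton_iff.2 (mul_inv_eq_iff_eq_mul.1 ?_).symm,
        pow_ne_one_of_lt_orderOf (by omega) (by omega)⟩) (mem_centralizer_singleton_iff.2 (Commute.self_pow w k)))
      rw [← conj_pow, inv_w ht, inv_pow, inv_eq_of_mul_eq_one_right (by rw [← pow_add, ← hk, pow_orderOf_eq_one])]
    have h2 : (⋃ z ∈ s, (centralizer ({z} : Set X) : Set X)).ncard * (2 * c * c) ≤ c * Nat.card X := by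
      refine (Nat.mul_le_mul_right _ (Finset.set_ncard_biUnion_le s _)).trans ?_
      rw [Finset.sum_mul]
      refine (Finset.sum_le_card_nsmul s _ (Nat.card X) fun z hz => ?_).trans (Nat.mul_le_mul_right _ (le_trans ?_ hc))
      · rw [← (centralizer ({z} : Set X)).card_mul_index]
        exact Nat.mul_le_mul_left _ (h z (Finset.mem_filter.1 hz).2.1 (Finset.mem_filter.1 hz).2.2).le
      · rw [← Set.ncard_coe_finset]
        exact Set.ncard_le_ncard fun z hz => (Finset.mem_filter.1 hz).2.1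
    have h3 := (Set.ncard_union_le (I t) (⋃ z ∈ s, (centralizer ({z} : Set X) : Set X))).trans
      (Nat.add_le_add_right hm _)
    rw [card_top] at h1
    have c0 : 0 < c := Nat.card_pos.trans_le hc
    generalize (⋃ z ∈ s, (centralizer ({z} : Set X) : Set X)).ncard = u at h2 h3
    have h4 : Nat.card X ≤ (m + u) * c := h1.trans (Nat.mul_le_mul h3 hc)
    have h5 : u * (2 * c) ≤ Nat.card X := Nat.le_of_mul_le_mul_left (by nlinarith) c0
    nlinarith [Nat.zero_le (n * (2 * c * c).factorial), Nat.zero_le (n * ((m + c) * c))]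

theorem schur {k : ℕ} (h : (center X).index ≤ k) : Nat.card (commutator X) ≤ k ^ (k * (k * k) + 1) := by
  have i0 := Nat.pos_of_ne_zero (index_ne_zero_of_finite (H := center X))
  have : Nat.card (commutatorSet X) ≤ k * k := by
    refine (Nat.card_le_card_of_surjective (fun q : (X ⧸ center X) × (X ⧸ center X) =>
      (⟨⁅q.1.out, q.2.out⁆, commutator_mem_commutatorSet _ _⟩ : commutatorSet X)) ?_).trans
      (by rw [Nat.card_prod]; exact Nat.mul_le_mul h h)
    rintro ⟨_, a, b, rfl⟩
    refine ⟨((a : X ⧸ center X), (b : X ⧸ center X)), Subtype.ext ?_⟩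
    obtain ⟨⟨z, hz⟩, ha⟩ := QuotientGroup.mk_out_eq_mul (center X) a
    obtain ⟨⟨z', hz'⟩, hb⟩ := QuotientGroup.mk_out_eq_mul (center X) b
    show ⁅(a : X ⧸ center X).out, (b : X ⧸ center X).out⁆ = ⁅a, b⁆
    rw [ha, hb, Lib.Schur.commutatorElement_mul_center hz hz']
  exact (Nat.le_of_dvd (by positivity) (card_commutator_dvd_index_center_pow X)).trans
    ((Nat.pow_le_pow_left h _).trans (Nat.pow_le_pow_right (i0.trans_le h) (by gcongr)))

theorem main (m : ℕ) : ∃ n, ∀ (X : Type) [Group X] [Finite X] (t : X), t * t = 1 →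
    normalClosure (zpowers t : Set X) = ⊤ → (I t).ncard ≤ m → Nat.card X ≤ n := by
  induction m with
  | zero => exact ⟨0, fun X _ _ t _ _ h => absurd ((Set.ncard_eq_zero (Set.toFinite _)).1 (Nat.le_zero.1 h))
      (Set.Nonempty.ne_empty ⟨1, by simp, by simp⟩)⟩
  | succ m ih =>
  obtain ⟨n, ih⟩ := ih
  set c := (m + 1) ^ (m + 1)
  set k := 2 * c * (m + 1) + n * (2 * c * c).factorial + n * ((m + 1 + c) * c)
  refine ⟨2 * ((m + 1) * k ^ (k * (k * k) + 1)), fun X _ _ t ht hn hm => ?_⟩
  have ti := inv_eq_of_mul_eq_one_right ht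
  have cl : ∀ {Y : Type} [Group Y] (f : X →* Y), Function.Surjective f →
      normalClosure (zpowers (f t) : Set Y) = ⊤ := fun f hf => by
    rw [← MonoidHom.map_zpowers, coe_map, ← map_normalClosure _ _ hf, hn, map_top_of_surjective _ hf]
  let G := closure (I t)
  have tG : ∀ x ∈ G, t * x * t⁻¹ ∈ G := fun x hx => closure_induction (fun x hx => hx.2 ▸ inv_mem (subset_closure hx))
    (by simp) (fun x y _ _ a b => by simpa [mul_assoc] using mul_mem a b)
    (fun x _ a => by simpa [mul_assoc] using inv_mem a) hx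
  haveI hG : G.Normal := normalizer_eq_top_iff.1 (gen ht hn (mem_normalizer_iff.2 fun x => ⟨tG x, fun h => by
    simpa [ti, mul_assoc, ← mul_assoc t t, ht] using tG _ h⟩) fun x a b => le_normalizer (subset_closure ⟨a, b⟩))
  have hZ : centralizer (I t) = centralizer (G : Set X) := (centralizer_closure _).symm
  haveI : (centralizer (I t)).Normal := hZ ▸ inferInstance
  let π := QuotientGroup.mk' (centralizer (I t))
  have hπ : Function.Surjective π := QuotientGroup.mk'_surjective _
  have act : ∀ q ∈ centralizer ({π t} : Set _), ∀ x ∈ I t, q.out * x * q.out⁻¹ ∈ I t := fun q hq x hx => by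
    refine ⟨by simpa only [MulAut.conj_apply] using (MulEquiv.orderOf_eq (MulAut.conj q.out) x).symm ▸ hx.1, ?_⟩
    have e : (t * q.out)⁻¹ * (q.out * t) ∈ centralizer (I t) := QuotientGroup.eq.1 (by
      rw [QuotientGroup.mk_mul, QuotientGroup.mk_mul, QuotientGroup.out_eq']
      exact (mem_centralizer_singleton_iff.1 hq).symm)
    generalize q.out = g at e
    calc t * (g * x * g⁻¹) * t⁻¹ = t * g * (x * ((t * g)⁻¹ * (g * t))) * (g * t)⁻¹ := by group
      _ = g * (t * x * t⁻¹) * g⁻¹ := by rw [e x hx]; group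
      _ = _ := by rw [hx.2]; group
  have hk : (centralizer (I t)).index ≤ k := by
    refine brauer_fowler (t := π t) (by rw [← map_mul, ht, map_one])
      (by rw [surj ht hπ]; exact (Set.ncard_image_le (Set.toFinite _)).trans hm) ?_ fun B hB B1 => ?_
    · refine (Nat.card_le_card_of_injective (fun q : centralizer ({π t} : Set _) => fun x : I t =>
        (⟨_, act q q.2 x x.2⟩ : I t)) fun q r e => Subtype.ext ?_).trans ?_
      · rw [← q.1.out_eq, ← r.1.out_eq]
        refine QuotientGroup.eq.2 fun x hx => ?_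
        have e' : q.1.out * x * q.1.out⁻¹ = r.1.out * x * r.1.out⁻¹ := congrArg Subtype.val (congrFun e ⟨x, hx⟩)
        calc x * (q.1.out⁻¹ * r.1.out) = q.1.out⁻¹ * (q.1.out * x * q.1.out⁻¹) * r.1.out := by group
          _ = _ := by rw [e']; group
      · rw [Nat.card_fun]
        exact (Nat.pow_le_pow_left hm _).trans (Nat.pow_le_pow_right (by omega) hm)
    · let f := (QuotientGroup.mk' B).comp π
      have hf : Function.Surjective f := (QuotientGroup.mk'_surjective B).comp hπ
      refine ih _ (f t) (by rw [← map_mul, ht, map_one]) (cl f hf) (Nat.le_of_lt_succ (lt_of_lt_of_le ?_ hm))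
      rw [surj ht hf]
      refine (Set.ncard_image_le (Set.toFinite _)).lt_of_ne fun e => B1 (eq_bot_iff.2 fun b hb => ?_)
      obtain ⟨b, rfl⟩ := hπ b
      exact (QuotientGroup.eq_one_iff b).2 (cent ht (Set.injOn_of_ncard_image_eq e)
        ((QuotientGroup.eq_one_iff (π b)).2 hb))
  rw [← G.index_mul_card, ← (commutator G).index_mul_card]
  refine Nat.mul_le_mul ?_ (Nat.mul_le_mul ?_ (schur (le_trans ?_ hk)))
  · let f := QuotientGroup.mk' G
    have e : (zpowers (f t)).comap f = ⊤ := gen ht hn (mem_zpowers _) fun x a b => by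
      rw [mem_comap, show f x = 1 from (QuotientGroup.eq_one_iff x).2 (Subgroup.subset_closure ⟨a, b⟩)]
      exact one_mem _
    rw [index, ← card_top, ← map_top_of_surjective f (QuotientGroup.mk'_surjective _), ← e]
    refine (card_le_of_le (map_comap_le _ _)).trans ?_
    rw [Nat.card_zpowers]
    exact orderOf_le_of_pow_eq_one two_pos (by rw [sq, ← map_mul, ht, map_one])
  · let f := QuotientGroup.mk' ⁅G, G⁆
    have cm : ∀ x ∈ G, ∀ y ∈ G, Commute (f x) (f y) := fun x hx y hy =>
      commutatorElement_eq_one_iff_commute.1 (by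
        rw [← map_commutatorElement]; exact (QuotientGroup.eq_one_iff _).2 (commutator_mem_commutator hx hy))
    have e : ∀ x ∈ G, f x ∈ I (f t) := fun x hx => closure_induction
      (fun x hx => (surj ht (QuotientGroup.mk'_surjective _)).ge ⟨x, hx, rfl⟩) ⟨by simp, by simp⟩
      (fun x y hx hy a b => ⟨by
        rw [map_mul]; exact (a.1.mul b.1).of_dvd_nat (cm x hx y hy).orderOf_mul_dvd_mul_orderOf, by
        rw [map_mul, (cm x hx y hy).eq, mul_inv_rev, ← a.2, ← b.2, ← (cm x hx y hy).eq]; group⟩)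
      (fun x _ a => ⟨by simpa using a.1, by rw [map_inv, ← conj_inv, a.2]⟩) hx
    have e2 : commutator G = (f.comp G.subtype).ker := by
      rw [← MonoidHom.comap_ker, QuotientGroup.ker_mk', ← map_subtype_commutator,
        comap_map_eq_self_of_injective G.subtype_injective]
    rw [e2, index_ker]
    refine le_trans (Set.ncard_le_ncard (t := I (f t)) ?_) ?_
    · rintro _ ⟨x, rfl⟩; exact e x x.2
    · rw [surj ht (QuotientGroup.mk'_surjective _)]; exact (Set.ncard_image_le (Set.toFinite _)).trans hm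
  · refine Nat.le_of_dvd (Nat.pos_of_ne_zero index_ne_zero_of_finite)
      ((index_dvd_of_le fun x hx => mem_center_iff.2 fun y => Subtype.ext ?_).trans
        (relIndex_dvd_index_of_normal (centralizer (I t)) G))
    exact hZ.le hx y y.2

/-- There is a function f such that for every non-trivial finite group G and every automorphism α of G of order 2 with [G, α] = G (the elements g·α(g)⁻¹ generate G), the order of G is at most f(m), where m is the number of elements of odd order inverted by α. -/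
theorem result : ∃ f : ℕ → ℕ, ∀ (G : Type) [Group G] [Finite G] [Nontrivial G] (α : MulAut G), orderOf α = 2 →
    Subgroup.closure (Set.range (fun c : G => c * (α c)⁻¹)) = ⊤ →
      Nat.card G ≤ f (Nat.card {g : G // Odd (orderOf g) ∧ α g = g⁻¹}) := by
  choose f hf using main
  refine ⟨f, fun G _ _ _ α h2 hG => ?_⟩
  let φ : zpowers α →* MulAut G := (zpowers α).subtype
  have : Finite (G ⋊[φ] zpowers α) := Finite.of_equiv _ SemidirectProduct.equivProd.symm
  let a : zpowers α := ⟨α, mem_zpowers α⟩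
  have ha : a * a = 1 := Subtype.ext (by rw [coe_mul, ← sq, ← h2]; exact pow_orderOf_eq_one α)
  have cj : ∀ g : G, (.inr a * .inl g * (.inr a)⁻¹ : G ⋊[φ] zpowers α) = .inl (α g) := fun g => by
    rw [← map_inv]; exact (SemidirectProduct.inl_aut (φ := φ) a g).symm
  refine (Nat.card_le_card_of_injective _ (SemidirectProduct.inl_injective (φ := φ))).trans
    (hf _ _ (.inr a) (by rw [← map_mul, ha, map_one]) (eq_top_iff.2 fun x _ => ?_) ?_)
  · have h1 := subset_normalClosure (mem_zpowers (SemidirectProduct.inr a : G ⋊[φ] zpowers α))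
    rw [← x.inl_left_mul_inr_right]
    refine mul_mem ((closure_le ((normalClosure _).comap SemidirectProduct.inl)).2 ?_ (hG.ge trivial)) ?_
    · rintro _ ⟨c, rfl⟩
      have := mul_mem (normalClosure_normal.1 _ h1 (.inl c)) (inv_mem h1)
      rwa [mul_assoc, mul_assoc, ← mul_assoc (SemidirectProduct.inr a), ← map_inv _ c, cj, ← map_mul, map_inv] at this
    · obtain ⟨k, hk⟩ := x.right.2
      rw [show x.right = a ^ k from Subtype.ext hk.symm, map_zpow]
      exact zpow_mem h1 k
  · refine Nat.card_le_card_of_surjective (fun g : {g : G // Odd (orderOf g) ∧ α g = g⁻¹} =>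
      (⟨.inl g.1, by rw [orderOf_injective _ SemidirectProduct.inl_injective]; exact g.2.1,
        by rw [cj, g.2.2, map_inv]⟩ : I (SemidirectProduct.inr a : G ⋊[φ] zpowers α))) ?_
    rintro ⟨x, h1, h3⟩
    have e : x.right = 1 := orderOf_eq_one_iff.1 (Nat.eq_one_of_dvd_coprimes (Nat.coprime_two_right.2 h1)
      (orderOf_map_dvd SemidirectProduct.rightHom x) (by
        rw [← h2, ← Nat.card_zpowers α]; exact _root_.orderOf_dvd_natCard _))
    have e' : x = .inl x.left := by rw [← x.inl_left_mul_inr_right, e]; simp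
    rw [e'] at h1 h3
    rw [orderOf_injective _ SemidirectProduct.inl_injective] at h1
    rw [cj, ← map_inv] at h3
    exact ⟨⟨x.left, h1, SemidirectProduct.inl_injective h3⟩, Subtype.ext e'.symm⟩

end Cfsg.Agent.S3928
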