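import Cfsg.Statements.S3930
import Cfsg.Agent.Lib.Pyr.D
import Cfsg.Agent.Lib.FGS.Kazarin
import Cfsg.Agent.Lib.PGroup.RankOne
import Cfsg.Agent.Lib.Inv.SylowTwo
import Cfsg.Agent.Lib.Inv.SylowInt
import Cfsg.Agent.Lib.FGS.ClassFour
import Cfsg.Agent.Lib.N9.Ar

set_option autoImplicit false
open Cfsg

namespace Cfsg.Agent.S3930

open Subgroup Cfsg.Lib Cfsg.Lib.BG Cfsg.Lib.Pyr
open scoped Cfsg.Lib.Transfer

theorem card_inv {G : Type*} [Group G] (T : Subgroup G) {u : G} (hu : orderOf u = 2)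
    (h : ∀ y, orderOf y = 2 → ∃ g ∈ T, g * u * g⁻¹ = y) :
    Nat.card {x : G // orderOf x = 2} = (𝐂[u]).relIndex T := by
  let _ : MulAction T G := MulAction.compHom G ((MulAut.conj : G →* MulAut G).comp T.subtype)
  have : MulAction.stabilizer T u = (centralizer {u}).subgroupOf T := by
    ext n
    rw [MulAction.mem_stabilizer_iff, mem_subgroupOf, mem_centralizer_singleton_iff,
      ← mul_inv_eq_iff_eq_mul]
    rfl
  rw [relIndex, ← this, MulAction.index_stabilizer, ← Nat.card_coe_set_eq]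
  exact Nat.card_congr (Equiv.subtypeEquivRight fun v => ⟨fun k => let ⟨g, hg, e⟩ := h v k; ⟨⟨g, hg⟩, e⟩,
    fun ⟨g, e⟩ => e ▸ ((MulAut.conj (g : G)).orderOf_eq u).trans hu⟩)

theorem quat {Q : Type*} [Group Q] {n : ℕ} (e : Q ≃* QuaternionGroup (2 ^ (n + 1))) :
    ∃ i j : Q, i * i ≠ 1 ∧ i * i * (i * i) = 1 ∧ j * j = i * i ∧ i * j * (i * j) = i * i := by
  have k : ((2 ^ n : ℕ) : ZMod (2 * 2 ^ (n + 1))) + (2 ^ n : ℕ) = (2 ^ (n + 1) : ℕ) := by push_cast; ring
  have k2 : ((2 ^ (n + 1) : ℕ) : ZMod (2 * 2 ^ (n + 1))) + (2 ^ (n + 1) : ℕ) = 0 := by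
    rw [← Nat.cast_add, ← two_mul, ZMod.natCast_self]
  refine ⟨e.symm (.a (2 ^ n : ℕ)), e.symm (.xa 0), ?_, ?_, ?_, ?_⟩ <;>
    simp only [← map_mul, ne_eq, EmbeddingLike.map_eq_one_iff, EmbeddingLike.apply_eq_iff_eq, QuaternionGroup.a_mul_a,
      QuaternionGroup.a_mul_xa, QuaternionGroup.xa_mul_xa, k, k2, QuaternionGroup.one_def, QuaternionGroup.a.injEq,
      add_sub_cancel_right]
  rw [ZMod.natCast_eq_zero_iff]
  exact fun h => (Nat.le_of_dvd (by positivity) h).not_gt (by have := Nat.two_pow_pos (n + 1); omega)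

theorem odd_case {G : Type*} [Group G] [Finite G] {p k : ℕ} (hp : p.Prime) (hp2 : p ≠ 2) (hk : Odd k)
    (h : Nat.card {x : G // orderOf x = 2} = p ^ k)
    (hc : ∀ x y : G, orderOf x = 2 → orderOf y = 2 → ∃ g : G, g * x * g⁻¹ = y) : Group.IsSolvable G := by
  obtain ⟨⟨t, ht⟩⟩ : Nonempty {x : G // orderOf x = 2} :=
    (Nat.card_ne_zero.1 (h ▸ pow_ne_zero _ hp.ne_zero)).1
  have i1 : (𝐂[t]).index = p ^ k := by
    rw [← h, card_inv ⊤ ht fun y hy => (hc t y ht hy).imp fun g e => ⟨mem_top g, e⟩, relIndex_top_right]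
  let O := pPrimeCore 2 G
  let f := QuotientGroup.mk' O
  have hf := QuotientGroup.mk'_surjective O
  have oO : Odd (Nat.card O) := (Core.pPrimeCore_coprime 2 G).odd_of_right
  have o1 : ∀ x ∈ O, Odd (orderOf x) := fun x hx => oO.of_dvd_nat (O.orderOf_dvd_natCard hx)
  have o2 : ∀ x, orderOf x = 2 → orderOf (f x) = 2 := fun x hx => Ab.ord_two_iff.2
    ⟨by rw [← map_mul, (Ab.ord_two_iff.1 hx).1, map_one], fun e => by
      have := o1 x ((QuotientGroup.eq_one_iff _).1 e)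
      rw [hx] at this
      exact absurd this (by decide)⟩
  have lift : ∀ y, orderOf y = 2 → ∃ x, orderOf x = 2 ∧ f x = y := fun y hy => by
    obtain ⟨x, rfl⟩ := hf y
    obtain ⟨_, ⟨i, rfl⟩, s1, s2⟩ := exists_inv_pow (x := x) (even_iff_two_dvd.2 (hy ▸ orderOf_map_dvd f x))
    have s3 := Ab.ord_two_iff.2 ⟨s2, s1⟩
    refine ⟨_, s3, ?_⟩
    have s4 := (Ab.ord_two_iff.1 (o2 _ s3)).2
    rw [map_zpow, ← zpow_mod_orderOf, hy] at s4 ⊢
    rcases Int.emod_two_eq_zero_or_one i with e | e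
    · exact absurd (by rw [Nat.cast_ofNat, e, zpow_zero]) s4
    · rw [Nat.cast_ofNat, e, zpow_one]
  have hc' : ∀ x y : G ⧸ O, orderOf x = 2 → orderOf y = 2 → ∃ g, g * x * g⁻¹ = y := fun x y hx hy => by
    obtain ⟨x, hx', rfl⟩ := lift x hx
    obtain ⟨y, hy', rfl⟩ := lift y hy
    obtain ⟨g, rfl⟩ := hc x y hx' hy'
    exact ⟨f g, by simp only [map_mul, map_inv]⟩
  have hO : pPrimeCore 2 (G ⧸ O) = ⊥ := Core.pPrimeCore_quotient_pPrimeCore 2 G
  obtain ⟨W, hW, WR⟩ := Core.exists_isMinNormal_le (N := solvableRadical (G ⧸ O)) inferInstance fun e =>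
    (Ab.ord_two_iff.1 (o2 t ht)).2 (mem_bot.1 (e ▸ Core.map_solvableRadical_le hf
      (mem_map_of_mem f (FGS.kazarin hp i1.dvd))))
  obtain ⟨q, hq, eW⟩ := hW.isElementaryAbelian (Core.isSolvable_of_le WR inferInstance)
  haveI := Fact.mk hq
  obtain rfl : q = 2 := by_contra fun n => hW.ne_bot (le_bot_iff.1 (hO ▸ Core.le_pPrimeCore hW.normal
    (Core.coprime_card_of_isPGroup (p := q) (fun x => ⟨1, Subtype.ext (by simpa using eW.2 x x.2)⟩)
      ((Nat.coprime_primes Nat.prime_two hq).2 (Ne.symm n)))))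
  obtain ⟨z, zW, z1⟩ := (bot_or_exists_ne_one W).resolve_left hW.ne_bot
  have m2 : ∀ x ∈ W, x * x = 1 := fun x hx => by rw [← sq, eW.2 x hx]
  have H : Hyp W := ⟨fun x => ⟨m2 x, fun e => by
      by_cases x1 : x = 1
      · rw [x1]; exact one_mem W
      obtain ⟨g, rfl⟩ := hc' z x (Ab.ord_two_iff.2 ⟨m2 z zW, z1⟩) (Ab.ord_two_iff.2 ⟨e, x1⟩)
      exact hW.normal.conj_mem z zW g⟩,
    fun x hx x1 y hy y1 => hc' x y (Ab.ord_two_iff.2 ⟨m2 x hx, x1⟩) (Ab.ord_two_iff.2 ⟨m2 y hy, y1⟩)⟩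
  obtain ⟨j, -, hj⟩ := (Nat.dvd_prime_pow hp).1 (show Nat.card {x : G ⧸ O // orderOf x = 2} ∣ p ^ k by
    rw [card_inv ⊤ (o2 t ht) fun y hy => (hc' _ y (o2 t ht) hy).imp fun g e => ⟨mem_top g, e⟩,
      relIndex_top_right, ← i1]
    refine (index_dvd_of_le ?_).trans (index_map_dvd _ hf)
    rintro _ ⟨x, hx, rfl⟩
    rw [mem_centralizer_singleton_iff, ← map_mul, ← map_mul, mem_centralizer_singleton_iff.1 hx])
  have cW := card_sq_one H.mem
  rcases Nat.eq_zero_or_pos j with rfl | j0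
  swap
  · obtain ⟨n, hn⟩ := IsPGroup.iff_card.1 H.pgroup
    rw [hj] at cW
    rw [N9.mersenne_one (hp.odd_of_ne_two hp2) hp.one_lt j0 (cW.symm.trans hn), pow_one] at cW
    exact Core.isSolvable_of_normal_quotient O (Agent.S0205.result oO) (H.sol hO (by rwa [cW]))
  have u : ∀ x y : G, orderOf x = 2 → orderOf y = 2 → x * y ∈ O := fun x y hx hy => by
    have := (Nat.card_eq_one_iff_unique.1 hj).1.elim ⟨_, o2 x hx⟩ ⟨_, o2 y hy⟩
    rw [← QuotientGroup.eq_one_iff, ← QuotientGroup.mk'_apply, map_mul, Subtype.mk.inj this,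
      (Ab.ord_two_iff.1 (o2 y hy)).1]
  obtain ⟨T⟩ : Nonempty (Sylow 2 G) := inferInstance
  rcases PGroup.isCyclic_or_quaternion_of_pRankLE_one T.2 (Inv.pRankLE_one_of_unique fun x y hx hy => by
    have : ((x * y : T.1) : G) ∈ T.1 ⊓ O := ⟨(x * y).2, u x y (by rwa [orderOf_coe]) (by rwa [orderOf_coe])⟩
    rw [Core.inf_eq_bot_of_isPGroup_of_coprime T.2 (Core.pPrimeCore_coprime 2 G), mem_bot, OneMemClass.coe_eq_one] at this
    rw [eq_inv_of_mul_eq_one_left this, inv_eq_of_mul_eq_one_right (Ab.ord_two_iff.1 hy).1]) with c | ⟨-, n, ⟨e⟩⟩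
  · exact FGS.isSolvable_of_hasNormalPComplement_two (Inv.hasNormalPComplement_of_isCyclic T c)
  obtain ⟨a, b, a1, a2, a3, a4⟩ := quat e
  have a5 : orderOf ((a : G) * a) = 2 := by rw [← coe_mul, orderOf_coe]; exact Ab.ord_two_iff.2 ⟨a2, a1⟩
  have := sq_index _ G O a b rfl oO (congrArg Subtype.val a2) (congrArg Subtype.val a3) (congrArg Subtype.val a4)
  rw [← card_inv O a5 fun y hy => by
    obtain ⟨i, hi⟩ := Inv.exists_pow_conj_of_odd (Ab.ord_two_iff.1 a5).1 (Ab.ord_two_iff.1 hy).1 (o1 _ (u _ y a5 hy))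
    exact ⟨_, pow_mem (u _ y a5 hy) i, hi⟩, h] at this
  obtain ⟨r, hr⟩ := this
  have := congrArg (Nat.factorization · p) hr
  have r0 : r ≠ 0 := fun e => pow_ne_zero k hp.ne_zero (by rw [hr, e, mul_zero])
  simp only [Nat.factorization_mul r0 r0, hp.factorization_pow, Finsupp.single_eq_same, Finsupp.add_apply] at this
  exact absurd ⟨_, this⟩ (Nat.not_even_iff_odd.2 hk)


/-- Call a finite group m-pyramidal when it has exactly m involutions and they form a single conjugacy class. Let p be an odd prime and k ≥ 1. Then every p^k-pyramidal finite group is solvable if and only if k is odd or p^k = 9. -/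
theorem result (p k : ℕ) (hp : p.Prime) (hp2 : p ≠ 2) (hk : 1 ≤ k) :
    (∀ (G : Type) [Group G] [Finite G], Nat.card {x : G // orderOf x = 2} = p ^ k →
      (∀ x y : G, orderOf x = 2 → orderOf y = 2 → ∃ g : G, g * x * g⁻¹ = y) → Group.IsSolvable G) ↔ (Odd k ∨ p ^ k = 9) := by
  refine ⟨fun h => by_contra fun n => ?_, fun h G _ _ h1 h2 =>
    h.elim (odd_case hp hp2 · h1 h2) fun e => nine (h1.trans e) h2⟩
  rw [not_or, Nat.not_odd_iff_even] at n
  obtain ⟨⟨m, rfl⟩, n9⟩ := n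
  haveI := Fact.mk hp
  have cF : Nat.card (GaloisField p m) = p ^ m := GaloisField.card p m (by omega)
  obtain ⟨G, _, _, h1, h2, h3⟩ := exists_counter (F := GaloisField p m) (fun e => hp2
    ((Nat.prime_dvd_prime_iff_eq hp Nat.prime_two).1 ((CharP.cast_eq_zero_iff _ p 2).1 e))) (by
      by_contra! k
      have : (Set.univ : Set (GaloisField p m)) ⊆ {0, 1, -1} := fun x _ => by
        by_cases e : x = 0
        exacts [Or.inl e, Or.inr (sq_eq_one_iff.1 (k x e))]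
      have := (Set.ncard_le_ncard this).trans ((Set.ncard_insert_le _ _).trans
        (Nat.succ_le_succ (Set.ncard_insert_le _ _)))
      rw [Set.ncard_univ, cF, Set.ncard_singleton] at this
      have p3 : 3 ≤ p := by have := hp.two_le; omega
      have := p3.trans (Nat.le_self_pow (n := m) (by omega) p)
      exact n9 (by rw [pow_add, show p ^ m = 3 by omega]; rfl))
  exact h3 (h G (by rw [h1, cF, sq, pow_add]) h2)

end Cfsg.Agent.S3930
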