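import Cfsg.Statements.S4016
import Cfsg.Agent.Lib.HH.K4
import Cfsg.Agent.Lib.HH.Casolo
import Cfsg.Agent.Lib.FGS.CycSylow
import Cfsg.Agent.Lib.FGS.FrobCount
import Cfsg.Agent.Lib.FGS.Classes
import Cfsg.Agent.Lib.BG.T01_Cyclic
import Cfsg.Agent.Lib.Inv.Basic
import Cfsg.Agent.Lib.Frobenius.CN
import Cfsg.Agent.Lib.Transfer.Criteria
import Cfsg.Agent.S0205

set_option autoImplicit false
open Cfsg

namespace Cfsg.Agent.S4016

open Subgroup Cfsg.Lib Cfsg.Lib.BG Cfsg.Lib.Transfer Cfsg.Lib.HH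

universe u

theorem relIndex_le_two {G : Type*} [Group G] {W C : Subgroup G}
    (h : ∀ x ∈ W, ∀ y ∈ W, x ∉ C → y ∉ C → x * y ∈ C) : C.relIndex W ≤ 2 := by
  by_cases hc : W ≤ C
  · rw [relIndex_eq_one.2 hc]; omega
  · obtain ⟨a, ha, hn⟩ := not_forall₂.1 hc |>.imp fun _ h => by simpa using h
    refine (index_eq_two_iff_exists_notMem_and.2 ⟨⟨a, ha⟩, hn, fun b => ?_⟩).le
    by_cases hb : (b : G) ∈ C
    · exact Or.inr hb
    · exact Or.inl (h b b.2 a ha hb hn)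

theorem card_le_four {G : Type*} [Group G] {W C D : Subgroup G} (h1 : C.relIndex W ≤ 2) (h2 : D.relIndex W ≤ 2)
    (h : (C ⊓ D) ⊓ W = ⊥) : Nat.card W ≤ 4 := by
  rw [← relIndex_bot_left, ← h, inf_relIndex_right]
  exact relIndex_inf_le.trans (Nat.mul_le_mul h1 h2)

/-- the configuration of a minimal counterexample -/
structure Hyp (p : ℕ) (G : Type*) [Group G] : Prop where
  cyc : ∀ T : Subgroup G, Syl p T ⊤ → IsCyclic T
  ab : ∀ H : Subgroup G, PiGrp {p}ᶜ H → IsMulCommutative H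
  sub : ∀ H T : Subgroup G, H ≠ ⊤ → Syl p T H → HasNormalPComplement p H ∨ H ≤ 𝐍(T)
  na : ¬ IsMulCommutative G
  dvd : p ∣ Nat.card G

section
variable {G : Type*} [Group G] [Finite G] [IsSimpleGroup G] {p : ℕ} [hp : Fact p.Prime] {T : Subgroup G}

theorem not_norm_le (na : ¬ IsMulCommutative G) {q : ℕ} [Fact q.Prime] (hd : q ∣ Nat.card G) (hT : Syl q T ⊤) :
    ¬ 𝐍(T) ≤ 𝐂(T) := by
  obtain ⟨S, rfl⟩ := Syl.top_iff_sylow.1 hT
  exact fun h => not_hasNormalPComplement_of_simple na hd (hasNormalPComplement_of_normalizer_le_centralizer S h)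

omit [Finite G] in
theorem norm_ne_top (na : ¬ IsMulCommutative G) {x : G} (hx : x ≠ 1) : 𝐍(zpowers x) ≠ ⊤ := by
  intro h
  rcases (normalizer_eq_top_iff.1 h).eq_bot_or_eq_top with e | e
  · exact hx (zpowers_eq_bot.1 e)
  · exact na ⟨⟨fun a b => le_cent_iff.1 (abelian_cent (e ▸ inferInstance : IsMulCommutative (⊤ : Subgroup G)))
      a trivial b trivial⟩⟩

namespace Hyp
variable (h : Hyp p G) (hT : Syl p T ⊤)
include h hT

theorem F1 {H : Subgroup G} (hH : H ≠ ⊤) (hle : 𝐍(T) ≤ H) : H ≤ 𝐍(T) := by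
  have hT' : Syl p T H := hT.of_le ((le_norm T).trans hle) le_top
  refine (h.sub H T hH hT').resolve_left fun hc => not_norm_le h.na h.dvd hT ?_
  have h1 := hasNormalPComplement_iff.1 hc
  have hsd : SD _ T H := h1.sd (pcore_nml _ _).norm (by rwa [compl_compl])
  have h2 := (hsd.restrict_left (le_norm T) hle).sup
  rw [← h2, coprime_norm_cent hsd.norm (h1.pi.coprime_pgroup hT.pgroup).symm]
  exact sup_le inf_le_right (abelian_cent (abelian_of_cyclic (h.cyc T hT)))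

theorem F2 {u : G} (hu : u ∈ T) (h1 : u ≠ 1) : 𝐍(zpowers u) ≤ 𝐍(T) :=
  h.F1 hT (norm_ne_top h.na h1) (norm_le_of_le_cyclic (h.cyc T hT) (zpowers_le.2 hu))

theorem F2' {u : G} (hu : u ∈ T) (h1 : u ≠ 1) : 𝐂[u] ≤ 𝐍(T) :=
  (cent_zpowers u ▸ cent_le_norm _).trans (h.F2 hT hu h1)

omit h [IsSimpleGroup G] in
theorem mem_of_norm {y : G} (hy : PiElt {p} y) (hn : y ∈ 𝐍(T)) : y ∈ T :=
  (hT.of_le (le_norm T) le_top).mem_of_normal le_rfl hn hy

theorem F3 {u : G} (hu : u ∈ T) (h1 : u ≠ 1) : 𝐂[u] ≤ 𝐂(T) := by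
  intro g hg
  obtain ⟨a, ha, b, hb, hpa, hpb, rfl, -⟩ := exists_pi_decomp {p} g
  have ha' := zpowers_le.2 hg ha
  have hb' := zpowers_le.2 hg hb
  refine mul_mem (abelian_cent (abelian_of_cyclic (h.cyc T hT)) (mem_of_norm hT hpa (h.F2' hT hu h1 ha'))) ?_
  rcases coprime_act_cyclic_pgroup (h.cyc T hT) hT.pgroup (zpowers_le.2 (h.F2' hT hu h1 hb'))
    hpb.zpowers.coprime_p with e | ⟨e, -⟩
  · exact e (mem_zpowers b)
  · exact absurd (mem_bot.1 (e ▸ (⟨hu, cent_zpowers b ▸ mem_cent1_symm hb'⟩ : u ∈ T ⊓ 𝐂(zpowers b)))) h1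

theorem TI {T' : Subgroup G} (hT' : Syl p T' ⊤) {u : G} (hu : u ∈ T) (hu' : u ∈ T') (h1 : u ≠ 1) : T = T' :=
  (hT'.eq_of_le' hT (Syl.ge_of_norm_p' hT le_top hT'.pgroup
    ((le_cent1_iff.2 (abelian_cent (abelian_of_cyclic (h.cyc T' hT')) hu')).trans (h.F2' hT hu h1)))).symm

theorem F4 {b : G} (hb : PiElt {p}ᶜ b) (hc : b ∈ 𝐂(T)) (h1 : b ≠ 1) : 𝐂[b] = 𝐍(T) := by
  have hTab := abelian_cent (abelian_of_cyclic (h.cyc T hT))
  have hle : 𝐍(T) ≤ 𝐂[b] := by
    intro g hg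
    obtain ⟨a, ha, e, he, hpa, hpe, rfl, -⟩ := exists_pi_decomp {p} g
    refine mul_mem (le_cent1_iff.2 hc (mem_of_norm hT hpa (zpowers_le.2 hg ha))) ?_
    have hsd := Burnside_normal_complement (hT.of_le hTab le_top) inf_le_left
    have hH := (Hall.of_sd (π := {p}ᶜ) hsd (pcore_pi _ _) (by rw [compl_compl]; exact hT.pi)).1
    have hb0 := hH.mem_of_normal (pcore_nml _ _).norm hc hb
    have hab := h.ab _ ((pcore_pi {p}ᶜ 𝐂(T)).sup hpe.zpowers
      (norm_pcore (norm_cent (zpowers_le.2 (zpowers_le.2 hg he))) _))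
    exact mem_cent1.2 (le_cent_iff.1 (abelian_cent hab) _ (mem_sup_right (mem_zpowers e)) _ (mem_sup_left hb0))
  refine le_antisymm (h.F1 hT (fun e => norm_ne_top h.na h1 (eq_top_iff.2 ?_)) hle) hle
  exact e ▸ cent_zpowers b ▸ cent_le_norm _

theorem inverts {t : G} (ht : orderOf t = 2) (hn : t ∈ 𝐍(T)) (hc : t ∉ 𝐂(T)) {w : G} (hw : w ∈ T) :
    t * w * t⁻¹ = w⁻¹ := by
  refine Frobenius.inv_eq_of_semiReg (zpowers_le.2 hn) (fun x hx hx1 => ?_) (mem_zpowers t) ht hw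
  rw [cent1_eq_of_prime (by rw [Nat.card_zpowers, ht]; exact Nat.prime_two) hx hx1, cent_zpowers, eq_bot_iff]
  rintro w ⟨hw, hwt⟩
  by_contra h1
  exact hc (h.F3 hT hw h1 (mem_cent1_symm hwt))

omit hT in
theorem exists_y (h2 : 2 ∣ Nat.card G) (hp2 : p ≠ 2) {Q : Subgroup G} (hQ : Syl 2 Q ⊤) :
    ∃ y ∈ 𝐍(Q), PiElt {p} y ∧ y ∉ 𝐂(Q) := by
  obtain ⟨g, hg, hn⟩ := not_forall₂.1 (not_norm_le h.na h2 hQ) |>.imp fun _ h => by simpa using h
  obtain ⟨a, ha, e, he, hpa, hpe, rfl, -⟩ := exists_pi_decomp {p} g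
  refine ⟨a, zpowers_le.2 hg ha, hpa, fun hc => hn (mul_mem hc ?_)⟩
  have hab := h.ab _ ((p'_of_pgroup hQ.pgroup hp2.symm).sup hpe.zpowers (zpowers_le.2 (zpowers_le.2 hg he)))
  exact abelian_cent' hab le_sup_right le_sup_left (mem_zpowers e)

theorem caseA (h2 : 2 ∣ Nat.card G) (hp2 : p ≠ 2) {t : G} (ht : orderOf t = 2) (hc : t ∈ 𝐂(T)) : False := by
  have ht1 : t ≠ 1 := by rintro rfl; simp at ht
  have ht2 : PiElt {2} t := pElt_iff_orderOf.2 ⟨1, by simpa using ht⟩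
  obtain ⟨Q, hQ, htQ⟩ := Syl.exists_ge (pgroup_zpowers ht2) (le_top (a := zpowers t))
  replace htQ := zpowers_le.1 htQ
  have hQp : PiGrp {p}ᶜ Q := p'_of_pgroup hQ.pgroup hp2.symm
  have hQab := h.ab Q hQp
  have hQT : Q ≤ 𝐍(T) := h.F4 hT (hQp.elt htQ) hc ht1 ▸ le_cent1_iff.2 (abelian_cent hQab htQ)
  obtain ⟨y, hy, hyp, hyc⟩ := h.exists_y h2 hp2 hQ
  have hT' : Syl p (y ⋆ T) ⊤ := hT.conj_top y
  have hQT' : Q ≤ 𝐍(y ⋆ T) := by
    rw [← conj_normalizer, ← conj_eq_of_norm hy]; exact conj_mono y hQT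
  have hdis : (𝐂(T) ⊓ 𝐂(y ⋆ T)) ⊓ Q = ⊥ := by
    rw [eq_bot_iff]
    rintro b ⟨⟨hb1, hb2⟩, hb⟩
    by_contra hb0
    have e := (h.F4 hT (hQp.elt hb) hb1 hb0).symm.trans (h.F4 hT' (hQp.elt hb) hb2 hb0)
    have e2 : y ⋆ T ≤ T := Syl.ge_of_norm_p' hT le_top hT'.pgroup (e ▸ le_norm _)
    have hyT : y ∈ T := mem_of_norm hT hyp (mem_normalizer_of_conj_le e2)
    refine hyc (mem_cent.2 fun q hq => ?_)
    have h3 : q * y * q⁻¹ * y⁻¹ ∈ Q ⊓ T := by
      refine mem_inf.2 ⟨?_, mul_mem (conj_mem_of_norm (hQT hq) hyT) (inv_mem hyT)⟩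
      simpa only [mul_assoc] using mul_mem hq (conj_mem_of_norm hy (inv_mem hq))
    rwa [disjoint_of_coprime (hQp.coprime_pgroup hT.pgroup), mem_bot, mul_inv_eq_one, mul_inv_eq_iff_eq_mul] at h3
  have hyt : y ∉ 𝐂[t] := by
    intro hyt
    have h3 : t ∈ 𝐂(y ⋆ T) := by
      rw [← conj_centralizer, mem_conj, mul_assoc, ← mem_cent1.1 hyt, inv_mul_cancel_left]; exact hc
    exact ht1 (mem_bot.1 (hdis ▸ (⟨⟨hc, h3⟩, htQ⟩ : t ∈ (𝐂(T) ⊓ 𝐂(y ⋆ T)) ⊓ Q)))
  have hcomm := le_cent_iff.1 (abelian_cent hQab)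
  let V : Subgroup G :=
    { carrier := {x | x ∈ Q ∧ x ^ 2 = 1}
      one_mem' := ⟨one_mem _, one_pow 2⟩
      mul_mem' := fun {a b} ha hb => ⟨mul_mem ha.1 hb.1, by
        rw [Commute.mul_pow (hcomm a ha.1 b hb.1), ha.2, hb.2, one_mul]⟩
      inv_mem' := fun {a} ha => ⟨inv_mem ha.1, by rw [inv_pow, ha.2, inv_one]⟩ }
  have hVQ : V ≤ Q := fun x hx => hx.1
  have hV2 : ∀ S : Subgroup G, Syl p S ⊤ → Q ≤ 𝐍(S) → (𝐂(S)).relIndex V ≤ 2 := by
    intro S hS hQS
    refine relIndex_le_two fun a ha b hb ha' hb' => mem_cent.2 fun w hw => ?_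
    have e1 := h.inverts hS (orderOf_eq_prime ha.2 fun e => ha' (e ▸ one_mem _)) (hQS ha.1) ha' (inv_mem hw)
    have e2 := h.inverts hS (orderOf_eq_prime hb.2 fun e => hb' (e ▸ one_mem _)) (hQS hb.1) hb' hw
    calc w * (a * b) = a * (b * w * b⁻¹) * a⁻¹ * (a * b) := by rw [e2, e1, inv_inv]
      _ = _ := by group
  have hV4 : Nat.card V ≤ 4 := card_le_four (hV2 T hT hQT) (hV2 _ hT' hQT')
    (eq_bot_mono hdis (inf_le_inf_left _ hVQ))
  have hpd : p ∣ (FGS.hcl (zpowers y) t).ncard := by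
    rw [FGS.ncard_hcl]
    obtain ⟨k, hk⟩ := (PiNat.p_iff Subgroup.index_ne_zero_of_finite).1 (hyp.zpowers.relIndex 𝐂[t])
    rcases k with _ | k
    · exact absurd (relIndex_eq_one.1 hk (mem_zpowers y)) hyt
    · exact (dvd_pow_self p k.succ_ne_zero).trans hk.symm.dvd
  have hsub : FGS.hcl (zpowers y) t ⊆ (V : Set G) \ {1} := by
    rintro _ ⟨g, hg, rfl⟩
    refine ⟨⟨conj_mem_of_norm (zpowers_le.2 hy hg) htQ, by
      rw [conj_pow, (orderOf_eq_prime_iff.1 ht).1]; simp⟩, by simpa using ht1⟩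
  have hle := (Nat.le_of_dvd ((Set.ncard_pos (Set.toFinite _)).2
    ⟨t, (⟨1, one_mem _, by simp⟩ : t ∈ FGS.hcl (zpowers y) t)⟩) hpd).trans
    (Set.ncard_le_ncard hsub)
  rw [Set.ncard_diff_singleton_of_mem (one_mem V)] at hle
  change p ≤ Nat.card V - 1 at hle
  have hp3 : p = 3 := by have := hp.out.two_le; omega
  subst hp3
  have hQ2 : ∀ S : Subgroup G, Syl 3 S ⊤ → Q ≤ 𝐍(S) → (𝐂(S)).relIndex Q ≤ 2 := by
    intro S hS hQS
    obtain ⟨U, hU, hU3⟩ := exists_card_eq_prime Nat.prime_three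
      (pgroup_dvd_card hS.pgroup (hS.ne_bot' (by rw [card_top]; exact h.dvd)))
    obtain ⟨u, hu, rfl⟩ := cyclic_iff.1 (cyclic_of_prime (A := U) (hU3 ▸ Nat.prime_three))
    rw [Nat.card_zpowers] at hU3
    have hu1 : u ≠ 1 := by rintro rfl; simp at hU3
    have key : ∀ a ∈ Q, a ∉ 𝐂(S) → ∀ w ∈ zpowers u, a * w * a⁻¹ = w⁻¹ := by
      intro a ha hn
      have h1 := conj_mem_of_norm (norm_le_of_le_cyclic (h.cyc S hS) hU (hQS ha)) hu
      have h3 : a * u * a⁻¹ = u⁻¹ := by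
        classical
        obtain ⟨k, hk, e⟩ := Finset.mem_image.1 (mem_zpowers_iff_mem_range_orderOf.1 h1)
        rw [hU3, Finset.mem_range] at hk
        interval_cases k
        · exact absurd (by simpa using e.symm) hu1
        · exact absurd (h.F3 hS (hU hu) hu1 (mem_cent1.2 (mul_inv_eq_iff_eq_mul.1 (by simpa using e.symm)))) hn
        · rw [← e]
          exact eq_inv_of_mul_eq_one_left (by rw [← pow_succ]; exact (orderOf_eq_prime_iff.1 hU3).1)
      rintro _ ⟨k, rfl⟩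
      simp only
      rw [← conj_zpow, h3, inv_zpow]
    refine relIndex_le_two fun a ha b hb ha' hb' => h.F3 hS (hU hu) hu1 (mem_cent1.2 ?_)
    have e1 := key a ha ha' _ (inv_mem hu)
    have e2 := key b hb hb' _ hu
    calc a * b * u = a * (b * u * b⁻¹) * a⁻¹ * (a * b) := by group
      _ = _ := by rw [e2, e1, inv_inv]
  have hQ4 : Nat.card Q = 4 := le_antisymm (card_le_four (hQ2 T hT hQT) (hQ2 _ hT' hQT') hdis)
    ((by omega : 4 ≤ Nat.card V).trans (card_le_of_le hVQ))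
  obtain ⟨S, rfl⟩ := Syl.top_iff_sylow.1 hQ
  obtain ⟨q, hq⟩ := simple_k4_data h.na S hQ4
  have ho := Nat.odd_iff.1 hq.odd
  have h3 := hq.three_lt
  by_cases hq3 : q % 3 = 2
  · obtain ⟨B, -, hB, hn⟩ := hq.borel
    refine hn (h.ab B (PiGrp.p'_iff.2 fun hd => ?_))
    have : 3 ∣ q * (q - 1) := hB ▸ hd.mul_left 2
    rcases Nat.prime_three.dvd_mul.1 this with e | e <;> omega
  · obtain ⟨D, -, ⟨e⟩⟩ := hq.nonsplit
    have hab := h.ab D (PiGrp.p'_iff.2 fun hd => by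
      rw [Nat.card_congr e.toEquiv, DihedralGroup.nat_card] at hd
      omega)
    refine DihedralGroup.not_commutative (n := (q + 1) / 2) (by omega) (by omega) ⟨⟨fun a b => ?_⟩⟩
    obtain ⟨a, rfl⟩ := e.surjective a
    obtain ⟨b, rfl⟩ := e.surjective b
    rw [← map_mul, ← map_mul, hab.is_comm.comm]

omit hT in
theorem caseB (h2 : 2 ∣ Nat.card G) (hp2 : p ≠ 2)
    (hB : ∀ T : Subgroup G, Syl p T ⊤ → ∀ t, orderOf t = 2 → t ∉ 𝐂(T)) : False := by
  classical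
  cases nonempty_fintype G
  cases nonempty_fintype (Subgroup G)
  have hsyl : ∀ u : G, PiElt {p} u → ∃ T, Syl p T ⊤ ∧ u ∈ T := fun u hu => by
    obtain ⟨T, hT, hle⟩ := Syl.exists_ge (pgroup_zpowers hu) (le_top (a := zpowers u))
    exact ⟨T, hT, zpowers_le.1 hle⟩
  have hB' : ∀ u : G, PiElt {p} u → u ≠ 1 → ∀ t, orderOf t = 2 → t ∉ 𝐂[u] := fun u hu h1 t ht hc => by
    obtain ⟨T, hT, huT⟩ := hsyl u hu
    exact hB T hT t ht (h.F3 hT huT h1 hc)
  have hodd : ∀ u : G, PiElt {p} u → u ≠ 1 → ∀ b ∈ 𝐂[u], Odd (orderOf b) := fun u hu h1 b hb => by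
    by_contra hn
    obtain ⟨s, hs⟩ := exists_prime_orderOf_dvd_card' (G := zpowers b) 2
      (by rw [Nat.card_zpowers]; exact even_iff_two_dvd.1 (Nat.not_odd_iff_even.1 hn))
    exact hB' u hu h1 s (by rw [orderOf_coe, hs]) (zpowers_le.2 hb s.2)
  obtain ⟨t, ht⟩ := exists_prime_orderOf_dvd_card' 2 h2
  have ht1 : t ≠ 1 := by rintro rfl; simp at ht
  have htt : t * t = 1 := by rw [← sq]; exact (orderOf_eq_prime_iff.1 ht).1
  have hti : t⁻¹ = t := inv_eq_of_mul_eq_one_left htt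
  have ht2 : PiElt {2} t := pElt_iff_orderOf.2 ⟨1, by simpa using ht⟩
  obtain ⟨Q, hQ, htQ⟩ := Syl.exists_ge (pgroup_zpowers ht2) (le_top (a := zpowers t))
  replace htQ := zpowers_le.1 htQ
  have hAp : PiGrp {p}ᶜ 𝐂[t] := PiGrp.p'_iff.2 fun hd => by
    obtain ⟨u, hu⟩ := exists_prime_orderOf_dvd_card' p hd
    rw [← orderOf_coe] at hu
    refine hB' u (pElt_iff_orderOf.2 ⟨1, by simpa using hu⟩) (fun e => ?_) t ht (mem_cent1_symm u.2)
    rw [e, orderOf_one] at hu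
    exact hp.out.one_lt.ne hu
  have hAab := h.ab _ hAp
  have hAQ : 𝐂(Q) = 𝐂[t] := le_antisymm (cent_le_cent1 htQ) (abelian_cent' hAab le_rfl
    (le_cent1_iff.2 (abelian_cent (h.ab Q (p'_of_pgroup hQ.pgroup hp2.symm)) htQ)))
  obtain ⟨y, hy, hyp, hyc⟩ := h.exists_y h2 hp2 hQ
  have hy1 : y ≠ 1 := fun e => hyc (e ▸ one_mem _)
  have hyA : zpowers y ≤ 𝐍(𝐂[t]) := hAQ ▸ norm_cent (zpowers_le.2 hy)
  -- the involutions outside `C(t)`
  have hX : p ∣ {s : G | orderOf s = 2 ∧ s ∉ 𝐂[t]}.ncard := by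
    refine FGS.dvd_ncard_of_classes (FGS.hcl (zpowers y)) (fun x _ => ⟨1, one_mem _, by simp⟩) ?_ ?_ ?_
    · rintro x ⟨hx, hx'⟩ _ ⟨g, hg, rfl⟩
      exact ⟨((MulAut.conj g).orderOf_eq x).trans hx, fun hc => hx' (by
        simpa [mul_assoc] using conj_mem_of_norm' (hyA hg) hc)⟩
    · rintro x - _ ⟨g, hg, rfl⟩
      ext z
      constructor
      · rintro ⟨k, hk, rfl⟩
        exact ⟨k * g, mul_mem hk hg, by group⟩
      · rintro ⟨k, hk, rfl⟩
        exact ⟨k * g⁻¹, mul_mem hk (inv_mem hg), by group⟩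
    · rintro x ⟨hx, -⟩
      rw [FGS.ncard_hcl]
      obtain ⟨k, hk⟩ := (PiNat.p_iff Subgroup.index_ne_zero_of_finite).1 (hyp.zpowers.relIndex 𝐂[x])
      rcases k with _ | k
      · exact absurd (mem_cent1_symm (relIndex_eq_one.1 hk (mem_zpowers y))) (hB' y hyp hy1 x hx)
      · exact (dvd_pow_self p k.succ_ne_zero).trans hk.symm.dvd
  have hW : ∀ s, orderOf s = 2 → s ∉ 𝐂[t] → ∃ T, Syl p T ⊤ ∧ t ∈ 𝐍(T) ∧ t * s ∈ T := by
    intro s hs hst
    have hss : s * s = 1 := by rw [← sq]; exact (orderOf_eq_prime_iff.1 hs).1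
    have hinv : ∀ w ∈ zpowers (t * s), t * w * t⁻¹ = w⁻¹ := by
      rintro _ ⟨k, rfl⟩
      simp only
      rw [← conj_zpow, ← inv_zpow, mul_inv_rev, inv_eq_of_mul_eq_one_left hss, hti, ← mul_assoc, htt, one_mul]
    have hn : ∀ w ∈ zpowers (t * s), t ∈ 𝐍(zpowers w) := fun w hw =>
      norm_of_conj_eq (by rw [conj_zpowers, hinv w hw, zpowers_inv])
    obtain ⟨u, hu, b, hb, hpu, hpb, e, huv⟩ := exists_pi_decomp {p} (t * s)
    have hbt : b ∈ 𝐂[t] := by
      have hab := h.ab _ (hpb.zpowers.sup (hAp.elt (self_mem_cent1 t)).zpowers (zpowers_le.2 (hn b hb)))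
      exact mem_cent1.2 (le_cent_iff.1 (abelian_cent hab) _ (mem_sup_left (mem_zpowers b)) _
        (mem_sup_right (mem_zpowers t)))
    have hu1 : u ≠ 1 := by
      rintro rfl
      rw [one_mul] at e
      exact hst (((𝐂[t]).mul_mem_cancel_left (self_mem_cent1 t)).1 (e ▸ hbt))
    have hb1 : b = 1 := by
      have h1 := hinv b hb
      rw [← mem_cent1.1 hbt, mul_inv_cancel_right] at h1
      have h3 : orderOf b ∣ 2 := orderOf_dvd_of_pow_eq_one (by
        rw [sq]; nth_rewrite 2 [h1]; exact mul_inv_cancel b)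
      rcases (Nat.dvd_prime Nat.prime_two).1 h3 with e | e
      · exact orderOf_eq_one_iff.1 e
      · exact absurd (mem_cent1.2 huv.symm) (hB' u hpu hu1 b e)
    rw [hb1, mul_one] at e
    obtain ⟨T, hT, huT⟩ := hsyl u hpu
    exact ⟨T, hT, h.F2 hT huT hu1 (hn u hu), e ▸ huT⟩
  obtain ⟨s₀, hs₀, hs₀t⟩ : ∃ s, orderOf s = 2 ∧ s ∉ 𝐂[t] := by
    by_contra hc
    push Not at hc
    have h1 : normalClosure {t} ≤ 𝐂[t] := by
      refine (closure_le _).2 fun x hx => ?_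
      obtain ⟨a, ha, hx'⟩ := Group.mem_conjugatesOfSet_iff.1 hx
      obtain ⟨g, rfl⟩ := isConj_iff.1 hx'
      exact hc _ (((MulAut.conj g).orderOf_eq a).trans (ha ▸ ht))
    rcases (normalClosure_normal (s := {t})).eq_bot_or_eq_top with e | e
    · exact ht1 (mem_bot.1 (e ▸ subset_normalClosure rfl))
    · exact norm_ne_top h.na ht1 (eq_top_iff.2 ((e ▸ h1).trans (cent_zpowers t ▸ cent_le_norm _)))
  obtain ⟨T₀, hT₀, ht₀, -⟩ := hW s₀ hs₀ hs₀t
  have htr : ∀ T, Syl p T ⊤ → t ∈ 𝐍(T) → ∃ g ∈ 𝐂[t], T = g ⋆ T₀ := by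
    intro T hT htT
    obtain ⟨g, -, rfl⟩ := Syl.exists_conj_eq hT₀ hT
    rw [← conj_normalizer, mem_conj] at htT
    have ho : orderOf (g⁻¹ * t * g) = 2 := by simpa using ((MulAut.conj g⁻¹).orderOf_eq t).trans ht
    obtain ⟨u, hu, hu1⟩ := exists_ne_one (hT₀.ne_bot' (by rw [card_top]; exact h.dvd))
    have e1 := h.inverts hT₀ ht ht₀ (hB _ hT₀ _ ht) hu
    have e2 := h.inverts hT₀ ho htT (hB _ hT₀ _ ho) (inv_mem hu)
    obtain ⟨k, hk⟩ := Inv.exists_pow_conj_of_odd (x := g⁻¹ * t * g) (y := t)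
      (by rw [← sq]; exact (orderOf_eq_prime_iff.1 ho).1) htt
      (hodd u (pElt_of_mem hT₀.pgroup hu) hu1 _ (mem_cent1.2 (by
        calc g⁻¹ * t * g * t * u = (g⁻¹ * t * g) * (t * u * t⁻¹) * (g⁻¹ * t * g)⁻¹ * (g⁻¹ * t * g * t) := by group
          _ = _ := by rw [e1, e2, inv_inv])))
    have hn : (g⁻¹ * t * g * t) ^ k ∈ 𝐍(T₀) := pow_mem (mul_mem htT ht₀) k
    generalize (g⁻¹ * t * g * t) ^ k = n at hk hn
    refine ⟨g * n⁻¹, mem_cent1.2 ?_, by rw [← conj_conj, conj_eq_of_norm (inv_mem hn)]⟩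
    nth_rewrite 1 [← hk]
    group
  obtain ⟨Pi, hmem, hcnt⟩ : ∃ Pi : Finset (Subgroup G), (∀ K, K ∈ Pi ↔ ∃ g ∈ 𝐂[t], K = g ⋆ T₀) ∧
      Nat.card 𝐂[t] = ∑ K ∈ Pi, Nat.card ↥(𝐂[t] ⊓ 𝐍(K)) := by
    refine ⟨_, fun K => ?_, Eq.trans ?_ (card_filter_conj 𝐂[t] T₀ fun _ => True)⟩
    · simp only [Finset.mem_filter, Finset.mem_univ, true_and]
    · rw [Nat.card_eq_fintype_card, Fintype.card_subtype]
      simp only [and_true]
  have hPi : ∀ K ∈ Pi, Syl p K ⊤ ∧ t ∈ 𝐍(K) ∧ Nat.card ↥(𝐂[t] ⊓ 𝐍(K)) = Nat.card ↥(𝐂[t] ⊓ 𝐍(T₀)) := by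
    intro K hK
    obtain ⟨g, hg, rfl⟩ := (hmem K).1 hK
    refine ⟨hT₀.conj_top g, ?_, ?_⟩
    · rw [← conj_normalizer, mem_conj, mul_assoc, ← mem_cent1.1 hg, inv_mul_cancel_left]; exact ht₀
    · rw [← card_conj g (𝐂[t] ⊓ 𝐍(T₀)), conj_inf, conj_eq_of_mem hg, conj_normalizer]
  rw [Finset.sum_congr rfl fun K hK => (hPi K hK).2.2, Finset.sum_const, smul_eq_mul] at hcnt
  have hPd : ¬ p ∣ Pi.card := fun hd => PiGrp.p'_iff.1 hAp (hcnt ▸ hd.mul_right _)
  have hXe : {s : G | orderOf s = 2 ∧ s ∉ 𝐂[t]} =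
      ↑(Pi.biUnion fun K => Finset.univ.filter fun s => t * s ∈ K ∧ t * s ≠ 1) := by
    ext s
    simp only [Set.mem_setOf_eq, Finset.coe_biUnion, Finset.mem_coe, Set.mem_iUnion, Finset.mem_filter,
      Finset.mem_univ, true_and]
    constructor
    · rintro ⟨hs, hst⟩
      obtain ⟨T, hT, htT, hsT⟩ := hW s hs hst
      refine ⟨T, (hmem T).2 (htr T hT htT), hsT, fun e => hst ?_⟩
      rw [eq_inv_of_mul_eq_one_right e]
      exact inv_mem (self_mem_cent1 t)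
    · rintro ⟨K, hK, hs, h1⟩
      obtain ⟨hKs, htK, -⟩ := hPi K hK
      have e := h.inverts hKs ht htK (hB _ hKs _ ht) hs
      have hst : s ∉ 𝐂[t] := fun hc => hB' _ (pElt_of_mem hKs.pgroup hs) h1 t ht
        (mem_cent1_symm (mul_mem (self_mem_cent1 t) hc))
      refine ⟨orderOf_eq_prime ?_ fun e => hst (e ▸ one_mem _), hst⟩
      rw [mul_inv_rev, ← mul_assoc, htt, one_mul] at e
      rw [sq]
      nth_rewrite 1 [mul_right_cancel e]
      exact inv_mul_cancel s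
  rw [hXe, Set.ncard_coe_finset, Finset.card_biUnion, Finset.sum_congr rfl (g := fun _ => Nat.card T₀ - 1),
    Finset.sum_const, smul_eq_mul] at hX
  · refine (hp.out.dvd_mul.1 hX).elim hPd fun hd => hp.out.one_lt.ne' (Nat.dvd_one.1 ?_)
    have h1 := pgroup_dvd_card hT₀.pgroup (hT₀.ne_bot' (by rw [card_top]; exact h.dvd))
    have := Nat.dvd_sub h1 hd
    rwa [Nat.sub_sub_self Nat.card_pos] at this
  · intro K hK
    rw [← (hPi K hK).1.card_eq hT₀, Nat.card_eq_fintype_card, Fintype.card_subtype,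
      ← Finset.card_erase_of_mem (a := (1 : G)) (by simp)]
    refine Finset.card_bij (fun s _ => t * s) (fun s hs => by simpa [and_comm] using hs)
      (fun a _ b _ e => mul_left_cancel e) fun w hw => ⟨t⁻¹ * w, by simpa [and_comm] using hw, by simp⟩
  · intro K hK L hL hne
    refine Finset.disjoint_filter.2 fun s _ h1 h2 => hne ?_
    exact h.TI (hPi K hK).1 (hPi L hL).1 h1.1 h2.1 h1.2

omit hT in
theorem false : False := by
  have hp2 : p ≠ 2 := by
    rintro rfl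
    obtain ⟨S⟩ : Nonempty (Sylow 2 G) := inferInstance
    exact not_norm_le h.na h.dvd (Syl.of_sylow_top S) ((h.cyc _ (Syl.of_sylow_top S)).normalizer_le_centralizer
      ((Nat.minFac_eq_two_iff _).2 h.dvd))
  have h2 : 2 ∣ Nat.card G := by
    by_contra hn
    haveI := Cfsg.Agent.S0205.result (G := G) (Nat.odd_iff.2 (Nat.two_dvd_ne_zero.1 hn))
    exact h.na ⟨⟨IsSimpleGroup.comm_iff_isSolvable.2 this⟩⟩
  exact h.caseB h2 hp2 fun T hT t ht hc => h.caseA hT h2 hp2 ht hc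

end Hyp
end

theorem aux {p : ℕ} [hp : Fact p.Prime] (n : ℕ) : ∀ (G : Type u) [Group G] [Finite G], Nat.card G = n →
    ∀ P : Subgroup G, Syl p P ⊤ → IsCyclic P → (∀ H : Subgroup G, PiGrp {p}ᶜ H → IsMulCommutative H) →
    HasNormalPComplement p G ∨ P.Normal := by
  induction n using Nat.strong_induction_on with
  | _ n ih =>
  intro G _ _ hn P hP hc hab
  have hcyc : ∀ T : Subgroup G, IsPGroup p T → IsCyclic T := fun T hT => by
    obtain ⟨g, -, hg⟩ := Syl.exists_conj_le hP hT le_top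
    exact (cyclic_conj g).1 (cyclic_of_le hc hg)
  have hsub : ∀ H T : Subgroup G, H ≠ ⊤ → Syl p T H → HasNormalPComplement p H ∨ H ≤ 𝐍(T) := by
    intro H T hH hT
    have h1 : Syl p (T.subgroupOf H) ⊤ := by
      have := (Hall.subgroupOf_iff le_rfl hT.le).2 hT
      rwa [subgroupOf_self] at this
    refine (ih _ (hn ▸ card_top (G := G) ▸ card_lt_of_lt (lt_top_iff_ne_top.2 hH)) H rfl _ h1 ?_ ?_).imp_right
      fun h => (normal_subgroupOf_iff_le_normalizer hT.le).1 h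
    · haveI := hcyc T hT.pgroup
      exact isCyclic_of_surjective _ (subgroupOfEquivOfLe hT.le).symm.surjective
    · intro K hK
      have := abelian_map (MonoidHom.id G) (hab _ (hK.map H.subtype))
      exact ⟨⟨fun a b => Subtype.ext (Subtype.ext (le_cent_iff.1 (abelian_cent (hab _ (hK.map H.subtype))) _
        (mem_map_of_mem _ a.2) _ (mem_map_of_mem _ b.2)))⟩⟩
  by_cases hnc : HasNormalPComplement p G
  · exact Or.inl hnc
  right
  obtain ⟨S, rfl⟩ := Syl.top_iff_sylow.1 hP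
  have hPab := abelian_cent (abelian_of_cyclic hc)
  by_cases hO : pPrimeCore p G = ⊥
  · by_cases hO2 : pCore p G = ⊥
    · exfalso
      have hd : p ∣ Nat.card G := by
        by_contra hd
        exact hnc (hasNormalPComplement_of_coprime ⊤ (by rw [card_top]; exact Core.coprime_iff_not_dvd.2 hd)
          (IsPGroup.of_card (n := 0) (index_top.trans (pow_zero p).symm)))
      have hS1 : (S : Subgroup G) ≠ ⊥ := hP.ne_bot' (by rwa [card_top])
      haveI : Nontrivial G := by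
        obtain ⟨x, -, hx⟩ := exists_ne_one hS1
        exact ⟨⟨x, 1, hx⟩⟩
      haveI : IsSimpleGroup G := ⟨fun N hN => by
        by_contra hne
        push Not at hne
        have hNn : Nml N ⊤ := Nml.top_iff.2 hN
        obtain ⟨T, hT⟩ := Syl.exists (p := p) N
        have e1 : 𝐎({p}ᶜ, N) = ⊥ := eq_bot_mono hO (Core.le_pPrimeCore (Nml.top_iff.1 (hNn.pcore _))
          (pcore_pi _ _).coprime_p)
        have e2 : 𝐎({p}, N) = ⊥ := eq_bot_mono hO2 (Core.le_pCore (Nml.top_iff.1 (hNn.pcore _))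
          (pcore_pgroup _ _))
        have e3 : PiGrp {p}ᶜ N → False := fun h => hne.1 ((pcore_eq_self h).symm.trans e1)
        rcases hsub N T hne.2 hT with h | h
        · have := (hasNormalPComplement_iff.1 h).eq_bot_iff.1 e1
          rw [compl_compl] at this
          exact hne.1 ((pcore_eq_self this).symm.trans e2)
        · exact e3 (hT.eq_bot_iff.1 ((Syl.pcore_eq' hT h).symm.trans e2))⟩
      refine Hyp.false (p := p) (G := G) ⟨fun T hT => hcyc T hT.pgroup, hab, hsub, fun hG => hS1 ?_, hd⟩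
      exact eq_bot_mono hO2 (Core.le_pCore ⟨fun a ha g => by
        rwa [hG.is_comm.comm g a, mul_inv_cancel_right]⟩ S.isPGroup')
    · have hs := FGS.isPSolvable_of_cyclic_of_normal S hc (pCore p G) (Core.pCore_isPGroup p G) hO2
      exact (Core.sylow_normal_iff_le_pCore S).2 ((abelian_cent' (abelian_of_cyclic hc) le_rfl
        (Core.pCore_le_sylow S)).trans (Core.centralizer_pCore_le_of_isPSolvable hs hO))
  · set N := pPrimeCore p G
    have hNp : PiGrp {p}ᶜ N := PiGrp.p'_iff.2 (Core.not_dvd_card_pPrimeCore p G)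
    have hπ := QuotientGroup.mk'_surjective N
    have hlt : Nat.card (G ⧸ N) < n := by
      rw [← hn, ← card_mul_index N]
      exact lt_mul_left index_pos_of_finite' ((one_lt_card_iff_ne_bot N).2 hO)
    rcases ih _ hlt (G ⧸ N) rfl _ (syl_map_surj hπ hP) (cyclic_map _ hc) (fun H hH => by
      rw [← map_comap_eq_self_of_surjective hπ H]
      refine abelian_map _ (hab _ (PiGrp.of_map (f := QuotientGroup.mk' N) ?_ ?_))
      · rwa [map_comap_eq_self_of_surjective hπ]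
      · rw [QuotientGroup.ker_mk']; exact hNp.of_le inf_le_right) with h | h
    · exfalso
      obtain ⟨K, hK, h1, h2⟩ := hasNormalPComplement_iff_exists.1 h
      refine hnc (hasNormalPComplement_of_coprime (K.comap (QuotientGroup.mk' N))
        (Core.coprime_comap _ h1 (by rw [QuotientGroup.ker_mk']; exact hNp.coprime_p)) ?_)
      obtain ⟨k, hk⟩ := IsPGroup.iff_card.1 h2
      exact IsPGroup.of_card (n := k) ((index_comap_of_surjective _ hπ).trans hk)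
    · have h1 : Nml (N ⊔ S) ⊤ := by
        have := h.comap (QuotientGroup.mk' N)
        rw [QuotientGroup.comap_map_mk'] at this
        exact Nml.top_iff.2 this
      have h2 := Syl.frattini (hP.of_le le_sup_right le_top) h1
      rw [top_inf_eq, sup_assoc, sup_eq_right.2 (le_norm _)] at h2
      obtain ⟨E, hsd, hE⟩ := (hP.of_le (le_norm _) le_top).exists_compl le_rfl
      have hNn : (⊤ : Subgroup G) ≤ 𝐍(N) := (normalizer_eq_top N).ge
      rcases coprime_act_cyclic_pgroup hc hP.pgroup hsd.norm hE.pi.coprime_p with e | ⟨-, e⟩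
      · exact absurd (hasNormalPComplement_of_normalizer_le_centralizer S (hsd.sup ▸ sup_le hPab e)) hnc
      · have h3 : E ≤ 𝐂(N) := abelian_cent' (hab _ (hNp.sup hE.pi (le_top.trans hNn))) le_sup_right le_sup_left
        have h4 : (S : Subgroup G) ≤ 𝐂(N) := e ▸ (commutator_mono le_rfl h3).trans
          (comm_le_right (le_top.trans (norm_cent hNn)))
        rw [sup_eq_right.2 (norm_of_cent (cent_symm h4))] at h2
        exact normalizer_eq_top_iff.1 h2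
where index_pos_of_finite' {G : Type u} [Group G] [Finite G] {N : Subgroup G} : 0 < N.index :=
  Nat.pos_of_ne_zero Subgroup.index_ne_zero_of_finite

/-- Let G be a finite group and p a prime such that a Sylow p-subgroup P of G is cyclic and every subgroup of G of order prime to p is abelian. Then G has a normal p-complement or P is normal in G. -/
theorem result {G : Type*} [Group G] [Finite G] {p : ℕ}
    [Fact p.Prime] (P : Sylow p G) (hcyc : IsCyclic P)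
    (hab : ∀ H : Subgroup G, ¬ p ∣ Nat.card H → IsMulCommutative H) :
    Cfsg.HasNormalPComplement p G ∨ (P : Subgroup G).Normal := by
  exact aux _ G rfl _ (Syl.of_sylow_top P) hcyc fun H hH => hab H (PiGrp.p'_iff.1 hH)

end Cfsg.Agent.S4016
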