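import Cfsg.Statements.S4018
import Cfsg.Agent.Lib.HH.K4

set_option autoImplicit false
open Cfsg

namespace Cfsg.Agent.S4018

open Subgroup Cfsg.Lib Cfsg.Lib.BG Cfsg.Lib.Transfer Cfsg.Lib.HH

theorem arith {n a : ℕ} (h : n ∣ 4 * 3 ^ a) (h3 : ¬ 3 ∣ n) : n ≤ 4 :=
  Nat.le_of_dvd (by norm_num) ((Nat.Coprime.pow_right a
    ((Nat.Prime.coprime_iff_not_dvd Nat.prime_three).2 h3).symm).dvd_of_dvd_mul_right h)


/-- Let G be a finite group with an abelian Sylow 3-subgroup P such that the normalizer of P has order 4·#P, the centralizer C of P has order 2·#P, C meets each of its conjugates by elements outside its normalizer trivially, and every proper subgroup of G of even order has order dividing 4·#P. Then G is not simple. -/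
theorem result {G : Type*} [Group G] [Finite G]
    (P : Sylow 3 G) (hab : IsMulCommutative P)
    (hN : Nat.card (Subgroup.normalizer ((P : Subgroup G) : Set G)) = 4 * Nat.card P)
    (hC : Nat.card (Subgroup.centralizer (P : Set G)) = 2 * Nat.card P)
    (hTI : Cfsg.IsTISubset (Subgroup.centralizer (P : Set G) : Set G))
    (heven : ∀ H : Subgroup G, H ≠ ⊤ → 2 ∣ Nat.card H → Nat.card H ∣ 4 * Nat.card P) :
    ¬ IsSimpleGroup G := by
  intro hs
  obtain ⟨a, ha⟩ := IsPGroup.iff_card.1 P.isPGroup'
  rw [ha] at hN heven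
  have h4 : 4 ∣ Nat.card G := (Dvd.intro _ hN.symm).trans (card_subgroup_dvd_card _)
  have hG : ¬ IsMulCommutative G := by
    intro h
    letI : CommGroup G := { (inferInstance : Group G) with mul_comm := h.1.1 }
    have h1 : (Nat.card G).Prime := IsSimpleGroup.prime_card
    have := (Nat.prime_dvd_prime_iff_eq Nat.prime_two h1).1 ((by norm_num : 2 ∣ 4).trans h4)
    rw [← this] at h4
    omega
  obtain ⟨S⟩ : Nonempty (Sylow 2 G) := inferInstance
  obtain ⟨k, hk⟩ := IsPGroup.iff_card.1 S.isPGroup'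
  have hS4 : 4 ∣ Nat.card (S : Subgroup G) := by
    rw [← (S : Subgroup G).card_mul_index] at h4
    exact (Nat.Coprime.pow_left 2 ((Nat.Prime.coprime_iff_not_dvd Nat.prime_two).2
      S.not_dvd_index)).dvd_of_dvd_mul_right h4
  have hne : (S : Subgroup G) ≠ ⊤ := by
    intro e
    have : IsPGroup 2 G := (e ▸ S.isPGroup').of_equiv topEquiv
    exact not_hasNormalPComplement_of_simple hG ((by norm_num : 2 ∣ 4).trans h4)
      (hasNormalPComplement_of_isPGroup this)
  have hS : Nat.card (S : Subgroup G) = 4 := by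
    refine Nat.dvd_antisymm ?_ hS4
    have := heven S hne ((by norm_num : 2 ∣ 4).trans hS4)
    rw [hk] at this ⊢
    exact (Nat.Coprime.pow k a (by norm_num)).dvd_of_dvd_mul_right this
  obtain ⟨q, hq⟩ := simple_k4_data hG S hS
  obtain ⟨m, hm⟩ := hq.odd
  have h3 := hq.three_lt
  obtain ⟨D, hD, ⟨e⟩⟩ := hq.split
  obtain ⟨E, hE, ⟨f⟩⟩ := hq.nonsplit
  have c1 : Nat.card D = 2 * m := by
    rw [Nat.card_congr e.toEquiv, DihedralGroup.nat_card]; omega
  have c2 : Nat.card E = 2 * m + 2 := by
    rw [Nat.card_congr f.toEquiv, DihedralGroup.nat_card]; omega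
  have d1 := heven D hD (by omega)
  have d2 := heven E hE (by omega)
  rw [c1] at d1
  rw [c2] at d2
  have hm2 : m = 2 := by
    by_cases h : 3 ∣ 2 * m
    · have := arith d2 (by omega); omega
    · have := arith d1 h; omega
  obtain ⟨B, hB, hc, -⟩ := hq.borel
  have c3 : Nat.card B = 10 := by
    rw [hm, hm2] at hc; omega
  have := arith (heven B hB (by omega)) (by omega)
  omega

end Cfsg.Agent.S4018
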