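import Cfsg.Statements.S4027
import Cfsg.Agent.S3861

set_option autoImplicit false
open Cfsg

namespace Cfsg.Agent.S4027

open Subgroup Cfsg.Lib Cfsg.Lib.BG

/-- Let G be a finite group in which every element x of odd order satisfies N_G(⟨x⟩) = C_G(x). Then the Sylow 2-subgroups of G are normal. -/
theorem result {G : Type*} [Group G] [Finite G]
    (hirr : ∀ x : G, (∀ r : ℕ, r.Prime → r ∣ orderOf x → r ≠ 2) →
      Subgroup.normalizer ((Subgroup.zpowers x : Subgroup G) : Set G) ≤ Subgroup.centralizer {x}) (P : Sylow 2 G) :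
    (P : Subgroup G).Normal := by
  refine (S3861.result P).1 fun x h1 ho hc => ?_
  obtain ⟨g, hg⟩ := isConj_iff.1 hc
  have hn : g ∈ 𝐍(zpowers x) := Transfer.mem_normalizer_of_conj_le (by
    rw [Transfer.conj_zpowers, hg, zpowers_inv])
  have h5 := mem_centralizer_singleton_iff.1 (hirr x (fun r _ hr e => ho.not_two_dvd_nat (e ▸ hr)) hn)
  refine h1 (S3861.eq_one_of_odd ho (k := 1) ?_)
  rw [h5, mul_inv_cancel_right] at hg
  rw [pow_one, sq]
  exact mul_eq_one_iff_eq_inv.2 hg

end Cfsg.Agent.S4027
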