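import Cfsg.Statements.S4044
import Cfsg.Agent.S3188
import Cfsg.Agent.S0799
import Cfsg.Agent.S0804
import Cfsg.Agent.Lib.FGS.ClassFour
import Cfsg.Agent.Lib.Hall.Solvable
import Cfsg.Agent.Lib.Transfer.Criteria
import Cfsg.Agent.Lib.PSL2.Proper
import Cfsg.Agent.Lib.PLocal.BaerSuzuki

set_option autoImplicit false
open Cfsg

namespace Cfsg.Agent.S4044

section
open Subgroup Cfsg.Lib Cfsg.Lib.Core Cfsg.Lib.Transfer

variable {G : Type*} [Group G] [Finite G]

theorem hall {m : ℕ} (hc : m.Coprime (Nat.card G / m)) (H : Subgroup G) (hH : Group.IsSolvable H)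
    (hm : m ∣ Nat.card H) : ∃ K : Subgroup G, Nat.card K = m := by
  obtain ⟨K, h1, h2⟩ := Hall.exists_isPiHall {p | p ∣ m} (G := H)
  obtain ⟨k, hk⟩ := hm
  obtain ⟨l, hl⟩ := H.card_subgroup_dvd_card
  have h0 : 0 < m := Nat.pos_of_ne_zero fun e => by
    rw [e, zero_mul] at hk; exact Nat.card_pos.ne' hk
  rw [hl, hk, mul_assoc, Nat.mul_div_cancel_left _ h0] at hc
  have h3 := K.card_mul_index
  refine ⟨K.map H.subtype, ?_⟩
  rw [card_map_of_injective H.subtype_injective]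
  refine Nat.dvd_antisymm (Nat.Coprime.dvd_of_dvd_mul_right (k := Nat.card K) (n := k) ?_
    ⟨_, by rw [← hk, h3]⟩) (Nat.Coprime.dvd_of_dvd_mul_right (n := K.index) ?_ ⟨k, by rw [← hk, h3]⟩)
  · exact Nat.coprime_of_dvd fun p hp e e' => hp.ne_one (Nat.eq_one_of_dvd_coprimes hc
      (h1 p hp e) (e'.mul_right l))
  · exact Nat.coprime_of_dvd fun p hp e e' => h2 p hp e e'

theorem solv4 (h : ¬ 4 ∣ Nat.card G) : Group.IsSolvable G := by
  refine FGS.isSolvable_of_hasNormalPComplement_two (by_contra fun e => ?_)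
  obtain ⟨P⟩ : Nonempty (Sylow 2 G) := inferInstance
  obtain ⟨a, ha⟩ := P.2.exists_card_eq
  obtain ⟨q, i, hq, -, -, h1, h2, h3⟩ := exists_prime_dvd_pow_sub_one P ha e
  have h4 : a < 2 := by
    by_contra h4
    exact h ((pow_dvd_pow 2 (not_lt.1 h4)).trans (ha ▸ P.1.card_subgroup_dvd_card))
  obtain rfl : i = 1 := by omega
  exact hq.not_dvd_one h3

theorem pairEx {K : Subgroup G} (h : ¬ Group.IsSolvable K) : ∃ T ≤ K, IsPGroup 2 T ∧ ∃ q k : ℕ,
    q.Prime ∧ q ≠ 2 ∧ ∃ g ∈ K, g ∈ normalizer (T : Set G) ∧ g ^ q ^ k = 1 ∧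
      g ∉ centralizer (T : Set G) := by
  obtain ⟨P⟩ : Nonempty (Sylow 2 K) := inferInstance
  obtain ⟨T, hT, -, -, q, hq, hq2, g, hg, ⟨k, hk⟩, hc⟩ :=
    exists_primePow_normalizes_not_centralizes P
      (mt FGS.isSolvable_of_hasNormalPComplement_two h)
  refine ⟨T.map K.subtype, map_subtype_le _, (P.2.to_le hT).map _, q, k, hq, hq2, g, g.2,
    le_normalizer_map _ ⟨g, hg, rfl⟩, congrArg Subtype.val hk, fun e => hc ?_⟩
  exact mem_centralizer_iff.2 fun x hx => Subtype.ext (mem_centralizer_iff.1 e x ⟨x, hx, rfl⟩)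

theorem fix {T : Subgroup G} (hT : IsPGroup 2 T) (h16 : ¬ 16 ∣ Nat.card T) {q k : ℕ}
    (hq : q.Prime) (hq2 : q ≠ 2) {g : G} (hg : g ∈ normalizer (T : Set G)) (hk : g ^ q ^ k = 1)
    (hc : g ∉ centralizer (T : Set G)) :
    (q = 3 ∧ 4 ∣ Nat.card T ∧ (Nat.card T = 4 → T ⊓ centralizer {g} = ⊥)) ∨
      (Nat.card T = 8 ∧ q = 7 ∧ T ⊓ centralizer {g} = ⊥) := by
  haveI := Fact.mk hq
  have h1 := card_modEq_card_inf_centralizer (q := q) (A := zpowers g) (T := T)
    (by
      obtain ⟨j, -, hj⟩ := (Nat.dvd_prime_pow hq).1 (orderOf_dvd_of_pow_eq_one hk)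
      exact IsPGroup.of_card (by rw [Nat.card_zpowers, hj])) (by simpa using hg)
  rw [zpowers_eq_closure, centralizer_closure] at h1
  have h2 : T ⊓ centralizer {g} < T := lt_of_le_of_ne inf_le_left fun e => hc
    (mem_centralizer_iff.2 fun x hx => mem_centralizer_singleton_iff.1 (e.ge hx).2)
  have h3 : Nat.card ↥(T ⊓ centralizer {g}) < Nat.card T := card_lt_of_lt h2
  obtain ⟨a, ha⟩ := hT.exists_card_eq
  obtain ⟨b, hb⟩ := (hT.to_le h2.le).exists_card_eq
  rw [← card_eq_one]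
  rw [ha, hb] at h1 h3 ⊢
  have h4 : a < 4 := by
    by_contra h4
    exact h16 (ha ▸ pow_dvd_pow 2 (not_lt.1 h4))
  have h5 := (Nat.modEq_iff_dvd' h3.le).1 h1.symm
  have h6 := (Nat.pow_lt_pow_iff_right (by norm_num)).1 h3
  have h7 : q ≤ 7 := by
    have := Nat.le_of_dvd (by omega) h5
    have : 2 ^ a ≤ 2 ^ 3 := Nat.pow_le_pow_right (by norm_num) (by omega)
    have : 0 < 2 ^ b := by positivity
    omega
  have h8 := hq.two_le
  clear h1 h3 ha hb hk
  interval_cases a <;> interval_cases b <;> interval_cases q <;>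
    first | (simp; done) | (exfalso; revert h5; decide) | (exfalso; revert hq; decide) | omega

theorem norm3 (h16 : ¬ 16 ∣ Nat.card G) {T : Subgroup G} (hT : IsPGroup 2 T) (h4 : 4 ∣ Nat.card T)
    {g : G} {k : ℕ} (hg : g ∈ normalizer (T : Set G)) (hk : g ^ 3 ^ k = 1) (h1 : g ≠ 1) :
    Group.IsSolvable (normalizer (T : Set G)) ∧ 12 ∣ Nat.card (normalizer (T : Set G)) ∧
      (8 ∣ Nat.card G → 24 ∣ Nat.card (normalizer (T : Set G))) := by
  have h3 : 3 ∣ Nat.card (normalizer (T : Set G)) := by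
    obtain ⟨j, -, hj⟩ := (Nat.dvd_prime_pow Nat.prime_three).1 (orderOf_dvd_of_pow_eq_one hk)
    refine (dvd_pow_self 3 fun e => h1 ?_).trans (hj ▸ orderOf_dvd_natCard _ hg)
    rwa [e, pow_zero, orderOf_eq_one_iff] at hj
  have h5 := card_dvd_of_le (T.le_normalizer)
  refine ⟨isSolvable_of_normal_quotient (T.subgroupOf _) (isSolvable_subgroupOf _
    (isSolvable_of_isPGroup hT)) (solv4 fun e => h16 ?_), ?_, fun e => ?_⟩
  · refine Dvd.dvd.trans ?_ (normalizer (T : Set G)).card_subgroup_dvd_card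
    rw [card_eq_card_quotient_mul_card_subgroup (T.subgroupOf _),
      Nat.card_congr (subgroupOfEquivOfLe T.le_normalizer).toEquiv]
    exact mul_dvd_mul e h4
  · have := h4.trans h5
    omega
  · have : 8 ∣ Nat.card (normalizer (T : Set G)) := by
      by_cases h8 : 8 ∣ Nat.card T
      · exact h8.trans h5
      obtain ⟨P, hP⟩ := hT.exists_le_sylow
      have h6 := PLocal.lt_inf_normalizer_of_lt_of_isPGroup P.2 (lt_of_le_of_ne hP fun e' =>
        h8 (e' ▸ P.pow_dvd_card_of_pow_dvd_card (n := 3) e))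
      have h7 := card_lt_of_lt h6
      obtain ⟨c, hc⟩ := (P.2.to_le (inf_le_left (b := normalizer (T : Set G)))).exists_card_eq
      have h9 := Nat.le_of_dvd Nat.card_pos h4
      have : 2 < c := (Nat.pow_lt_pow_iff_right (a := 2) (by norm_num)).1 (by omega)
      exact (pow_dvd_pow 2 this).trans (hc ▸ card_dvd_of_le inf_le_right)
    omega

theorem four {K : Subgroup G} (h : ¬ Group.IsSolvable K) (h8 : ¬ 8 ∣ Nat.card K) :
    ∃ T ≤ K, IsPGroup 2 T ∧ 4 ∣ Nat.card T ∧ ∃ k : ℕ, ∃ g ∈ normalizer (T : Set G),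
      g ^ 3 ^ k = 1 ∧ g ≠ 1 := by
  obtain ⟨T, hK, hT, q, k, hq, hq2, g, -, hg, hk, hc⟩ := pairEx h
  have h1 := card_dvd_of_le hK
  rcases fix hT (fun e => h8 (Dvd.dvd.trans (by norm_num) (e.trans h1))) hq hq2 hg hk hc with
    ⟨rfl, h2, -⟩ | ⟨h2, -⟩
  · exact ⟨T, hK, hT, h2, k, g, hg, hk, fun e => hc (e ▸ one_mem _)⟩
  · exact absurd (h2 ▸ h1) h8

theorem invol (h16 : ¬ 16 ∣ Nat.card G) {t : G} (ht : orderOf t = 2)
    (h : ¬ Group.IsSolvable (centralizer ({t} : Set G))) :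
    ∃ T : Subgroup G, IsPGroup 2 T ∧ 8 ∣ Nat.card T ∧ ∃ k : ℕ, ∃ g ∈ normalizer (T : Set G),
      g ^ 3 ^ k = 1 ∧ g ≠ 1 := by
  obtain ⟨T, hK, hT, q, k, hq, hq2, g, hgK, hg, hk, hc⟩ := pairEx h
  have h1 : centralizer ({t} : Set G) ≤ normalizer (zpowers t : Set G) := by
    rw [← centralizer_closure, ← zpowers_eq_closure]
    exact centralizer_le_normalizer _
  have hT' : IsPGroup 2 ↥(T ⊔ zpowers t) := hT.to_sup_of_normal_right'
    (IsPGroup.of_card (n := 1) (by rw [Nat.card_zpowers, ht]; rfl)) (hK.trans h1)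
  have hg' := normalizer_inf_normalizer_le_normalizer_sup T (zpowers t) ⟨hg, h1 hgK⟩
  have h2 : (T ⊔ zpowers t) ⊓ centralizer {g} ≠ ⊥ := fun e => by
    have : t ∈ (T ⊔ zpowers t) ⊓ centralizer {g} := ⟨mem_sup_right (mem_zpowers t),
      mem_centralizer_singleton_iff.2 (mem_centralizer_singleton_iff.1 hgK).symm⟩
    rw [e, mem_bot] at this
    simp [this] at ht
  rcases fix hT' (fun e => h16 (e.trans (card_subgroup_dvd_card _))) hq hq2 hg' hk
    (fun e => hc (centralizer_le (SetLike.coe_subset_coe.2 le_sup_left) e)) with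
    ⟨rfl, h3, h4⟩ | ⟨-, -, h3⟩
  · refine ⟨_, hT', ?_, k, g, hg', hk, fun e => hc (e ▸ one_mem _)⟩
    obtain ⟨c, hc⟩ := hT'.exists_card_eq
    have h5 := Nat.le_of_dvd Nat.card_pos h3
    have h6 := mt h4 h2
    have : 2 < c := (Nat.pow_lt_pow_iff_right (a := 2) (by norm_num)).1 (by omega)
    exact hc ▸ pow_dvd_pow 2 this
  · exact absurd h3 h2

theorem psl (S : Sylow 2 G) (hS : IsMulCommutative (S : Subgroup G)) (hG : ¬ Group.IsSolvable G)
    (hC : ∀ t : G, orderOf t = 2 → Group.IsSolvable (centralizer ({t} : Set G)))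
    (h16 : ¬ 16 ∣ Nat.card G) (h9 : ¬ 9 ∣ Nat.card G) : ∃ N : Subgroup (G ⧸ oddCore G), N.Normal ∧
      ¬ Group.IsSolvable (N.comap (QuotientGroup.mk' _)) ∧
      ¬ 8 ∣ Nat.card (N.comap (QuotientGroup.mk' _)) ∧
      (5 ∣ Nat.card N → ∃ A : Subgroup (G ⧸ oddCore G), Nat.card A = 60) := by
  obtain ⟨F, _, _, hF, N, hN, ⟨e⟩, -⟩ := (Cfsg.Agent.S3188.result S hS hC).resolve_left hG
  have h1 := PSL2.card_PSL2_mul (K := F)
  rw [← Nat.card_congr e.toEquiv, Nat.card_eq_fintype_card (α := F)] at h1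
  have h2 := card_comap_mk' (oddCore G) N
  have h3 : Nat.card N ∣ Nat.card G := (Dvd.intro _ h2.symm).trans (card_subgroup_dvd_card _)
  refine ⟨N, hN, fun hs => ?_, fun h8 => ?_, fun h5 => ?_⟩
  · have := isSolvable_map (QuotientGroup.mk' (oddCore G)) hs
    rw [map_comap_eq_self_of_surjective (QuotientGroup.mk'_surjective _)] at this
    refine PSL2.not_isSolvable_psl ?_ ((isSolvable_congr e).1 this)
    rw [Nat.card_eq_fintype_card]
    rcases hF with ⟨-, h⟩ | ⟨n, h, h'⟩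
    · omega
    · exact h' ▸ Nat.pow_le_pow_right (n := 2) (by norm_num) h
  · rw [h2] at h8
    have h4 : 8 ∣ Nat.card N := Nat.Coprime.dvd_of_dvd_mul_right
      (Nat.Coprime.pow_left 3 (odd_card_oddCore G).coprime_two_left) h8
    have h5 := mt (fun e => Dvd.dvd.trans e h3) h16
    have h6 := mt (fun e => Dvd.dvd.trans e h3) h9
    generalize Nat.card N = c at *
    generalize Fintype.card F = q at *
    rcases hF with ⟨h, h'⟩ | ⟨n, h, rfl⟩
    · rw [Nat.gcd_eq_left (by omega : 2 ∣ q - 1), Nat.mul_sub, mul_one] at h1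
      have h7 : q ≤ q * q ^ 2 := Nat.le_mul_of_pos_right _ (by positivity)
      have h8 : (q * q ^ 2) % 16 = (q + 8) % 16 := by
        have : q % 16 = 3 ∨ q % 16 = 5 ∨ q % 16 = 11 ∨ q % 16 = 13 := by omega
        rcases this with h | h | h | h <;> simp [Nat.mul_mod, Nat.pow_mod, Nat.add_mod, h]
      omega
    · have h7 : 2 ∣ 2 ^ n := dvd_pow_self 2 (by omega)
      have h8 : 0 < 2 ^ n := by positivity
      rw [(Nat.coprime_two_left.2 (Nat.odd_iff.2 (by omega)) : Nat.gcd 2 (2 ^ n - 1) = 1),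
        one_mul] at h1
      have : n < 4 := by
        by_contra h4
        exact h5 (h1 ▸ (pow_dvd_pow 2 (not_lt.1 h4)).mul_right _)
      interval_cases n <;> omega
  · obtain ⟨A, ⟨f⟩⟩ := (Cfsg.Agent.S0804.result (F := F) rfl).2 (h1 ▸ h5.mul_left _)
    refine ⟨A.map (N.subtype.comp e.symm.toMonoidHom), ?_⟩
    rw [card_map_of_injective (f := N.subtype.comp e.symm.toMonoidHom)
      (N.subtype_injective.comp e.symm.injective), Nat.card_congr f.toEquiv, PSL2.card_alt_five]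

theorem c12 (h : 12 ∣ Nat.card G) (hc : Nat.Coprime 12 (Nat.card G / 12)) :
    ∃ K : Subgroup G, Nat.card K = 12 := by
  have h8 : ¬ 8 ∣ Nat.card G := fun e => absurd (Nat.eq_one_of_dvd_coprimes hc (k := 2)
    (by norm_num) (by omega)) (by norm_num)
  by_cases hs : Group.IsSolvable (⊤ : Subgroup G)
  · exact hall hc ⊤ hs (by rwa [card_top])
  obtain ⟨T, -, hT, h4, k, g, hg, hk, h1⟩ := four hs (by rwa [card_top])
  have := norm3 (by omega) hT h4 hg hk h1
  exact hall hc _ this.1 this.2.1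

theorem c24 (h : 24 ∣ Nat.card G) (hc : Nat.Coprime 24 (Nat.card G / 24)) :
    ∃ K : Subgroup G, Nat.card K = 24 := by
  have h16 : ¬ 16 ∣ Nat.card G := fun e => absurd (Nat.eq_one_of_dvd_coprimes hc (k := 2)
    (by norm_num) (by omega)) (by norm_num)
  have h9 : ¬ 9 ∣ Nat.card G := fun e => absurd (Nat.eq_one_of_dvd_coprimes hc (k := 3)
    (by norm_num) (by omega)) (by norm_num)
  by_contra hn
  have h0 : ∀ T : Subgroup G, IsPGroup 2 T → 4 ∣ Nat.card T → ∀ k : ℕ,
      ∀ g ∈ normalizer (T : Set G), g ^ 3 ^ k = 1 → g = 1 := fun T hT h4 k g hg hk =>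
    by_contra fun h1 => by
      have := norm3 h16 hT h4 hg hk h1
      exact hn (hall hc _ this.1 (this.2.2 (by omega)))
  have hs : ¬ Group.IsSolvable (⊤ : Subgroup G) := fun hs => hn (hall hc ⊤ hs (by rwa [card_top]))
  obtain ⟨T, -, hT, q, k, hq, hq2, g, -, hg, hk, hgc⟩ := pairEx hs
  have h1 : g ≠ 1 := fun e => hgc (e ▸ one_mem _)
  rcases fix hT (fun e => h16 (e.trans (card_subgroup_dvd_card _))) hq hq2 hg hk hgc with
    ⟨rfl, h2, -⟩ | ⟨h2, rfl, h3⟩
  · exact h1 (h0 T hT h2 k g hg hk)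
  have hZ : T ⊓ centralizer (T : Set G) ≠ ⊥ := PGroup.inf_centralizer_ne_bot hT hT
    T.le_normalizer (fun e => by rw [e, card_bot] at h2; omega)
  have h4 : T ⊓ centralizer (T : Set G) = T := by
    rcases fix (hT.to_le (inf_le_left (b := centralizer (T : Set G))))
      (fun e => h16 (e.trans (card_subgroup_dvd_card _))) hq hq2
      (inf_normalizer_le_normalizer_inf ⟨hg, normalizer_le_normalizer_centralizer T hg⟩) hk
      (fun e => hZ (eq_bot_iff.2 fun x hx => h3 ▸ ⟨hx.1, mem_centralizer_singleton_iff.2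
        (mem_centralizer_iff.1 e x hx)⟩)) with ⟨h4, -⟩ | ⟨h4, -⟩
    · omega
    · exact eq_of_le_of_card_ge inf_le_left (by omega)
  obtain ⟨N, -, h5, h6, -⟩ := psl (hT.toSylow fun e => h16 (by
      rw [← T.card_mul_index, h2]; exact mul_dvd_mul_left 8 e))
    (le_centralizer_iff_isMulCommutative.1 (inf_eq_left.1 h4)) (mt isSolvable_top_iff.2 hs)
    (fun t ht => by_contra fun e => by
      obtain ⟨T, hT, h8, k, g, hg, hk, h1⟩ := invol h16 ht e
      exact h1 (h0 T hT (by omega) k g hg hk)) h16 h9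
  obtain ⟨T, -, hT, h4, k, g, hg, hk, h1⟩ := four h5 h6
  exact h1 (h0 T hT h4 k g hg hk)

theorem c60 (h : 60 ∣ Nat.card G) (hc : Nat.Coprime 60 (Nat.card G / 60)) :
    ∃ K : Subgroup G, Nat.card K = 60 := by
  have h8 : ¬ 8 ∣ Nat.card G := fun e => absurd (Nat.eq_one_of_dvd_coprimes hc (k := 2)
    (by norm_num) (by omega)) (by norm_num)
  have h9 : ¬ 9 ∣ Nat.card G := fun e => absurd (Nat.eq_one_of_dvd_coprimes hc (k := 3)
    (by norm_num) (by omega)) (by norm_num)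
  by_cases hs : Group.IsSolvable G
  · exact hall hc ⊤ (isSolvable_top_iff.2 hs) (by rwa [card_top])
  have h4 : ∀ T : Subgroup G, IsPGroup 2 T → 4 ∣ Nat.card T → Nat.card T = 2 ^ 2 := fun T hT e => by
    obtain ⟨c, hc⟩ := hT.exists_card_eq
    have h1 : c < 3 := by
      by_contra h1
      exact h8 ((pow_dvd_pow 2 (not_lt.1 h1)).trans (hc ▸ card_subgroup_dvd_card T))
    rw [hc] at e ⊢
    interval_cases c <;> omega
  obtain ⟨S⟩ : Nonempty (Sylow 2 G) := inferInstance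
  obtain ⟨N, hN, h5, h6, h7⟩ := psl S (IsPGroup.isMulCommutative_of_card_eq_prime_sq
    (h4 _ S.2 (S.pow_dvd_card_of_pow_dvd_card (n := 2) (by omega)))) hs
    (fun t ht => by_contra fun e => by
      obtain ⟨T, -, h8', -⟩ := invol (by omega) ht e
      exact h8 (h8'.trans (card_subgroup_dvd_card T))) (by omega) h9
  by_cases h5N : 5 ∣ Nat.card N
  · obtain ⟨A, hA⟩ := h7 h5N
    have h1 := card_comap_mk' (oddCore G) A
    have h2 : oddCore G ≤ A.comap (QuotientGroup.mk' _) := fun x hx => by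
      rw [mem_comap, QuotientGroup.mk'_apply, (QuotientGroup.eq_one_iff x).2 hx]; exact A.one_mem
    generalize A.comap (QuotientGroup.mk' _) = H at h1 h2
    have h3 := ((oddCore G).subgroupOf H).card_mul_index
    have h10 := Nat.card_congr (subgroupOfEquivOfLe h2).toEquiv
    rw [h10, h1, hA, mul_comm] at h3
    have h11 := Nat.eq_of_mul_eq_mul_right Nat.card_pos h3
    obtain ⟨K, hK⟩ := exists_right_complement'_of_coprime (N := (oddCore G).subgroupOf H) (by
      rw [h11, h10]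
      obtain ⟨l, hl⟩ := card_subgroup_dvd_card H
      rw [hl, h1, hA, mul_assoc, Nat.mul_div_cancel_left _ (by norm_num)] at hc
      exact (Nat.Coprime.coprime_mul_right_right hc).symm)
    exact ⟨K.map H.subtype, by
      rw [card_map_of_injective H.subtype_injective, ← hK.symm.index_eq_card, h11]⟩
  obtain ⟨T, hTN, hT, hT4, k, g, hg, hk, h1⟩ := four h5 h6
  have h2 := norm3 (by omega) hT hT4 hg hk h1
  refine hall hc _ (isSolvable_sup_of_normal h2.1 (PF.isSolvable_of_odd _ (odd_card_oddCore G))) ?_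
  have h3 := h2.2.1.trans (card_dvd_of_le (le_sup_left (b := oddCore G)))
  suffices 5 ∣ Nat.card ↥(normalizer (T : Set G) ⊔ oddCore G) by omega
  by_cases h5O : 5 ∣ Nat.card (oddCore G)
  · exact h5O.trans (card_dvd_of_le le_sup_right)
  refine Dvd.dvd.trans ?_ (card_dvd_of_le le_sup_left)
  have h10 := Sylow.normalizer_sup_eq_top' (N := N.comap (QuotientGroup.mk' _))
    (hT.toSylow fun e => h8 (by
      rw [← T.card_mul_index, h4 T hT hT4]; exact mul_dvd_mul_left 4 e)) hTN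
  have h11 : 5 ∣ (N.comap (QuotientGroup.mk' (oddCore G))).index := by
    have h12 : 5 ∣ Nat.card G := by omega
    rw [← (N.comap (QuotientGroup.mk' (oddCore G))).card_mul_index, card_comap_mk'] at h12
    exact ((Nat.prime_five.dvd_mul.1 h12).resolve_left fun e =>
      (Nat.prime_five.dvd_mul.1 e).elim h5N h5O)
  rw [← relIndex_top_right, ← h10, relIndex_sup_right] at h11
  exact h11.trans (relIndex_dvd_card _ _)

theorem counter {R M : ℕ} (hR : Odd R) (hR1 : R ≠ 1) (hM0 : M ≠ 0) (hM1 : M ≠ 1) (hM : M % 4 ≠ 2)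
    (hc : R.Coprime M) (h12 : R * M ≠ 12) (h24 : R * M ≠ 24) (h60 : R * M ≠ 60) :
    ∃ (G : Type) (_ : Group G) (_ : Finite G), R * M ∣ Nat.card G ∧
      (R * M).Coprime (Nat.card G / (R * M)) ∧ ∀ H : Subgroup G, Nat.card H ≠ R * M := by
  obtain ⟨k, hk1, hk2⟩ := Nat.chineseRemainder (Nat.Coprime.pow 2 2 hc) (R + 1) (M - 1)
  have hR0 := hR.pos
  have hk : k.Coprime (R ^ 2 * M ^ 2) := by
    refine Nat.Coprime.mul_right (Nat.Coprime.pow_right _ ?_) (Nat.Coprime.pow_right _ ?_)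
    · rw [Nat.Coprime, (hk1.of_dvd (dvd_pow_self R two_ne_zero)).gcd_eq]
      simp
    · rw [Nat.Coprime, (hk2.of_dvd (dvd_pow_self M two_ne_zero)).gcd_eq]
      obtain ⟨M, rfl⟩ := Nat.exists_eq_succ_of_ne_zero hM0
      simp
  obtain ⟨l, hl, hp, hl'⟩ := Nat.forall_exists_prime_gt_and_modEq (R * M) (by positivity) hk
  have hRM : R ≤ R * M := Nat.le_mul_of_pos_right _ (by omega)
  have hMR : M ≤ R * M := Nat.le_mul_of_pos_left _ hR0
  obtain ⟨u, hu⟩ := (Nat.modEq_iff_dvd' (by omega)).1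
    ((hl'.of_dvd (Dvd.intro _ rfl)).trans hk1).symm
  obtain ⟨v, hv⟩ := (Nat.modEq_iff_dvd' (by omega)).1
    ((hl'.of_dvd (Dvd.intro_left _ rfl)).trans hk2).symm
  have h1 : l - 1 = R * (1 + R * u) := by
    have : R * (1 + R * u) = R + R ^ 2 * u := by ring
    omega
  have h2 : l + 1 = M * (1 + M * v) := by
    have : M * (1 + M * v) = M + M ^ 2 * v := by ring
    omega
  have hl2 : Odd l := hp.odd_of_ne_two (by omega)
  obtain ⟨A, hA⟩ : 2 ∣ 1 + R * u := hR.coprime_two_left.dvd_of_dvd_mul_left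
    (h1 ▸ (Nat.Odd.sub_odd hl2 odd_one).two_dvd)
  have h3 : ∀ s, s ∣ l - 1 → s ∣ l + 1 → s ∣ 2 := fun s e e' => by
    have := Nat.dvd_sub e' e
    rwa [show l + 1 - (l - 1) = 2 by omega] at this
  have hRl : R ∣ l - 1 := Dvd.intro _ h1.symm
  have hMl : M ∣ l + 1 := Dvd.intro _ h2.symm
  have h4 : ¬ R * M ∣ l + 1 := fun e => by
    have := (Nat.dvd_prime Nat.prime_two).1 (h3 R hRl ((Dvd.intro _ rfl).trans e))
    rw [Nat.odd_iff] at hR
    omega
  have h5 : ¬ R * M ∣ l - 1 := fun e => by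
    have := (Nat.dvd_prime Nat.prime_two).1 (h3 M ((Dvd.intro_left _ rfl).trans e) hMl)
    omega
  haveI := Fact.mk hp
  have hg : Nat.gcd 2 (l - 1) = 2 := Nat.gcd_eq_left (Nat.Odd.sub_odd hl2 odd_one).two_dvd
  have h6 : Nat.card (Matrix.ProjectiveSpecialLinearGroup (Fin 2) (ZMod l)) =
      R * M * (l * (A * (1 + M * v))) := by
    have := PSL2.card_PSL2_mul (K := ZMod l)
    rw [Nat.card_zmod, hg, PSL2.sq_sub_one_eq, h2, h1, hA] at this
    refine Nat.eq_of_mul_eq_mul_left two_pos (this.trans ?_)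
    ring
  have h7 : (R * M).Coprime l := (Nat.coprime_of_lt_prime (by positivity) hl hp).symm
  refine ⟨Matrix.ProjectiveSpecialLinearGroup (Fin 2) (ZMod l), inferInstance, inferInstance,
    Dvd.intro _ h6.symm, ?_, fun H hH => ?_⟩
  · rw [h6, Nat.mul_div_cancel_left _ (by positivity)]
    refine h7.mul_right (Nat.coprime_of_dvd fun s hs e e' => ?_)
    have hAl : A ∣ l - 1 := by rw [h1, hA]; exact (Dvd.intro_left _ rfl).mul_left _
    rcases hs.dvd_mul.1 e with e | e <;> rcases hs.dvd_mul.1 e' with e' | e'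
    · exact hs.not_dvd_one ((Nat.dvd_add_left (e.mul_right u)).1 (hA ▸ e'.mul_left 2))
    · obtain rfl := (Nat.prime_dvd_prime_iff_eq hs Nat.prime_two).1
        (h3 s (e.trans hRl) (h2 ▸ e'.mul_left M))
      exact hR.not_two_dvd_nat e
    · obtain rfl := (Nat.prime_dvd_prime_iff_eq hs Nat.prime_two).1
        (h3 s (e'.trans hAl) (e.trans hMl))
      have := h3 4 (by rw [h1, hA]; exact (mul_dvd_mul_left 2 e').mul_left _)
        (Dvd.dvd.trans (by omega) hMl)
      omega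
    · exact hs.not_dvd_one ((Nat.dvd_add_left (e.mul_right v)).1 e')
  · rcases Cfsg.Agent.S0799.result (ZMod.card l) l H with ⟨k, h8, h9⟩ | ⟨P, K, h8, ⟨e⟩⟩ | ⟨⟨e⟩⟩ |
      ⟨⟨e⟩⟩ | ⟨⟨e⟩⟩ | ⟨K, _, _, n, h8, h9⟩
    · have h10 : R * M ∣ 2 * k := by
        rcases h9 with ⟨-, e⟩ | ⟨⟨e⟩⟩
        · exact Dvd.intro_left 2 (by rw [← hH, e])
        · rw [← hH, Nat.card_congr e.toEquiv, DihedralGroup.nat_card]
      rw [hg] at h8
      rw [Nat.odd_iff] at hl2
      rcases h8 with h8 | h8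
      · exact h4 (h10.trans ((mul_dvd_mul_left 2 h8).trans (by rw [Nat.mul_div_cancel' (by omega)])))
      · exact h5 (h10.trans ((mul_dvd_mul_left 2 h8).trans (by rw [Nat.mul_div_cancel' (by omega)])))
    · obtain ⟨x, hx⟩ := PSL2.exists_sylow_eq_unipL l P
      rw [hx, PSL2.normalizer_unipL] at h8
      have h9 := PSL2.card_stabilizerL_mul x
      rw [Nat.card_zmod] at h9
      refine h5 (h7.dvd_of_dvd_mul_left ?_)
      rw [← h9, ← hH, Nat.card_congr e.toEquiv]
      exact (card_dvd_of_le h8).mul_left _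
    · exact h12 (by rw [← hH, Nat.card_congr e.toEquiv, PSL2.card_alt_four])
    · exact h24 (by rw [← hH, Nat.card_congr e.toEquiv, PSL2.card_perm_four])
    · exact h60 (by rw [← hH, Nat.card_congr e.toEquiv, PSL2.card_alt_five])
    · obtain rfl := Nat.Prime.eq_one_of_pow (h8 ▸ hp)
      rw [pow_one, ← Nat.card_eq_fintype_card] at h8
      have h10 : l ∣ R * M := by
        rcases h9 with ⟨⟨e⟩⟩ | ⟨⟨e⟩⟩
        · rw [← hH, Nat.card_congr e.toEquiv, ← h8]
          exact PSL2.card_dvd_card_psl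
        · rw [← hH, Nat.card_congr e.toEquiv, ← h8, PSL2.card_PGL2]
          exact Dvd.intro _ rfl
      exact absurd (Nat.le_of_dvd (by positivity) h10) (by omega)

end

/-- For an integer m ≥ 2 the following are equivalent: (a) every finite group whose order n is divisible by m with gcd(m, n/m) = 1 has a subgroup of order m; (b) m is a prime power, or m ≡ 2 (mod 4), or m ∈ {12, 24, 60}. -/
theorem result (m : ℕ) (hm : 2 ≤ m) :
    (∀ (G : Type) [Group G] [Finite G], m ∣ Nat.card G → m.Coprime (Nat.card G / m) →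
        ∃ H : Subgroup G, Nat.card H = m) ↔
    (IsPrimePow m ∨ m % 4 = 2 ∨ m = 12 ∨ m = 24 ∨ m = 60) := by
  constructor
  · intro h
    by_contra hn
    simp only [not_or] at hn
    obtain ⟨h1, h2, h12, h24, h60⟩ := hn
    obtain ⟨r, hr, hrm, hr2⟩ : ∃ r : ℕ, r.Prime ∧ r ∣ m ∧ r ≠ 2 := by
      by_contra e
      push Not at e
      have := Nat.eq_prime_pow_of_unique_prime_dvd (p := 2) (by omega : m ≠ 0) fun hd hd' => e _ hd hd'
      refine h1 ⟨2, _, Nat.prime_two.prime, Nat.pos_of_ne_zero fun e => ?_, this.symm⟩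
      rw [e] at this
      omega
    obtain ⟨e, M, hM, rfl⟩ := Nat.exists_eq_pow_mul_and_not_dvd (by omega : m ≠ 0) r hr.ne_one
    have he : e ≠ 0 := fun e => hM (by simpa [e] using hrm)
    have hR : Odd (r ^ e) := (hr.odd_of_ne_two hr2).pow
    obtain ⟨G, _, _, h3, h4, h5⟩ := counter hR (by simp [he, hr.ne_one])
      (fun e => hM (by simp [e])) (fun e' => h1 ⟨r, e, hr.prime, by omega, by simp [e']⟩)
      (fun e' => h2 (by
        have : r ^ e % 4 = 1 ∨ r ^ e % 4 = 3 := by rw [Nat.odd_iff] at hR; omega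
        rcases this with h | h <;> simp [Nat.mul_mod, h, e']))
      (Nat.Coprime.pow_left _ ((Nat.Prime.coprime_iff_not_dvd hr).2 hM)) h12 h24 h60
    obtain ⟨H, hH⟩ := h G h3 h4
    exact h5 H hH
  · rintro (h | h | rfl | rfl | rfl) G _ _ h1 h2
    · obtain ⟨p, k, hp, -, rfl⟩ := (isPrimePow_nat_iff m).1 h
      haveI := Fact.mk hp
      exact Sylow.exists_subgroup_card_pow_prime p h1
    · refine hall h2 ⊤ (Cfsg.Lib.Core.isSolvable_top_iff.2 (solv4 fun e => ?_))
        (by rwa [Subgroup.card_top])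
      obtain ⟨k, hk⟩ := h1
      rw [hk, Nat.mul_div_cancel_left _ (by omega)] at h2
      have h3 : k % 2 = 1 := by
        by_contra h3
        exact absurd (Nat.eq_one_of_dvd_coprimes h2 (k := 2) (by omega) (by omega)) (by norm_num)
      have : k % 4 = 1 ∨ k % 4 = 3 := by omega
      rw [hk, Nat.dvd_iff_mod_eq_zero] at e
      rcases this with h' | h' <;> simp [Nat.mul_mod, h, h'] at e
    · exact c12 h1 h2
    · exact c24 h1 h2
    · exact c60 h1 h2

end Cfsg.Agent.S4044
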