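import Cfsg.Statements.S4049
import Cfsg.Agent.S3861

set_option autoImplicit false
open Cfsg

namespace Cfsg.Agent.S4049

open Subgroup Cfsg.Lib Cfsg.Lib.BG

/-- Let G be a finite group such that N_G(H)/C_G(H) has odd order for every nontrivial subgroup H of odd order. Then the Sylow 2-subgroups of G are normal. -/
theorem result {G : Type*} [Group G] [Finite G]
    (hhom : ∀ H : Subgroup G, H ≠ ⊥ → ¬ 2 ∣ Nat.card ↥H →
        ¬ 2 ∣ (Subgroup.centralizer (H : Set G)).relIndex (Subgroup.normalizer (H : Set G))) (P : Sylow 2 G) :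
    (P : Subgroup G).Normal := by
  refine (S3861.result P).1 fun x h1 ho hc => ?_
  obtain ⟨g, hg⟩ := isConj_iff.1 hc
  have hn : g ∈ 𝐍(zpowers x) := Transfer.mem_normalizer_of_conj_le (by
    rw [Transfer.conj_zpowers, hg, zpowers_inv])
  have h2 := hhom (zpowers x) (by simpa using h1)
    (by rw [Nat.card_zpowers]; exact ho.not_two_dvd_nat)
  have h3 := S3861.odd_pow_conj hg (Nat.odd_iff.2 (Nat.two_dvd_ne_zero.1 h2))
  have : (𝐂(zpowers x).subgroupOf 𝐍(zpowers x)).Normal :=
    (normal_subgroupOf_iff_le_normalizer (centralizer_le_normalizer _)).2 (norm_cent le_rfl)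
  have h4 := mem_subgroupOf.1 ((𝐂(zpowers x).subgroupOf 𝐍(zpowers x)).pow_index_mem ⟨g, hn⟩)
  have h5 := h4 x (mem_zpowers x)
  refine h1 (S3861.eq_one_of_odd ho (k := 1) ?_)
  rw [coe_pow] at h5
  change _ * _ ^ relIndex _ _ = _ ^ relIndex _ _ * _ at h5
  rw [← h5, mul_inv_cancel_right] at h3
  rw [pow_one, sq]
  exact mul_eq_one_iff_eq_inv.2 h3

end Cfsg.Agent.S4049
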