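import Cfsg.Statements.S4072
import Cfsg.Agent.S3807
import Cfsg.Agent.Lib.Transfer.Fusion
import Cfsg.Agent.Lib.BG.Quo
import Cfsg.Agent.Lib.PGroup.Basic
import Cfsg.Agent.Lib.PGroup.Omega

set_option autoImplicit false
open Cfsg

namespace Cfsg.Agent.S4072

open Subgroup Cfsg.Lib Cfsg.Lib.BG
open scoped commutatorElement

theorem card_comm_le {P : Type*} [Group P] [Finite P] {p : ℕ} [hp : Fact p.Prime]
    (hP : IsPGroup p P) (hna : ¬ IsMulCommutative P)
    (h : ∀ H : Subgroup P, H ≠ ⊤ → IsMulCommutative H) : Nat.card (_root_.commutator P) ≤ p := by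
  obtain ⟨x, y, hxy⟩ : ∃ x y : P, x * y ≠ y * x := by
    by_contra hc
    push Not at hc
    exact hna ⟨⟨hc⟩⟩
  have hm : ∀ H : Subgroup P, H ≠ ⊤ → ∃ M : Subgroup P, H ≤ M ∧ M.index = p ∧
      IsMulCommutative M := fun H hH => by
    obtain ⟨M, hM, hle⟩ := (eq_top_or_exists_le_coatom H).resolve_left hH
    exact ⟨M, hle, PGroup.index_eq_of_isCoatom hP hM, h M hM.1⟩
  have hz : ∀ z : P, zpowers z ≠ ⊤ := fun z e =>
    hna (isCyclic_iff_exists_zpowers_eq_top.2 ⟨z, e⟩).isMulCommutative
  obtain ⟨A, hxA, hA, hAc⟩ := hm _ (hz x)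
  obtain ⟨B, hyB, hB, hBc⟩ := hm _ (hz y)
  have h1 := (S3807.result p hP hna A hAc hA).1
  have htop : zpowers x ⊔ zpowers y = ⊤ := by
    by_contra hne
    have := h _ hne
    exact hxy (setLike_mul_comm (mem_sup_left (mem_zpowers x) : x ∈ zpowers x ⊔ zpowers y)
      (mem_sup_right (mem_zpowers y)))
  have h2 : A ⊓ B ≤ center P := fun z hz => by
    refine centralizer_eq_top_iff_subset.1 (top_le_iff.1 ?_) (Set.mem_singleton z)
    rw [← htop]
    exact sup_le (zpowers_le.2 (mem_centralizer_singleton_iff.2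
      (setLike_mul_comm (hxA (mem_zpowers x)) hz.1))) (zpowers_le.2
      (mem_centralizer_singleton_iff.2 (setLike_mul_comm (hyB (mem_zpowers y)) hz.2)))
  have h3 := (Nat.le_of_dvd (Nat.pos_of_ne_zero index_ne_zero_of_finite)
    (index_dvd_of_le h2)).trans (index_inf_le (H := A) (K := B))
  rw [h1, hA, hB] at h3
  exact Nat.le_of_mul_le_mul_left h3 hp.out.pos

theorem sylow_bot {X : Type*} [Group X] [Finite X] {p : ℕ} [Fact p.Prime]
    (hX : _root_.commutator X = ⊤) (Q : Sylow p X) (h1 : IsMulCommutative (Q : Subgroup X))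
    (h2 : 𝐍((Q : Subgroup X)) = Q) : (Q : Subgroup X) = ⊥ := by
  have := Transfer.commutator_inf_eq_of_abelian Q
  rw [hX, top_inf_eq, h2] at this
  rw [this]
  exact commutator_eq_bot_iff_le_centralizer.2 (le_centralizer _)

/-- A finite group in which every non-abelian subgroup is self-normalizing is solvable or simple. -/
theorem result {G : Type*} [Group G] [Finite G] (hS : ∀ H : Subgroup G, ¬ IsMulCommutative H → Subgroup.normalizer (H : Set G) = H) :
    Group.IsSolvable G ∨ IsSimpleGroup G := by
  have hab : ∀ N : Subgroup G, N.Normal → N ≠ ⊤ → IsMulCommutative N := fun N hN h => by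
    by_contra hc
    exact h ((hS N hc).symm.trans (normalizer_eq_top_iff.2 hN))
  by_cases hG : _root_.commutator G = ⊤
  swap
  · have := hab _ inferInstance hG
    have : Group.IsSolvable (_root_.commutator G) :=
      Group.isSolvable_of_comm fun a b => this.is_comm.comm a b
    have : Group.IsSolvable (G ⧸ _root_.commutator G) :=
      inferInstanceAs (Group.IsSolvable (Abelianization G))
    exact Or.inl (Group.isSolvable_of_ker_le_range (_root_.commutator G).subtype
      (QuotientGroup.mk' (_root_.commutator G)) (by simp))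
  rcases subsingleton_or_nontrivial G with h | h
  · exact Or.inl inferInstance
  refine Or.inr ⟨fun N hN => ?_⟩
  by_contra hc
  push Not at hc
  have hq : ∀ (K : Subgroup G) [K.Normal], _root_.commutator (G ⧸ K) = ⊤ ∧
      ∀ H : Subgroup (G ⧸ K), ¬ IsMulCommutative (H.comap (QuotientGroup.mk' K)) → 𝐍(H) = H := by
    intro K _
    refine ⟨?_, fun H hH => comap_injective (QuotientGroup.mk'_surjective K) ?_⟩
    · have := map_commutator_eq G (QuotientGroup.mk' K)
      rw [hG, ← MonoidHom.range_eq_map, MonoidHom.range_eq_top.2 (QuotientGroup.mk'_surjective K)]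
        at this
      exact this.symm
    · rw [comap_normalizer_eq_of_surjective _ (QuotientGroup.mk'_surjective K), hS _ hH]
  by_cases hZ : 𝐂(N) = ⊤
  · replace hZ : N ≤ center G := centralizer_eq_top_iff_subset.1 hZ
    obtain ⟨p, hp, hd⟩ := Nat.exists_prime_and_dvd (mt card_eq_one.1 hc.1)
    have := Fact.mk hp
    obtain ⟨P⟩ : Nonempty (Sylow p G) := inferInstance
    have h1 := Transfer.center_inf_commutator_inf_sylow_le P
    rw [hG, inf_top_eq] at h1
    have hna : ¬ IsMulCommutative (P : Subgroup G) := by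
      intro hP
      obtain ⟨x, hx⟩ := exists_prime_orderOf_dvd_card' p hd
      have h2 : (x : G) ∈ (P : Subgroup G) := by
        have : (zpowers (x : G)).Normal := ⟨fun a ha g => by
          rwa [mem_center_iff.1 (zpowers_le.2 (hZ x.2) ha) g, mul_inv_cancel_right]⟩
        exact (IsPGroup.of_card (n := 1) (by
          rw [Nat.card_zpowers, orderOf_coe, hx, pow_one])).le_sylow_of_normal P (mem_zpowers _)
      have h3 := h1 (mem_inf.2 ⟨hZ x.2, h2⟩)
      rw [commutator_eq_bot_iff_le_centralizer.2 (le_centralizer _), mem_bot] at h3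
      rw [← orderOf_coe, h3, orderOf_one] at hx
      exact hp.ne_one hx.symm
    have hNP : N ≤ P := hZ.trans (hS _ hna ▸ center_le_normalizer _)
    have h2 := card_comm_le P.isPGroup' hna fun H hH => by
      by_contra hH'
      have h3 := hS (H.map (P : Subgroup G).subtype) fun e => hH'
        ((PGroup.isMulCommutative_iff.2 fun a ha b hb => Subtype.ext
          (setLike_mul_comm (s := H.map (P : Subgroup G).subtype) (mem_map_of_mem _ ha)
            (mem_map_of_mem _ hb))))
      have h4 := nil_norm_grow (pgroup_nil P.isPGroup') (lt_of_le_of_ne (map_subtype_le H) fun e =>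
        hH (map_injective (P : Subgroup G).subtype_injective (by
          rw [e, ← MonoidHom.range_eq_map, range_subtype])))
      rw [h3] at h4
      exact h4.not_ge inf_le_right
    rw [← card_map_of_injective (P : Subgroup G).subtype_injective, map_subtype_commutator] at h2
    have h3 : N = ⁅(P : Subgroup G), (P : Subgroup G)⁆ :=
      eq_of_le_of_card_ge ((le_inf hZ hNP).trans h1) (h2.trans (Nat.le_of_dvd Nat.card_pos hd))
    have h4 := sylow_bot (hq N).1 (P.mapSurjective (QuotientGroup.mk'_surjective N)) (by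
      rw [Sylow.coe_mapSurjective, ← le_centralizer_iff_isMulCommutative, map_le_cent_iff,
        QuotientGroup.ker_mk', h3]) ((hq N).2 _ (by
      rwa [Sylow.coe_mapSurjective, comap_map_eq, QuotientGroup.ker_mk', sup_eq_left.2 hNP]))
    rw [Sylow.coe_mapSurjective, Subgroup.map_eq_bot_iff, QuotientGroup.ker_mk'] at h4
    exact hna (PGroup.isMulCommutative_of_le h4 (hab N hN hc.2))
  · set K := 𝐂(N) with hK
    have hNK : N ≤ K := by
      have := hab N hN hc.2
      exact le_centralizer _
    obtain ⟨p, hp, hd⟩ := Nat.exists_prime_and_dvd (mt index_eq_one.1 hZ)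
    have := Fact.mk hp
    obtain ⟨Q⟩ : Nonempty (Sylow p (G ⧸ K)) := inferInstance
    have hQ : (Q : Subgroup (G ⧸ K)) ≠ ⊥ := Q.ne_bot_of_dvd_card hd
    obtain ⟨⟨z, hz⟩, hz1⟩ := ne_bot_iff_exists_ne_one.1 (center_ne_bot_of_nil
      (pgroup_nil Q.isPGroup') hQ)
    have h1 := (hq K).2 (zpowers z) fun hab' => by
      obtain ⟨y, rfl⟩ := QuotientGroup.mk'_surjective K z
      refine hz1 (Subtype.ext ((QuotientGroup.eq_one_iff y).2 fun n hn => ?_))
      exact setLike_mul_comm (s := (zpowers (QuotientGroup.mk' K y)).comap (QuotientGroup.mk' K))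
        (by rw [mem_comap, QuotientGroup.mk'_apply K n, (QuotientGroup.eq_one_iff n).2 (hNK hn)]
            exact one_mem _) (mem_zpowers _)
    have h2 : (Q : Subgroup (G ⧸ K)) = zpowers z := le_antisymm (h1 ▸ norm_of_cent
      (le_centralizer_iff.1 (zpowers_le.2 hz.2))) (zpowers_le.2 hz.1)
    exact hQ (sylow_bot (hq K).1 Q (h2 ▸ inferInstance) (by rw [h2, h1]))

end Cfsg.Agent.S4072
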