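import Cfsg.Statements.S4074
import Cfsg.Agent.S3920

set_option autoImplicit false
open Cfsg

namespace Cfsg.Agent.S4074

section
open DihedralGroup Cfsg.Agent.S3920

theorem key4 : ∀ a b g : DihedralGroup 4, a * b ≠ b * a → g = 1 ∨ g = a ∨ g = b ∨ g = a * b ∨ g = b * a ∨
    g = a * b * a ∨ g = b * a * b ∨ g = a * b * a * b ∨ g = a * a ∨ g = b * b ∨ g = a * a * a ∨ g = b * b * b ∨
    g = a * a * b ∨ g = b * b * a := by decide +kernel

end

/-- For n > 2, every non-abelian subgroup of the dihedral group of order 2n is self-normalizing if and only if n = 4 or n is odd. -/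
theorem result (n : ℕ) (hn : 2 < n) :
    (∀ H : Subgroup (DihedralGroup n), ¬ IsMulCommutative H → Subgroup.normalizer (H : Set (DihedralGroup n)) = H) ↔
    (n = 4 ∨ Odd n) := by
  open DihedralGroup Cfsg.Agent.S3920 in
  haveI : NeZero n := ⟨by omega⟩
  have ex : ∀ H : Subgroup (DihedralGroup n), ¬ IsMulCommutative H → ∃ i, sr i ∈ H := fun H hH => by
    obtain ⟨i, -, hi, -⟩ := exists_of_not_cyclic (H := H) fun h => hH h.isMulCommutative
    exact ⟨i, hi⟩
  constructor
  · intro h
    by_contra hc
    push Not at hc
    obtain ⟨m, hm⟩ := Nat.not_odd_iff_even.1 hc.2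
    have hm2 : (m : ZMod n) + m = 0 := by rw [← Nat.cast_add, ← hm, ZMod.natCast_self]
    have h1 := h (dih n m) (not_comm_dih (i := 2) (by linear_combination hm2) (by
      have := natCast_ne_zero (n := n) (a := 4) (by omega) (by omega)
      intro e; apply this; push_cast; linear_combination e))
    have h2 : r 1 ∈ dih n m := by
      rw [← h1]
      rintro (i | i)
      · simp
      · simp only [r_mul_sr, inv_r, sr_mul_r, SetLike.mem_coe, sr_mem_dih]
        constructor <;> intro e
        · linear_combination e - hm2
        · linear_combination e + hm2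
    exact natCast_ne_zero (n := n) (a := m) (by omega) (by omega) (by simpa using r_mem_dih.1 h2)
  · rintro (rfl | h) H hH
    · have : H = ⊤ := by
        by_contra hne
        refine hH ⟨⟨fun a b => Subtype.ext (by_contra fun hab => hne (eq_top_iff.2 fun g _ => ?_))⟩⟩
        have ha := a.2
        have hb := b.2
        rcases key4 a b g hab with e | e | e | e | e | e | e | e | e | e | e | e | e | e <;> rw [e] <;>
          (repeat first | exact ha | exact hb | exact one_mem _ | apply mul_mem)
      rw [this]; exact Subgroup.normalizer_eq_top ⊤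
    · obtain ⟨i, hi⟩ := ex H hH
      have key : ∀ k, r k ∈ Subgroup.normalizer (H : Set (DihedralGroup n)) → r k ∈ H := by
        intro k hk
        have h1 := mul_mem ((hk _).1 hi) hi
        simp only [r_mul_sr, inv_r, sr_mul_r, sr_mul_sr] at h1
        obtain ⟨t, ht⟩ := h
        have h2 := pow_mem h1 (t + 1)
        rw [r_pow] at h2
        have h3 : ((2 * t + 1 : ℕ) : ZMod n) = 0 := by rw [← ht, ZMod.natCast_self]
        convert h2 using 2
        push_cast at h3 ⊢
        linear_combination -k * h3
      refine le_antisymm ?_ Subgroup.le_normalizer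
      rintro (k | k) hk
      · exact key k hk
      · have := mul_mem hi (key _ (mul_mem (Subgroup.le_normalizer hi) hk))
        simpa using this

end Cfsg.Agent.S4074
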