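import Cfsg.Statements.S4078
import Cfsg.Agent.Lib.FGS.TwoGen
import Cfsg.Agent.S0205

set_option autoImplicit false
open Cfsg

namespace Cfsg.Agent.S4078

open Subgroup Cfsg.Lib Cfsg.Lib.FGS Cfsg.Lib.Core

theorem sol_inv {G : Type*} [Group G] {s t : G} (hs : s * s = 1) (ht : t * t = 1) :
    Group.IsSolvable ↥(zpowers s ⊔ zpowers t) := by
  have hs' : s⁻¹ = s := inv_eq_of_mul_eq_one_right hs
  have ht' : t⁻¹ = t := inv_eq_of_mul_eq_one_right ht
  have h1 : zpowers s ≤ normalizer (zpowers (s * t) : Set G) := by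
    rw [zpowers_le, ← Transfer.conj_eq_self_iff, Transfer.conj_zpowers, ← zpowers_inv]
    congr 1
    rw [← mul_assoc, hs, hs', one_mul, mul_inv_rev, hs', ht']
  refine isSolvable_of_le ?_ (isSolvable_sup h1 (isSolvable_of_isMulCommutative _)
    (isSolvable_of_isMulCommutative _))
  refine sup_le le_sup_left (zpowers_le.2 ?_)
  have := mul_mem (mem_sup_left (T := zpowers (s * t)) (mem_zpowers s)) (mem_sup_right (mem_zpowers (s * t)))
  rwa [← mul_assoc, hs, one_mul] at this

/-- For an element x of a finite group G let Sol(x) be the set of y ∈ G such that x and y generate a solvable subgroup. Then G is solvable if and only if Sol(x) is (the carrier of) a subgroup of G for every x ∈ G. -/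
theorem result {G : Type*} [Group G] [Finite G] :
    Group.IsSolvable G ↔ ∀ x : G, ∃ H : Subgroup G, (H : Set G) = {y : G | Group.IsSolvable ↥(Subgroup.closure ({x, y} : Set G))} := by
  have e : ∀ x : G, {y : G | Group.IsSolvable ↥(Subgroup.closure ({x, y} : Set G))} =
      {y : G | Group.IsSolvable ↥(zpowers x ⊔ zpowers y)} := fun x => Set.ext fun y => by
    rw [Set.mem_setOf_eq, closure_pair_eq]; rfl
  simp only [e]
  constructor
  · intro h x
    exact ⟨⊤, (Set.eq_univ_of_forall fun y => inferInstanceAs (Group.IsSolvable _)).symm⟩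
  refine isSolvable_of_minimal (fun G _ => ∀ x : G, ∃ H : Subgroup G,
    (H : Set G) = {y : G | Group.IsSolvable ↥(zpowers x ⊔ zpowers y)}) ?_ ?_ ?_ G
  · intro G _ _ K h x
    obtain ⟨H, hH⟩ := h x
    refine ⟨H.subgroupOf K, Set.ext fun y => ?_⟩
    rw [SetLike.mem_coe, mem_subgroupOf, ← SetLike.mem_coe, hH, Set.mem_setOf_eq, Set.mem_setOf_eq,
      ← isSolvable_map_iff K.subtype_injective, Subgroup.map_sup, MonoidHom.map_zpowers, MonoidHom.map_zpowers]
    rfl
  · intro G _ _ N _ hN h x
    obtain ⟨x, rfl⟩ := QuotientGroup.mk'_surjective N x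
    obtain ⟨H, hH⟩ := h x
    have key : ∀ y, y ∈ H ↔ Group.IsSolvable ↥(zpowers (QuotientGroup.mk' N x) ⊔ zpowers (QuotientGroup.mk' N y)) := by
      intro y
      rw [← SetLike.mem_coe, hH, Set.mem_setOf_eq, ← MonoidHom.map_zpowers, ← MonoidHom.map_zpowers,
        ← Subgroup.map_sup]
      exact ⟨isSolvable_map _, isSolvable_of_map_mk' hN⟩
    refine ⟨H.map (QuotientGroup.mk' N), Set.ext fun y => ⟨?_, fun hy => ?_⟩⟩
    · rintro ⟨y, hy, rfl⟩
      exact (key y).1 hy
    · obtain ⟨y, rfl⟩ := QuotientGroup.mk'_surjective N y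
      exact ⟨y, (key y).2 hy, rfl⟩
  · intro G _ _ hmin h
    refine not_pairSol_of_minimal hmin ?_
    obtain ⟨hs, hna, -⟩ := hmin
    have hev : 2 ∣ Nat.card G := by
      by_contra hc
      haveI := S0205.result (G := G) (by rwa [← Nat.not_even_iff_odd, even_iff_two_dvd])
      haveI := @isCyclic_of_prime_card G _ _ ⟨card_prime_of_isSimpleGroup_of_isSolvable⟩ rfl
      exact hna inferInstance
    obtain ⟨t, ht⟩ := exists_prime_orderOf_dvd_card' 2 hev
    have ht2 : t * t = 1 := by rw [← sq, ← ht, pow_orderOf_eq_one]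
    have ht1 : t ≠ 1 := by rintro rfl; simp at ht
    have key : ∀ x : G, (∀ g, Group.IsSolvable ↥(zpowers x ⊔ zpowers (g * t * g⁻¹))) →
        ∀ y, Group.IsSolvable ↥(zpowers x ⊔ zpowers y) := by
      intro x hx y
      obtain ⟨H, hH⟩ := h x
      have h1 : t ∈ H.normalCore := fun g => by
        rw [← SetLike.mem_coe, hH]; exact hx g
      have h2 := ((H.normalCore_normal).eq_bot_or_eq_top).resolve_left fun e => ht1 (mem_bot.1 (e ▸ h1))
      have h3 : y ∈ (H : Set G) := H.normalCore_le (h2 ▸ mem_top y)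
      rwa [hH] at h3
    have hc : ∀ g : G, g * t * g⁻¹ * (g * t * g⁻¹) = 1 := fun g => by
      rw [conj_mul, ht2]; simp
    intro x
    refine key x fun g => ?_
    rw [sup_comm]
    exact key _ (fun k => sol_inv (hc g) (hc k)) x

end Cfsg.Agent.S4078
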