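import Cfsg.Statements.S4081
import Cfsg.Agent.Lib.GLC.Fpf
import Cfsg.Agent.Lib.Char.Burnside
import Cfsg.Agent.Lib.PLocal.ElemAbRep
import Cfsg.Agent.Lib.BG.Prod

set_option autoImplicit false
open Cfsg

namespace Cfsg.Agent.S4081

open Subgroup Module Matrix Cfsg.Lib Cfsg.Lib.BG Cfsg.Lib.Transfer Cfsg.Lib.PLocal Cfsg.Lib.GLC

section

variable {G : Type*} [Group G] {p q : ℕ} {D : Subgroup G} (c : ElemAbCoord p D)

theorem exists_lin (φ : G →* G) (h : ∀ v ∈ D, φ v ∈ D) :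
    ∃ T : End (ZMod p) (Fin c.n → ZMod p), ∀ u, c.e (T u) = φ (c.e u) := by
  choose t ht using fun u => (c.mem_iff _).1 (h _ (c.mem u))
  exact ⟨(AddMonoidHom.mk' t fun u w => c.inj (by rw [ht, c.map_add, c.map_add, ht, ht, map_mul])).toZModLinearMap p,
    ht⟩

theorem exists_hom (T : End (ZMod p) (Fin c.n → ZMod p)) : ∃ t : D →* G, ∀ u, t ⟨c.e u, c.mem u⟩ = c.e (T u) := by
  choose s hs using fun v : D => (c.mem_iff v.1).1 v.2
  refine ⟨MonoidHom.mk' (fun v => c.e (T (s v))) fun v w => ?_, fun u => ?_⟩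
  · rw [← c.map_add, ← map_add, c.inj (a₁ := s (v * w)) (a₂ := s v + s w) (by rw [c.map_add, hs, hs, hs, coe_mul])]
  · rw [MonoidHom.mk'_apply, c.inj (hs ⟨_, c.mem u⟩)]

variable [D.Normal]

theorem exists_conj (x : G) : ∃ f : End (ZMod p) (Fin c.n → ZMod p),
    ∀ (k : ℕ) u, c.e ((f ^ k) u) = x ^ k * c.e u * (x ^ k)⁻¹ := by
  obtain ⟨f, hf⟩ := exists_lin c (MulAut.conj x).toMonoidHom fun v hv => Normal.conj_mem ‹_› v hv x
  refine ⟨f, fun k => ?_⟩
  induction k with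
  | zero => simp
  | succ k ih => intro u; rw [pow_succ', End.mul_apply, hf, ih, pow_succ']; simp [mul_assoc]

theorem exists_mul_pow [Fact q.Prime] (h : D.index = q) {x : G} (hx : x ∉ D) (g : G) :
    ∃ (j : ℕ), ∃ d ∈ D, g = d * x ^ j := by
  obtain ⟨j, hj⟩ := mem_powers_of_prime_card (G := G ⧸ D) h (g := x) (g' := g)
    (mt (QuotientGroup.eq_one_iff x).1 hx)
  refine ⟨j, g * (x ^ j)⁻¹, (QuotientGroup.eq_one_iff _).1 ?_, by simp⟩
  simp [← hj]

variable [Finite G] [hp : Fact p.Prime] [hq : Fact q.Prime]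

theorem exists_aut {x : G} (hc : D.IsComplement' (zpowers x)) (hx : orderOf x = q)
    {f : End (ZMod p) (Fin c.n → ZMod p)} (hf : ∀ (k : ℕ) u, c.e ((f ^ k) u) = x ^ k * c.e u * (x ^ k)⁻¹)
    (T : (Fin c.n → ZMod p) ≃ₗ[ZMod p] (Fin c.n → ZMod p)) {j : ℕ} (hj : ¬ q ∣ j)
    (hT : ∀ u, T (f u) = (f ^ j) (T u)) : ∃ α : MulAut G, α x = x ^ j ∧ ∀ u, α (c.e u) = c.e (T u) := by
  obtain ⟨t, ht⟩ := exists_hom c T.toLinearMap
  have hT' : ∀ (k : ℕ) u, T ((f ^ k) u) = (f ^ (k * j)) (T u) := fun k => by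
    induction k with
    | zero => simp
    | succ k ih => intro u; rw [pow_succ, End.mul_apply, ih, hT, add_mul, one_mul, pow_add, End.mul_apply]
  let s : zpowers x →* G := MonoidHom.mk' (fun y => y ^ j) fun y z => by
    rw [coe_mul]; exact Commute.mul_pow (setLike_mul_comm (s := zpowers x) y.2 z.2) j
  let e := SemidirectProduct.mulEquivSubgroup hc
  let β : G →* G := (SemidirectProduct.lift t s fun g => MonoidHom.ext fun v => by
    obtain ⟨g, hg⟩ := g
    obtain ⟨k, rfl⟩ := mem_powers_iff_mem_zpowers.2 hg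
    obtain ⟨v, hv⟩ := v
    obtain ⟨u, rfl⟩ := (c.mem_iff v).1 hv
    have : (D.normalizerMonoidHom.comp (inclusion (D.normalizer_eq_top ▸ le_top)) ⟨x ^ k, hg⟩ ⟨c.e u, hv⟩ : D) =
        ⟨c.e ((f ^ k) u), c.mem _⟩ := Subtype.ext (hf k u).symm
    change t _ = (x ^ k) ^ j * t _ * ((x ^ k) ^ j)⁻¹
    rw [MulEquiv.coe_toMonoidHom, this, ht, ht, LinearEquiv.coe_coe, hT', hf, pow_mul]).comp e.symm.toMonoidHom
  have h1 : ∀ u, β (c.e u) = c.e (T u) := fun u => by
    have : e.symm (c.e u) = .inl ⟨_, c.mem u⟩ := e.symm_apply_eq.2 (by simp [e])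
    rw [MonoidHom.comp_apply, MulEquiv.coe_toMonoidHom, this, SemidirectProduct.lift_inl, ht]; rfl
  have h2 : β x = x ^ j := by
    have : e.symm x = .inr ⟨_, mem_zpowers x⟩ := e.symm_apply_eq.2 (by simp [e])
    rw [MonoidHom.comp_apply, MulEquiv.coe_toMonoidHom, this, SemidirectProduct.lift_inr]; rfl
  refine ⟨MulEquiv.ofBijective β (Finite.surjective_iff_bijective.1 (MonoidHom.range_eq_top.1 ?_)), h2, h1⟩
  rw [eq_top_iff, ← hc.sup_eq_top]
  refine sup_le (fun v hv => ?_) (zpowers_le_of_mem ?_)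
  · obtain ⟨u, rfl⟩ := (c.mem_iff v).1 hv
    exact ⟨c.e (T.symm u), by rw [h1, T.apply_symm_apply]⟩
  · obtain ⟨m, hm⟩ := exists_pow_eq_self_of_coprime (x := x) (hx ▸ (hq.1.coprime_iff_not_dvd.2 hj).symm)
    exact ⟨x ^ m, by rw [map_pow, h2, hm]⟩

omit [D.Normal] [Finite G] in
theorem fpf {x : G} (hx : orderOf x = q) (hD : ∀ v ∈ D, v ^ p = 1)
    (hno : ∀ x y : G, orderOf x = q → orderOf y = p → x * y * x⁻¹ ≠ y)
    {f : End (ZMod p) (Fin c.n → ZMod p)} (hf : ∀ (k : ℕ) u, c.e ((f ^ k) u) = x ^ k * c.e u * (x ^ k)⁻¹) :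
    f ^ q = 1 ∧ ∀ v, f v = v → v = 0 := by
  refine ⟨LinearMap.ext fun u => c.inj (by rw [hf, ← hx]; simp), fun v hv => by_contra fun h => ?_⟩
  refine hno x (c.e v) hx (orderOf_eq_prime (hD _ (c.mem v)) (mt c.eq_one_iff.1 h)) ?_
  simpa [hv] using (hf 1 v).symm

end

variable {G : Type*} [Group G] [Finite G] {p q : ℕ} [hp : Fact p.Prime] [hq : Fact q.Prime]

theorem fwd (hpq : p ≠ q) (hqG : q ∣ Nat.card G) (h1 : ∀ x : G, orderOf x = 1 ∨ orderOf x = p ∨ orderOf x = q)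
    (h2 : ∀ x y : G, orderOf x = orderOf y → ∃ α : MulAut G, α x = y) {D : Subgroup G} [D.Characteristic]
    (hab : IsMulCommutative D) {y : G} (hy : y ∈ D) (hyp : orderOf y = p) :
    ∃ n, 1 ≤ n ∧ Nat.card G = p ^ n * q ∧
      (∀ P : Sylow p G, (P : Subgroup G).Normal ∧ Cfsg.IsElementaryAbelian p (P : Subgroup G)) ∧
      orderOf (p : ZMod q) = q - 1 ∧ ∀ x y : G, orderOf x = q → orderOf y = p → x * y * x⁻¹ ≠ y := by
  have hcop := (Nat.coprime_primes hp.1 hq.1).2 hpq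
  have hno : ∀ x y : G, orderOf x = q → orderOf y = p → x * y * x⁻¹ ≠ y := fun x y hx hy h => by
    have := Commute.orderOf_mul_eq_mul_orderOf_of_coprime (mul_inv_eq_iff_eq_mul.1 h) (hx ▸ hy ▸ hcop.symm)
    have h3 := h1 (x * y)
    rw [this, hx, hy] at h3
    have := hp.1.two_le
    have := hq.1.two_le
    rcases h3 with h3 | h3 | h3 <;> nlinarith
  have hα : ∀ (α : MulAut G) v, α v ∈ D ↔ v ∈ D := fun α v => by
    rw [← characteristic_iff_comap_eq.1 ‹D.Characteristic› α]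
    nth_rw 1 [characteristic_iff_comap_eq.1 ‹D.Characteristic› α]
    rfl
  have hD : ∀ v, v ∈ D ↔ v ^ p = 1 := fun v => by
    refine ⟨fun hv => ?_, fun hv => ?_⟩
    · rcases h1 v with h | h | h
      · rw [orderOf_eq_one_iff.1 h, one_pow]
      · rw [← h, pow_orderOf_eq_one]
      · exact (hno v y h hyp (by rw [setLike_mul_comm (s := D) hv hy]; simp)).elim
    · rcases eq_or_ne v 1 with rfl | h
      · exact D.one_mem
      · obtain ⟨α, rfl⟩ := h2 y v (hyp.trans (orderOf_eq_prime hv h).symm)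
        exact (hα α y).2 hy
  have hDp : IsPGroup p D := fun v => ⟨1, Subtype.ext (by simpa using (hD _).1 v.2)⟩
  have hP : ∀ P : Sylow p G, (P : Subgroup G) = D := fun P => (P.is_maximal' hDp fun v hv => by
    obtain ⟨k, hk⟩ := P.isPGroup' ⟨v, hv⟩
    have hk : orderOf v ∣ p ^ k := orderOf_dvd_of_pow_eq_one (congrArg Subtype.val hk)
    rcases h1 v with h | h | h
    · rw [orderOf_eq_one_iff.1 h]; exact D.one_mem
    · rw [hD, ← h, pow_orderOf_eq_one]
    · exact (hpq ((Nat.prime_dvd_prime_iff_eq hq.1 hp.1).1 (hq.1.dvd_of_dvd_pow (h ▸ hk))).symm).elim).symm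
  obtain ⟨n, hn⟩ := hDp.exists_card_eq
  have hD0 : D ≠ ⊥ := fun e => hp.1.ne_one (by rw [← hyp, mem_bot.1 (e ▸ hy : y ∈ ⊥), orderOf_one])
  have hq2 : ¬ q ^ 2 ∣ Nat.card G := fun h => by
    obtain ⟨A, hA⟩ := Sylow.exists_subgroup_card_pow_prime q h
    have hA1 : ∀ a ∈ A, a ≠ 1 → orderOf a = q := fun a ha h1' => by
      have := hA ▸ orderOf_dvd_natCard A ha
      rcases h1 a with h | h | h
      · exact (h1' (orderOf_eq_one_iff.1 h)).elim
      · exact (hpq ((Nat.prime_dvd_prime_iff_eq hp.1 hq.1).1 (hp.1.dvd_of_dvd_pow (h ▸ this)))).elim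
      · exact h
    obtain ⟨a, ha, ha1, h3⟩ := coprime_abelian_exists_cent1 (K := D) (IsPGroup.isMulCommutative_of_card_eq_prime_sq hA)
      (fun h => by
        obtain ⟨a, ha⟩ := IsCyclic.exists_ofOrder_eq_natCard (α := A)
        rw [hA, ← orderOf_coe] at ha
        have := hq.1.two_le
        rcases eq_or_ne (a : G) 1 with h | h
        · rw [h, orderOf_one] at ha; nlinarith
        · rw [hA1 _ a.2 h] at ha; nlinarith) (le_top.trans D.normalizer_eq_top.ge)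
      (hA ▸ hn ▸ hcop.symm.pow _ _) hD0
    obtain ⟨⟨v, hv, hv'⟩, hv1⟩ := ne_bot_iff_exists_ne_one.1 h3
    exact hno a v (hA1 a ha ha1) (orderOf_eq_prime ((hD v).1 hv) fun e => hv1 (Subtype.ext e))
      (mul_inv_eq_iff_eq_mul.2 (mem_cent1.1 hv').symm)
  have hi : D.index = q := by
    obtain ⟨P⟩ : Nonempty (Sylow p G) := inferInstance
    have h3 : ¬ p ∣ D.index := hP P ▸ P.not_dvd_index
    have h4 := Nat.eq_prime_pow_of_unique_prime_dvd (p := q) D.index_ne_zero_of_finite fun {r} hr h => by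
      haveI := Fact.mk hr
      obtain ⟨x, hx⟩ := exists_prime_orderOf_dvd_card' r (h.trans D.index_dvd_card)
      rcases h1 x with h' | h' | h'
      · exact (hr.ne_one (hx ▸ h')).elim
      · exact (h3 (h' ▸ hx ▸ h)).elim
      · exact hx ▸ h'
    generalize D.index.primeFactorsList.length = m at h4
    rw [← D.card_mul_index, hn, h4] at hqG hq2
    obtain _ | _ | m := m
    · exact (hpq ((Nat.prime_dvd_prime_iff_eq hq.1 hp.1).1 (hq.1.dvd_of_dvd_pow (by simpa using hqG))).symm).elim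
    · simpa using h4
    · exact (hq2 (Dvd.dvd.mul_left (pow_dvd_pow q (by omega)) _)).elim
  refine ⟨n, Nat.one_le_iff_ne_zero.2 fun e => hD0 (card_eq_one.1 (by rw [hn, e, pow_zero])),
    by rw [← D.card_mul_index, hn, hi], fun P => hP P ▸ ⟨inferInstance, hab, fun v => (hD v).1⟩, ?_, hno⟩
  obtain ⟨c⟩ := nonempty_elemAbCoord (p := p) (V := D) ⟨hab, fun v => (hD v).1⟩
  obtain ⟨x, hx⟩ := exists_prime_orderOf_dvd_card' q hqG
  have hxD : ∀ z, orderOf z = q → z ∉ D := fun z hz h =>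
    hno z y hz hyp (by rw [setLike_mul_comm (s := D) h hy]; simp)
  obtain ⟨f, hf⟩ := exists_conj c x
  obtain ⟨hf1, hf2⟩ := fpf c hx (fun v => (hD v).1) hno hf
  have key : ∀ (α : MulAut G) (j : ℕ), ∀ d ∈ D, α x = d * x ^ j → ∃ T : End (ZMod p) (Fin c.n → ZMod p),
      (∀ u, c.e (T u) = α (c.e u)) ∧ T * f = f ^ j * T := fun α j d hd h => by
    obtain ⟨T, hT⟩ := exists_lin c α.toMonoidHom fun v => (hα α v).2
    refine ⟨T, hT, LinearMap.ext fun u => c.inj ?_⟩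
    have := hf 1 u
    rw [pow_one, pow_one] at this
    rw [End.mul_apply, End.mul_apply, hT, this, MulEquiv.coe_toMonoidHom, map_mul, map_mul, map_inv, h,
      ← mul_inv_cancel_right (c.e ((f ^ j) _)) d, setLike_mul_comm (s := D) (c.mem _) hd, hf, hT]
    simp [mul_assoc]
  haveI : Nontrivial (Fin c.n → ZMod p) := by
    obtain ⟨u, rfl⟩ := (c.mem_iff y).1 hy
    exact ⟨⟨u, 0, fun e => hp.1.ne_one (by rw [← hyp, e, c.map_zero, orderOf_one])⟩⟩
  rw [← Nat.card_zmod p]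
  refine orderOf_card_of_fpf hq.1 (mt (ZMod.natCast_eq_zero_iff _ _).1 fun h =>
    hpq ((Nat.prime_dvd_prime_iff_eq hp.1 hq.1).1 h)) hf1 hf2 (fun v w hv hw => ?_) fun i hi' => ?_
  · obtain ⟨α, h⟩ := h2 (c.e v) (c.e w) ((orderOf_eq_prime ((hD _).1 (c.mem _)) (mt c.eq_one_iff.1 hv)).trans
      (orderOf_eq_prime ((hD _).1 (c.mem _)) (mt c.eq_one_iff.1 hw)).symm)
    obtain ⟨j, d, hd, h'⟩ := exists_mul_pow hi (hxD x hx) (α x)
    obtain ⟨T, hT, hT'⟩ := key α j d hd h'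
    refine ⟨T, j, c.inj (by rw [hT, h]), fun hj => hxD x hx ((hα α x).1 ?_), hT'⟩
    rwa [h', orderOf_dvd_iff_pow_eq_one.1 (hx ▸ hj), mul_one]
  · obtain ⟨α, h⟩ := h2 x (x ^ i) (Nat.Coprime.orderOf_pow (hx ▸ hq.1.coprime_iff_not_dvd.2 hi')).symm
    obtain ⟨T, hT, hT'⟩ := key α i 1 D.one_mem (by rw [h, one_mul])
    exact ⟨LinearEquiv.ofInjectiveEndo T fun u w e => c.inj (α.injective (by rw [← hT, ← hT, e])),
      fun u => LinearMap.congr_fun hT' u⟩

theorem bwd (hpq : p ≠ q) {n : ℕ} (hG : Nat.card G = p ^ n * q)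
    (hP : ∀ P : Sylow p G, (P : Subgroup G).Normal ∧ Cfsg.IsElementaryAbelian p (P : Subgroup G))
    (h0 : orderOf (p : ZMod q) = q - 1) (hno : ∀ x y : G, orderOf x = q → orderOf y = p → x * y * x⁻¹ ≠ y) :
    (∀ x : G, orderOf x = 1 ∨ orderOf x = p ∨ orderOf x = q) ∧
      ∀ x y : G, orderOf x = orderOf y → ∃ α : MulAut G, α x = y := by
  have hcop := (Nat.coprime_primes hp.1 hq.1).2 hpq
  obtain ⟨P⟩ : Nonempty (Sylow p G) := inferInstance
  obtain ⟨_, hD⟩ := hP P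
  have hn : Nat.card P = p ^ n := by
    rw [P.card_eq_multiplicity, hG, Nat.factorization_mul (pow_ne_zero _ hp.1.ne_zero) hq.1.ne_zero]
    simp [hp.1.factorization, hq.1.factorization, hpq.symm]
  have hi : (P : Subgroup G).index = q :=
    Nat.eq_of_mul_eq_mul_left (Nat.card_pos (α := P)) (by rw [card_mul_index, hG, hn])
  generalize (P : Subgroup G) = D at *
  obtain ⟨c⟩ := nonempty_elemAbCoord hD
  obtain ⟨x, hx⟩ := exists_prime_orderOf_dvd_card' (G := G) q (hG ▸ Dvd.intro_left _ rfl)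
  have hxD : x ∉ D := fun h => hpq ((Nat.prime_dvd_prime_iff_eq hq.1 hp.1).1
    (hx ▸ orderOf_dvd_of_pow_eq_one (hD.2 x h))).symm
  have hc : D.IsComplement' (zpowers x) := isComplement'_of_coprime (by rw [hn, Nat.card_zpowers, hx, hG])
    (by rw [hn, Nat.card_zpowers, hx]; exact hcop.pow_left _)
  obtain ⟨f, hf⟩ := exists_conj c x
  obtain ⟨hf1, hf2⟩ := fpf c hx hD.2 hno hf
  rw [← Nat.card_zmod p] at h0
  have h1 : ∀ g ∉ D, ∃ α : MulAut G, α x = g := fun g hg => by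
    obtain ⟨j, d, hd, rfl⟩ := exists_mul_pow hi hxD g
    have hj : ¬ q ∣ j := fun hj => hg (by rwa [orderOf_dvd_iff_pow_eq_one.1 (hx ▸ hj), mul_one])
    obtain ⟨T, hT⟩ := sim_of_fpf hq.1 h0 hf1 hf2 (g := f ^ j) (by rw [← pow_mul, mul_comm, pow_mul, hf1, one_pow])
      (fpf_pow hq.1 hf1 hf2 hj)
    obtain ⟨α, hα, -⟩ := exists_aut c hc hx hf T hj hT
    obtain ⟨w, rfl⟩ := (c.mem_iff d).1 hd
    obtain ⟨u, rfl⟩ := LinearMap.injective_iff_surjective.1 ((injective_iff_map_eq_zero (1 - f ^ j)).2 fun v hv =>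
      fpf_pow hq.1 hf1 hf2 hj v (sub_eq_zero.1 hv).symm) w
    refine ⟨MulAut.conj (c.e u) * α, ?_⟩
    rw [MulAut.mul_apply, hα, LinearMap.sub_apply, c.map_sub, hf]
    simp [mul_assoc]
  have h2 : ∀ g ∈ D, g ≠ 1 → orderOf g = p := fun g hg => orderOf_eq_prime (hD.2 g hg)
  have h3 : ∀ g ∉ D, orderOf g = q := fun g hg => by
    obtain ⟨α, rfl⟩ := h1 g hg
    rw [α.orderOf_eq, hx]
  refine ⟨fun g => ?_, fun g h e => ?_⟩
  · by_cases hg : g ∈ D
    · exact (eq_or_ne g 1).elim (fun e => .inl (orderOf_eq_one_iff.2 e)) fun e => .inr (.inl (h2 g hg e))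
    · exact .inr (.inr (h3 g hg))
  rcases eq_or_ne g 1 with rfl | hg1
  · exact ⟨1, by rw [orderOf_one, eq_comm, orderOf_eq_one_iff] at e; rw [e, map_one]⟩
  have hh1 : h ≠ 1 := fun e' => hg1 (by rwa [e', orderOf_one, orderOf_eq_one_iff] at e)
  by_cases hg : g ∈ D <;> by_cases hh : h ∈ D
  · obtain ⟨v, rfl⟩ := (c.mem_iff g).1 hg
    obtain ⟨w, rfl⟩ := (c.mem_iff h).1 hh
    obtain ⟨T, rfl, hT⟩ := exists_commute_of_fpf hq.1 h0 hf1 hf2 (mt c.eq_one_iff.2 hg1) (mt c.eq_one_iff.2 hh1)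
    obtain ⟨α, -, hα⟩ := exists_aut c hc hx hf T hq.1.not_dvd_one (by simpa using hT)
    exact ⟨α, hα v⟩
  · exact (hpq (h2 g hg hg1 ▸ h3 h hh ▸ e)).elim
  · exact (hpq (h2 h hh hh1 ▸ h3 g hg ▸ e.symm)).elim
  · obtain ⟨α, rfl⟩ := h1 g hg
    obtain ⟨β, rfl⟩ := h1 h hh
    exact ⟨β * α⁻¹, by simp⟩

omit hp hq in
theorem exists_char [Nontrivial G] [Group.IsSolvable G] :
    ∃ D : Subgroup G, D.Characteristic ∧ IsMulCommutative D ∧ D ≠ ⊥ := by
  classical
  have h := Group.IsSolvable.solvable (G := G)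
  obtain ⟨n, hn⟩ := Nat.exists_eq_succ_of_ne_zero (mt (Nat.find_eq_zero h).1 top_ne_bot)
  refine ⟨derivedSeries G n, inferInstance, ?_, Nat.find_min h (by omega)⟩
  have := Nat.find_spec h
  rw [hn, derivedSeries_succ, commutator_eq_bot_iff_le_centralizer] at this
  exact le_centralizer_iff_isMulCommutative.1 this


/-- Let G be a finite group whose order is not a prime power. Then the automorphism group of G has exactly three orbits on G if and only if there are distinct primes p, q with #G = pⁿ·q (n ≥ 1) such that G has a normal elementary abelian Sylow p-subgroup P, p is a primitive root modulo q (the multiplicative order of p mod q is q − 1), and every element of order q of G acts on P without non-identity fixed points. -/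
theorem result {G : Type*} [Group G] [Finite G] (hnpp : ¬ IsPrimePow (Nat.card G)) (hnt : Nat.card G ≠ 1) :
    Nat.card (MulAction.orbitRel.Quotient (MulAut G) G) = 3 ↔
    ∃ (p q n : ℕ) (_ : Fact p.Prime) (_ : Fact q.Prime), p ≠ q ∧ 1 ≤ n ∧ Nat.card G = p ^ n * q ∧
      (∀ P : Sylow p G, (P : Subgroup G).Normal ∧ Cfsg.IsElementaryAbelian p (P : Subgroup G)) ∧
      orderOf (p : ZMod q) = q - 1 ∧
      ∀ x y : G, orderOf x = q → orderOf y = p → x * y * x⁻¹ ≠ y := by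
  let F : MulAction.orbitRel.Quotient (MulAut G) G → ℕ := Quotient.lift orderOf fun a b ⟨α, h⟩ => by
    rw [← h]; exact α.orderOf_eq b
  have hF : Set.range F = Set.range (orderOf : G → ℕ) := Set.range_quotient_lift (s := MulAction.orbitRel _ _) _
  have h3 : ∀ {p q : ℕ}, p.Prime → q.Prime → p ≠ q → ({1, p, q} : Set ℕ).ncard = 3 := fun hp hq h =>
    Set.ncard_eq_three.2 ⟨_, _, _, hp.ne_one.symm, hq.ne_one.symm, h, rfl⟩
  have h4 : ∀ {p q : ℕ}, p.Prime → q.Prime → p ∣ Nat.card G → q ∣ Nat.card G →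
      {1, p, q} ⊆ Set.range (orderOf : G → ℕ) := fun {p q} hp hq h h' => by
    haveI := Fact.mk hp
    haveI := Fact.mk hq
    rintro _ (rfl | rfl | rfl)
    exacts [⟨1, orderOf_one⟩, exists_prime_orderOf_dvd_card' _ h, exists_prime_orderOf_dvd_card' _ h']
  constructor
  · intro h
    obtain ⟨p, hp, hpG⟩ := Nat.exists_prime_and_dvd hnt
    obtain ⟨q, hq, hqG, hpq⟩ : ∃ q, q.Prime ∧ q ∣ Nat.card G ∧ p ≠ q := by
      by_contra! h'
      exact hnpp (isPrimePow_iff_unique_prime_dvd.2 ⟨p, ⟨hp, hpG⟩, fun q hq => (h' q hq.1 hq.2).symm⟩)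
    haveI := Fact.mk hp
    haveI := Fact.mk hq
    have h5 : (F '' Set.univ).ncard ≤ 3 := (Set.ncard_image_le).trans (by rw [Set.ncard_univ, h])
    have h6 := Set.eq_of_subset_of_ncard_le (h4 hp hq hpG hqG)
      (by rwa [h3 hp hq hpq, ← hF, ← Set.image_univ]) (Set.finite_range _)
    have h7 : Set.InjOn F Set.univ := Set.injOn_of_ncard_image_eq
      (by rw [Set.image_univ, hF, ← h6, h3 hp hq hpq, Set.ncard_univ, h])
    have h1 : ∀ x : G, orderOf x = 1 ∨ orderOf x = p ∨ orderOf x = q := fun x => h6.ge ⟨x, rfl⟩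
    have h2 : ∀ x y : G, orderOf x = orderOf y → ∃ α : MulAut G, α x = y := fun x y e =>
      Quotient.exact (h7 (x₁ := .mk _ y) trivial (x₂ := .mk _ x) trivial e.symm)
    haveI := Finite.one_lt_card_iff_nontrivial.1 (lt_of_le_of_ne (Nat.card_pos (α := G)) hnt.symm)
    haveI := Char.isSolvable_of_forall_prime_dvd G p q fun r hr h => by
      haveI := Fact.mk hr
      obtain ⟨x, hx⟩ := exists_prime_orderOf_dvd_card' r h
      exact hx ▸ (h1 x).resolve_left (hx ▸ hr.ne_one)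
    obtain ⟨D, _, hab, hD⟩ := exists_char (G := G)
    obtain ⟨⟨y, hy⟩, hy1⟩ := Subgroup.ne_bot_iff_exists_ne_one.1 hD
    rcases h1 y with e | e | e
    · exact (hy1 (Subtype.ext (orderOf_eq_one_iff.1 e))).elim
    · obtain ⟨n, h⟩ := fwd hpq hqG h1 h2 hab hy e
      exact ⟨p, q, n, ‹_›, ‹_›, hpq, h⟩
    · obtain ⟨n, h⟩ := fwd hpq.symm hpG (fun x => (h1 x).imp_right .symm) h2 hab hy e
      exact ⟨q, p, n, ‹_›, ‹_›, hpq.symm, h⟩
  · rintro ⟨p, q, n, hp, hq, hpq, hn, hG, hP, h0, hno⟩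
    obtain ⟨h1, h2⟩ := bwd hpq hG hP h0 hno
    have h7 : Function.Injective F := fun a b => Quotient.inductionOn₂ a b fun a b e =>
      Quotient.sound (h2 b a e.symm)
    rw [← Set.ncard_univ, ← Set.ncard_image_of_injective _ h7, Set.image_univ, hF, ← h3 hp.1 hq.1 hpq]
    congr 1
    exact (Set.range_subset_iff.2 h1).antisymm (h4 hp.1 hq.1 (hG ▸ (dvd_pow_self p (by omega)).mul_right q)
      (hG ▸ Dvd.intro_left _ rfl))

end Cfsg.Agent.S4081
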