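import Cfsg.Statements.S4113
import Cfsg.Agent.Lib.BG.Hall
import Cfsg.Agent.Lib.BG.T03_1

set_option autoImplicit false
open Cfsg

namespace Cfsg.Agent.S4113

/-- Let G be a finite group, M ≤ N non-trivial proper normal subgroups, and H a subgroup with HM = G and H ∩ M = 1. Then every element of G outside N acts fixed-point-freely on M (C_G(x) ≤ N for every x ∈ M, x ≠ 1) if and only if H ∩ gHg⁻¹ ≤ H ∩ N for every g outside H, with H proper and non-trivial and H ∩ N proper in H. -/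
theorem result {G : Type*} [Group G] [Finite G] (N M : Subgroup G) [N.Normal] [M.Normal] (hMN : M ≤ N) (hM1 : M ≠ ⊥) (hN2 : N ≠ ⊤)
    (H : Subgroup G) (hHM : H ⊔ M = ⊤) (hHM' : H ⊓ M = ⊥) :
    (∀ x ∈ M, x ≠ 1 → Subgroup.centralizer ({x} : Set G) ≤ N) ↔
      (H ≠ ⊥ ∧ H ≠ ⊤ ∧ H ⊓ N < H ∧ ∀ g : G, g ∉ H → H ⊓ H.map (MulAut.conj g).toMonoidHom ≤ N) := by
  open Subgroup Cfsg.Lib Cfsg.Lib.BG in
  have dec : ∀ g : G, ∃ m ∈ M, ∃ h ∈ H, m * h = g := fun g =>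
    (mem_sup_left_norm le_normalizer_of_normal).1 (by rw [sup_comm, hHM]; trivial)
  have h0 : ∀ x ∈ H, x ∈ M → x = 1 := fun x a b => mem_bot.1 (hHM' ▸ mem_inf.2 ⟨a, b⟩)
  have nM : M.Normal := inferInstance
  constructor
  · intro h
    have h1 : ¬ H ≤ N := fun h => hN2 (top_le_iff.1 (hHM ▸ sup_le h hMN))
    refine ⟨fun e => h1 (e ▸ bot_le), fun e => hM1 (by simpa [e] using hHM'), inf_lt_left.2 h1, fun g hg x hx => ?_⟩
    obtain ⟨m, hm, y, hy, rfl⟩ := dec g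
    obtain ⟨z, hz, e⟩ := hx.2
    have e' : m * (y * z * y⁻¹) * m⁻¹ = x := by rw [← e]; simp [mul_assoc]
    have h2 := H.mul_mem (H.mul_mem hy hz) (H.inv_mem hy)
    generalize y * z * y⁻¹ = w at e' h2
    have h3 := h0 _ (H.mul_mem hx.1 (H.inv_mem h2)) (by
      rw [← e', mul_assoc, mul_assoc, ← mul_assoc w]; exact M.mul_mem hm (nM.conj_mem _ (M.inv_mem hm) w))
    obtain rfl := mul_inv_eq_one.1 h3
    exact h m hm (fun e => hg (by simpa [e] using hy)) (mem_cent1.2 (mul_inv_eq_iff_eq_mul.1 e').symm)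
  · rintro ⟨-, -, -, h⟩ x hx h1 g hg
    obtain ⟨m, hm, y, hy, rfl⟩ := dec g
    refine N.mul_mem (hMN hm) (by_contra fun h2 => h1 ?_)
    have h3 : M ⊓ 𝐂[y] = ⊥ := eq_bot_iff.2 fun z hz => by_contra fun h4 =>
      h2 (h z (fun h5 => h4 (h0 z h5 hz.1)) ⟨hy, y, hy, by simp [mem_cent1.1 hz.2]⟩)
    obtain ⟨w, hw, e⟩ := Frobenius.exists_conj_eq_mul (le_normalizer_of_normal (mem_top y)) h3 hm
    have h4 : w⁻¹ * x * w ∈ M ⊓ 𝐂[y] := ⟨by simpa using nM.conj_mem x hx w⁻¹, mem_cent1.2 (by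
      have := mem_cent1.1 hg
      rw [← e] at this
      calc _ = w⁻¹ * (x * (w * y * w⁻¹)) * w := by group
        _ = _ := by rw [← this]; group)⟩
    rw [h3, mem_bot] at h4
    calc x = w * (w⁻¹ * x * w) * w⁻¹ := by group
      _ = 1 := by rw [h4]; simp

end Cfsg.Agent.S4113
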