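import Cfsg.Statements.S4136
import Cfsg.Agent.Lib.PPI.Two
import Cfsg.Agent.Lib.PPI.Part
import Cfsg.Agent.S4355

set_option autoImplicit false
open Cfsg
open scoped commutatorElement

namespace Cfsg.Agent.S4136

/-- Let G be a finite group and m a natural number such that every element of prime-power order has a conjugacy class of size 1 or m. Then G is solvable. -/
theorem result {G : Type*} [Group G] [Finite G] (m : ℕ)
    (h : ∀ x : G, (∃ (r : ℕ) (k : ℕ), r.Prime ∧ orderOf x = r ^ k) → (Subgroup.centralizer ({x} : Set G)).index = 1 ∨ (Subgroup.centralizer ({x} : Set G)).index = m) : Group.IsSolvable G := by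
  open Subgroup Cfsg.Lib Cfsg.Lib.BG Cfsg.Lib.JR Cfsg.Lib.FGS Cfsg.Lib.PPI in
  have hE : E m G := fun x hx x1 => (h x hx).resolve_left fun e => x1 (index_cent1_eq_one.1 e)
  have hD : D m G := fun x hx => (h x hx).elim (fun e => e ▸ one_dvd _) fun e => e.dvd
  obtain ⟨T⟩ : Nonempty (Sylow 2 G) := inferInstance
  have hT := Syl.of_sylow_top T
  by_cases h2 : 2 ∣ m
  swap
  · exact hD.solv (fun e => h2 (dvd_trans (by decide) e)) (.inl (ab2_of_sylow T (S4355.result
      (fun x ⟨k, hk⟩ e => h2 (e.trans (hD x ⟨2, k, Nat.prime_two, hk⟩))) T)))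
  by_cases hg : ∃ g ∈ (T : Subgroup G), g * g ∉ center G
  · obtain ⟨g, hg, g2⟩ := hg
    obtain ⟨m4, dc⟩ := hE.dih h2 hT hg g2
    have := (hD.surj (QuotientGroup.mk'_surjective (center G))).solv m4 (.inr dc)
    have : Group.IsSolvable (center G) := Group.isSolvable_of_comm fun a b => Subtype.ext (mem_center_iff.1 b.2 a)
    exact Group.isSolvable_of_ker_le_range (center G).subtype (QuotientGroup.mk' (center G)) (by simp)
  push Not at hg
  have hπ := QuotientGroup.mk'_surjective (pPrimeCore 2 G)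
  have hk := QuotientGroup.ker_mk' (pPrimeCore 2 G)
  set π := QuotientGroup.mk' (pPrimeCore 2 G)
  have ho : Odd (Nat.card (pPrimeCore 2 G)) := Nat.coprime_two_right.1 (Core.pPrimeCore_coprime 2 G)
  have hZ := Comp.map_center_le_center_of_surjective hπ
  have := two (T := (T : Subgroup G).map π) (Core.pPrimeCore_quotient_pPrimeCore 2 G)
    (by have := hT.map π; rwa [map_top_of_surjective _ hπ] at this) ?_ (hD.surj hπ) h2 ?_
  · have := PF.isSolvable_of_odd _ ho
    exact Group.isSolvable_of_ker_le_range (pPrimeCore 2 G).subtype π (by simp [hk])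
  · rintro _ ⟨s, hs, rfl⟩ _ ⟨t, ht, rfl⟩
    rw [← map_commutatorElement, show ⁅s, t⁆ = s * t * (s * t) * (t⁻¹ * (s⁻¹ * s⁻¹) * t⁻¹⁻¹) * (t⁻¹ * t⁻¹) by
      rw [commutatorElement_def]; group]
    exact hZ (mem_map_of_mem π (mul_mem (mul_mem (hg _ (mul_mem hs ht))
      ((inferInstance : (center G).Normal).conj_mem _ (hg _ (inv_mem hs)) _)) (hg _ (inv_mem ht))))
  · rintro _ ⟨x, hx, rfl⟩ x1 k hk'
    rw [← hE x (pp_of_mem Nat.prime_two T.isPGroup' hx) fun e => x1 (hZ (mem_map_of_mem π e))] at hk'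
    rw [← relIndex_comap, ← inf_relIndex_right]
    refine (two_dvd hT hk').trans (relIndex_dvd_of_le_left _ fun u ⟨h1, hu⟩ => ?_)
    have h3 : ⁅u, x⁆ ∈ (T : Subgroup G) ⊓ pPrimeCore 2 G := ⟨mul_mem (mul_mem (mul_mem hu hx) (T.1.inv_mem hu))
      (T.1.inv_mem hx), hk.le (by
        rw [MonoidHom.mem_ker, map_commutatorElement, commutatorElement_eq_one_iff_mul_comm]
        exact mem_cent1.1 h1)⟩
    rw [Ab.eq_bot_of_odd (pgroup_of_le T.isPGroup' inf_le_left) (ho.of_dvd_nat (card_dvd_of_le inf_le_right)),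
      mem_bot, commutatorElement_eq_one_iff_mul_comm] at h3
    exact mem_cent1.2 h3

end Cfsg.Agent.S4136
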