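import Cfsg.Statements.S4159
import Cfsg.Agent.Lib.BG.Hall
import Cfsg.Agent.Lib.Coprime.FT
import Cfsg.Agent.Lib.Inv.Misc
import Cfsg.Agent.S3861
import Cfsg.Agent.S3863

set_option autoImplicit false
open Cfsg

namespace Cfsg.Agent.S4159
open Cfsg.Lib.Inv

open Subgroup Cfsg.Lib Cfsg.Lib.BG Cfsg.Lib.Inv

/-- Let G be a finite group such that in every subgroup H of G, any two conjugacy classes of H of size greater than 1 have non-coprime sizes. Then G is solvable. -/
theorem result {G : Type*} [Group G] [Finite G]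
    (h : ∀ (H : Subgroup G) (x y : H), 1 < (Subgroup.centralizer ({x} : Set H)).index → 1 < (Subgroup.centralizer ({y} : Set H)).index →
      ¬ ((Subgroup.centralizer ({x} : Set H)).index).Coprime (Subgroup.centralizer ({y} : Set H)).index) : Group.IsSolvable G := by
  obtain ⟨P⟩ : Nonempty (Sylow 2 G) := inferInstance
  haveI := (S3861.result P).1 fun x h1 ho hr => by
    obtain ⟨t, ⟨j, hj⟩, e⟩ := (S3863.result x hr).1
    have hn : zpowers t ≤ 𝐍(zpowers x) := zpowers_le.2 (Transfer.mem_normalizer_of_conj_le (by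
      rw [Transfer.conj_zpowers, e, zpowers_inv]))
    have hx : x ∈ zpowers x ⊔ zpowers t := mem_sup_left (mem_zpowers x)
    have ht : t ∈ zpowers x ⊔ zpowers t := mem_sup_right (mem_zpowers t)
    have key : ∀ a : ↥(zpowers x ⊔ zpowers t), (centralizer {a}).index =
        𝐂[(a : G)].relIndex (zpowers x ⊔ zpowers t) := fun a => by
      refine congrArg index (Subgroup.ext fun b => ?_)
      rw [mem_subgroupOf, mem_cent1, mem_cent1, Subtype.ext_iff]; rfl
    have hc : t * x ≠ x * t := fun e' => h1 (eq_one_of_odd_of_mul_self ho (by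
      rw [e', mul_inv_cancel_right] at e; nth_rw 1 [e]; exact inv_mul_cancel x))
    have h2 : ∀ a b : ↥(zpowers x ⊔ zpowers t), (b : G) * a ≠ a * b → 1 < (centralizer {a}).index :=
      fun a b e => Nat.one_lt_iff_ne_zero_and_ne_one.2 ⟨index_ne_zero_of_finite, fun e' =>
        e (congrArg Subtype.val (mem_cent1.1 ((index_eq_one.1 e').ge (mem_top b))))⟩
    refine h _ ⟨x, hx⟩ ⟨t, ht⟩ (h2 _ ⟨t, ht⟩ hc) (h2 _ ⟨x, hx⟩ hc.symm) ?_
    rw [key, key, relIndex_eq_of_mul (B := zpowers t) le_sup_right fun g hg => ?_,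
      relIndex_eq_of_mul (B := zpowers x) le_sup_left fun g hg => ?_]
    · refine Nat.Coprime.of_dvd (BG.relIndex_dvd_card _ _) (BG.relIndex_dvd_card _ _) ?_
      rw [Nat.card_zpowers, Nat.card_zpowers, hj]
      exact (Nat.coprime_two_left.2 ho).pow_left j
    · obtain ⟨a, ha, b, hb, rfl⟩ := (mem_sup_left_norm hn).1 hg
      exact ⟨a, ha, b, zpowers_le.2 (self_mem_cent1 t) hb, rfl⟩
    · obtain ⟨a, ha, b, hb, rfl⟩ := (mem_sup_right_norm hn).1 (sup_comm (zpowers x) _ ▸ hg)
      exact ⟨a, ha, b, zpowers_le.2 (self_mem_cent1 x) hb, rfl⟩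
  haveI := P.isPGroup'.isNilpotent
  haveI : Group.IsSolvable (G ⧸ (P : Subgroup G)) := Coprime.isSolvable_of_not_two_dvd P.not_dvd_index
  exact Group.isSolvable_of_ker_le_range (P : Subgroup G).subtype (QuotientGroup.mk' (P : Subgroup G))
    (by simp)

end Cfsg.Agent.S4159
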