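import Cfsg.Statements.S4185
import Cfsg.Agent.Lib.NO.Main
import Cfsg.Agent.Lib.KList.Congr
import Cfsg.Agent.Lib.St.Lie

set_option autoImplicit false
open Cfsg

namespace Cfsg.Agent.S4185

/-- Let G be a finite group with normal subgroups K < H such that K is nilpotent and contains every solvable normal subgroup of G, H/K is a simple group of Lie type (in some characteristic p) and the centralizer of H/K in G/K is trivial. If G/H is not cyclic, then some prime r dividing #(G/H) is adjacent to every other vertex of the prime graph of G: for every prime s ≠ r dividing #G there is an element of order rs. -/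
theorem result {G : Type*} [Group G] [Finite G]
    (K H : Subgroup G) [K.Normal] [H.Normal] (hKH : K < H)
    (hrad : ∀ M : Subgroup G, M.Normal → Group.IsSolvable ↥M → M ≤ K) (hK : Group.IsNilpotent ↥K)
    (p : ℕ) (hS : IsSimpleGroup (↥H ⧸ K.subgroupOf H)) (hS' : Cfsg.IsLieTypeChar p (↥H ⧸ K.subgroupOf H))
    (hC : Subgroup.centralizer ((H.map (QuotientGroup.mk' K) : Subgroup (G ⧸ K)) : Set (G ⧸ K)) = ⊥)
    (hnc : ¬ IsCyclic (G ⧸ H)) :
    ∃ r : ℕ, r.Prime ∧ r ∣ Nat.card (G ⧸ H) ∧
      ∀ s : ℕ, s.Prime → s ∣ Nat.card G → s ≠ r → ∃ g : G, orderOf g = r * s := by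
  have e := Cfsg.Lib.NO.secEquiv K H
  have := Fact.mk (Cfsg.Lib.St.prime_of_lie hS')
  have := e.symm.isSimpleGroup
  exact Cfsg.Lib.NO.main_of_al hKH.le hK (Cfsg.Lib.NO.al_of_lie (eq_bot_iff.2 fun y hy =>
    Subtype.ext (Subgroup.mem_bot.1 (hC ▸ fun x hx =>
      congrArg Subtype.val (Subgroup.mem_center_iff.1 hy ⟨x, hx⟩))))
    ((Cfsg.Lib.KList.lie_iff e p).1 hS')) hC hnc

end Cfsg.Agent.S4185
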