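import Cfsg.Statements.S4192
import Cfsg.Agent.Lib.RCl.Gr

set_option autoImplicit false
open Cfsg

namespace Cfsg.Agent.S4192

/-- Let G be a finite group; call an element real when it is conjugate to its inverse, and say that the real-class-size graph of a group is disconnected when the primes dividing its real class sizes split into two non-empty disjoint parts with no real class size divisible by a prime from each part. If the real-class-size graph of G is disconnected, then some real class size of G is even, and either the Sylow 2-subgroups of G are normal, or the subgroup K generated by the 2-elements of G (the smallest normal subgroup of odd index) again has a disconnected real-class-size graph and every real class size of K is odd or a power of 2. -/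
theorem result {G : Type*} [Group G] [Finite G] (h : (∃ π₁ π₂ : Set ℕ, π₁.Nonempty ∧ π₂.Nonempty ∧ Disjoint π₁ π₂ ∧ (∀ q ∈ π₁ ∪ π₂, q.Prime ∧ ∃ n ∈ {n : ℕ | ∃ x : G, IsConj x x⁻¹ ∧ (Subgroup.centralizer ({x} : Set G)).index = n}, q ∣ n) ∧ (∀ q : ℕ, q.Prime → (∃ n ∈ {n : ℕ | ∃ x : G, IsConj x x⁻¹ ∧ (Subgroup.centralizer ({x} : Set G)).index = n}, q ∣ n) → q ∈ π₁ ∨ q ∈ π₂) ∧ ∀ a ∈ π₁, ∀ b ∈ π₂, ∀ n ∈ {n : ℕ | ∃ x : G, IsConj x x⁻¹ ∧ (Subgroup.centralizer ({x} : Set G)).index = n}, ¬ (a ∣ n ∧ b ∣ n))) : (∃ n ∈ {n : ℕ | ∃ x : G, IsConj x x⁻¹ ∧ (Subgroup.centralizer ({x} : Set G)).index = n}, 2 ∣ n) ∧ ((∀ P : Sylow 2 G, (P : Subgroup G).Normal) ∨ ((∃ π₁ π₂ : Set ℕ, π₁.Nonempty ∧ π₂.Nonempty ∧ Disjoint π₁ π₂ ∧ (∀ q ∈ π₁ ∪ π₂, q.Prime ∧ ∃ n ∈ {n : ℕ | ∃ x : ↥(Subgroup.closure {g : G | ∃ k : ℕ, orderOf g = 2 ^ k}), IsConj x x⁻¹ ∧ (Subgroup.centralizer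 ({x} : Set ↥(Subgroup.closure {g : G | ∃ k : ℕ, orderOf g = 2 ^ k}))).index = n}, q ∣ n) ∧ (∀ q : ℕ, q.Prime → (∃ n ∈ {n : ℕ | ∃ x : ↥(Subgroup.closure {g : G | ∃ k : ℕ, orderOf g = 2 ^ k}), IsConj x x⁻¹ ∧ (Subgroup.centralizer ({x} : Set ↥(Subgroup.closure {g : G | ∃ k : ℕ, orderOf g = 2 ^ k}))).index = n}, q ∣ n) → q ∈ π₁ ∨ q ∈ π₂) ∧ ∀ a ∈ π₁, ∀ b ∈ π₂, ∀ n ∈ {n : ℕ | ∃ x : ↥(Subgroup.closure {g : G | ∃ k : ℕ, orderOf g = 2 ^ k}), IsConj x x⁻¹ ∧ (Subgroup.centralizer ({x} : Set ↥(Subgroup.closure {g : G | ∃ k : ℕ, orderOf g = 2 ^ k}))).index = n}, ¬ (a ∣ n ∧ b ∣ n)) ∧ ∀ n ∈ {n : ℕ | ∃ x : ↥(Subgroup.closure {g : G | ∃ k : ℕ, orderOf g = 2 ^ k}), IsConj x x⁻¹ ∧ (Subgroup.centralizer ({x} : Set ↥(Subgroup.closure {g : G | ∃ k : ℕ, orderOf g = 2 ^ k}))).index = n}, Odd n ∨ ∃ j : ℕ, n = 2 ^ j)) := by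
  open Subgroup Cfsg.Lib Cfsg.Lib.BG Cfsg.Lib.RCl in
  obtain ⟨π₁, π₂, h₁, h₂, hd, hs, hc, hn⟩ := h
  have hsp := Sp.of hd hc hn
  refine ⟨?_, ?_⟩
  · by_contra h2
    obtain ⟨a, ha⟩ := h₁
    obtain ⟨b, hb⟩ := h₂
    obtain ⟨x, x1, x2, x3⟩ := hsp.1.ex ha (hs a (Or.inl ha))
    obtain ⟨y, y1, y2, y3⟩ := hsp.2.ex hb (hs b (Or.inr hb))
    exact not_all_odd hsp.1 (fun z hz e => h2 ⟨_, ⟨z, hz, rfl⟩, e⟩) x1 x2 x3 y1 y2
      (y3.mono hd.subset_compl_left)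
  obtain ⟨σ, t, h⟩ := exists_Hy h₁ h₂ hd hs hsp
  refine or_iff_not_imp_left.2 fun hP => ?_
  obtain ⟨P, hP⟩ := not_forall.1 hP
  obtain ⟨y, y1, yo, yc⟩ : ∃ y : G, y ≠ 1 ∧ Odd (orderOf y) ∧ IsConj y y⁻¹ := by
    by_contra e
    exact hP ((S3861.result P).1 fun y y1 yo yc => e ⟨y, y1, yo, yc⟩)
  have hPK : (P : Subgroup G) ≤ K2 G := fun x hx => by
    obtain ⟨k, hk⟩ := P.isPGroup' ⟨x, hx⟩
    exact mem_K2 (congrArg Subtype.val hk)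
  obtain ⟨hyK, yc'⟩ := (S3863.result y yc).2.2 (K2 G) (Inv.odd_card_iff_not_two_dvd.2 fun e =>
    P.not_dvd_index (e.trans (index_dvd_of_le hPK)))
  have htK : t ∈ K2 G := mem_K2 (k := 1) (by rw [pow_one, sq, h.sq])
  have tc : IsConj (⟨t, htK⟩ : K2 G) (⟨t, htK⟩ : K2 G)⁻¹ := by
    rw [inv_eq_of_mul_eq_one_right (show (⟨t, htK⟩ : K2 G) * ⟨t, htK⟩ = 1 from Subtype.ext h.sq)]
  have t1 : (𝐂[(⟨t, htK⟩ : K2 G)]).index ≠ 1 := fun e => by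
    obtain ⟨s, hs⟩ := isConj_iff.1 yc'
    have hK : ∀ g : K2 G, (g : G) ∈ 𝐂[t] := fun g =>
      mem_cent1.2 (congrArg Subtype.val (mem_cent1.1 ((index_eq_one.1 e).ge (mem_top g))))
    exact y1 (h.no_real (hK ⟨y, hyK⟩) (hK s) yo (congrArg Subtype.val hs))
  have t2 : ¬ 2 ∣ (𝐂[(⟨t, htK⟩ : K2 G)]).index := fun e => by
    refine h.pi.not_dvd' Nat.prime_two h.two (e.trans (dvd_trans (dvd_of_eq ?_)
      (FGS.relIndex_dvd_index_of_normal' 𝐂[t] (K2 G))))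
    rw [relIndex]; congr 1; ext y
    rw [mem_subgroupOf, mem_cent1, mem_cent1, Subtype.ext_iff]; rfl
  obtain ⟨q, hq, hqd⟩ := Nat.exists_prime_and_dvd t1
  refine ⟨⟨{2}, {q | q ≠ 2 ∧ q.Prime ∧ ∃ n ∈ {n : ℕ | ∃ x : K2 G, IsConj x x⁻¹ ∧ (𝐂[x]).index = n}, q ∣ n},
    ⟨2, rfl⟩, ⟨q, fun e => t2 (e ▸ hqd), hq, _, ⟨_, tc, rfl⟩, hqd⟩,
    Set.disjoint_left.2 fun a ha hb => hb.1 ha, ?_, fun q hq hq' => ?_, ?_⟩, ?_⟩
  · rintro q (rfl | hq)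
    · refine ⟨Nat.prime_two, _, ⟨_, yc', rfl⟩, ?_⟩
      by_contra e
      exact y1 (eq_one_of_sq yo (congrArg Subtype.val (sq_of_odd yc' e)))
    · exact hq.2
  · exact (em (q = 2)).imp id fun e => ⟨e, hq, hq'⟩
  · rintro a rfl b hb _ ⟨x, hx, rfl⟩ ⟨e1, e2⟩
    rcases h.K2_idx x hx with e | ⟨j, e⟩
    · exact Inv.odd_card_iff_not_two_dvd.1 e e1
    · exact hb.1 ((Nat.prime_dvd_prime_iff_eq hb.2.1 Nat.prime_two).1 (hb.2.1.dvd_of_dvd_pow (e ▸ e2)))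
  · rintro _ ⟨x, hx, rfl⟩
    exact h.K2_idx x hx

end Cfsg.Agent.S4192
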