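import Cfsg.Statements.S4193
import Cfsg.Agent.Lib.BG.Quo
import Cfsg.Agent.Lib.PGroup.Frattini
import Cfsg.Agent.Lib.Transfer.Alperin
import Cfsg.Agent.Lib.FGS.ClassFour
import Cfsg.Agent.S3861
import Cfsg.Agent.S3863

set_option autoImplicit false
open Cfsg

namespace Cfsg.Agent.S4193

open Subgroup Cfsg.Lib Cfsg.Lib.BG Cfsg.Lib.Transfer

/-- Isaacs–Navarro: an odd group fixing all real elements of a 2-group acts trivially. -/
theorem cent_of_real {G : Type*} [Group G] [Finite G] (A : Subgroup G) (hA : (Nat.card A).Coprime 2)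
    (Q : Subgroup G) : IsPGroup 2 Q → A ≤ 𝐍(Q) → (∀ x ∈ Q, ∀ g ∈ Q, g * x * g⁻¹ = x⁻¹ → x ∈ 𝐂(A)) →
    A ≤ 𝐂(Q) := by
  induction Q using WellFoundedLT.induction with
  | ind Q ih =>
  intro hQ hn hr
  have IH : ∀ R < Q, A ≤ 𝐍(R) → A ≤ 𝐂(R) := fun R hR h =>
    ih R hR (pgroup_of_le hQ hR.le) h fun x hx g hg => hr x (hR.le hx) g (hR.le hg)
  have hcop : (Nat.card A).Coprime (Nat.card Q) := by
    obtain ⟨k, hk⟩ := IsPGroup.iff_card.1 hQ
    rw [hk]; exact hA.pow_right k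
  rcases (comm_le_left hn : ⁅Q, A⁆ ≤ Q).lt_or_eq with hlt | heq
  · have := comm_eq_bot_iff'.2 (IH _ hlt (right_norm_comm Q A))
    rw [coprime_commGid hn hcop] at this
    exact comm_eq_bot_iff'.1 this
  by_cases h1 : Q = ⊥
  · subst h1; intro a _; simp [mem_cent]
  have hZA : A ≤ 𝐂(𝚽(Q)) := IH _ (Core.frattiniOf_lt h1) (norm_Phi hn)
  have hZQ : Q ≤ 𝐂(𝚽(Q)) := by
    have := commutator_commutator_eq_bot_of_rotate (H₁ := A) (H₂ := Q) (H₃ := 𝚽(Q))
      (comm_eq_bot_iff'.2 (cent_mono hZA le_rfl (comm_le_right (norm_Phi (le_norm Q)))))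
      (by rw [comm_eq_bot_iff'.2 hZA, commutator_bot_left])
    rw [commutator_comm A Q, heq] at this
    exact comm_eq_bot_iff.1 this
  have hcm : ∀ a ∈ Q, ∀ b ∈ Q, a * b * a⁻¹ * b⁻¹ ∈ 𝚽(Q) := fun a ha b hb =>
    Core.commutator_le_frattiniOf_of_isNilpotent (pgroup_nil hQ) (comm_mem_comm ha hb)
  have hsq : ∀ a ∈ Q, a ^ 2 ∈ 𝚽(Q) := fun a ha => PGroup.pow_mem_map_subtype_frattini hQ ha
  refine cent_symm fun x hx => ?_
  by_contra hxA
  let N : Subgroup G :=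
    { carrier := {n | ∃ g ∈ Q, n = x * g * x⁻¹ * g⁻¹}
      one_mem' := ⟨1, Q.one_mem, by simp⟩
      mul_mem' := by
        rintro _ _ ⟨g, hg, rfl⟩ ⟨h, hh, rfl⟩
        refine ⟨g * h, Q.mul_mem hg hh, ?_⟩
        have := hZQ hg _ (hcm x hx h hh)
        calc _ = x * g * x⁻¹ * g⁻¹ * (x * h * x⁻¹ * h⁻¹ * g) * g⁻¹ := by group
          _ = x * g * x⁻¹ * g⁻¹ * (g * (x * h * x⁻¹ * h⁻¹)) * g⁻¹ := by rw [this]
          _ = _ := by group
      inv_mem' := by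
        rintro _ ⟨g, hg, rfl⟩
        refine ⟨g⁻¹, Q.inv_mem hg, ?_⟩
        have := hZQ hg _ (hcm x hx g⁻¹ (Q.inv_mem hg))
        calc _ = g * (x * g⁻¹ * x⁻¹ * g⁻¹⁻¹) * g⁻¹ := by group
          _ = (x * g⁻¹ * x⁻¹ * g⁻¹⁻¹ * g) * g⁻¹ := by rw [this]
          _ = _ := by group }
  have hNZ : N ≤ 𝚽(Q) := by
    rintro _ ⟨g, hg, rfl⟩
    exact hcm x hx g hg
  have hQN : Q ≤ 𝐍(N) := norm_of_cent (cent_mono hZQ le_rfl hNZ)
  have hAN : A ≤ 𝐍(N) := norm_of_cent (cent_mono hZA le_rfl hNZ)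
  have hxM : x ∈ Q ⊓ copre N 𝐂(quo Q N) := by
    refine ⟨hx, mem_copre.2 ⟨hQN hx, ?_⟩⟩
    intro y hy
    obtain ⟨g, hg, rfl⟩ := mem_quo.1 hy
    symm
    rw [← mul_inv_eq_one, mul_inv_rev, ← mul_assoc, ← map_inv, ← map_inv, ← map_mul, ← map_mul, ← map_mul,
      ← MonoidHom.mem_ker, qhom_ker, mem_subgroupOf]
    exact ⟨g, hg, by simp⟩
  have hM : Q ≤ copre N 𝐂(quo Q N) := by
    rcases (inf_le_left : Q ⊓ copre N 𝐂(quo Q N) ≤ Q).lt_or_eq with hlt | he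
    · exact absurd (cent_symm (IH _ hlt (norm_inf hn (norm_copre hAN (norm_cent (quo_norm hn N))))) hxM) hxA
    · exact inf_eq_left.1 he
  have hder : ⁅Q, Q⁆ ≤ N := (quo_le_cent_iff hQN hQN).1 ((le_copre_iff hQN).1 hM)
  let K : Subgroup G :=
    { carrier := {g | g ∈ Q ∧ g ^ 2 ∈ N}
      one_mem' := ⟨Q.one_mem, by simp⟩
      mul_mem' := by
        rintro g h ⟨hg, hg2⟩ ⟨hh, hh2⟩
        refine ⟨Q.mul_mem hg hh, ?_⟩
        have : (g * h) ^ 2 = g ^ 2 * (g⁻¹ * h * g⁻¹⁻¹ * h⁻¹) * h ^ 2 := by simp only [pow_two]; group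
        rw [this]
        exact N.mul_mem (N.mul_mem hg2 (hder (comm_mem_comm (Q.inv_mem hg) hh))) hh2
      inv_mem' := by
        rintro g ⟨hg, hg2⟩
        exact ⟨Q.inv_mem hg, by rw [inv_pow]; exact N.inv_mem hg2⟩ }
  have hK : ⁅Q, A⁆ ≤ K := by
    rw [comm_le_iff]
    intro q hq a ha
    have hr' : a * q⁻¹ * a⁻¹ ∈ Q := conj_mem_of_norm (hn ha) (Q.inv_mem hq)
    have e0 : q * a * q⁻¹ * a⁻¹ = q * (a * q⁻¹ * a⁻¹) := by group
    refine ⟨e0 ▸ Q.mul_mem hq hr', ?_⟩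
    have e1 := hZA ha _ (hsq q hq)
    have hc := hder (comm_mem_comm (Q.inv_mem hq) hr')
    have e2 := hZQ (Q.pow_mem hq 2) _ (hNZ hc)
    have : (q * a * q⁻¹ * a⁻¹) ^ 2 = q⁻¹ * (a * q⁻¹ * a⁻¹) * q⁻¹⁻¹ * (a * q⁻¹ * a⁻¹)⁻¹ := by
      calc _ = q ^ 2 * (q⁻¹ * (a * q⁻¹ * a⁻¹) * q⁻¹⁻¹ * (a * q⁻¹ * a⁻¹)⁻¹) * (a * (q ^ 2)⁻¹ * a⁻¹) := by
            simp only [pow_two]; group
        _ = (q⁻¹ * (a * q⁻¹ * a⁻¹) * q⁻¹⁻¹ * (a * q⁻¹ * a⁻¹)⁻¹) * (q ^ 2 * a) * (q ^ 2)⁻¹ * a⁻¹ := by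
            rw [← e2]; group
        _ = _ := by rw [e1]; group
    rw [this]; exact hc
  rw [heq] at hK
  obtain ⟨g, hg, e⟩ := (hK hx).2
  refine hxA (hr x hx g hg ?_)
  have : x = g * x⁻¹ * g⁻¹ := by
    apply mul_left_cancel (a := x)
    rw [← pow_two, e]; group
  calc g * x * g⁻¹ = (g * x⁻¹ * g⁻¹)⁻¹ := by group
    _ = _ := by rw [← this]

/-- Let G be a finite group in which the conjugacy classes of all non-central real elements (elements conjugate to their inverses) have sizes with the same 2-part, and suppose G has a Sylow 2-subgroup S such that every element of S that is conjugate in S to its inverse lies in the centre of S. Then G is solvable and the subgroup generated by the 2-elements of G (the smallest normal subgroup of odd index) has a normal 2-complement. -/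
theorem result {G : Type*} [Group G] [Finite G] (a : ℕ) (h : ∀ x : G, IsConj x x⁻¹ → x ∉ Subgroup.center G → ((Subgroup.centralizer ({x} : Set G)).index).factorization 2 = a) (S : Sylow 2 G) (hS : ∀ s : ↥(S : Subgroup G), IsConj s s⁻¹ → s ∈ Subgroup.center ↥(S : Subgroup G)) : Group.IsSolvable G ∧ Cfsg.HasNormalPComplement 2 ↥(Subgroup.closure {g : G | ∃ k : ℕ, orderOf g = 2 ^ k}) := by
  have hreal : ∀ Q : Subgroup G, IsPGroup 2 Q → ∀ x ∈ Q, ∀ g ∈ Q, g * x * g⁻¹ = x⁻¹ →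
      ∃ c : G, (S : Subgroup G) ≤ 𝐂[c * x * c⁻¹] ∧ x = x⁻¹ := by
    intro Q hQ x hx g hg e
    obtain ⟨c, -, hc⟩ := (Syl.of_sylow_top S).exists_conj_le hQ le_top
    have h1 : c * x * c⁻¹ ∈ (S : Subgroup G) := hc (conj_mem_conj.2 hx)
    have h2 : c * g * c⁻¹ ∈ (S : Subgroup G) := hc (conj_mem_conj.2 hg)
    have h3 := hS ⟨_, h1⟩ (isConj_iff.2 ⟨⟨_, h2⟩, Subtype.ext (by
      change c * g * c⁻¹ * (c * x * c⁻¹) * (c * g * c⁻¹)⁻¹ = (c * x * c⁻¹)⁻¹
      calc _ = c * (g * x * g⁻¹) * c⁻¹ := by group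
        _ = _ := by rw [e]; group)⟩)
    have h4 : (S : Subgroup G) ≤ 𝐂[c * x * c⁻¹] := fun y hy =>
      mem_cent1.2 (congrArg Subtype.val (mem_center_iff.1 h3 ⟨y, hy⟩))
    refine ⟨c, h4, ?_⟩
    have h5 := mem_cent1.1 (h4 h2)
    rw [← e]
    calc x = c⁻¹ * (c * x * c⁻¹ * (c * g * c⁻¹)) * c * g⁻¹ := by group
      _ = c⁻¹ * (c * g * c⁻¹ * (c * x * c⁻¹)) * c * g⁻¹ := by rw [h5]
      _ = _ := by group
  by_cases hinv : ∀ x : G, x = x⁻¹ → x ∈ center G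
  · have hN : HasNormalPComplement 2 G := by
      rw [hasNormalPComplement_iff_normalizer_centralizer]
      intro Q hQ g hg hc
      refine cent_of_real (zpowers g) (by rwa [Nat.card_zpowers]) Q hQ (zpowers_le.2 hg) (fun x hx u hu e => ?_)
        (mem_zpowers g)
      obtain ⟨c, -, e'⟩ := hreal Q hQ x hx u hu e
      exact fun y _ => mem_center_iff.1 (hinv x e') y
    exact ⟨FGS.isSolvable_of_hasNormalPComplement_two hN, hasNormalPComplement_subgroup hN _⟩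
  push Not at hinv
  obtain ⟨t, ht, htc⟩ := hinv
  have ha : a = 0 := by
    have hp : IsPGroup 2 (zpowers t) := by
      rintro ⟨_, k, rfl⟩
      refine ⟨1, Subtype.ext ?_⟩
      change (t ^ k) ^ (2 ^ 1) = 1
      rw [pow_one, pow_two, ← (Commute.refl t).mul_zpow, mul_eq_one_iff_eq_inv.2 ht, one_zpow]
    obtain ⟨c, hc, -⟩ := hreal _ hp t (mem_zpowers t) 1 (one_mem _) (by simpa using ht)
    rw [← h t (by rw [← ht]) htc]
    refine Nat.factorization_eq_zero_of_not_dvd fun hd => S.not_dvd_index (hd.trans ?_)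
    rw [← index_conj c, conj_cent1]
    exact index_dvd_of_le hc
  subst ha
  haveI := (S3861.result S).1 fun x h1 ho hr => by
    have h2 : x ^ 2 = 1 := by
      by_cases hz : x ∈ center G
      · obtain ⟨c, hc⟩ := isConj_iff.1 hr
        rw [mem_center_iff.1 hz c, mul_inv_cancel_right] at hc
        rw [pow_two, mul_eq_one_iff_eq_inv.2 hc]
      · refine (S3863.result x hr).2.1 ?_
        rw [← Nat.not_even_iff_odd, even_iff_two_dvd]
        intro hd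
        exact absurd (h x hr hz) (Nat.Prime.factorization_pos_of_dvd Nat.prime_two index_ne_zero_of_finite hd).ne'
    have := orderOf_dvd_of_pow_eq_one h2
    rcases (Nat.dvd_prime Nat.prime_two).1 this with h3 | h3
    · exact h1 (orderOf_eq_one_iff.1 h3)
    · rw [h3] at ho; exact absurd ho (by decide)
  constructor
  · haveI : Group.IsSolvable (G ⧸ (S : Subgroup G)) := Coprime.isSolvable_of_not_two_dvd S.not_dvd_index
    haveI := S.isPGroup'.isNilpotent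
    exact Group.isSolvable_of_ker_le_range (S : Subgroup G).subtype (QuotientGroup.mk' (S : Subgroup G)) (by simp)
  · refine hasNormalPComplement_of_isPGroup (pgroup_of_le S.isPGroup' ((closure_le _).2 ?_))
    rintro g ⟨k, hk⟩
    exact (Syl.of_sylow_top S).mem_of_normal (le_normalizer_of_normal) (mem_top g)
      (by rw [PiElt, hk]; exact PiNat.prime_pow Nat.prime_two (Set.mem_singleton 2) k)

end Cfsg.Agent.S4193
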