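import Cfsg.Statements.S4200
import Cfsg.Agent.Lib.FGS.Classes

set_option autoImplicit false
open Cfsg

namespace Cfsg.Agent.S4200

/-- Let Y be a subgroup of the finite group X, of index m. Then the numbers of conjugacy classes satisfy k(Y) ≤ m·k(X) and k(X) ≤ m·k(Y), and the second inequality is strict unless Y is normal in X. -/
theorem result {X : Type*} [Group X] [Finite X] (Y : Subgroup X) : Nat.card (ConjClasses Y) ≤ Y.index * Nat.card (ConjClasses X) ∧ Nat.card (ConjClasses X) ≤ Y.index * Nat.card (ConjClasses Y) ∧ (¬ Y.Normal → Nat.card (ConjClasses X) < Y.index * Nat.card (ConjClasses Y)) := by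
  open Cfsg.Lib.FGS Cfsg.Lib.BG Finset in
  classical
  haveI := Fintype.ofFinite X
  have hX := card_classes_mul_card (G := X)
  have hY := kQ_subgroup_mul_card Y (Q := fun _ => True) fun _ _ _ _ _ => trivial
  rw [kQ_true] at hY
  simp only [and_true] at hY
  have hi := Y.index_mul_card
  have hpos : 0 < Nat.card Y := Nat.card_pos
  have hipos : 0 < Y.index := Nat.pos_of_ne_zero Y.index_ne_zero_of_finite
  have key : ∀ x : X, Nat.card 𝐂[x] ≤ Y.index * Nat.card ↥(Y ⊓ 𝐂[x]) := by
    intro x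
    rw [← card_mul_relIndex (inf_le_right : Y ⊓ 𝐂[x] ≤ 𝐂[x]), Subgroup.inf_relIndex_right, mul_comm]
    exact Nat.mul_le_mul_right _ (Subgroup.relIndex_le_of_le_right le_top (by
      simpa using Y.index_ne_zero_of_finite) |>.trans (by simp))
  have swap : ∑ x : X, Nat.card ↥(Y ⊓ 𝐂[x]) = ∑ y with y ∈ Y, Nat.card 𝐂[y] := by
    have := sum_card_comm (G := X) (fun _ => True) (fun y => y ∈ Y)
    simp only [filter_true, true_and] at this
    simp only [card_inf_cent1_eq, card_cent1_eq]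
    convert this
  have h1 : Nat.card (ConjClasses X) * Nat.card X ≤ Y.index * ∑ y with y ∈ Y, Nat.card 𝐂[y] := by
    rw [hX, ← swap, mul_sum]
    exact sum_le_sum fun x _ => key x
  have e : Y.index * Nat.card (ConjClasses Y) * Nat.card X =
      Y.index * ∑ y with y ∈ Y, Y.index * Nat.card ↥(Y ⊓ 𝐂[y]) := by
    rw [← mul_sum, ← hY, ← hi]; ring
  refine ⟨?_, ?_, fun hn => ?_⟩
  · refine Nat.le_of_mul_le_mul_right ?_ hpos
    rw [mul_comm Y.index, mul_assoc, hi, hX, hY]
    exact (sum_le_sum fun x _ => Subgroup.card_le_of_le inf_le_right).trans (sum_le_sum_of_subset (filter_subset _ _))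
  · refine Nat.le_of_mul_le_mul_right ?_ (Nat.card_pos (α := X))
    rw [e]
    exact h1.trans (Nat.mul_le_mul_left _ (sum_le_sum fun x _ => key x))
  · refine Nat.lt_of_mul_lt_mul_right (a := Nat.card X) ?_
    rw [e]
    refine h1.trans_lt (Nat.mul_lt_mul_of_pos_left ?_ hipos)
    refine sum_lt_sum (fun x _ => key x) ?_
    by_contra hc
    push Not at hc
    refine hn ⟨fun y hy g => ?_⟩
    have h2 := hc y (by simpa using hy)
    have h3 : (hcl ⊤ y).ncard ≤ (hcl Y y).ncard := by
      have a1 := ncard_hcl_mul ⊤ y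
      have a2 := ncard_hcl_mul Y y
      rw [top_inf_eq, Subgroup.card_top, ← hi, ← a2] at a1
      refine Nat.le_of_mul_le_mul_right (c := Y.index * Nat.card ↥(Y ⊓ 𝐂[y])) ?_ (Nat.mul_pos hipos Nat.card_pos)
      calc _ ≤ (hcl ⊤ y).ncard * Nat.card 𝐂[y] := Nat.mul_le_mul_left _ h2
        _ = _ := by rw [a1]; ring
    have h4 : hcl Y y = hcl ⊤ y :=
      Set.eq_of_subset_of_ncard_le (fun _ ⟨h, _, e⟩ => ⟨h, trivial, e⟩) h3
    obtain ⟨h, hh, e⟩ : g * y * g⁻¹ ∈ hcl Y y := h4 ▸ ⟨g, trivial, rfl⟩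
    rw [← e]
    exact mul_mem (mul_mem hh hy) (inv_mem hh)

end Cfsg.Agent.S4200
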