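import Cfsg.Statements.S4231
import Cfsg.Agent.Lib.Perm.Sym3
import Cfsg.Agent.Lib.Alt.Spectrum
import Cfsg.Agent.S4014

set_option autoImplicit false
open Cfsg

namespace Cfsg.Agent.S4231

open Cfsg.Lib Cfsg.Lib.Perm Subgroup Equiv

theorem aux {n : ℕ} (hn : 5 ≤ n) (G : Subgroup (MulAut (alternatingGroup (Fin n))))
    (hG : (MulAut.conj : alternatingGroup (Fin n) →* MulAut (alternatingGroup (Fin n))).range ≤ G)
    {p q : ℕ} [hp : Fact p.Prime] [hq : Fact q.Prime] (hpq : p < q) (h : ∀ g : G, orderOf g ≠ p * q)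
    (Q : Sylow q G) : IsMulCommutative (Q : Subgroup G) := by
  have h2 := hp.out.two_le
  have ho : Odd q := hq.out.odd_of_ne_two (by omega)
  have hc : p.Coprime q := (Nat.coprime_primes hp.out hq.out).2 hpq.ne
  have hi := Alt.conjNormal_injective (α := Fin n) (by simpa using by omega)
  have hlt : n < q ^ 2 := by
    by_contra! hle
    obtain ⟨x, hx⟩ : p * q ∈ Set.range (orderOf : alternatingGroup (Fin n) → ℕ) := by
      rw [Alt.mem_range_orderOf_alt_iff]
      rcases hp.out.eq_two_or_odd' with rfl | hp'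
      · refine ⟨{2, 2, q}, by simp; nlinarith, by simp; omega, ?_, by simpa [← lcm_assoc, lcm_eq_nat_lcm] using hc.lcm_eq_mul⟩
        obtain ⟨k, rfl⟩ := ho
        exact ⟨k + 4, by simp; ring⟩
      · exact ⟨{p, q}, by simp; nlinarith, by simp; omega, by simpa using (hp'.add_odd ho).add even_two,
          by simpa [lcm_eq_nat_lcm] using hc.lcm_eq_mul⟩
    refine h ⟨_, hG ⟨x, rfl⟩⟩ ?_
    rw [← orderOf_coe, coe_mk, ← MulAut.conjNormal_val, orderOf_injective _ hi, orderOf_coe, hx]
  let e := MonoidHom.ofInjective hi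
  have hm : ∀ x : Q, G.subtype (Q.1.subtype x) ∈ MulAut.conjNormal.range := fun x => by
    obtain ⟨k, hk⟩ := (IsPGroup.iff_orderOf.1 Q.2) x
    exact mem_range_conjNormal_of_odd (by simpa using hn) (by
      rw [orderOf_injective _ G.subtype_injective, orderOf_injective _ Q.1.subtype_injective, hk]; exact ho.pow)
  let f := e.symm.toMonoidHom.comp ((G.subtype.comp Q.1.subtype).codRestrict _ hm)
  have hf : Function.Injective f := e.symm.injective.comp fun a b h =>
    Subtype.ext (Subtype.ext (congrArg Subtype.val h :))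
  have h1 := S4014.upper (j := 1) _ (Q.2.of_surjective _ f.rangeRestrict_surjective) (by simpa using hlt)
  exact ⟨⟨fun x y => hf (by
    rw [map_mul, map_mul]
    exact congrArg Subtype.val (commutatorElement_eq_one_iff_mul_comm.1 (mem_bot.1 (h1.le (commutator_mem_commutator
      (mem_top ⟨f x, x, rfl⟩) (mem_top ⟨f y, y, rfl⟩))))))⟩⟩

/-- Let n ≥ 5 and let G be a group of automorphisms of the alternating group of degree n containing all inner automorphisms. If p ≠ q are primes and G has no element of order pq, then every Sylow p-subgroup of G is abelian or every Sylow q-subgroup of G is abelian. -/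
theorem result (n : ℕ) (hn : 5 ≤ n) (G : Subgroup (MulAut (alternatingGroup (Fin n))))
    (hG : (MulAut.conj : alternatingGroup (Fin n) →* MulAut (alternatingGroup (Fin n))).range ≤ G)
    (p q : ℕ) [Fact p.Prime] [Fact q.Prime] (hpq : p ≠ q) (h : ∀ g : G, orderOf g ≠ p * q) :
    (∀ P : Sylow p G, IsMulCommutative (P : Subgroup G)) ∨ (∀ Q : Sylow q G, IsMulCommutative (Q : Subgroup G)) := by
  rcases hpq.lt_or_gt with h1 | h1
  · exact .inr (aux hn G hG h1 h)
  · exact .inl (aux hn G hG h1 (mul_comm p q ▸ h))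

end Cfsg.Agent.S4231
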