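import Cfsg.Statements.S4273
import Cfsg.Agent.Lib.W2.Main
import Cfsg.Agent.Lib.Small.Fix2

set_option autoImplicit false
open Cfsg

namespace Cfsg.Agent.S4273

open Cfsg.Lib Cfsg.Lib.W2 in
open scoped MatrixGroups in
theorem not_psl {F : Type*} [Field F] [Finite F] : Nat.card PSL(2, F) ≠ 175560 := fun h => by
  have h1 := PSL2.card_PSL2_mul (K := F)
  have h2 : 2 ≤ Nat.card F := Finite.one_lt_card
  rw [h] at h1
  rcases Nat.even_or_odd (Nat.card F) with c | ⟨a, c⟩
  · obtain ⟨n, hn⟩ := card_two_pow c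
    obtain ⟨a, c⟩ := c
    rw [(Nat.coprime_two_left.2 ⟨a - 1, by omega⟩ : Nat.gcd 2 (Nat.card F - 1) = 1)] at h1
    have h3 := cube_inj (b := 56) h1.symm h2 (by decide)
    exact absurd ((by decide : Nat.Prime 7).dvd_of_dvd_pow (n := n) (m := 2) (by rw [← hn, h3]; decide))
      (by decide)
  · rw [Nat.gcd_eq_left (show 2 ∣ Nat.card F - 1 by omega)] at h1
    generalize Nat.card F = q at h1 h2
    have h3 : q ≤ 70 ∨ 71 ≤ q := by omega
    rcases h3 with h3 | h3
    · have := Nat.mul_le_mul h3 (Nat.sub_le_sub_right (Nat.pow_le_pow_left h3 2) 1)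
      omega
    · have := Nat.mul_le_mul h3 (Nat.sub_le_sub_right (Nat.pow_le_pow_left h3 2) 1)
      omega

open Cfsg.Lib Cfsg.Lib.W2 in
theorem j1 {G : Type*} [Group G] [Finite G] [IsSimpleGroup G] (hG : Nat.card G = 175560) :
    Spor.IsoJ1 G := by
  have := Fact.mk Nat.prime_two
  have hc : ¬ IsMulCommutative G := fun c => by
    letI : CommGroup G := { (inferInstance : Group G) with mul_comm := c.is_comm.comm }
    have := IsSimpleGroup.prime_card (α := G)
    rw [hG] at this
    exact absurd this (by norm_num)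
  obtain ⟨T⟩ : Nonempty (Sylow 2 G) := inferInstance
  have hT : Nat.card T = 8 := by
    rw [Sylow.card_eq_multiplicity, hG, show 175560 = 2 ^ 3 * 21945 by norm_num,
      Nat.factorization_mul (by norm_num) (by norm_num), Nat.prime_two.factorization_pow]
    simp [Nat.factorization_eq_zero_of_not_dvd (show ¬ 2 ∣ 21945 by norm_num)]
  by_cases h4 : ∃ w ∈ (T : Subgroup G), orderOf w = 4
  · obtain ⟨w, h1, h2⟩ := h4
    obtain ⟨s, hs⟩ := Small.exists_mc_of_orderOf_four hc T hT h2 h1
    rcases GW.gorenstein_walter hs with ⟨F, _, _, -, -, ⟨e⟩⟩ | ⟨⟨e⟩⟩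
    · exact absurd ((Nat.card_congr e.toEquiv).symm.trans hG) not_psl
    · have := two_mul_nat_card_alternatingGroup (α := Fin 7)
      rw [← Nat.card_congr e.toEquiv, hG] at this
      simp [Fintype.card_perm, Nat.factorial] at this
  have hA : JR.Ab2 G := JR.ab2_of_sylow T (by
    have sq : ∀ x : T, x * x = 1 := fun x => by
      by_contra hx
      have h1 : orderOf x ∣ 2 ^ 3 := (orderOf_dvd_natCard x).trans hT.dvd
      obtain ⟨i, hi, h2⟩ := (Nat.dvd_prime_pow Nat.prime_two).1 h1
      have h3 : 2 ≤ i := by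
        by_contra c
        exact hx (by
          rw [← pow_two, ← orderOf_dvd_iff_pow_eq_one, h2]
          exact pow_dvd_pow 2 (show i ≤ 1 by omega))
      refine h4 ⟨(x ^ (orderOf x / 4) : T), (x ^ (orderOf x / 4) : T).2, ?_⟩
      rw [Subgroup.orderOf_coe]
      exact orderOf_pow_orderOf_div (orderOf_pos x).ne' (h2 ▸ pow_dvd_pow 2 h3)
    exact ⟨⟨fun a b => by
      rw [← inv_eq_of_mul_eq_one_right (sq (a * b)), mul_inv_rev, inv_eq_of_mul_eq_one_right (sq a),
        inv_eq_of_mul_eq_one_right (sq b)]⟩⟩)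
  rcases JR.walter hc hA with ⟨F, _, _, -, ⟨e⟩⟩ | ⟨F, _, _, s, E, N, h5, j, -⟩
  · exact absurd ((Nat.card_congr e.toEquiv).symm.trans hG) not_psl
  · rw [← Nat.card_eq_fintype_card] at h5
    obtain ⟨p, m, k, -, h, -⟩ := rt_of_jrs j (JR.pRes_of_simple hc) h5
    rcases (h.main (Small.commutator_eq_top_of_simple hc)).2 with ⟨f, h1, h2, h3⟩ | h1
    · have h4 : 27 ≤ Nat.card F := h2 ▸ Nat.pow_le_pow_right three_pos (show 3 ≤ 2 * f + 1 by omega)
      have h6 := Nat.pow_le_pow_left h4 3
      have := Nat.mul_le_mul (Nat.mul_le_mul h6 (Nat.add_le_add_right h6 1)) (Nat.sub_le_sub_right h4 1)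
      omega
    · exact h1.2

/-- Uniqueness of the simple group of order 175560: any two finite simple groups of order 175560 are isomorphic. -/
theorem result {G : Type*} {H : Type*} [Group G] [Finite G] [IsSimpleGroup G] [Group H] [Finite H] [IsSimpleGroup H] (hG : Nat.card G = 175560) (hH : Nat.card H = 175560) : Nonempty (G ≃* H) := by
  exact ⟨(j1 hG).some.trans (j1 hH).some.symm⟩

end Cfsg.Agent.S4273
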