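import Cfsg.Statements.S4347
import Cfsg.Agent.Lib.FGS.Count

set_option autoImplicit false
open Cfsg

namespace Cfsg.Agent.S4347

/-- Let G be a finite group and p a prime. Say a Sylow p-subgroup Q is redundant when every element of p-power order lies in some Sylow p-subgroup other than Q. Then G has no redundant Sylow p-subgroup if and only if some element of p-power order lies in exactly one Sylow p-subgroup. -/
theorem result {G : Type*} [Group G] [Finite G]
    (p : ℕ) [Fact p.Prime] :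
    (¬ ∃ Q : Sylow p G, ∀ x : G, (∃ k : ℕ, orderOf x = p ^ k) → ∃ P : Sylow p G, P ≠ Q ∧ x ∈ P) ↔
      ∃ x : G, (∃ k : ℕ, orderOf x = p ^ k) ∧ ∃! P : Sylow p G, x ∈ P := by
  open Cfsg.Lib.FGS Cfsg.Lib.Transfer in
  constructor
  · intro h
    push Not at h
    obtain ⟨Q⟩ : Nonempty (Sylow p G) := inferInstance
    obtain ⟨x, hx, h1⟩ := h Q
    obtain ⟨k, hk⟩ := orderOf_eq_pow_iff.1 hx
    obtain ⟨P, hP⟩ := exists_sylow_mem hk
    have h2 : ∀ R : Sylow p G, x ∈ R → R = Q := fun R hR => by_contra fun hne => h1 R hne hR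
    exact ⟨x, hx, P, hP, fun R hR => (h2 R hR).trans (h2 P hP).symm⟩
  · rintro ⟨x, hx, P, hP, hu⟩ ⟨Q, hQ⟩
    obtain ⟨g, hg⟩ := MulAction.exists_smul_eq G P Q
    obtain ⟨k, hk⟩ := orderOf_eq_pow_iff.1 hx
    obtain ⟨R, hR, hxR⟩ := hQ (g * x * g⁻¹) (orderOf_eq_pow_iff.2 ⟨k, conj_pow_eq_one hk⟩)
    refine hR ?_
    rw [← hg, ← hu (g⁻¹ • R) ?_, smul_inv_smul]
    have : (g⁻¹ ⋆ (R : Subgroup G)) = (g⁻¹ • R : Sylow p G) := smul_eq_iff_conj.1 rfl
    change x ∈ ((g⁻¹ • R : Sylow p G) : Subgroup G)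
    rw [← this, mem_conj, inv_inv]
    exact hxR

end Cfsg.Agent.S4347
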