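import Cfsg.Statements.S4348
import Cfsg.Agent.Lib.FGS.Count
import Cfsg.Agent.Lib.Core.PCore

set_option autoImplicit false
open Cfsg

namespace Cfsg.Agent.S4348

/-- Let G be a finite group, p a prime and P a Sylow p-subgroup of G, and let O_p(G) be the largest normal p-subgroup of G. If P/O_p(G) is cyclic, then some element of p-power order of G lies in exactly one Sylow p-subgroup. -/
theorem result {G : Type*} [Group G] [Finite G]
    (p : ℕ) [Fact p.Prime] (P : Sylow p G)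
    [hn : ((Cfsg.pCore p G).subgroupOf (P : Subgroup G)).Normal]
    (hc : IsCyclic ((P : Subgroup G) ⧸ (Cfsg.pCore p G).subgroupOf (P : Subgroup G))) :
    ∃ x : G, (∃ k : ℕ, orderOf x = p ^ k) ∧ ∃! Q : Sylow p G, x ∈ Q := by
  open Cfsg.Lib.FGS Cfsg.Lib.Core in
  obtain ⟨y, hy⟩ := hc.exists_generator
  obtain ⟨x, rfl⟩ := QuotientGroup.mk_surjective y
  refine ⟨x, orderOf_eq_pow_iff.2 (exists_pow_of_mem P.isPGroup' x.2), P, x.2, fun Q hQ => ?_⟩
  refine (sylow_eq_of_le fun g hg => ?_).symm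
  obtain ⟨k, hk⟩ := Subgroup.mem_zpowers_iff.1 (hy (QuotientGroup.mk ⟨g, hg⟩))
  rw [← QuotientGroup.mk_zpow, QuotientGroup.eq, Subgroup.mem_subgroupOf] at hk
  have h1 : Cfsg.pCore p G ≤ Q := (pCore_isPGroup p G).le_sylow_of_normal Q
  simpa using mul_mem (zpow_mem (S := Subgroup G) (K := Q) hQ k) (h1 hk)

end Cfsg.Agent.S4348
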