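import Cfsg.Statements.S4349
import Cfsg.Agent.Lib.Perm.Sym2

set_option autoImplicit false
open Cfsg

namespace Cfsg.Agent.S4349

open Cfsg.Lib Cfsg.Lib.Perm Subgroup Equiv Equiv.Perm MulAction
open scoped Pointwise

theorem exists_two_group {G : Type*} [Group G] {a x : G} (ha : a ^ 2 = 1) (hx : IsPGroup 2 (zpowers x))
    (h : ∀ g ∈ zpowers x, Commute a (g * a * g⁻¹)) : ∃ P : Subgroup G, IsPGroup 2 P ∧ a ∈ P ∧ x ∈ P := by
  let S := {b | ∃ g ∈ zpowers x, b = g * a * g⁻¹}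
  have hc := isMulCommutative_closure (k := S) (by
    rintro _ ⟨g, hg, rfl⟩ _ ⟨k, hk, rfl⟩
    simpa [mul_assoc] using ((h _ (mul_mem (inv_mem hg) hk)).map (MulAut.conj g)).eq)
  have h2 : ∀ b ∈ closure S, b ^ 2 = 1 := fun b hb => by
    induction hb using closure_induction with
    | mem b hb => obtain ⟨g, -, rfl⟩ := hb; rw [conj_pow, ha, mul_one, mul_inv_cancel]
    | one => exact one_pow 2
    | mul b c hb hc h1 h2 => rw [Commute.mul_pow (setLike_mul_comm hb hc), h1, h2, one_mul]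
    | inv b _ h => rw [inv_pow, h, inv_one]
  refine ⟨_, hx.to_sup_of_normal_right' (K := closure S) (fun b => ⟨1, Subtype.ext (h2 b b.2)⟩)
    (le_normalizer_closure_iff.2 ?_), mem_sup_right (subset_closure ⟨1, one_mem _, by simp⟩),
    mem_sup_left (mem_zpowers x)⟩
  rintro g hg _ ⟨k, hk, rfl⟩
  exact subset_closure ⟨g * k, mul_mem hg hk, by group⟩

variable {Ω : Type} [Fintype Ω] [DecidableEq Ω] {x σ : Perm Ω}

def Blk (x : Perm Ω) (u v : Ω) : Prop :=
  u ≠ v ∧ ∀ i : ℤ, ((x ^ i) u = u ↔ (x ^ i) v = v) ∧ ((x ^ i) u = v ↔ (x ^ i) v = u)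

def Cond (x : Perm Ω) : Prop :=
  (∀ u v w, x u = u → x v = v → x w = w → u = v ∨ u = w ∨ v = w) ∧
    ∀ u v, x u ≠ u → period x u = period x v → x.SameCycle u v

theorem blk (hx : IsPGroup 2 (zpowers x)) (h : ∃! P : Sylow 2 (Perm Ω), x ∈ P) {u v w : Ω}
    (h1 : Blk x u v) (h2 : Blk x u w) : v = w := by
  obtain ⟨P, -, hP⟩ := h
  have key : ∀ v, Blk x u v → swap u v ∈ P := fun v hv => by
    obtain ⟨Q, q1, q2, q3⟩ := exists_two_group (a := swap u v) (by simp [sq]) hx (by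
      rintro _ ⟨i, rfl⟩
      obtain ⟨e1, e2⟩ := hv.2 i
      rw [← swap_apply_apply]
      by_cases a : (x ^ i) u = u
      · rw [a, e1.1 a]; exact .refl _
      by_cases b : (x ^ i) u = v
      · rw [b, e2.1 b, swap_comm v]; exact .refl _
      rw [Commute, SemiconjBy, mul_swap_eq_swap_mul, swap_apply_of_ne_of_ne a b,
        swap_apply_of_ne_of_ne (mt e2.2 b) (mt e1.2 a)])
    obtain ⟨R, hR⟩ := q1.exists_le_sylow
    exact hP R (hR q3) ▸ hR q2
  by_contra e
  obtain ⟨k, hk⟩ := IsPGroup.iff_orderOf.1 P.2 ⟨_, mul_mem (key v h1) (key w h2)⟩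
  rw [← orderOf_coe, (isThreeCycle_swap_mul_swap_same h1.1 h2.1 e).orderOf] at hk
  exact absurd (Nat.prime_three.dvd_of_dvd_pow hk.dvd) (by norm_num)

theorem two_dvd_period (hx : IsPGroup 2 (zpowers x)) {u : Ω} (hu : x u ≠ u) : 2 ∣ period x u := by
  obtain ⟨k, hk⟩ := IsPGroup.iff_card.1 hx
  obtain ⟨_ | j, -, hj⟩ := (Nat.dvd_prime_pow Nat.prime_two).1 (hk ▸ Nat.card_zpowers x ▸ period_dvd_orderOf x u)
  · exact absurd (period_eq_one_iff.1 hj) hu
  · exact hj ▸ dvd_pow_self 2 j.succ_ne_zero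

omit [Fintype Ω] [DecidableEq Ω] in
theorem per (x : Perm Ω) (u : Ω) (i : ℤ) : (x ^ i) u = u ↔ (period x u : ℤ) ∣ i :=
  zpow_smul_eq_iff_period_dvd (g := x)

theorem cond_of_unique (hx : IsPGroup 2 (zpowers x)) (h : ∃! P : Sylow 2 (Perm Ω), x ∈ P) : Cond x := by
  refine ⟨fun u v w hu hv hw => ?_, fun u w hu e => ?_⟩
  · by_contra! h'
    have : ∀ v, x v = v → u ≠ v → Blk x u v := fun v hv e => ⟨e, fun i => by
      simp [zpow_apply_eq_self_of_apply_eq_self, hu, hv, eq_comm]⟩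
    exact h'.2.2 (blk hx h (this v hv h'.1) (this w hw h'.2.1))
  by_contra hc
  obtain ⟨k, hk⟩ := two_dvd_period hx hu
  have h0 := period_pos_of_orderOf_pos (orderOf_pos x) u
  have h1 : (x ^ k) ((x ^ k) u) = u := by
    rw [← Perm.mul_apply, ← pow_add, ← two_mul, ← hk]; exact pow_period_smul x u
  have h2 : ∀ i : ℤ, (x ^ i) ((x ^ k) u) = (x ^ k) ((x ^ i) u) := fun i => by
    rw [← Perm.mul_apply, ← Perm.mul_apply, ((Commute.refl x).zpow_left i |>.pow_right k).eq]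
  refine hc ⟨k, (zpow_natCast x k).symm ▸ blk hx h (u := u)
    ⟨(pow_smul_ne_of_lt_period (m := x) (a := u) (by omega) (by omega)).symm, fun i => ?_⟩
    ⟨by rintro rfl; exact hc .rfl, fun i => ⟨by rw [per, per, e], iff_of_false (fun e => hc ⟨i, e⟩)
      fun e => hc (SameCycle.symm ⟨i, e⟩)⟩⟩⟩
  rw [h2, (x ^ k).injective.eq_iff, ← (x ^ k).injective.eq_iff (b := (x ^ k) u), h1]
  simp

def Mat (σ : Perm Ω) : Prop := σ * σ = 1 ∧ ∀ u v, σ u = u → σ v = v → u = v

theorem exists_mat (P : Subgroup (Perm Ω)) (hP : IsPGroup 2 P) : ∃ σ : Perm Ω, Mat σ ∧ P ≤ centralizer {σ} := by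
  obtain ⟨σ, h1, h2⟩ : ∃ σ : Perm Ω, Mat σ ∧ ¬ 2 ∣ (centralizer {σ}).index := by
    obtain ⟨m, hm⟩ : ∃ m, Fintype.card Ω / 2 = m := ⟨_, rfl⟩
    obtain ⟨σ, hσ⟩ := (exists_with_cycleType_iff Ω (m := Multiset.replicate m 2)).2
      ⟨by simp; omega, fun a ha => (Multiset.eq_of_mem_replicate ha).ge⟩
    have h3 : σ.cycleType.sum = 2 * m := by simp [hσ, mul_comm]
    refine ⟨σ, ⟨?_, fun u v hu hv => ?_⟩, fun h => ?_⟩
    · rw [← sq, ← orderOf_dvd_iff_pow_eq_one, ← lcm_cycleType, hσ]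
      exact Multiset.lcm_dvd.2 fun b hb => (Multiset.eq_of_mem_replicate hb).dvd
    · refine Finset.card_le_one.1 (show σ.supportᶜ.card ≤ 1 by
        rw [Finset.card_compl, ← sum_cycleType]; omega) _ (by simpa) _ (by simpa)
    have h4 := (centralizer {σ}).card_mul_index
    rw [nat_card_centralizer, h3, Nat.factorial_eq_one.2 (by omega), one_mul, hσ, Multiset.prod_replicate,
      show ∏ n ∈ (Multiset.replicate m 2).toFinset, ((Multiset.replicate m 2).count n).factorial = m.factorial by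
        rcases m.eq_zero_or_pos with rfl | h <;> simp [Multiset.toFinset_replicate, *, ne_of_gt],
      ← Nat.doubleFactorial_two_mul, Nat.card_perm, Nat.card_eq_fintype_card] at h4
    have h5 : ∀ k, Odd (2 * k + 1).doubleFactorial := fun k => by
      rw [Nat.doubleFactorial_eq_prod_odd]
      exact Finset.prod_induction _ _ (fun _ _ => Odd.mul) odd_one fun i _ => odd_two_mul_add_one _
    rw [← even_iff_two_dvd, ← Nat.not_odd_iff_even] at h
    obtain e | e : Fintype.card Ω = 2 * m + 1 ∨ Fintype.card Ω = 2 * m := by omega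
    · rw [e, Nat.factorial_eq_mul_doubleFactorial, mul_comm, Nat.mul_left_inj (Nat.doubleFactorial_pos _).ne'] at h4
      exact h (h4 ▸ h5 m)
    · obtain _ | m := m
      · rw [e] at h4; exact h ((one_mul _).symm.trans h4 ▸ odd_one)
      · rw [e, show 2 * (m + 1) = 2 * m + 1 + 1 by ring, Nat.factorial_eq_mul_doubleFactorial,
          Nat.mul_right_inj (Nat.doubleFactorial_pos _).ne'] at h4
        exact h (h4 ▸ h5 m)
  obtain ⟨Q, hQ⟩ := hP.exists_le_sylow
  obtain ⟨R⟩ : Nonempty (Sylow 2 (centralizer {σ})) := inferInstance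
  obtain ⟨c, hc⟩ := exists_smul_eq (Perm Ω) Q ((R.2.map (centralizer {σ}).subtype).toSylow (by
    rw [index_map_subtype]; exact (Nat.prime_two.not_dvd_mul R.not_dvd_index h2)))
  refine ⟨c⁻¹ * σ * c, ⟨by simp [mul_assoc, ← mul_assoc σ, h1.1], fun u v hu hv => c.injective (h1.2 _ _
    (by simpa [Equiv.symm_apply_eq] using hu) (by simpa [Equiv.symm_apply_eq] using hv))⟩, fun g hg => ?_⟩
  obtain ⟨k, -, hk⟩ := (congrArg Sylow.toSubgroup hc).le (smul_mem_pointwise_smul _ (MulAut.conj c) _ (hQ hg))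
  have := mem_centralizer_singleton_iff.1 k.2
  rw [show k.1 = c * g * c⁻¹ from hk] at this
  rw [mem_centralizer_singleton_iff, ← mul_left_cancel_iff (a := c), ← mul_right_cancel_iff (a := c⁻¹)]
  simpa [mul_assoc] using this

theorem mat_apply (h : Cond x) (hσ : Mat σ) (hc : x * σ = σ * x) {u : Ω} (hu : x u ≠ u) {i : ℤ}
    (h1 : (x ^ i) ((x ^ i) u) = u) : (x ^ i) u = u ∨ (x ^ i) u = σ u := by
  have e : ∀ (j : ℤ) v, (x ^ j) (σ v) = σ ((x ^ j) v) := fun j v =>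
    DFunLike.congr_fun (Commute.zpow_left hc j).eq v
  obtain ⟨j, hj⟩ := h.2 u (σ u) hu (Nat.dvd_antisymm
    (Int.natCast_dvd_natCast.1 ((per ..).1 (σ.injective (by rw [← e, per]))))
    (Int.natCast_dvd_natCast.1 ((per ..).1 (by rw [e, (per ..).2 dvd_rfl]))))
  have h2 : (x ^ j) ((x ^ j) u) = u := by rw [hj, e, hj]; exact DFunLike.congr_fun hσ.1 u
  have h3 : (x ^ j) u ≠ u := fun e' => hu (hσ.2 _ _ (by
    simpa [← hj, e'] using (e 1 u).symm) (hj ▸ e'))
  rw [← hj, or_iff_not_imp_left, ← Perm.inv_eq_iff_eq (f := x ^ j), ← zpow_neg]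
  rw [← Perm.mul_apply, ← zpow_add, per] at h1 h2 ⊢
  rw [Ne, per] at h3
  rw [per]
  intro h4
  obtain ⟨a, ha⟩ := h1
  obtain ⟨b, hb⟩ := h2
  obtain ⟨c, rfl | rfl⟩ := a.even_or_odd'
  · exact absurd ⟨c, by linarith⟩ h4
  obtain ⟨d, rfl | rfl⟩ := b.even_or_odd'
  · exact absurd ⟨d, by linarith⟩ h3
  exact ⟨c - d, by linarith⟩

omit [Fintype Ω] [DecidableEq Ω] in
theorem mat_fix (h : Cond x) (hσ : Mat σ) (hc : x * σ = σ * x) {u v : Ω} (hu : x u = u) (hv : x v = v) :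
    u = v ∨ σ u = v := by
  have e : ∀ u, x u = u → x (σ u) = σ u := fun u hu => by simpa [hu] using DFunLike.congr_fun hc u
  have e2 : ∀ u, σ (σ u) = u := DFunLike.congr_fun hσ.1
  have := h.1 _ _ _ hu hv (e u hu)
  have := h.1 _ _ _ hu hv (e v hv)
  have := hσ.2 u v
  grind

theorem mat_unique (hx : IsPGroup 2 (zpowers x)) (h : Cond x) {σ τ : Perm Ω} (hσ : Mat σ) (hc : x * σ = σ * x)
    (hτ : Mat τ) (hd : x * τ = τ * x) : σ = τ := by
  ext u
  by_cases hu : x u = u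
  · have := mat_fix h hσ hc hu (show x (τ u) = τ u by simpa [hu] using DFunLike.congr_fun hd u)
    have := mat_fix h hτ hd hu (show x (σ u) = σ u by simpa [hu] using DFunLike.congr_fun hc u)
    grind
  obtain ⟨k, hk⟩ := two_dvd_period hx hu
  have h0 := period_pos_of_orderOf_pos (orderOf_pos x) u
  have h1 : (x ^ (k : ℤ)) ((x ^ (k : ℤ)) u) = u := by
    rw [← Perm.mul_apply, ← zpow_add, per, hk]; exact ⟨1, by push_cast; ring⟩
  have h2 : (x ^ (k : ℤ)) u ≠ u := zpow_natCast x k ▸ pow_smul_ne_of_lt_period (m := x) (a := u) (by omega) (by omega)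
  rw [← (mat_apply h hσ hc hu h1).resolve_left h2, (mat_apply h hτ hd hu h1).resolve_left h2]

theorem sup_two (n : ℕ) : ∀ (Ω : Type) [Fintype Ω] [DecidableEq Ω] (x : Perm Ω), Fintype.card Ω = n → Cond x →
    ∀ P Q : Subgroup (Perm Ω), IsPGroup 2 P → IsPGroup 2 Q → x ∈ P → x ∈ Q → IsPGroup 2 (P ⊔ Q :) := by
  classical
  induction n using Nat.strong_induction_on with
  | _ n ih =>
  intro Ω _ _ x hn h P Q hP hQ xP xQ
  have hx := hP.to_le (zpowers_le.2 xP)
  obtain ⟨σ, hσ, h1⟩ := exists_mat P hP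
  obtain ⟨τ, hτ, h2⟩ := exists_mat Q hQ
  have hc := mem_centralizer_singleton_iff.1 (h1 xP)
  obtain rfl := mat_unique hx h hσ hc hτ (mem_centralizer_singleton_iff.1 (h2 xQ))
  have e2 : ∀ u, σ (σ u) = u := DFunLike.congr_fun hσ.1
  by_cases h0 : ∀ u, σ u = u
  · have : Subsingleton Ω := ⟨fun u v => hσ.2 u v (h0 u) (h0 v)⟩
    exact fun g => ⟨0, Subsingleton.elim _ _⟩
  obtain ⟨a, ha⟩ := not_forall.1 h0
  let s : Setoid Ω := ⟨fun u v => u = v ∨ u = σ v, fun _ => .inl rfl, by grind, by grind⟩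
  have cm : ∀ (g : centralizer {σ}) u, g.1 (σ u) = σ (g.1 u) := fun g =>
    DFunLike.congr_fun (mem_centralizer_singleton_iff.1 g.2)
  letI : MulAction (centralizer {σ}) (Quotient s) :=
    { smul g := Quotient.map g.1 fun u v e => e.imp (congrArg _) fun e => by rw [e, cm]
      one_smul := by rintro ⟨u⟩; rfl
      mul_smul := by rintro g k ⟨u⟩; rfl }
  let π := toPermHom (centralizer {σ}) (Quotient s)
  have hπ : ∀ (g : centralizer {σ}) u v, π g ⟦u⟧ = ⟦v⟧ ↔ g.1 u = v ∨ g.1 u = σ v := fun g u v => Quotient.eq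
  let y : centralizer {σ} := ⟨x, h1 xP⟩
  have hy : ∀ (i : ℤ) u, x u ≠ u → ((π y ^ i) ⟦u⟧ = ⟦u⟧ ↔ (x ^ (i + i)) u = u) := fun i u hu => by
    rw [← map_zpow, hπ, zpow_add, Perm.mul_apply]
    refine ⟨fun e => ?_, mat_apply h hσ hc hu⟩
    rcases e with e | e
    · exact (congrArg _ e).trans e
    · exact (congrArg _ e).trans ((cm (y ^ i) u).trans ((congrArg σ e).trans (e2 u)))
  have h3 := ih _ (hn ▸ Fintype.card_lt_of_surjective_not_injective _ Quotient.mk_surjective fun e =>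
    ha (e (Quotient.sound (s := s) (.inr rfl)))) (Quotient s) (π y) rfl ⟨?_, ?_⟩
    ((P.subgroupOf _).map π) ((Q.subgroupOf _).map π) (hP.comap_subtype.map π) (hQ.comap_subtype.map π)
    ⟨y, xP, rfl⟩ ⟨y, xQ, rfl⟩
  · have h4 := h3.comap_of_ker_isPGroup π fun g => ⟨1, Subtype.ext (Subtype.ext (Equiv.ext fun u => by
      have := fun u => (hπ g u u).1 (DFunLike.congr_fun g.2 _)
      change g.1.1 (g.1.1 u) = u
      rcases this u with e | e
      · rw [e, e]
      · rw [e, cm, e, e2]))⟩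
    refine (h4.map (centralizer {σ}).subtype).to_le (sup_le (fun g hg => ?_) fun g hg => ?_)
    · exact ⟨⟨g, h1 hg⟩, mem_sup_left ⟨_, hg, rfl⟩, rfl⟩
    · exact ⟨⟨g, h2 hg⟩, mem_sup_right ⟨_, hg, rfl⟩, rfl⟩
  · have k1 : ∀ u v, x u = u → x v = v → (⟦u⟧ : Quotient s) = ⟦v⟧ := fun u v hu hv =>
      Quotient.sound ((mat_fix h hσ hc hv hu).imp Eq.symm Eq.symm)
    have k2 : ∀ u, x u ≠ u → π y ⟦u⟧ = ⟦u⟧ → period x u = 2 := fun u hu e => Nat.dvd_antisymm
      (Int.natCast_dvd_natCast.1 ((per ..).1 ((hy 1 u hu).1 (by simpa using e)))) (two_dvd_period hx hu)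
    have k3 : ∀ u v, x u ≠ u → x v ≠ v → π y ⟦u⟧ = ⟦u⟧ → π y ⟦v⟧ = ⟦v⟧ → (⟦u⟧ : Quotient s) = ⟦v⟧ :=
      fun u v hu hv e1 e2 => by
        obtain ⟨i, rfl⟩ := h.2 u v hu ((k2 u hu e1).trans (k2 v hv e2).symm)
        rw [← zpow_apply_eq_self_of_apply_eq_self e1 i, ← map_zpow, hπ]
        exact .inl rfl
    rintro ⟨u⟩ ⟨v⟩ ⟨w⟩ hu hv hw
    have := k1 u v; have := k1 u w; have := k1 v w
    have := fun a b => k3 u v a b hu hv
    have := fun a b => k3 u w a b hu hw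
    have := fun a b => k3 v w a b hv hw
    change (⟦u⟧ : Quotient s) = ⟦v⟧ ∨ (⟦u⟧ : Quotient s) = ⟦w⟧ ∨ (⟦v⟧ : Quotient s) = ⟦w⟧
    tauto
  · rintro ⟨u⟩ ⟨v⟩ hu e
    have hv : π y ⟦v⟧ ≠ ⟦v⟧ := fun e' => hu (period_eq_one_iff.1 (e.trans (period_eq_one_iff.2 e')))
    have hu' : x u ≠ u := fun e => hu ((hπ ..).2 (.inl e))
    have hv' : x v ≠ v := fun e => hv ((hπ ..).2 (.inl e))
    have k : ∀ u v : Ω, x u ≠ u → x v ≠ v → period (π y) (⟦u⟧ : Quotient s) = period (π y) (⟦v⟧ : Quotient s) →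
        period x u ∣ period x v := fun u v hu hv e => by
      obtain ⟨k, hk⟩ := two_dvd_period hx hv
      have := (hy k v hv).2 ((per ..).2 ⟨1, by rw [hk]; push_cast; ring⟩)
      rw [per, ← e, ← per, hy k u hu, per] at this
      exact Int.natCast_dvd_natCast.1 (by rw [hk]; push_cast; rwa [two_mul])
    obtain ⟨i, rfl⟩ := h.2 u v hu' (Nat.dvd_antisymm (k u v hu' hv' e) (k v u hv' hu' e.symm))
    exact ⟨i, by rw [← map_zpow]; exact (hπ ..).2 (.inl rfl)⟩

theorem period_eq {u : Ω} (hu : x u ≠ u) : period x u = (x.cycleOf u).support.card := by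
  have h := x.isCycle_cycleOf hu
  have : ∀ i : ℕ, period x u ∣ i ↔ orderOf (x.cycleOf u) ∣ i := fun i => by
    rw [orderOf_dvd_iff_pow_eq_one, h.pow_eq_one_iff' (x := u) (by rwa [cycleOf_apply_self]),
      cycleOf_pow_apply_self, ← pow_smul_eq_iff_period_dvd, Perm.smul_def]
  exact h.orderOf ▸ Nat.dvd_antisymm ((this _).2 dvd_rfl) ((this _).1 dvd_rfl)

theorem cond_iff : Cond x ↔ Fintype.card Ω ≤ x.support.card + 2 ∧ x.cycleType.Nodup := by
  refine and_congr ?_ ?_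
  · rw [← Finset.card_add_card_compl x.support, add_le_add_iff_left, ← not_lt, Finset.two_lt_card]
    simp only [Finset.mem_compl, notMem_support]
    grind
  rw [cycleType_def, Multiset.nodup_map_iff_inj_on x.cycleFactorsFinset.nodup]
  refine ⟨fun h c hc d hd e => ?_, fun h u v hu e => ?_⟩
  · obtain ⟨u, hu⟩ := (mem_cycleFactorsFinset_iff.1 hc).1.nonempty_support
    obtain ⟨v, hv⟩ := (mem_cycleFactorsFinset_iff.1 hd).1.nonempty_support
    have hu' := mem_support.1 (mem_cycleFactorsFinset_support_le hc hu)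
    have hv' := mem_support.1 (mem_cycleFactorsFinset_support_le hd hv)
    rw [cycle_is_cycleOf hu hc, cycle_is_cycleOf hv hd] at e ⊢
    exact (h u v hu' (by rw [period_eq hu', period_eq hv']; exact e)).cycleOf_eq
  · have hv : x v ≠ v := fun e' => hu (period_eq_one_iff.1 (e.trans (period_eq_one_iff.2 e')))
    rw [period_eq hu, period_eq hv] at e
    exact (sameCycle_iff_cycleOf_eq_of_mem_support (mem_support.2 hu) (mem_support.2 hv)).2 (h _
      (cycleOf_mem_cycleFactorsFinset_iff.2 (mem_support.2 hu)) _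
      (cycleOf_mem_cycleFactorsFinset_iff.2 (mem_support.2 hv)) e)

/-- Let n ≥ 2 and let x be an element of 2-power order of the symmetric group of degree n. Then x lies in exactly one Sylow 2-subgroup if and only if x has at most two fixed points and the nontrivial cycles of x have pairwise different lengths. -/
theorem result (n : ℕ) (hn : 2 ≤ n)
    (x : Equiv.Perm (Fin n)) (hx : ∃ k : ℕ, orderOf x = 2 ^ k) :
    (∃! P : Sylow 2 (Equiv.Perm (Fin n)), x ∈ P) ↔ (n ≤ x.support.card + 2 ∧ x.cycleType.Nodup) := by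
  have h2 : IsPGroup 2 (zpowers x) := IsPGroup.iff_card.2 (hx.imp fun k hk => (Nat.card_zpowers x).trans hk)
  have := cond_iff (x := x)
  rw [Fintype.card_fin] at this
  refine ⟨fun h => this.1 (cond_of_unique h2 h), fun h => ?_⟩
  obtain ⟨P, hP⟩ := h2.exists_le_sylow
  refine ⟨P, hP (mem_zpowers x), fun Q hQ => Sylow.ext ?_⟩
  have h3 := sup_two _ _ x rfl (this.2 h) P Q P.2 Q.2 (hP (mem_zpowers x)) hQ
  exact (Q.3 h3 le_sup_right).symm.trans (P.3 h3 le_sup_left)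

end Cfsg.Agent.S4349
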