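import Cfsg.Statements.S4351
import Cfsg.Agent.Lib.CIT.Orders
import Cfsg.Agent.Lib.Sz.Martineau
import Cfsg.Agent.S0249

set_option autoImplicit false
open Cfsg

namespace Cfsg.Agent.S4351

/-- Let G be a finite non-solvable group in which the centralizer of every non-identity element is nilpotent. Then G is a non-abelian simple group; or G has a normal subgroup of index 2 isomorphic to PSL(2, 9); or G has a nontrivial normal elementary abelian 2-subgroup N such that G/N is isomorphic to PSL(2, q) for some q = 2ⁿ ≥ 4 or is a simple group of Suzuki type (simple, of the order of a Suzuki group). -/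
theorem result {G : Type*} [Group G] [Finite G] (hG : ¬ Group.IsSolvable G)
    (hCN : ∀ x : G, x ≠ 1 → Group.IsNilpotent (Subgroup.centralizer ({x} : Set G))) :
    (IsSimpleGroup G ∧ ¬ IsMulCommutative G) ∨
    (∃ (N : Subgroup G), N.Normal ∧ N.index = 2 ∧ ∃ (F : Type) (_ : Field F) (_ : Fintype F), Fintype.card F = 9 ∧
        Nonempty (N ≃* Matrix.ProjectiveSpecialLinearGroup (Fin 2) F)) ∨
    (∃ (N : Subgroup G) (_ : N.Normal), N ≠ ⊥ ∧ IsPGroup 2 N ∧ IsMulCommutative N ∧ (∀ x ∈ N, x * x = 1) ∧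
        ((∃ (F : Type) (_ : Field F) (_ : Fintype F), CharP F 2 ∧ 4 ≤ Fintype.card F ∧
            Nonempty (G ⧸ N ≃* Matrix.ProjectiveSpecialLinearGroup (Fin 2) F)) ∨ Cfsg.IsSuzuki (G ⧸ N))) := by
  open Cfsg.Lib Cfsg.Lib.CIT Cfsg.Lib.Sz in
  have h := cit_of_cn hCN hG
  have hc : ¬ IsMulCommutative G := fun e => hG (Group.isSolvable_of_comm fun a b => e.is_comm.comm a b)
  have hQ := Lib.Core.pCore_isPGroup 2 G
  rcases h.nonsolv hG with ⟨h1, h2⟩ | ⟨-, ⟨F, _, _, -, h3, ⟨e⟩⟩ | h2 | ⟨F, _, _, -, ⟨e⟩⟩⟩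
  · by_cases hO : pCore 2 G = ⊥
    · exact Or.inl ⟨((QuotientGroup.quotientMulEquivOfEq hO).trans
        QuotientGroup.quotientBot).symm.isSimpleGroup, hc⟩
    refine Or.inr (Or.inr ⟨pCore 2 G, inferInstance, hO, hQ, ?_⟩)
    rcases h2 with ⟨F, _, _, n, hn, hF, ⟨e⟩⟩ | ⟨F, _, _, m, hm, hF, ⟨e⟩⟩
    · have h3 := h.higman ((h.quot _ hQ).rk2 (mt (Lib.Core.isSolvable_of_normal_quotient _
        (Lib.BG.pgroup_sol hQ)) hG)) ((Lib.CIT.dvd_card_quot Nat.prime_three (by decide)).1 (by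
          rw [Nat.card_congr e.toEquiv, Lib.CIT.card_psl_even (by omega) hF, ← pow_mul, mul_comm n 2,
            pow_mul]
          exact Dvd.dvd.mul_left (by simpa using Nat.sub_dvd_pow_sub_pow 4 1 n) _))
      refine ⟨h3.1, Lib.Inv.elemAb_two_iff.1 h3, Or.inl ⟨F, _, ‹_›, Lib.Sz.charP_of_card hF, ?_, ⟨e⟩⟩⟩
      rw [hF]
      exact Nat.pow_le_pow_right two_pos hn
    · let M := (Lib.Sz.lieModel hF).congr e
      obtain ⟨c, hc⟩ := QuotientGroup.mk'_surjective (pCore 2 G) M.c5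
      have : Fact (Nat.Prime 5) := ⟨Nat.prime_five⟩
      have h5 : orderOf M.c5 = 5 := orderOf_eq_prime M.c5_pow M.c5_ne_one
      have hk : IsPGroup 2 (QuotientGroup.mk' (pCore 2 G)).ker := by rwa [QuotientGroup.ker_mk']
      have h6 := h.orderOf_eq_of_map _ hk (x := c) (by rw [hc, h5]; decide) (hc ▸ M.c5_ne_one)
      rw [hc, h5] at h6
      have h7 := (Lib.Sz.martineau M (QuotientGroup.mk'_surjective _) hk hc (fun n hn e =>
        h.eq_one_of_pgroup hk (by rw [h6]; decide) (by rintro rfl; simp at h6) hn e)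
        (Lib.Sz.exists_ne_zero_ne_one hm hF)).2
      rw [QuotientGroup.ker_mk'] at h7
      refine ⟨(Lib.Inv.elemAb_two_iff.2 h7).1, h7, Or.inr ⟨h1, m, hm, ?_⟩⟩
      rw [Nat.card_congr e.toEquiv, Lib.CIT.card_sz hF]
      ring
  · have := Lib.PSL2.isSimpleGroup_psl (F := F) (by rw [Nat.card_eq_fintype_card]; omega)
    exact Or.inl ⟨e.isSimpleGroup, hc⟩
  · exact Or.inr (Or.inl h2)
  · have := Cfsg.Agent.S0249.result (F := F) (n := 3) le_rfl
    exact Or.inl ⟨e.isSimpleGroup, hc⟩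

end Cfsg.Agent.S4351
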