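import Cfsg.Statements.S4358
import Cfsg.Agent.Lib.Linear.Unip
import Cfsg.Agent.Lib.Unitary.Field

set_option autoImplicit false
open Cfsg

namespace Cfsg.Agent.S4358

open Cfsg.Lib Cfsg.Lib.Linear Matrix Subgroup Finset

variable {F : Type*} [Field F] {p : ℕ} [NeZero p]

/-- Monomial matrices whose permutation is a translation. -/
def mon (k : Fin p) (d : Fin p → F) : Matrix (Fin p) (Fin p) F :=
  of fun i j => if i = j + k then d j else 0

theorem mon_mul (k l : Fin p) (d e : Fin p → F) :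
    mon k d * mon l e = mon (l + k) fun j => d (j + l) * e j := by
  ext i j
  simp [mon, mul_apply, add_assoc]

theorem mon_zero (d : Fin p → F) : mon 0 d = diagonal d := by
  ext i j
  simp only [mon, of_apply, add_zero, diagonal_apply]
  split_ifs with h
  exacts [by rw [h], rfl]

theorem mon_inj {k l : Fin p} {d e : Fin p → F} (hd : d 0 ≠ 0) (h : mon k d = mon l e) :
    k = l ∧ d = e := by
  have h1 : k = l := by
    by_contra h2
    simpa [mon, h2, hd] using congrFun (congrFun h k) 0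
  subst h1
  exact ⟨rfl, funext fun j => by simpa [mon] using congrFun (congrFun h (j + k)) j⟩

theorem mon_pow (k : Fin p) {d : Fin p → F} (hd : ∀ i, d i ^ p = 1) (n : ℕ) :
    ∃ e : Fin p → F, (∀ i, e i ^ p = 1) ∧ mon k d ^ n = mon (n • k) e := by
  induction n with
  | zero => exact ⟨1, by simp, by simp [mon_zero]⟩
  | succ n ih =>
    obtain ⟨e, h1, h2⟩ := ih
    exact ⟨fun j => d (j + n • k) * e j, fun i => by rw [mul_pow, h1, hd, one_mul],
      by rw [pow_succ', h2, mon_mul, succ_nsmul]⟩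

/-- The wreath product `C_p ≀ C_p`. -/
def W (p : ℕ) [NeZero p] (F : Type*) [Field F] : Subgroup (GL (Fin p) F) where
  carrier := {g | ∃ k d, (∀ i, d i ^ p = 1) ∧ g.1 = mon k d}
  one_mem' := ⟨0, 1, by simp, by simp [mon_zero]⟩
  mul_mem' := by
    rintro a b ⟨k, d, h1, h2⟩ ⟨l, e, h3, h4⟩
    exact ⟨l + k, fun j => d (j + l) * e j, fun i => by rw [mul_pow, h1, h3, one_mul],
      by rw [Units.val_mul, h2, h4, mon_mul]⟩
  inv_mem' := by
    rintro a ⟨k, d, h1, h2⟩
    refine ⟨-k, fun j => (d (j + -k))⁻¹, by simp [h1], Units.inv_eq_of_mul_eq_one_right ?_⟩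
    rw [h2, mon_mul, neg_add_cancel, mon_zero, ← diagonal_one]
    exact congrArg _ (funext fun j => mul_inv_cancel₀ (ne_zero_pow (NeZero.ne p) (by simp [h1])))

theorem W.col {g : GL (Fin p) F} (hg : g ∈ W p F) {i i' j : Fin p} (h : g.1 i j ≠ 0)
    (h' : g.1 i' j ≠ 0) : i = i' := by
  obtain ⟨k, d, -, e⟩ := hg
  simp only [e, mon, of_apply, ne_eq, ite_eq_right_iff, Classical.not_imp] at h h'
  exact h.1.trans h'.1.symm

theorem card_W : Nat.card (W p F) = p * Nat.card {a : F // a ^ p = 1} ^ p := by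
  have h0 : ∀ d : Fin p → {a : F // a ^ p = 1}, ∀ i, (d i).1 ≠ 0 := fun d i =>
    ne_zero_pow (NeZero.ne p) (by simp [(d i).2])
  let f : Fin p × (Fin p → {a : F // a ^ p = 1}) → W p F := fun x =>
    ⟨(IsUnit.of_mul_eq_one (a := mon x.1 fun i => (x.2 i).1) (mon (-x.1) fun j => (x.2 (j + -x.1)).1⁻¹) (by
      rw [mon_mul, neg_add_cancel, mon_zero, ← diagonal_one]
      exact congrArg _ (funext fun j => mul_inv_cancel₀ (h0 _ _)))).unit, x.1, _,
      fun i => (x.2 i).2, rfl⟩
  refine (Nat.card_eq_of_bijective f ⟨fun x y e => ?_, ?_⟩).symm.trans (by simp [Nat.card_fun])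
  · have := mon_inj (h0 x.2 0) (congrArg (fun g : W p F => g.1.1) e)
    exact Prod.ext this.1 (funext fun i => Subtype.ext (congrFun this.2 i))
  · rintro ⟨g, k, d, h1, h2⟩
    exact ⟨(k, fun i => ⟨d i, h1 i⟩), Subtype.ext (Units.ext h2.symm)⟩

theorem sum_ne {k : Fin p} (hk : addOrderOf k = p) {d : Fin p → F} (hd : ∀ i, d i ^ p = 1) {a : F}
    (ha : a ≠ 0) (i j : Fin p) : (∑ n ∈ range p, (a • mon k d) ^ n) i j ≠ 0 := by
  obtain ⟨n, hn, e⟩ : ∃ n ∈ range p, n • k = i - j := by
    have h1 : AddSubgroup.zmultiples k = ⊤ := (AddSubgroup.card_eq_iff_eq_top _).1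
      (by rw [Nat.card_zmultiples, hk]; simp)
    have := mem_zmultiples_iff_mem_range_addOrderOf.1 (h1 ▸ AddSubgroup.mem_top (i - j))
    simpa [hk] using this
  rw [Matrix.sum_apply, sum_eq_single_of_mem n hn fun m hm h => ?_]
  · obtain ⟨e', h1, h2⟩ := mon_pow k hd n
    rw [smul_pow, h2]
    simpa [mon, e, ha] using ne_zero_pow (NeZero.ne p) (show e' j ^ p ≠ 0 by simp [h1])
  · obtain ⟨e', -, h2⟩ := mon_pow k hd m
    have h3 : i ≠ j + m • k := fun h3 => h (nsmul_injOn_Iio_addOrderOf (x := k)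
      (by simpa [hk] using hm) (by simpa [hk] using hn) (by simp [e, h3]))
    rw [smul_pow, h2]
    simp [mon, h3]

theorem not_norm (h3 : 3 ≤ p) {ω : F} (h0 : ω ^ p = 1) (h1 : ω ≠ 1) {g : GL (Fin p) F}
    (hg : ∀ i, g.1 i 0 ≠ 0) : ∃ r ∈ W p F, g * r * g⁻¹ ∉ W p F := by
  have hr : ∀ i : Fin p, (if i = 0 then ω else 1) ^ p = 1 := fun i => by split_ifs <;> simp [h0]
  let r : GL (Fin p) F := GeneralLinearGroup.mkOfDetNeZero (diagonal fun i => if i = 0 then ω else 1)
    (by rw [det_diagonal]; exact prod_ne_zero_iff.2 fun i _ => ne_zero_pow (NeZero.ne p) (by simp [hr]))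
  refine ⟨r, ⟨0, _, hr, (mon_zero _).symm⟩, fun h => ?_⟩
  obtain ⟨j, hj⟩ : ∃ j, (g⁻¹).1 0 j ≠ 0 := by
    by_contra! e
    have := congrFun (congrFun g.inv_mul 0) 0
    simp only [mul_apply, e, zero_mul, sum_const_zero, one_apply_eq] at this
    exact zero_ne_one this
  have h2 : ∀ i, i ≠ j → (g * r * g⁻¹).1 i j ≠ 0 := fun i hi => by
    have h4 : r.1 = 1 + single 0 0 (ω - 1) := by
      ext a b
      simp only [r, GeneralLinearGroup.val_mkOfDetNeZero, diagonal_apply, Matrix.add_apply, one_apply,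
        single_apply]
      by_cases h5 : a = b
      · subst h5
        by_cases h6 : a = 0 <;> simp [h6, eq_comm]
      · rw [if_neg h5, if_neg h5, if_neg (fun h => h5 (h.1.symm.trans h.2)), add_zero]
    rw [Units.val_mul, Units.val_mul, h4, mul_add, add_mul, mul_one, g.mul_inv, Matrix.add_apply,
      one_apply_ne hi, zero_add, mul_apply, sum_eq_single 0 (fun b _ hb => by
        rw [mul_single_apply_of_ne _ _ _ _ _ hb, zero_mul]) (by simp), mul_single_apply_same]
    exact mul_ne_zero (mul_ne_zero (hg i) (sub_ne_zero.2 h1)) hj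
  obtain ⟨i, i', h4, h5, h6⟩ : ∃ i i', i ≠ i' ∧ i ≠ j ∧ i' ≠ j := by
    obtain ⟨i, hi, i', hi', h⟩ := one_lt_card.1 (show 1 < #(univ.erase j) by simp; omega)
    exact ⟨i, i', h, ne_of_mem_erase hi, ne_of_mem_erase hi'⟩
  exact h4 (W.col h (h2 i h5) (h2 i' h6))

/-- Let p be an odd prime and F a finite field with q elements such that p divides q - 1 but p² does not. Then GL(p, F) has a Sylow p-subgroup Q such that every element of p-power order lies in some Sylow p-subgroup other than Q (a redundant Sylow p-subgroup). -/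
theorem result {F : Type*} [Field F] [Fintype F] (p : ℕ) [Fact p.Prime]
    (hp : p ≠ 2) (h1 : p ∣ Fintype.card F - 1) (h2 : ¬ p ^ 2 ∣ Fintype.card F - 1) :
    ∃ Q : Sylow p (Matrix.GeneralLinearGroup (Fin p) F), ∀ x : Matrix.GeneralLinearGroup (Fin p) F,
      (∃ k : ℕ, orderOf x = p ^ k) → ∃ P : Sylow p (Matrix.GeneralLinearGroup (Fin p) F), P ≠ Q ∧ x ∈ P := by
  have pp : p.Prime := Fact.out
  have : NeZero p := ⟨pp.ne_zero⟩
  have h3 : 3 ≤ p := by have := pp.two_le; omega
  have hq := Fintype.one_lt_card (α := F)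
  have hc : Nat.card {a : F // a ^ p = 1} = p := by
    rw [Unitary.card_pow_eq_one pp.ne_zero, Nat.card_eq_fintype_card, Nat.gcd_eq_right h1]
  have hpq : ¬ p ∣ Fintype.card F := fun h => pp.one_lt.ne' (Nat.dvd_one.1 (by
    simpa [Nat.sub_sub_self hq.le] using Nat.dvd_sub h h1))
  have hv : padicValNat p (Fintype.card F - 1) = 1 := le_antisymm
    (Nat.lt_succ_iff.1 (not_le.1 fun h => h2 ((padicValNat_dvd_iff_le (by omega)).2 h)))
    (one_le_padicValNat_of_dvd (by omega) h1)
  let Q : Sylow p (GL (Fin p) F) := Sylow.ofCard (W p F) (by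
    rw [card_W, hc, ← pow_succ', ← (unipGL (Fin.val : Fin p → ℕ)).card_mul_index, card_unipGL_fin,
      index_unipGL_fin]
    have h4 : ∀ i, Fintype.card F ^ (i + 1) - 1 ≠ 0 := fun i =>
      Nat.sub_ne_zero_of_lt (Nat.one_lt_pow i.succ_ne_zero hq)
    rw [Nat.factorization_mul (by positivity) (prod_ne_zero_iff.2 fun i _ => h4 i),
      Nat.factorization_prod fun i _ => h4 i, Nat.factorization_pow]
    simp only [Finsupp.add_apply, Finsupp.smul_apply, Nat.factorization_eq_zero_of_not_dvd hpq,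
      smul_zero, zero_add, Finsupp.finset_sum_apply, Nat.factorization_def _ pp]
    have h5 : ∀ i, padicValNat p (Fintype.card F ^ (i + 1) - 1) = 1 + padicValNat p (i + 1) := fun i => by
      simpa [hv] using padicValNat.pow_sub_pow (pp.odd_of_ne_two hp) hq h1 hpq i.succ_ne_zero
    obtain ⟨n, rfl⟩ : ∃ n, p = n + 1 := ⟨p - 1, by omega⟩
    simp only [h5, sum_add_distrib, sum_range_succ, padicValNat_self]
    rw [sum_eq_zero (f := fun i => padicValNat (n + 1) (i + 1)) fun i hi =>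
      padicValNat.eq_zero_of_not_dvd (Nat.not_dvd_of_pos_of_lt i.succ_pos (by simpa using hi))]
    simp)
  have hQ : ∀ g, g ∈ Q ↔ g ∈ W p F := fun _ => Iff.rfl
  obtain ⟨ω, h0, hω⟩ : ∃ ω : F, ω ^ p = 1 ∧ ω ≠ 1 := by
    have : Nontrivial {a : F // a ^ p = 1} := Finite.one_lt_card_iff_nontrivial.1 (by omega)
    obtain ⟨a, ha⟩ := exists_ne (⟨1, one_pow p⟩ : {a : F // a ^ p = 1})
    exact ⟨a, a.2, fun e => ha (Subtype.ext e)⟩
  refine ⟨Q, fun x ⟨k, hk⟩ => ?_⟩
  have hs : ∀ s : GL (Fin p) F, s ^ p = 1 → Commute x s → s ∉ W p F ∨ x ∉ W p F →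
      ∃ P : Sylow p (GL (Fin p) F), P ≠ Q ∧ x ∈ P := fun s e1 e2 e3 => by
    obtain ⟨P, hP⟩ := (IsPGroup.to_sup_of_normal_right' (IsPGroup.of_card (Nat.card_zpowers x ▸ hk))
      (IsPGroup.of_card_dvd_pow (n := 1) (by
        rw [Nat.card_zpowers, pow_one]; exact orderOf_dvd_of_pow_eq_one e1))
      (zpowers_le.2 (centralizer_le_normalizer _ (by
        rintro _ ⟨i, rfl⟩; exact (e2.zpow_right i).symm)))).exists_le_sylow
    refine ⟨P, ?_, hP (mem_sup_left (mem_zpowers x))⟩
    rintro rfl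
    exact e3.elim (· (hP (mem_sup_right (mem_zpowers s)))) (· (hP (mem_sup_left (mem_zpowers x))))
  have hg : ∀ g : GL (Fin p) F, g⁻¹ * x * g ∈ W p F → (∃ r ∈ W p F, g * r * g⁻¹ ∉ W p F) →
      ∃ P : Sylow p (GL (Fin p) F), P ≠ Q ∧ x ∈ P := fun g e1 ⟨r, e2, e3⟩ =>
    ⟨g • Q, fun e => e3 ((hQ _).1 (e ▸ smul_mem_pointwise_smul _ (MulAut.conj g) _ e2)), by
      have := smul_mem_pointwise_smul _ (MulAut.conj g) (W p F) e1
      rwa [show MulAut.conj g • (g⁻¹ * x * g) = x by simp [mul_assoc]] at this⟩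
  have hE : ∀ E : Matrix (Fin p) (Fin p) F, E * E = E → Commute x.1 E → ∀ {i i' j : Fin p}, i ≠ i' →
      (1 + (ω - 1) • E) i j ≠ 0 → (1 + (ω - 1) • E) i' j ≠ 0 →
      ∃ P : Sylow p (GL (Fin p) F), P ≠ Q ∧ x ∈ P := fun E e1 e2 i i' j e3 e4 e5 => by
    have h4 : ∀ n : ℕ, (1 + (ω - 1) • E) ^ n = 1 + (ω ^ n - 1) • E := fun n => by
      induction n with
      | zero => simp
      | succ n ih =>
        simp only [pow_succ, ih, add_mul, mul_add, one_mul, mul_one, smul_mul_smul_comm, e1, add_assoc,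
          ← add_smul]
        congr 2
        ring
    have h5 : (1 + (ω - 1) • E) ^ p = 1 := by simp [h4, h0]
    exact hs (Units.ofPowEqOne _ p h5 pp.ne_zero) (Units.ext h5)
      (Units.ext ((Commute.one_right _).add_right (e2.smul_right _))) (Or.inl fun h => e3 (W.col h e4 e5))
  by_cases hx : x ∈ W p F
  swap
  · exact hs 1 (one_pow p) (Commute.one_right x) (Or.inr hx)
  obtain ⟨l, d, hd, e⟩ := id hx
  have d0 : ∀ i, d i ≠ 0 := fun i => ne_zero_pow pp.ne_zero (by simp [hd])
  rcases eq_or_ne l 0 with rfl | hl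
  · rw [mon_zero] at e
    by_cases hi : Function.Injective d
    · refine hg (GeneralLinearGroup.mkOfDetNeZero _ (det_vandermonde_ne_zero_iff.2 hi))
        ⟨1, 1, by simp, ?_⟩ (not_norm h3 h0 hω fun i => by simp)
      rw [mul_assoc, Units.val_mul, Units.inv_mul_eq_iff_eq_mul, Units.val_mul, e]
      ext i j
      rw [diagonal_mul]
      simp only [GeneralLinearGroup.val_mkOfDetNeZero, vandermonde_apply, mul_apply, mon,
        of_apply, Pi.one_apply, mul_ite, mul_one, mul_zero, sum_ite_eq', mem_univ, if_true]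
      rw [← pow_succ', Fin.val_add, Fin.val_one', Nat.add_mod_mod, ← pow_eq_pow_mod _ (hd i)]
    · simp only [Function.Injective, not_forall] at hi
      obtain ⟨i, j, hij, hne⟩ := hi
      refine hE (single i j 1 + single j j 1) (by simp [add_mul, mul_add, Ne.symm hne]) (by
        rw [e]
        ext a b
        simp only [diagonal_mul, mul_diagonal, Matrix.add_apply, single_apply]
        split_ifs with h4 h5 h5
        · exact (hne (h4.1.trans h5.1.symm)).elim
        · rw [← h4.1, ← h4.2, hij, mul_comm]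
        · rw [← h5.1, ← h5.2, mul_comm]
        · simp) hne (j := j) ?_ ?_
      · simp [hne, Ne.symm hne, sub_ne_zero.2 hω]
      · simpa [hne] using ne_zero_pow pp.ne_zero (show ω ^ p ≠ 0 by simp [h0])
  have ho : addOrderOf l = p := ((Nat.dvd_prime pp).1 (by simpa using addOrderOf_dvd_card (x := l))).resolve_left
    (by simpa using hl)
  have hp0 : (p : F) ≠ 0 := fun h => hpq (by
    obtain ⟨r, hr⟩ := CharP.exists F
    have := CharP.char_is_prime F r
    obtain rfl := (Nat.prime_dvd_prime_iff_eq this pp).1 ((CharP.cast_eq_zero_iff F r p).1 h)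
    exact prime_dvd_card_field r)
  by_cases hxp : x.1 ^ p = 1
  · have h4 : x.1 * ∑ n ∈ range p, x.1 ^ n = ∑ n ∈ range p, x.1 ^ n := by
      have := mul_geom_sum x.1 p
      rwa [hxp, sub_self, sub_mul, one_mul, sub_eq_zero] at this
    have h5 : ∀ m, x.1 ^ m * ∑ n ∈ range p, x.1 ^ n = ∑ n ∈ range p, x.1 ^ n := fun m => by
      induction m with
      | zero => simp
      | succ m ih => rw [pow_succ, mul_assoc, h4, ih]
    have h6 : ∀ i, i ≠ 0 → (1 + (ω - 1) • (p : F)⁻¹ • ∑ n ∈ range p, x.1 ^ n) i 0 ≠ 0 := fun i hi => by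
      have := sum_ne ho hd one_ne_zero i 0
      rw [one_smul, ← e] at this
      simpa [hi, hp0, sub_ne_zero.2 hω] using this
    obtain ⟨i, hi, i', hi', h⟩ := one_lt_card.1 (show 1 < #(univ.erase (0 : Fin p)) by simp; omega)
    refine hE _ ?_ ((Commute.sum_right _ _ _ fun n _ => (Commute.refl _).pow_right n).smul_right _)
      h (h6 i (ne_of_mem_erase hi)) (h6 i' (ne_of_mem_erase hi'))
    rw [smul_mul_smul_comm, sum_mul]
    simp only [h5, sum_const, card_range]
    rw [← Nat.cast_smul_eq_nsmul F, smul_smul, inv_mul_cancel_right₀ hp0]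
  obtain ⟨c, hc1, hc2⟩ := mon_pow l hd p
  rw [← e, show p • l = 0 by simpa only [ho] using addOrderOf_nsmul_eq_zero l, mon_zero] at hc2
  have h4 : ∀ j, c (j + l) = c j := fun j => by
    have h5 := congrFun (congrFun ((Commute.refl x.1).pow_left p).eq (j + l)) j
    rw [hc2, e] at h5
    simpa [mon, mul_comm, d0] using h5
  have h5 : ∀ j, c j = c 0 := fun j => by
    obtain ⟨n, rfl⟩ := mem_multiples_of_prime_card (G := Fin p) (p := p) (by simp) hl (g' := j)
    induction n with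
    | zero => simp
    | succ n ih => simp only [succ_nsmul, h4] at ih ⊢; exact ih
  have h6 : x.1 ^ p = c 0 • 1 := by rw [hc2, smul_one_eq_diagonal]; exact congrArg _ (funext h5)
  have h7 : c 0 + 1 ≠ 0 := fun h => hxp (by
    have h8 := hc1 0
    rw [eq_neg_of_add_eq_zero_left h] at h6 h8
    rw [(pp.odd_of_ne_two hp).neg_one_pow] at h8
    rw [h6, h8, one_smul])
  have h8 : IsUnit (∑ n ∈ range p, (-x.1) ^ n) := IsUnit.of_mul_eq_one ((c 0 + 1)⁻¹ • (1 - -x.1)) (by
    rw [mul_smul_comm, geom_sum_mul_neg, (pp.odd_of_ne_two hp).neg_pow, h6, sub_neg_eq_add,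
      add_comm (1 : Matrix _ _ F), ← one_smul F (1 : Matrix (Fin p) (Fin p) F), smul_smul, mul_one,
      ← add_smul, smul_smul, inv_mul_cancel₀ h7])
  refine hg h8.unit ?_ (not_norm h3 h0 hω fun i => ?_)
  · rwa [mul_assoc, show x * h8.unit = h8.unit * x from Units.ext
      (Commute.sum_right (range p) _ x.1 fun n _ => (Commute.refl x.1).neg_right.pow_right n).eq,
      inv_mul_cancel_left]
  · have := sum_ne ho hd (neg_ne_zero.2 one_ne_zero) i 0
    rwa [neg_one_smul, ← e] at this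

end Cfsg.Agent.S4358
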