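import Cfsg.Statements.S4363
import Cfsg.Agent.Lib.Tur.Main
import Cfsg.Agent.Lib.HH.Aut

set_option autoImplicit false
open Cfsg

namespace Cfsg.Agent.S4363

/-- Let G be a finite solvable group and σ an automorphism of G of prime order r not dividing the order of G, with fixed-point subgroup C. Then the Fitting height of G exceeds that of C by at most 2: if C has a chain of normal subgroups 1 = C₀ ≤ ⋯ ≤ Cₙ = C with nilpotent factors, then G has such a chain of length n + 2. -/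
theorem result {G : Type*} [Group G] [Finite G]
    (hG : Group.IsSolvable G) (σ : MulAut G) (r : ℕ) (hr : r.Prime) (hσ : orderOf σ = r) (hcop : ¬ r ∣ Nat.card G)
    (C : Subgroup G) (hC : ∀ g : G, g ∈ C ↔ σ g = g) (n : ℕ) (hn : (∃ F : Fin (n + 1) → Subgroup ↥C, F 0 = ⊥ ∧ F (Fin.last n) = ⊤ ∧ Monotone F ∧ (∀ i, (F i).Normal) ∧ ∀ i : Fin n, ∃ k : ℕ, (F i.succ).lowerCentralSeries k ≤ F i.castSucc)) :
    (∃ F : Fin ((n + 2) + 1) → Subgroup G, F 0 = ⊥ ∧ F (Fin.last (n + 2)) = ⊤ ∧ Monotone F ∧ (∀ i, (F i).Normal) ∧ ∀ i : Fin (n + 2), ∃ k : ℕ, (F i.succ).lowerCentralSeries k ≤ F i.castSucc) := by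
  open Lib.BG Lib.PGroup Lib.HH Subgroup in
  have hn' : (holG G).Normal := ⟨by
    rintro _ ⟨x, -, rfl⟩ g
    exact ⟨(g * holL G x * g⁻¹).left, trivial, SemidirectProduct.ext rfl (by simp)⟩⟩
  have h1 : holG G ⊓ 𝐂[holR G σ] ≤ C.map (holL G) := by
    rintro _ ⟨⟨x, -, rfl⟩, hx⟩
    exact ⟨x, (hC x).2 (hol_comm_iff.1 (mem_cent1.1 hx).symm), rfl⟩
  have h2 : res n (C.map (holL G)) = ⊥ :=
    (res_map_eq_bot_iff holL_injective C n).2 ((res_top_eq_bot_iff C n).1 ((chain_iff_res n).1 hn))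
  refine (chain_iff_res (n + 2)).2 ((res_holG_eq_bot_iff _).1 (Lib.Tur.res_eq_bot hr n _ _ (holG G) (holR G σ) rfl
    (by rw [← map_pow, ← hσ, pow_orderOf_eq_one, map_one]) (by rw [card_holG]; exact hr.coprime_iff_not_dvd.2 hcop)
    (sol_map _ (Group.isSolvable_of_surjective (f := (topEquiv (G := G)).symm.toMonoidHom) topEquiv.symm.surjective))
    (eq_bot_mono h2 (res_mono h1 n))))

end Cfsg.Agent.S4363
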