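import Cfsg.Statements.S4371
import Cfsg.Agent.S3188
import Cfsg.Agent.Lib.CIT.Norm
import Cfsg.Agent.Lib.JR.Setup
import Cfsg.Agent.Lib.Linear.Descent
import Cfsg.Agent.Lib.Spec.PSL2
import Cfsg.Agent.Lib.FGS.Sylow

set_option autoImplicit false
open Cfsg

namespace Cfsg.Agent.S4371

open Subgroup Lib Lib.BG Lib.CIT Lib.Spec Lib.Linear
open scoped MatrixGroups

def Tri (S : Set ℕ) : Prop :=
  ∀ p : ℕ, p.Prime → ∀ a ∈ S, ∀ b ∈ S, ∀ c ∈ S, p ∣ a → p ∣ b → p ∣ c → a = b ∨ b = c ∨ a = c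

theorem Tri.mono {S T : Set ℕ} (h : Tri T) (hS : S ⊆ T) : Tri S :=
  fun p hp a ha b hb c hc => h p hp a (hS ha) b (hS hb) c (hS hc)

section
variable {G : Type*} [Group G] [Finite G] (h : Tri (sp G)) {n s : ℕ}
include h

theorem Tri.len (hn : n ∈ sp G) : n.primeFactorsList.length ≤ 2 := by
  have h1 := Nat.prod_primeFactorsList (pos_of_mem_sp hn).ne'
  have h2 := fun p => Nat.prime_of_mem_primeFactorsList (n := n) (p := p)
  match e : n.primeFactorsList with
  | [] | [_] | [_, _] => simp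
  | a :: b :: c :: l =>
    rw [e] at h1 h2
    have ha := h2 a (by simp)
    have hb := (h2 b (by simp)).one_lt
    have hc := (h2 c (by simp)).one_lt
    have := h a ha a (mem_sp_of_dvd hn ⟨_, h1.symm⟩) (a * b) (mem_sp_of_dvd hn ⟨c * l.prod, by
      simp [← h1, mul_assoc]⟩) (a * b * c) (mem_sp_of_dvd hn ⟨l.prod, by simp [← h1, mul_assoc]⟩)
      dvd_rfl (dvd_mul_right _ _) ((dvd_mul_right _ _).mul_right _)
    have h3 : a < a * b := lt_mul_of_one_lt_right ha.pos hb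
    have h4 : a * b < a * b * c := lt_mul_of_one_lt_right (by omega) hc
    omega

theorem Tri.two (hs : s.Prime) (h2 : 2 * s ∈ sp G) (hn : n ∈ sp G) (hd : s ∣ n) : n = s ∨ n = 2 * s := by
  have := h s hs s (mem_sp_of_dvd h2 (dvd_mul_left _ _)) _ h2 n hn dvd_rfl (dvd_mul_left _ _) hd
  have := hs.pos
  omega

theorem Tri.even (hs : s.Prime) (h2 : 2 * s ∈ sp G) (hn : n ∈ sp G) (hd : 2 ∣ n) : n = 2 ∨ n = 2 * s := by
  have := h 2 Nat.prime_two 2 (mem_sp_of_dvd h2 (dvd_mul_right _ _)) _ h2 n hn dvd_rfl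
    (dvd_mul_right _ _) hd
  have := hs.two_le
  omega

/-- the odd core is trivial -/
theorem Tri.core (hG : ¬ Group.IsSolvable G) (S : Sylow 2 G) (hS : IsElementaryAbelian 2 (S : Subgroup G))
    (hC : ∀ C : Subgroup G, C.Normal → Group.IsSolvable C → C ≤ oddCore G) : oddCore G = ⊥ := by
  by_contra h0
  obtain ⟨V, hV, hVO⟩ := Core.exists_isMinNormal_le inferInstance h0
  have := hV.normal
  have hO := (Core.odd_card_oddCore G).of_dvd_nat (card_dvd_of_le hVO)
  obtain ⟨p, hp, hVp⟩ := hV.isElementaryAbelian (PF.isSolvable_of_odd _ hO)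
  have hv : ∀ v ∈ V, v ≠ 1 → orderOf v = p := fun v hv v1 =>
    have := Fact.mk hp
    orderOf_eq_prime (hVp.2 v hv) v1
  have h2 : ∀ a ∈ S, a ≠ 1 → orderOf a = 2 := fun a ha => orderOf_eq_prime (hS.2 a ha)
  have hp2 : p ≠ 2 := by
    obtain ⟨v, hv', v1⟩ := exists_ne_one hV.ne_bot
    rintro rfl
    exact hO.not_two_dvd_nat (hv v hv' v1 ▸ orderOf_dvd_natCard _ hv')
  have cop : ∀ {q : ℕ}, q.Prime → q ≠ p → q.Coprime p := fun hq => (Nat.coprime_primes hq hp).2
  obtain ⟨s, hs, y, hy, y1, y2⟩ : ∃ s : ℕ, s.Prime ∧ ∃ y ∈ 𝐍((S : Subgroup G)), (∃ k, y ^ s ^ k = 1) ∧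
      y ∉ 𝐂((S : Subgroup G)) := by
    by_contra! h1
    obtain ⟨N, _, h1, h2⟩ := Transfer.hasNormalPComplement_iff_exists.1
      (Transfer.hasNormalPComplement_of_normalizer_le_centralizer S (Frobenius.le_of_forall_pelt h1))
    exact hG (Core.isSolvable_of_normal_quotient N
      (Coprime.isSolvable_of_not_two_dvd (Core.coprime_iff_not_dvd.1 h1)) (have := h2.isNilpotent; inferInstance))
  have hs2 : s ≠ 2 := by
    rintro rfl
    obtain ⟨k, y1⟩ := y1
    exact y2 (abelian_iff.1 hS.1 (FGS.mem_sylow_of_mem_normalizer S y1 hy))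
  obtain ⟨k, y3, y4⟩ := PGroup.exists_pow_not_mem_pow_mem y1 y2
  obtain ⟨j, y1⟩ := y1
  replace y1 : orderOf (y ^ s ^ k) ∣ s ^ j := (orderOf_pow_dvd _).trans (orderOf_dvd_of_pow_eq_one y1)
  replace hy := pow_mem hy (s ^ k)
  generalize y ^ s ^ k = z at *
  have so := hs.odd_of_ne_two hs2
  have zo := (so.pow (n := j)).of_dvd_nat y1
  have hz := zpowers_le_of_mem hy
  have hK := Sig.comm_inf_cent_eq_bot hS.1 hz (by
    obtain ⟨m, hm⟩ := IsPGroup.iff_card.1 S.2
    rw [Nat.card_zpowers, hm]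
    exact (Nat.coprime_two_right.2 zo).pow_right _)
  have hKS := comm_le_left hz
  have hzK : z ∈ 𝐍(⁅(S : Subgroup G), zpowers z⁆) := norm_comm hz le_normalizer (mem_zpowers z)
  obtain ⟨a, ha, a1⟩ := exists_ne_one (A := ⁅(S : Subgroup G), zpowers z⁆) fun e =>
    y3 (commutator_eq_bot_iff_le_centralizer.1 ((commutator_comm _ _).trans e) (mem_zpowers z))
  have hKV : z ∈ V → ⁅(S : Subgroup G), zpowers z⁆ ≤ V := fun h1 =>
    (commutator_mono le_rfl (zpowers_le_of_mem h1)).trans (commutator_le_right _ _)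
  generalize ⁅(S : Subgroup G), zpowers z⁆ = K at *
  have a2 := h2 a (hKS ha) a1
  have z1 : z ≠ 1 := fun e => y3 (e ▸ one_mem _)
  have hd : ∀ x : G, orderOf x ∣ s ^ j → x ≠ 1 → s ∣ orderOf x := fun x h1 x1 => by
    obtain ⟨_ | i, -, e⟩ := (Nat.dvd_prime_pow hs).1 h1
    exacts [absurd (orderOf_eq_one_iff.1 e) x1, e ▸ dvd_pow_self s i.succ_ne_zero]
  have zs : z ^ s = 1 := by
    by_contra h1
    rcases h.two hs (mul_mem_sp_of_commute' (y4 a (hKS ha)) Nat.prime_two hs hs2.symm a2.symm.dvd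
      (hd _ ((orderOf_pow_dvd _).trans y1) h1))
      (orderOf_mem_sp z) (hd _ y1 z1) with e | e
    · exact h1 (e ▸ pow_orderOf_eq_one z)
    · exact zo.not_two_dvd_nat ⟨_, e⟩
  have := Fact.mk hs
  have zs' := orderOf_eq_prime zs z1
  have hf : ∀ i, 0 < i → i ≤ s - 1 → K ⊓ 𝐂[z ^ i] = ⊥ := fun i i0 i1 => eq_bot_mono hK
    (inf_le_inf_left _ ((cent_zpowers _).ge.trans (centralizer_le (zpowers_le_of_mem
      (mem_zpowers_pow_iff.2 (by
        rw [zs']; exact (Nat.coprime_of_lt_prime i0.ne' (by omega) hs).symm))))))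
  have h2p : 2 * p ∈ sp G := by
    by_contra h1
    have := Frobenius.eq_of_inv_of_semiReg hV.ne_bot le_normalizer_of_normal (fun x hx x1 =>
      eq_bot_iff.2 fun v hv' => by_contra fun v1 => h1 (mul_mem_sp_of_commute' (mem_cent1.1 hv'.2).symm
        Nat.prime_two hp hp2.symm (h2 x (hKS hx) x1).symm.dvd (hv v hv'.1 v1).symm.dvd))
      (conj_mem_of_norm hzK ha) ha (by rw [Inv.orderOf_conj', a2]) a2
    exact a1 (hK.le ⟨ha, (cent_zpowers z).ge (mem_cent1.2 (mul_inv_eq_iff_eq_mul.1 this).symm)⟩)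
  obtain ⟨v, hv', h1⟩ : ∃ v ∈ V, (v * z) ^ (s - 1 + 1) ≠ z ^ (s - 1 + 1) := by
    by_contra! h1
    have h3 := cent_of_norm hVp.1 hzK hf (by
      obtain ⟨m, hm⟩ := IsPGroup.iff_card.1 (pgroup_of_le S.2 hKS)
      rw [hm]
      exact (Nat.coprime_two_left.2 hO).pow_left _) h1 ha
    refine (Core.odd_card_oddCore G).not_two_dvd_nat (a2 ▸ orderOf_dvd_natCard _ (hC _ inferInstance
      (Char.isSolvable_of_forall_prime_dvd _ 2 p fun q hq hd => by_contra fun h4 => ?_) h3))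
    have := Fact.mk hq
    obtain ⟨c, hc⟩ := exists_prime_orderOf_dvd_card' q hd
    obtain ⟨v, hv', v1⟩ := exists_ne_one hV.ne_bot
    have := h.two hp h2p (mul_mem_sp_of_commute' (c.2 v hv').symm hq hp (not_or.1 h4).2
      (by rw [Subgroup.orderOf_coe, hc]) (hv v hv' v1).symm.dvd) (dvd_mul_left _ _)
    have := hq.two_le
    have := hp.pos
    rcases ‹_ ∨ _› with e | e
    · nlinarith
    · exact h4 (.inl (Nat.eq_of_mul_eq_mul_right this e))
  rw [Nat.sub_add_cancel hs.pos, zs] at h1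
  have h3 : ∀ n, (v * z) ^ n ∈ V ↔ z ^ n ∈ V := fun n => by
    rw [← QuotientGroup.eq_one_iff, ← QuotientGroup.eq_one_iff, QuotientGroup.mk_pow, QuotientGroup.mk_pow,
      QuotientGroup.mk_mul, (QuotientGroup.eq_one_iff v).2 hv', one_mul]
  have h4 := hv _ ((h3 s).2 (zs ▸ V.one_mem)) h1
  rcases h.two hp h2p (orderOf_mem_sp (v * z)) (h4 ▸ orderOf_pow_dvd _) with e | e
  · by_cases e' : s = p
    · exact h1 (e' ▸ e ▸ pow_orderOf_eq_one _)
    · exact hp2 ((hv a (hKV (zpowers_le_of_mem ((h3 p).1 (e ▸ pow_orderOf_eq_one (v * z) ▸ V.one_mem))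
        (mem_zpowers_pow_iff.2 (by rw [zs']; exact (cop hs e').symm))) ha) a1).symm.trans a2)
  · have : 2 * p ∣ s * p := e ▸ orderOf_dvd_of_pow_eq_one (by rw [pow_mul, ← h4, pow_orderOf_eq_one])
    exact so.not_two_dvd_nat (Nat.dvd_of_mul_dvd_mul_right hp.pos this)

omit h in
theorem exists_field {F : Type*} [Field F] [Finite F] (h4 : 4 ≤ Nat.card F) {N : Subgroup G} [N.Normal]
    (e : N ≃* PSL(2, F)) (hC : 𝐂(N) = ⊥) (h2 : JR.Ab2 G) (hN : N ≠ ⊤) : ∃ (y : G) (τ : F ≃+* F),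
    (orderOf y).Prime ∧ orderOf y ≠ 2 ∧ orderOf τ = orderOf y ∧
      ∀ s : SL(2, F), s.1.map τ = s.1 → Commute y (e.symm s) := by
  let α := (MulAut.congr e).toMonoidHom.comp (MulAut.conjNormal (H := N))
  have hα : Function.Injective α := (MulAut.congr e).injective.comp
    ((injective_iff_map_eq_one _).2 fun x hx => hC.le fun n hn => (mul_inv_eq_iff_eq_mul.1
      (congrArg Subtype.val (DFunLike.congr_fun hx (⟨n, hn⟩ : N)) :)).symm)
  have h1 : ∀ s, α (e.symm s) = MulAut.conj s := fun s => by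
    ext t
    simp [α, MulAut.conjNormal_val]
  have := PSL2.isSimpleGroup_psl h4
  have := e.isSimpleGroup
  have hs : ∀ K : Subgroup N, K.Normal → Group.IsSolvable K → K = ⊥ := fun K hK hs =>
    hK.eq_bot_or_eq_top.resolve_right fun h => PSL2.not_isSolvable_psl h4
      (have := Core.isSolvable_top_iff.1 (h ▸ hs); Group.isSolvable_of_surjective (f := e.toMonoidHom) e.surjective)
  have h3 : ∀ x : G, ∀ k, x ^ 2 ^ k = 1 → x ∈ N := fun x k hx => by
    obtain ⟨n, hn, h3⟩ := h2.exists_inner (N := N) (hs _ inferInstance (abelian_sol inferInstance))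
      (hs _ inferInstance (PF.isSolvable_of_odd _ (Core.odd_card_oddCore N)))
      (le_normalizer_of_normal (mem_top x)) hx
    exact inv_mul_eq_one.1 (hC.le h3) ▸ hn
  obtain ⟨p, hp, x, -, ⟨k, x1⟩, x2⟩ : ∃ p : ℕ, p.Prime ∧ ∃ x ∈ (⊤ : Subgroup G), (∃ k, x ^ p ^ k = 1) ∧
      x ∉ N := by
    by_contra! h4
    exact hN (eq_top_iff.2 (Frobenius.le_of_forall_pelt h4))
  have x3 : x ^ 2 ^ 1 ∉ N := mt (Inv.mem_of_odd_of_two_pow_mem (((hp.odd_of_ne_two (by
    rintro rfl; exact x2 (h3 x k x1))).pow).of_dvd_nat (orderOf_dvd_of_pow_eq_one x1))) x2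
  obtain ⟨g, σ, hg⟩ := aut_PSL_decomp_two (α x)
  obtain ⟨s, hs⟩ : innDiag (g * fieldGL σ g) ∈ Inn _ := innDiag_mem_inn_iff.2 (by
    rw [map_mul, det_fieldGL]
    generalize Matrix.GeneralLinearGroup.det g = u
    have := Fintype.ofFinite F
    obtain ⟨q, _, -, hq, -⟩ := FiniteField.card' F
    have := Fact.mk hq
    obtain ⟨k, hk⟩ := exists_ringAut_eq_pow q σ
    rcases hq.eq_two_or_odd' with rfl | ho
    · obtain ⟨v, hv⟩ := FiniteField.isSquare_of_char_two (ringChar.eq F 2) (u * unitsAut σ u).1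
      exact ⟨Units.mk0 v fun e => (u * unitsAut σ u).ne_zero (by rw [hv, e, mul_zero]),
        Units.ext (by simpa [sq] using hv.symm)⟩
    · obtain ⟨m, hm⟩ := ho.pow (n := k)
      exact ⟨u ^ (m + 1), Units.ext (by simp [hk, hm]; ring)⟩)
  have h5 : α ((e.symm s : G)⁻¹ * x ^ 2 ^ 1) = fieldAut (σ * σ) := by
    rw [map_mul, map_inv, h1, hs, pow_one, sq, map_mul α, hg, map_mul, map_mul, mul_assoc (innDiag g),
      ← mul_assoc (fieldAut σ), fieldAut_mul_innDiag]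
    group
  obtain ⟨j, hj⟩ := Frobenius.exists_zpow_prime (x := (e.symm s : G)⁻¹ * x ^ 2 ^ 1)
    fun h => x3 (inv_mul_eq_one.1 h ▸ (e.symm s).2)
  replace h5 := (map_pow α _ j).trans ((congrArg (· ^ j) h5).trans (map_pow _ _ j).symm)
  generalize ((e.symm s : G)⁻¹ * x ^ 2 ^ 1) ^ j = y at *
  generalize (σ * σ) ^ j = τ at *
  have h6 : orderOf τ = orderOf y := by
    rw [← orderOf_injective _ hα, h5, orderOf_injective _ fieldAut_injective]
  refine ⟨y, τ, hj, fun h7 => ?_, h6, fun t ht => hα ?_⟩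
  · obtain ⟨n, hn⟩ := e.symm.surjective ⟨y, h3 y 1 (orderOf_dvd_iff_pow_eq_one.1 h7.dvd)⟩
    have := h1 n
    rw [hn, h5] at this
    rw [fieldAut_mem_range_innDiag (inn_le_range_innDiag ⟨n, this.symm⟩), orderOf_one] at h6
    omega
  · rw [map_mul, map_mul, h1, h5]
    ext u
    simp [fieldAut_mk, show fieldSL τ t = t from Subtype.ext ht]

theorem Tri.eq_top {F : Type*} [Field F] [Fintype F] (hF : (Fintype.card F % 8 = 3 ∨ Fintype.card F % 8 = 5) ∧
    5 ≤ Fintype.card F ∨ ∃ n : ℕ, 2 ≤ n ∧ Fintype.card F = 2 ^ n) (h4 : 4 ≤ Nat.card F) {N : Subgroup G} [N.Normal]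
    (e : N ≃* PSL(2, F)) (hC : 𝐂(N) = ⊥) (h2 : JR.Ab2 G) : N = ⊤ := by
  by_contra hN
  obtain ⟨y, τ, y1, y2, y3, y4⟩ := exists_field h4 e hC h2 hN
  have k : ∀ (p : ℕ) (s : SL(2, F)), p.Prime → p ≠ orderOf y → s.1.map τ = s.1 → s.1 1 0 = 1 →
      (∃ r : F, r ^ Fintype.card (Fin 2) = 1 ∧ Matrix.scalar _ r = s.1 ^ p) → p * orderOf y ∈ sp G := fun p s hp h1 h3 h5 h6 =>
    mul_mem_sp_of_commute' (y4 s h3).symm hp y1 h1 (by
      have := Fact.mk hp
      rw [Subgroup.orderOf_coe, MulEquiv.orderOf_eq, orderOf_eq_prime (p := p)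
        ((QuotientGroup.eq_one_iff _).2 (Matrix.SpecialLinearGroup.mem_center_iff.2 h6)) fun e => ?_]
      obtain ⟨r, -, e⟩ := Matrix.SpecialLinearGroup.mem_center_iff.1 ((QuotientGroup.eq_one_iff _).1 e)
      simp [← e] at h5) dvd_rfl
  have h5 := k 2 ⟨!![0, -1; 1, 0], by simp⟩ Nat.prime_two y2.symm (by
    ext i j; fin_cases i <;> fin_cases j <;> simp) rfl
      ⟨-1, by simp, by ext i j; fin_cases i <;> fin_cases j <;> simp [sq]⟩
  have h6 : orderOf y = 3 := by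
    by_contra h6
    have := h.two y1 h5 (k 3 ⟨!![0, -1; 1, -1], by simp⟩ Nat.prime_three (Ne.symm h6) (by
      ext i j; fin_cases i <;> fin_cases j <;> simp) rfl
        ⟨1, by simp, by ext i j; fin_cases i <;> fin_cases j <;> simp [pow_three]⟩) (dvd_mul_left _ _)
    have := y1.pos
    omega
  have h7 := card_fixField_pow τ
  rw [y3, h6, Nat.card_eq_fintype_card (α := F)] at h7
  rw [h6] at h5
  have h8 := ((sp_congr e).ge.trans (sp_subgroup N))
  suffices Fintype.card F ≤ 13 ∧ Fintype.card F ≠ 8 by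
    rw [Nat.card_eq_fintype_card] at h4
    generalize Nat.card (fixField τ) = c at h7
    rcases le_or_gt 3 c with h9 | h9
    · have := Nat.pow_le_pow_left h9 3
      omega
    · interval_cases c <;> omega
  rcases hF with hF | ⟨n, -, hF⟩
  · obtain ⟨⟨a, ha⟩, b, hb⟩ := exists_ord (F := F) (Nat.odd_iff.2 (by omega))
    have := h.even Nat.prime_three h5 (h8 (orderOf_mem_sp a))
    have := h.even Nat.prime_three h5 (h8 (orderOf_mem_sp b))
    omega
  · have := Sz.charP_of_card hF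
    rw [sp_psl2_even, Nat.card_eq_fintype_card] at h8
    have := h.two Nat.prime_three h5 (h8 (.inr (.inl dvd_rfl)))
    have := h.two Nat.prime_three h5 (h8 (.inr (.inr dvd_rfl)))
    have := hF ▸ not_dvd_two_pow Nat.prime_three (by norm_num) n
    omega

end

/-- Let G be a finite non-solvable group in which no prime divides three pairwise distinct element orders. Then one of the following holds, where 'a product of at most two primes' always counts primes with multiplicity: the quotient of G by its largest normal 2-subgroup is isomorphic to PSL(2, q) with q = 2ᶠ ≥ 4 and each of q + 1, q - 1 a product of at most two primes; G is isomorphic to PSL(2, q) with q > 5, q ≡ 3 or 5 (mod 8) and each of (q + 1)/2, (q - 1)/2 a product of at most two primes; G is isomorphic to PSL(2, 7), PSL(2, 9) or PSL(3, 4); or G is simple of order q²(q² + 1)(q - 1), the order of the Suzuki group Sz(q), where q = 2²ⁿ⁺¹ ≥ 8, and each of q - 1,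 q - r + 1, q + r + 1 (r = 2ⁿ⁺¹) is a product of at most two primes. -/
theorem result {G : Type*} [Group G] [Finite G]
    (hG : ¬ Group.IsSolvable G) (h3 : (∀ p : ℕ, p.Prime → ∀ a b c : G, orderOf a ≠ orderOf b → orderOf b ≠ orderOf c → orderOf a ≠ orderOf c → ¬ (p ∣ orderOf a ∧ p ∣ orderOf b ∧ p ∣ orderOf c))) :
    (∃ (F : Type) (_ : Field F) (_ : Fintype F), CharP F 2 ∧ 4 ≤ Fintype.card F ∧
        (Fintype.card F + 1).primeFactorsList.length ≤ 2 ∧ (Fintype.card F - 1).primeFactorsList.length ≤ 2 ∧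
        Nonempty (G ⧸ Cfsg.pCore 2 G ≃* Matrix.ProjectiveSpecialLinearGroup (Fin 2) F)) ∨
    (∃ (F : Type) (_ : Field F) (_ : Fintype F), 5 < Fintype.card F ∧ (Fintype.card F % 8 = 3 ∨ Fintype.card F % 8 = 5) ∧
        ((Fintype.card F + 1) / 2).primeFactorsList.length ≤ 2 ∧ ((Fintype.card F - 1) / 2).primeFactorsList.length ≤ 2 ∧
        Nonempty (G ≃* Matrix.ProjectiveSpecialLinearGroup (Fin 2) F)) ∨
    (∃ (F : Type) (_ : Field F) (_ : Fintype F), (Fintype.card F = 7 ∨ Fintype.card F = 9) ∧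
        Nonempty (G ≃* Matrix.ProjectiveSpecialLinearGroup (Fin 2) F)) ∨
    (∃ (F : Type) (_ : Field F) (_ : Fintype F), Fintype.card F = 4 ∧ Nonempty (G ≃* Matrix.ProjectiveSpecialLinearGroup (Fin 3) F)) ∨
    (∃ n : ℕ, 1 ≤ n ∧ IsSimpleGroup G ∧ Nat.card G = (2 ^ (2 * n + 1)) ^ 2 * ((2 ^ (2 * n + 1)) ^ 2 + 1) * (2 ^ (2 * n + 1) - 1) ∧
        (2 ^ (2 * n + 1) - 1).primeFactorsList.length ≤ 2 ∧ (2 ^ (2 * n + 1) - 2 ^ (n + 1) + 1).primeFactorsList.length ≤ 2 ∧
        (2 ^ (2 * n + 1) + 2 ^ (n + 1) + 1).primeFactorsList.length ≤ 2) := by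
  have h : Tri (sp G) := by
    rintro p hp _ ⟨a, rfl⟩ _ ⟨b, rfl⟩ _ ⟨c, rfl⟩ h1 h2 h4
    by_contra! h5
    exact h3 p hp a b c h5.1 h5.2.1 h5.2.2 ⟨h1, h2, h4⟩
  have k1 : ∀ {F : Type} [Field F] [Fintype F] {n : ℕ}, 2 ≤ n → Fintype.card F = 2 ^ n →
      (G ⧸ pCore 2 G ≃* PSL(2, F)) → ∃ (F : Type) (_ : Field F) (_ : Fintype F), CharP F 2 ∧
      4 ≤ Fintype.card F ∧ (Fintype.card F + 1).primeFactorsList.length ≤ 2 ∧
      (Fintype.card F - 1).primeFactorsList.length ≤ 2 ∧ Nonempty (G ⧸ pCore 2 G ≃* PSL(2, F)) :=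
    fun {F _ _ n} hn hF e => by
      have := Sz.charP_of_card hF
      have h1 := (sp_congr e).ge.trans (sp_quotient _)
      rw [sp_psl2_even, Nat.card_eq_fintype_card] at h1
      exact ⟨F, _, _, this, hF ▸ Nat.pow_le_pow_right two_pos hn, h.len (h1 (.inr (.inr dvd_rfl))),
        h.len (h1 (.inr (.inl dvd_rfl))), ⟨e⟩⟩
  have k2 : ∀ {F : Type} [Field F] [Fintype F], 4 ≤ Fintype.card F → (G ≃* PSL(2, F)) →
      Nonempty (G ⧸ pCore 2 G ≃* PSL(2, F)) := fun h4 e => by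
    have := PSL2.isSimpleGroup_psl (Nat.card_eq_fintype_card.trans_ge h4)
    have := e.isSimpleGroup
    obtain ⟨f⟩ := quot_pCore_equiv hG
    exact ⟨f.symm.trans e⟩
  have := Fintype.ofFinite (GaloisField 2 2)
  have h4 := GaloisField.card 2 2 two_ne_zero
  have k3 := fun {F : Type} [Field F] [Fintype F] (h5 : Fintype.card F = 5) (e : G ≃* PSL(2, F)) =>
    k1 le_rfl (Nat.card_eq_fintype_card.symm.trans h4) ((k2 (by omega) e).some.trans
      ((PSL2.equiv_psl_alt_five (.inr (Nat.card_eq_fintype_card.trans h5))).some.trans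
        (PSL2.equiv_psl_alt_five (.inl h4)).some.symm))
  have S : Sylow 2 G := default
  by_cases hc : ∀ s : ℕ, s.Prime → s ≠ 2 → 2 * s ∉ sp G
  · have cit := isCIT_of_sp hc
    have h8 : 8 ∉ sp G := fun h8 => by
      have := h.even Nat.prime_two (mem_sp_of_dvd h8 (by norm_num)) h8 (by norm_num)
      omega
    rcases cit.nonsolv hG with ⟨h1, ⟨F, _, _, n, h2, h4, ⟨e⟩⟩ | h2⟩ | ⟨-, ⟨F, _, _, h1, h2, ⟨e⟩⟩ |
      ⟨N, _, h1, F, _, _, h2, ⟨e⟩⟩ | h1⟩
    · exact .inl (k1 h2 h4 e)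
    · have h0 : pCore 2 G = ⊥ := by_contra fun h0 => h8 (cit.eight_of_sz h0 h2)
      have f := (QuotientGroup.quotientMulEquivOfEq h0).trans QuotientGroup.quotientBot
      obtain ⟨F, _, _, m, hm, hF, ⟨e⟩⟩ := h2
      obtain ⟨a, b, c⟩ := sz_orders hF hm
      have h5 := (sp_congr (f.symm.trans e)).ge
      exact .inr (.inr (.inr (.inr ⟨m, hm, f.symm.isSimpleGroup, by
        rw [Nat.card_congr (f.symm.trans e).toEquiv, card_sz hF, mul_right_comm],
        h.len (h5 a), h.len (h5 c), h.len (h5 b)⟩)))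
    · rcases h1 with h1 | ⟨h1, k, hk⟩
      · exact .inr (.inr (.inl ⟨F, _, _, .inr h1, ⟨e⟩⟩))
      obtain ⟨⟨a, ha⟩, b, hb⟩ := exists_ord (h1.odd_of_ne_two (by omega))
      have h5 : k ≤ 3 := not_lt.1 fun h5 => by
        obtain ⟨m, hm⟩ := pow_dvd_pow 2 (show 4 ≤ k from h5)
        rcases hk with hk | hk
        exacts [h8 (mem_sp_of_dvd ((sp_congr e).ge (orderOf_mem_sp a)) ⟨m, by omega⟩),
          h8 (mem_sp_of_dvd ((sp_congr e).ge (orderOf_mem_sp b)) ⟨m, by omega⟩)]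
      have : Fintype.card F = 5 ∨ Fintype.card F = 7 ∨ Fintype.card F = 9 := by
        interval_cases k <;> omega
      exact this.elim (fun h => .inl (k3 h e)) fun h => .inr (.inr (.inl ⟨F, _, _, h, ⟨e⟩⟩))
    · obtain ⟨f⟩ := PSL2.equiv_psl_alt_six (Nat.card_eq_fintype_card.trans h2)
      exact absurd (cit.eight_mem_sp h1 (e.trans f)) h8
    · exact .inr (.inr (.inr (.inl h1)))
  push Not at hc
  obtain ⟨r, hr, r2, h2⟩ := hc
  have hS : IsElementaryAbelian 2 (S : Subgroup G) := Inv.elemAb_two_iff.2 fun a ha => by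
    obtain ⟨k, hk⟩ := Core.isPGroup_subgroup_iff.1 S.2 a ha
    obtain ⟨_ | j, -, hj⟩ := (Nat.dvd_prime_pow Nat.prime_two).1 (orderOf_dvd_of_pow_eq_one hk)
    · rw [orderOf_eq_one_iff.1 hj, mul_one]
    rcases h.even hr h2 (orderOf_mem_sp a) (hj ▸ dvd_pow_self 2 j.succ_ne_zero) with e | e
    · rw [← sq, ← e, pow_orderOf_eq_one]
    · exact absurd (hj ▸ e ▸ dvd_mul_left r 2) (not_dvd_two_pow hr r2 _)
  obtain ⟨F, _, _, hF, N, _, ⟨e⟩, hC⟩ := (S3188.result S hS.1 fun t ht =>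
    Char.isSolvable_of_forall_prime_dvd _ 2 r fun q hq hd => or_iff_not_imp_left.2 fun q2 => by
      have := Fact.mk hq
      obtain ⟨c, hc⟩ := exists_prime_orderOf_dvd_card' q hd
      have := h.even hr h2 (mul_mem_sp_of_commute' (c.2 t rfl) Nat.prime_two hq (Ne.symm q2)
        ht.symm.dvd (by rw [Subgroup.orderOf_coe, hc])) (dvd_mul_right _ _)
      have := hq.two_le
      omega).resolve_left hG
  have h4 : 4 ≤ Fintype.card F := hF.elim (by omega) fun ⟨n, h1, h2⟩ => h2 ▸ Nat.pow_le_pow_right two_pos h1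
  have h4' := Nat.card_eq_fintype_card.trans_ge h4
  obtain rfl := (h.mono (sp_quotient _)).eq_top hF h4' e hC ((JR.ab2_of_sylow S hS.1).quot _)
  have e1 := topEquiv.symm.trans e
  have h0 := h.core hG S hS fun C hC hs => by
    have := PSL2.isSimpleGroup_psl h4'
    have := e1.isSimpleGroup
    rw [← QuotientGroup.ker_mk' (oddCore G), ← Subgroup.map_eq_bot_iff]
    exact (hC.map _ (QuotientGroup.mk'_surjective _)).eq_bot_or_eq_top.resolve_right fun h =>
      PSL2.not_isSolvable_psl h4' (have := Core.isSolvable_top_iff.1 (h ▸ sol_map _ hs)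
        Group.isSolvable_of_surjective (f := e1.toMonoidHom) e1.surjective)
  have e2 := ((QuotientGroup.quotientMulEquivOfEq h0).trans QuotientGroup.quotientBot).symm.trans e1
  rcases hF with ⟨h5, h6⟩ | ⟨n, h5, h6⟩
  · rcases h6.eq_or_lt with h6 | h6
    · exact .inl (k3 h6.symm e2)
    obtain ⟨⟨a, ha⟩, b, hb⟩ := exists_ord (F := F) (Nat.odd_iff.2 (by omega))
    exact .inr (.inl ⟨F, _, _, h6, h5, h.len ((sp_congr e2).ge ⟨b, by omega⟩),
      h.len ((sp_congr e2).ge ⟨a, by omega⟩), ⟨e2⟩⟩)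
  · obtain ⟨f⟩ := k2 h4 e2
    exact .inl (k1 h5 h6 f)

end Cfsg.Agent.S4371
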