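import Cfsg.Statements.S4394
import Cfsg.Agent.Lib.Solv.SchmidtPL

set_option autoImplicit false
open Cfsg

namespace Cfsg.Agent.S4394

open Cfsg.Lib Cfsg.Lib.Solv Cfsg.Lib.Core Subgroup

/-- Let X be a finite minimal non-nilpotent group (not nilpotent, every proper subgroup nilpotent) with a nontrivial normal Sylow p-subgroup P. If G is a finite p-solvable group whose Sylow p-subgroups are isomorphic to P, then G has p-length at most 1. -/
theorem result {G X : Type*} [Group G] [Finite G] [Group X] [Finite X] (p : ℕ) [Fact p.Prime]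
    (hX : Cfsg.IsMinimalNonNilpotent X) (P : Sylow p X) (hPn : (P : Subgroup X).Normal) (hP1 : (P : Subgroup X) ≠ ⊥)
    (hG : Cfsg.IsPSolvable p G) (Q : Sylow p G) (hQ : Nonempty (↥(Q : Subgroup G) ≃* ↥(P : Subgroup X))) : Cfsg.PLengthLE p 1 G := by
  obtain ⟨e⟩ := hQ
  have h1 := (se_of_isMinimalNonNilpotent hX P hPn hP1).of_equiv e
  have hf := QuotientGroup.mk'_surjective (pPrimeCore p G)
  have hinj : Function.Injective ((QuotientGroup.mk' (pPrimeCore p G)).subgroupMap (Q : Subgroup G)) := by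
    rw [injective_iff_map_eq_one]
    intro x hx
    have h2 : (x : G) ∈ (Q : Subgroup G) ⊓ pPrimeCore p G :=
      ⟨x.2, (QuotientGroup.eq_one_iff _).1 (congrArg Subtype.val hx)⟩
    rw [inf_pPrimeCore_eq_bot Q.isPGroup'] at h2
    exact Subtype.ext h2
  have h2 : SE p ((Q : Subgroup G).map (QuotientGroup.mk' (pPrimeCore p G))) :=
    h1.of_equiv (MulEquiv.ofBijective _ ⟨hinj, MonoidHom.subgroupMap_surjective _ _⟩).symm
  have h3 := SE.le_pCore (isPSolvable_quotient hG _) (pPrimeCore_quotient_pPrimeCore p G)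
    (Q.mapSurjective hf) h2
  rw [← pLengthLE_quotient_pPrimeCore_iff, pLengthLE_one_iff, coprime_iff_not_dvd]
  exact fun e => (Q.mapSurjective hf).not_dvd_index
    (e.trans (index_dvd_of_le (h3.trans (pCore_le_pPrimePCore p _))))

end Cfsg.Agent.S4394
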