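import Cfsg.Statements.S4395
import Cfsg.Agent.Lib.Solv.GolfC

set_option autoImplicit false
universe u
open Cfsg

namespace Cfsg.Agent.S4395

open Cfsg.Lib.Golf

/-- Let p ≠ q be primes, r ≥ 1, a the multiplicative order of p modulo q, and a₀ = a when a is odd, a₀ = 3a/2 when a is even. Call a finite group minimal non-p-nilpotent when it has no normal p-complement but every proper subgroup has one. Then there is a minimal non-p-nilpotent group G₀ of order p^a₀ · q^r such that every minimal non-p-nilpotent group of order p^t · q^r (any t) is a quotient of G₀ by a central subgroup. -/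
theorem result (p q r : ℕ) [Fact p.Prime] [Fact q.Prime] (hpq : p ≠ q) (hr : 1 ≤ r) (a a₀ : ℕ)
    (ha : a = orderOf (p : ZMod q)) (ha₀ : a₀ = if a % 2 = 1 then a else 3 * a / 2) :
    ∃ (G₀ : Type u) (_ : Group G₀) (_ : Finite G₀),
      (¬ Cfsg.HasNormalPComplement p G₀ ∧ ∀ K : Subgroup G₀, K ≠ ⊤ → Cfsg.HasNormalPComplement p ↥K) ∧ Nat.card G₀ = p ^ a₀ * q ^ r ∧
      ∀ (X : Type u) [Group X] [Finite X], (¬ Cfsg.HasNormalPComplement p X ∧ ∀ K : Subgroup X, K ≠ ⊤ → Cfsg.HasNormalPComplement p ↥K) →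
        (∃ t : ℕ, Nat.card X = p ^ t * q ^ r) → ∃ φ : G₀ →* X, Function.Surjective φ ∧ φ.ker ≤ Subgroup.center G₀ := by
  have hp : p.Prime := Fact.out
  have hq : q.Prime := Fact.out
  have p0 : (p : ZMod q) ≠ 0 := fun h => hpq ((Nat.prime_dvd_prime_iff_eq hq hp).1 ((ZMod.natCast_eq_zero_iff _ _).1 h)).symm
  have a0 : a ≠ 0 := ha ▸ (isOfFinOrder_iff_pow_eq_one.2
    ⟨q - 1, Nat.sub_pos_of_lt hq.one_lt, ZMod.pow_card_sub_one_eq_one p0⟩).orderOf_pos.ne'
  have hK := GaloisField.card p a a0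
  obtain ⟨x, hx⟩ := exists_prime_orderOf_dvd_card' (G := (GaloisField p a)ˣ) q (by
    rw [Nat.card_units, hK, ← ZMod.natCast_eq_zero_iff, Nat.cast_sub (Nat.one_le_pow _ _ hp.pos), Nat.cast_pow, ha,
      pow_orderOf_eq_one, Nat.cast_one, sub_self])
  have hζ : IsPrimitiveRoot (x : GaloisField p a) q := IsPrimitiveRoot.coe_units_iff.2 (hx ▸ IsPrimitiveRoot.orderOf x)
  obtain ⟨G, _, _, P, g, π, h, c⟩ := exists_max.{u} hpq hr hK ha a0 hζ
  refine ⟨G, _, inferInstance, h.minimal hpq hK ha hζ, ?_, fun X _ _ hX ⟨t, ht⟩ => ?_⟩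
  · rw [h.card hpq, ha₀, le_antisymm c (h.card_le (h.ord ▸ cop hpq h.pg r) hK ha hζ)]
  · obtain ⟨P', g', π', h'⟩ := exists_sch hpq hr hK ha hζ hX.1 hX.2 ht
    exact universal h' h hpq hK ha hζ c

end Cfsg.Agent.S4395
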