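import Cfsg.Statements.S4414
import Cfsg.Agent.Lib.Amalgam.Wt

set_option autoImplicit false
open Cfsg

namespace Cfsg.Agent.S4414

open Module Subgroup Cfsg.Lib.Amalgam.Wt in
open scoped TensorProduct in
theorem mem_range_bc {k K E S : Type*} [Field k] [Field K] [Algebra k K] [AddCommGroup E] [Module k E] [Group S]
    (ρ : S →* End k E) (T : Subgroup S) (v : K ⊗[k] E) (hv : ∀ s ∈ T, (ρ s).baseChange K v = v) :
    v ∈ LinearMap.range ((fixS ρ T).subtype.baseChange K) := by
  classical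
  let b := Basis.ofVectorSpace k K
  let c := TensorProduct.equivFinsuppOfBasisLeft (N := E) b
  have h1 : ∀ (f : End k E) (u : K ⊗[k] E) i, c (f.baseChange K u) i = f (c u i) := fun f u i => by
    induction u using TensorProduct.induction_on with
    | zero => simp
    | tmul a e => simp [c]
    | add x y hx hy => simp only [map_add, Finsupp.add_apply, hx, hy]
  rw [← c.symm_apply_apply v, TensorProduct.equivFinsuppOfBasisLeft_symm_apply]
  refine Submodule.sum_mem _ fun i _ => ⟨b i ⊗ₜ ⟨c v i, fun s hs => ?_⟩, by simp⟩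
  rw [← h1, hv s hs]

/-- Let S be a finite solvable group whose order is divisible only by the primes 2, p, q (p, q distinct odd primes), with a Sylow system S₂, S_p, S_q (pairwise permutable Sylow subgroups) such that: S_p is a minimal normal subgroup of S of order p or p²; S_q has order q and [S_p, S_q] = S_p; and O₂(S) = 1. Let E be an irreducible module for S over the field with two elements on which S_p acts faithfully, and E₀ the subspace of fixed points of S₂. Then either E₀ has at least 8 elements, or E₀ has exactly 4 elements and S_q does not leave E₀ invariant. -/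
theorem result {S : Type*} [Group S] [Finite S]
    [Group.IsSolvable S] (p q : ℕ) (hp : p.Prime) (hq : q.Prime) (hp2 : p ≠ 2) (hq2 : q ≠ 2) (hpq : p ≠ q)
    (hπ : ∀ r : ℕ, r.Prime → r ∣ Nat.card S → r = 2 ∨ r = p ∨ r = q)
    (S₂ : Sylow 2 S) (Sp : Sylow p S) (Sq : Sylow q S)
    (h2q : Nat.card ↥((S₂ : Subgroup S) ⊔ (Sq : Subgroup S)) = Nat.card ↥S₂ * Nat.card ↥Sq)
    (h2p : Nat.card ↥((S₂ : Subgroup S) ⊔ (Sp : Subgroup S)) = Nat.card ↥S₂ * Nat.card ↥Sp)
    (hpq' : Nat.card ↥((Sp : Subgroup S) ⊔ (Sq : Subgroup S)) = Nat.card ↥Sp * Nat.card ↥Sq)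
    (hSpN : (Sp : Subgroup S).Normal) (hSpmin : ∀ N : Subgroup S, N.Normal → N ≤ (Sp : Subgroup S) → N = ⊥ ∨ N = (Sp : Subgroup S))
    (hSpcard : Nat.card ↥Sp = p ∨ Nat.card ↥Sp = p ^ 2)
    (hSq : Nat.card ↥Sq = q) (hcomm : ⁅(Sp : Subgroup S), (Sq : Subgroup S)⁆ = (Sp : Subgroup S))
    (hO2 : Cfsg.pCore 2 S = ⊥)
    {E : Type*} [AddCommGroup E] [Module (ZMod 2) E] [Finite E] (ρ : Representation (ZMod 2) S E) (hE : Nontrivial E)
    (hirr : ∀ N : Submodule (ZMod 2) E, (∀ s : S, ∀ m ∈ N, ρ s m ∈ N) → N = ⊥ ∨ N = ⊤)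
    (hfaith : ∀ x ∈ (Sp : Subgroup S), ρ x = 1 → x = 1) :
    8 ≤ Nat.card {v : E // ∀ s ∈ (S₂ : Subgroup S), ρ s v = v} ∨
      (Nat.card {v : E // ∀ s ∈ (S₂ : Subgroup S), ρ s v = v} = 4 ∧
        ∃ x ∈ (Sq : Subgroup S), ∃ v : E, (∀ s ∈ (S₂ : Subgroup S), ρ s v = v) ∧ ¬ ∀ s ∈ (S₂ : Subgroup S), ρ s (ρ x v) = ρ x v) := by
  classical
  change Nat.card (Sp : Subgroup S) = p ∨ Nat.card (Sp : Subgroup S) = p ^ 2 at hSpcard
  have := Fact.mk hp
  have := Fact.mk hq
  have := Fintype.ofFinite (Sp : Subgroup S)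
  have : Module.Finite (ZMod 2) E := Module.Finite.of_finite
  have hcm : IsMulCommutative (Sp : Subgroup S) := by
    rcases hSpcard with h | h
    · have := isCyclic_of_prime_card h
      infer_instance
    · exact IsPGroup.isMulCommutative_of_card_eq_prime_sq h
  let K := AlgebraicClosure (ZMod 2)
  let τ : S →* Module.End K (TensorProduct (ZMod 2) K E) :=
    (Module.End.baseChangeHom (ZMod 2) K E).toRingHom.toMonoidHom.comp ρ
  have hτ : ∀ s, τ s = (ρ s).baseChange K := fun _ => rfl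
  have : Nontrivial (TensorProduct (ZMod 2) K E) := Module.nontrivial_of_finrank_pos (R := K) (by
    rw [Module.finrank_baseChange]; exact Module.finrank_pos)
  have hP : (Nat.card (Sp : Subgroup S) : K) ≠ 0 := by
    have h1 : (p : K) ≠ 0 := fun e =>
      hp2 ((Nat.prime_dvd_prime_iff_eq Nat.prime_two hp).1 ((CharP.cast_eq_zero_iff K 2 p).1 e)).symm
    rcases hSpcard with h | h <;> rw [h]
    · exact h1
    · rw [Nat.cast_pow]; exact pow_ne_zero _ h1
  have hf0 : Cfsg.Lib.Amalgam.Wt.fixS ρ (Sp : Subgroup S) = ⊥ := (hirr (Cfsg.Lib.Amalgam.Wt.fixS ρ (Sp : Subgroup S)) fun s m hm a ha => by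
      have := congrArg (ρ s) (hm _ (hSpN.conj_mem' a ha s))
      rwa [← Module.End.mul_apply, ← map_mul, ← mul_assoc, ← mul_assoc, mul_inv_cancel, one_mul, map_mul] at this
      ).resolve_right fun e => by
    have h1 : (Sp : Subgroup S) = ⊥ := eq_bot_iff.2 fun a ha => hfaith a ha
      (LinearMap.ext fun v => (e.ge trivial : v ∈ Cfsg.Lib.Amalgam.Wt.fixS ρ (Sp : Subgroup S)) a ha)
    have h2 : Nat.card (Sp : Subgroup S) = 1 := Subgroup.card_eq_one.2 h1
    rcases hSpcard with h | h <;> rw [h2] at h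
    · exact hp.ne_one h.symm
    · exact hp.ne_one ((pow_eq_one_iff.1 h.symm).resolve_right two_ne_zero)
  obtain ⟨h1, h2⟩ := Cfsg.Lib.Amalgam.Wt.two_le_fixS (r := 2) τ hP hq2 hq2 (fun v hv => by
    obtain ⟨u, rfl⟩ := mem_range_bc ρ (Sp : Subgroup S) v fun s hs => hv ⟨s, hs⟩
    have : Subsingleton (Cfsg.Lib.Amalgam.Wt.fixS ρ (Sp : Subgroup S)) := by rw [hf0]; infer_instance
    rw [Subsingleton.elim u 0, map_zero]) (S₂ : Subgroup S) S₂.isPGroup' hSq hcomm
  have h3 : Cfsg.Lib.Amalgam.Wt.fixS τ (S₂ : Subgroup S) =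
      LinearMap.range ((Cfsg.Lib.Amalgam.Wt.fixS ρ (S₂ : Subgroup S)).subtype.baseChange K) := by
    refine le_antisymm (fun v hv => mem_range_bc ρ _ v hv) ?_
    rintro _ ⟨u, rfl⟩ s hs
    induction u using TensorProduct.induction_on with
    | zero => simp
    | tmul a e => simp [hτ, e.2 s hs]
    | add x y hx hy => simp only [map_add, hx, hy]
  have h4 : Module.finrank K (Cfsg.Lib.Amalgam.Wt.fixS τ (S₂ : Subgroup S)) ≤
      Module.finrank (ZMod 2) (Cfsg.Lib.Amalgam.Wt.fixS ρ (S₂ : Subgroup S)) := by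
    rw [h3]
    exact (LinearMap.finrank_range_le _).trans (Module.finrank_baseChange (R := K)).le
  have h5 : Nat.card {v : E // ∀ s ∈ (S₂ : Subgroup S), ρ s v = v} =
      2 ^ Module.finrank (ZMod 2) (Cfsg.Lib.Amalgam.Wt.fixS ρ (S₂ : Subgroup S)) := by
    have := Module.natCard_eq_pow_finrank (K := ZMod 2) (V := Cfsg.Lib.Amalgam.Wt.fixS ρ (S₂ : Subgroup S))
    rw [Nat.card_zmod] at this
    exact this
  rw [h5]
  rcases (h1.trans h4).eq_or_lt with h | h
  · refine Or.inr ⟨by rw [← h]; rfl, ?_⟩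
    obtain ⟨x, hx, w, hw, h6⟩ := h2 (by omega)
    by_contra! hn
    refine h6 ?_
    rw [h3] at hw
    obtain ⟨u, rfl⟩ := hw
    clear h6
    intro s hs
    induction u using TensorProduct.induction_on with
    | zero => simp
    | tmul a e => simp [hτ, hn x hx e e.2 s hs]
    | add x y hx hy => simp only [map_add, hx, hy]
  · exact Or.inl (Nat.pow_le_pow_right (n := 2) two_pos h)

end Cfsg.Agent.S4414
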