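import Cfsg.Statements.S4419
import Cfsg.Agent.Lib.BG.Hall
import Cfsg.Agent.Lib.FGS.CycSylow
import Cfsg.Agent.Lib.PGroup.Metacyclic
import Cfsg.Agent.Lib.Core.PSolvable

set_option autoImplicit false
open Cfsg

namespace Cfsg.Agent.S4419

/-- Let p be a prime and G a finite group whose Sylow p-subgroups are metacyclic (a cyclic normal subgroup with cyclic quotient). Then G has a normal p-complement if and only if the order of G/O_{p′,p}(G) is coprime to p² − 1. -/
theorem result {G : Type*} [Group G] [Finite G] (p : ℕ) [Fact p.Prime] (S : Sylow p G) (hS : Cfsg.IsMetacyclic ↥(S : Subgroup G)) : Cfsg.HasNormalPComplement p G ↔ Nat.Coprime (Nat.card (G ⧸ Cfsg.pPrimePCore p G)) (p ^ 2 - 1) := by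
  open Subgroup Cfsg.Lib Cfsg.Lib.BG Cfsg.Lib.Transfer in
  open Cfsg.Lib.FGS in
  have hp : p.Prime := Fact.out
  have hc : p.Coprime (p ^ 2 - 1) := by
    have := (Nat.coprime_self_sub_right (m := 1) (n := p ^ 2) (Nat.one_le_pow _ _ hp.pos)).2 (by simp)
    exact Nat.Coprime.coprime_dvd_left (dvd_pow_self p two_ne_zero) this
  have h1 : Nat.card (G ⧸ pPrimePCore p G) = (pCore p (G ⧸ pPrimeCore p G)).index :=
    index_comap_of_surjective _ (QuotientGroup.mk'_surjective _)
  rw [h1]
  refine ⟨fun h => ?_, fun h => Transfer.hasNormalPComplement_of_quotient_coprime (pPrimeCore p G)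
    (Core.pPrimeCore_coprime p G) ?_⟩
  · obtain ⟨k, hk⟩ := (Transfer.isPGroup_quotient_of_pResidual_le _ (Transfer.pResidual_eq_pPrimeCore h).le).index
      (pCore p (G ⧸ pPrimeCore p G))
    exact hk ▸ hc.pow_left k
  have hm := PGroup.isMetacyclic_of_surjective _ ((QuotientGroup.mk' (pPrimeCore p G)).subgroupMap_surjective S) hS
  have h2 : (Nat.card (G ⧸ pPrimeCore p G)).Coprime (p ^ 2 - 1) := by
    obtain ⟨k, hk⟩ := (Core.pCore_isPGroup p (G ⧸ pPrimeCore p G)).exists_card_eq
    rw [← (pCore p (G ⧸ pPrimeCore p G)).card_mul_index, hk]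
    exact (hc.pow_left k).mul_left h
  refine Transfer.hasNormalPComplement_of_fully_normalized (S.mapSurjective (QuotientGroup.mk'_surjective _))
    fun T hT _ _ g hg hg1 => ?_
  have hP := pgroup_of_le (S.mapSurjective (QuotientGroup.mk'_surjective _)).isPGroup' hT
  obtain ⟨a, b, -, e⟩ := PGroup.isMetacyclic_iff_exists.1 (PGroup.isMetacyclic_of_le hT hm)
  classical
  refine mem_cent_of_coprime_prod hP (d := 2) ((PGroup.index_frattini_le_pow_card hP (T := {a, b}) (by
    rw [← e, Finset.coe_pair, Set.insert_eq, Subgroup.closure_union, zpowers_eq_closure, zpowers_eq_closure])).trans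
      (Nat.pow_le_pow_right hp.pos Finset.card_le_two)) hg hg1 ?_
  have h3 := Nat.Coprime.coprime_dvd_left (orderOf_dvd_natCard g) h2
  refine Nat.Coprime.prod_right fun i hi => h3.coprime_dvd_right ?_
  obtain rfl | rfl : i = 1 ∨ i = 2 := by have := Finset.mem_Icc.1 hi; omega
  · simpa using Nat.sub_one_dvd_pow_sub_one p 2
  · rfl

end Cfsg.Agent.S4419
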