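import Cfsg.Statements.S4460
import Cfsg.Agent.Lib.CharDeg.MinNonab
import Cfsg.Agent.Lib.Comp.Quasisimple

set_option autoImplicit false
open Cfsg

namespace Cfsg.Agent.S4460

open Cfsg.Lib.Char Cfsg.Lib.CharDeg Cfsg.Lib.Clifford Cfsg.Lib.Induce Cfsg.Lib.Core Subgroup
open scoped ComplexConjugate commutatorElement

section
variable {G : Type*} [Group G] [Fintype G] {m n : ℕ}

theorem dichotomy (h : ∀ d ∈ cd G, d = 1 ∨ d = m ∨ d = n) (hm1 : m ≠ 1) (hcop : m.Coprime n)
    {χ ψ : G → ℂ} (hχ : IsIrrCharacter G χ) (hψ : IsIrrCharacter G ψ) (h1 : charDegree χ = m)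
    (h2 : charDegree ψ = n) :
    (∀ ξ : IrrCharacter G, classInner (χ * ψ) ξ ≠ 0 → charDegree (ξ : G → ℂ) = m) ∨
    (∀ ξ : IrrCharacter G, classInner (χ * ψ) ξ ≠ 0 → charDegree (ξ : G → ℂ) = n) := by
  classical
  obtain ⟨c, hc⟩ := (hχ.isCharacter.mul hψ.isCharacter).exists_eq_sum_nat
  have hci : ∀ ξ : IrrCharacter G, classInner (χ * ψ) ξ = c ξ := fun ξ => by
    rw [hc, classInner_sum_smul_irr]
  have hd : ∀ ξ : IrrCharacter G, c ξ ≠ 0 → charDegree (ξ : G → ℂ) ≠ m →
      charDegree (ξ : G → ℂ) = n := by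
    intro ξ h0 h3
    refine ((h _ (charDegree_mem_cd ξ.2)).resolve_left fun h4 => ?_).resolve_left h3
    obtain ⟨lam, hlam⟩ := ξ.2.isCharacter.exists_hom_of_apply_one
      (ξ.2.isCharacter.charDegree_eq_one_iff.1 h4)
    have h5 : classInner (χ * ψ) ξ ≠ 0 := by rw [hci]; exact_mod_cast h0
    rw [classInner_mul_left, hlam] at h5
    simp only [mul_comm (conj _)] at h5
    have h6 := congrFun (hχ.eq_of_inner_ne_zero (hψ.conj.hom_mul lam) h5) 1
    rw [hψ.isCharacter.conj_apply_one, map_one, Units.val_one, one_mul, hχ.apply_one_eq,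
      hψ.apply_one_eq, h1, h2, Nat.cast_inj] at h6
    rw [← h6, Nat.coprime_self] at hcop
    exact hm1 hcop
  have hsum : m * n = (∑ ξ ∈ Finset.univ.filter
      (fun ξ : IrrCharacter G => charDegree (ξ : G → ℂ) = m), c ξ) * m +
      (∑ ξ ∈ Finset.univ.filter
      (fun ξ : IrrCharacter G => ¬ charDegree (ξ : G → ℂ) = m), c ξ) * n := by
    have h3 : m * n = ∑ ξ : IrrCharacter G, c ξ * charDegree (ξ : G → ℂ) := by
      have h4 := congrFun hc 1
      rw [Pi.mul_apply, hχ.apply_one_eq, hψ.apply_one_eq, h1, h2, Finset.sum_apply,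
        Finset.sum_congr rfl (fun ξ _ => by rw [Pi.smul_apply, ξ.2.apply_one_eq, smul_eq_mul])] at h4
      exact_mod_cast h4
    rw [h3, ← Finset.sum_filter_add_sum_filter_not _
      (fun ξ : IrrCharacter G => charDegree (ξ : G → ℂ) = m), Finset.sum_mul, Finset.sum_mul]
    congr 1
    · exact Finset.sum_congr rfl fun ξ hξ => by rw [(Finset.mem_filter.1 hξ).2]
    · refine Finset.sum_congr rfl fun ξ hξ => ?_
      by_cases h0 : c ξ = 0
      · simp [h0]
      · rw [hd ξ h0 (Finset.mem_filter.1 hξ).2]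
  by_cases hb : ∀ ξ : IrrCharacter G, c ξ ≠ 0 → charDegree (ξ : G → ℂ) = m
  · exact Or.inl fun ξ h0 => hb ξ (by rw [hci] at h0; exact_mod_cast h0)
  push Not at hb
  obtain ⟨ξ, h0, h3⟩ := hb
  refine Or.inr fun η hη => hd η (by rw [hci] at hη; exact_mod_cast hη) fun h4 => ?_
  have ha := Finset.single_le_sum (f := c) (fun _ _ => Nat.zero_le _) (Finset.mem_filter.2
    ⟨Finset.mem_univ η, h4⟩ : η ∈ Finset.univ.filter
      (fun ξ : IrrCharacter G => charDegree (ξ : G → ℂ) = m))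
  have hb := Finset.single_le_sum (f := c) (fun _ _ => Nat.zero_le _) (Finset.mem_filter.2
    ⟨Finset.mem_univ ξ, h3⟩ : ξ ∈ Finset.univ.filter
      (fun ξ : IrrCharacter G => ¬ charDegree (ξ : G → ℂ) = m))
  have hη' : c η ≠ 0 := by rw [hci] at hη; exact_mod_cast hη
  generalize (∑ ξ ∈ Finset.univ.filter
      (fun ξ : IrrCharacter G => charDegree (ξ : G → ℂ) = m), c ξ) = a at hsum ha
  generalize (∑ ξ ∈ Finset.univ.filter
      (fun ξ : IrrCharacter G => ¬ charDegree (ξ : G → ℂ) = m), c ξ) = b at hsum hb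
  have h5 : m ∣ b := hcop.dvd_of_dvd_mul_right
    ((Nat.dvd_add_right (dvd_mul_left m a)).1 (hsum ▸ dvd_mul_right m n))
  have h6 := Nat.le_of_dvd (by omega) h5
  have h7 := h1 ▸ hχ.charDegree_pos
  have h8 := Nat.mul_le_mul_right n h6
  have h9 : 0 < a * m := Nat.mul_pos (by omega) h7
  omega

open Classical in
/-- The characters of degree `m` whose product with `ψ` only involves degree `m`. -/
noncomputable def good (m : ℕ) (ψ : G → ℂ) : Finset (IrrCharacter G) :=
  Finset.univ.filter fun χ => charDegree (χ : G → ℂ) = m ∧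
    ∀ ξ : IrrCharacter G, classInner ((χ : G → ℂ) * ψ) ξ ≠ 0 → charDegree (ξ : G → ℂ) = m

theorem mem_good {ψ : G → ℂ} {χ : IrrCharacter G} : χ ∈ good m ψ ↔ charDegree (χ : G → ℂ) = m ∧
    ∀ ξ : IrrCharacter G, classInner ((χ : G → ℂ) * ψ) ξ ≠ 0 → charDegree (ξ : G → ℂ) = m := by
  simp [good]

theorem inner_swap {ψ : G → ℂ} (hψ : IsIrrCharacter G ψ) (χ ξ : IrrCharacter G) :
    classInner ((χ : G → ℂ) * ψ) ξ = classInner ((ξ : G → ℂ) * fun g => conj (ψ g)) χ := by
  rw [classInner_mul_left, (ξ.2.isCharacter.mul hψ.conj.isCharacter).inner_comm χ.2.isCharacter]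
  congr 1
  exact funext fun g => mul_comm _ _

theorem good_step (h : ∀ d ∈ cd G, d = 1 ∨ d = m ∨ d = n) (hm1 : m ≠ 1) (hcop : m.Coprime n)
    {ψ : G → ℂ} (hψ : IsIrrCharacter G ψ) (h2 : charDegree ψ = n) {χ ξ : IrrCharacter G}
    (hχ : χ ∈ good m ψ) (hne : classInner ((χ : G → ℂ) * ψ) ξ ≠ 0) : ξ ∈ good m fun g => conj (ψ g) := by
  obtain ⟨h3, h4⟩ := mem_good.1 hχ
  refine mem_good.2 ⟨h4 ξ hne, (dichotomy h hm1 hcop ξ.2 hψ.conj (h4 ξ hne)
    ((charDegree_congr hψ.isCharacter.conj_apply_one).trans h2)).resolve_right fun h5 => ?_⟩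
  rw [inner_swap hψ] at hne
  rw [← h5 χ hne, h3, Nat.coprime_self] at hcop
  exact hm1 hcop

theorem sum_good_mul (h : ∀ d ∈ cd G, d = 1 ∨ d = m ∨ d = n) (hm1 : m ≠ 1) (hcop : m.Coprime n)
    {ψ : G → ℂ} (hψ : IsIrrCharacter G ψ) (h2 : charDegree ψ = n) (g : G) :
    (∑ χ ∈ good m ψ, (χ : G → ℂ) g) * ψ g = n * ∑ ξ ∈ good m (fun g => conj (ψ g)), (ξ : G → ℂ) g := by
  classical
  have h2' : charDegree (fun g => conj (ψ g)) = n :=
    (charDegree_congr hψ.isCharacter.conj_apply_one).trans h2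
  rw [Finset.sum_mul, Finset.sum_congr rfl (fun χ _ =>
    (χ.2.isCharacter.mul hψ.isCharacter).isClassFunction.apply_eq_sum_irr g), Finset.sum_comm,
    Finset.mul_sum, ← Finset.sum_subset (Finset.subset_univ (good m fun g => conj (ψ g)))]
  · refine Finset.sum_congr rfl fun ξ hξ => ?_
    rw [← Finset.sum_mul, Finset.sum_congr rfl (fun χ _ => inner_swap hψ χ ξ)]
    congr 1
    have h3 := (ξ.2.isCharacter.mul hψ.conj.isCharacter).isClassFunction.apply_eq_sum_irr 1
    rw [← Finset.sum_subset (Finset.subset_univ (good m ψ)) (fun χ _ hχ => by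
        by_contra h0
        have := good_step h hm1 hcop hψ.conj h2' hξ (left_ne_zero_of_mul h0)
        simp only [Complex.conj_conj] at this
        exact hχ this),
      Finset.sum_congr rfl (fun χ hχ => by rw [χ.2.apply_one_eq, (mem_good.1 hχ).1]),
      ← Finset.sum_mul, Pi.mul_apply, hψ.conj.apply_one_eq, h2', ξ.2.apply_one_eq,
      (mem_good.1 hξ).1, mul_comm] at h3
    have h4 : (m : ℂ) ≠ 0 := by
      rw [← (mem_good.1 hξ).1]; exact_mod_cast ξ.2.charDegree_pos.ne'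
    exact (mul_right_cancel₀ h4 h3).symm
  · intro ξ _ hξ
    refine Finset.sum_eq_zero fun χ hχ => ?_
    by_contra h0
    exact hξ (good_step h hm1 hcop hψ h2 hχ (left_ne_zero_of_mul h0))

theorem good_eq_empty (h : ∀ d ∈ cd G, d = 1 ∨ d = m ∨ d = n) (hm1 : m ≠ 1) (hcop : m.Coprime n)
    {ψ : G → ℂ} (hψ : IsIrrCharacter G ψ) (h2 : charDegree ψ = n) (hZ : charCenter ψ = ⊥)
    {χ : IrrCharacter G} : χ ∉ good m ψ := by
  classical
  intro hχ
  have h2' : charDegree (fun g => conj (ψ g)) = n :=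
    (charDegree_congr hψ.isCharacter.conj_apply_one).trans h2
  have hv : ∀ g ≠ 1, ∑ χ ∈ good m ψ, (χ : G → ℂ) g = 0 := by
    intro g hg
    by_contra h0
    have h3 := sum_good_mul h hm1 hcop hψ h2 g
    have h4 := sum_good_mul h hm1 hcop hψ.conj h2' g
    simp only [Complex.conj_conj] at h4
    have h5 : ψ g * conj (ψ g) = n * n := mul_left_cancel₀ h0 (by
      rw [← mul_assoc, h3, mul_assoc, h4]; ring)
    have h6 : ‖ψ g‖ = ‖ψ 1‖ := by
      rw [hψ.isCharacter.norm_apply_one, h2]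
      rw [Complex.mul_conj, Complex.normSq_eq_norm_sq] at h5
      have h7 : ‖ψ g‖ ^ 2 = (n : ℝ) ^ 2 := by rw [sq (n : ℝ)]; exact_mod_cast h5
      exact (pow_left_inj₀ (norm_nonneg _) (Nat.cast_nonneg _) two_ne_zero).1 h7
    have h8 := hψ.isCharacter.mem_charCenter_iff.2 h6
    rw [hZ, mem_bot] at h8
    exact hg h8
  have h3 : ∑ g, ∑ χ ∈ good m ψ, (χ : G → ℂ) g = 0 := by
    rw [Finset.sum_comm]
    refine Finset.sum_eq_zero fun ξ hξ => ξ.2.sum_eq_zero fun e => hm1 ?_
    rw [← (mem_good.1 hξ).1, e, charDegree_one]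
  rw [Finset.sum_eq_single 1 (fun g _ hg => hv g hg) (by simp),
    Finset.sum_congr rfl (fun ξ hξ => by rw [ξ.2.apply_one_eq, (mem_good.1 hξ).1]),
    Finset.sum_const, nsmul_eq_mul, mul_eq_zero, Nat.cast_eq_zero, Nat.cast_eq_zero,
    Finset.card_eq_zero] at h3
  rcases h3 with h3 | h3
  · simp [h3] at hχ
  · exact χ.2.charDegree_pos.ne' ((mem_good.1 hχ).1.trans h3)

end

section
variable {G : Type*} [Group G] [Finite G]

theorem cd_complement (N : Subgroup G) [N.Normal] {p : ℕ} [hp : Fact p.Prime]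
    (h1 : (Nat.card N).Coprime p) (h2 : IsPGroup p (G ⧸ N)) {d : ℕ} (hd : d ∈ cd N) :
    ∃ e ∈ cd G, d = ordCompl[p] e := by
  obtain ⟨k, hk, hkd⟩ := exists_mem_cd_of_normal N hd
  obtain ⟨j, hj⟩ := h2.exists_card_eq
  rw [index, hj] at hk
  obtain ⟨i, -, rfl⟩ := (Nat.dvd_prime_pow hp.out).1 hk
  exact ⟨_, hkd, (Nat.ordCompl_pow_mul_of_not_dvd i hp.out fun h =>
    (Nat.Prime.coprime_iff_not_dvd hp.out).1 h1.symm (h.trans (dvd_card_of_mem_cd hd))).symm⟩

theorem three_of_mem {m n a b : ℕ} (h : ∀ d ∈ cd G, d = 1 ∨ d = m ∨ d = n) (ha : a ∈ cd G)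
    (hb : b ∈ cd G) (ha1 : a ≠ 1) (hb1 : b ≠ 1) (hab : a ≠ b) :
    ∀ d ∈ cd G, d = 1 ∨ d = a ∨ d = b := by
  intro d hd
  have h1 := h a ha
  have h2 := h b hb
  have h3 := h d hd
  omega

omit [Finite G] in
theorem derived_step {U : Type*} [Group U] (ι : U →* G) {a b : ℕ}
    (h : derivedSeries G a ≤ (derivedSeries U b).map ι) :
    derivedSeries G (a + 1) ≤ (derivedSeries U (b + 1)).map ι := by
  rw [derivedSeries_succ, derivedSeries_succ, map_commutator]
  exact commutator_mono h h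

end

universe u in
theorem solv (k : ℕ) : ∀ (G : Type u) [Group G] [Finite G], Nat.card G = k → ∀ m n : ℕ,
    (∀ d ∈ cd G, d = 1 ∨ d = m ∨ d = n) → Group.IsSolvable G := by
  induction k using Nat.strong_induction_on with
  | _ k ih =>
  intro G _ _ hk m n h
  rcases subsingleton_or_nontrivial G with hs | hs
  · infer_instance
  haveI := Fintype.ofFinite G
  have hquot : ∀ (L : Subgroup G) [L.Normal], L ≠ ⊥ → Group.IsSolvable (G ⧸ L) := by
    intro L _ hL
    have hc := L.card_mul_index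
    have h3 : 1 < Nat.card L := (one_lt_card_iff_ne_bot L).2 hL
    have h4 := Nat.pos_of_ne_zero (L.index_ne_zero_of_finite)
    exact ih _ (by rw [← hk, ← hc]; change L.index < _; nlinarith) (G ⧸ L) rfl m n
      fun d hd => h d (cd_quotient_subset L hd)
  obtain ⟨N, hN⟩ := exists_isMinNormal (G := G)
  haveI := hN.normal
  haveI := hquot N hN.ne_bot
  suffices Group.IsSolvable N from
    solvable_of_ker_le_range N.subtype (QuotientGroup.mk' N) (by simp)
  by_contra hNs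
  have hperf : ⁅N, N⁆ = N := hN.commutator_eq_self_or.resolve_left fun hc =>
    hNs (isSolvable_of_comm hc.is_comm.comm)
  have hle : ∀ (L : Subgroup G) [L.Normal], L ≠ ⊥ → N ≤ L := by
    intro L _ hL
    refine (hN.inf_eq_bot_or_le L).resolve_left fun h0 => hNs ?_
    haveI := hquot L hL
    refine solvable_of_solvable_injective (f := (QuotientGroup.mk' L).comp N.subtype) ?_
    rw [injective_iff_map_eq_one]
    intro x hx
    have : (x : G) ∈ N ⊓ L := ⟨x.2, (QuotientGroup.eq_one_iff _).1 hx⟩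
    rw [h0, mem_bot] at this
    exact Subtype.ext this
  have hZ : ∀ χ, IsIrrCharacter G χ → (∃ x ∈ N, χ x ≠ χ 1) →
      charCenter χ = ⊥ ∧ charDegree χ ≠ 1 := by
    rintro χ hχ ⟨x, hx, hx1⟩
    haveI := hχ.isClassFunction.charCenter_normal
    constructor
    · by_contra h0
      have h1 := hle _ h0
      refine hx1 (hχ.isCharacter.mem_charKer_iff.1 ?_)
      rw [← hperf] at hx
      exact commutator_le.2 (fun a ha b _ =>
        hχ.isCharacter.commutator_mem_charKer (h1 ha) b) hx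
    · intro h1
      have h2 := hχ.isCharacter.charDegree_eq_one_iff.1 h1
      rw [← hperf] at hx
      exact hx1 (h2 ▸ apply_eq_one_of_mem_commutator hχ.isCharacter h2
        (commutator_mono le_top le_top hx))
  haveI := Fintype.ofFinite N
  obtain ⟨θ, hθ, hθ1⟩ : ∃ θ, IsIrrCharacter N θ ∧ charDegree θ ≠ 1 := by
    by_contra hcon
    push Not at hcon
    exact hNs (isSolvable_of_comm (comm_iff_cd.2 fun d hd => by
      obtain ⟨θ, hθ, rfl⟩ := mem_cd'.1 hd
      exact hcon θ hθ))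
  obtain ⟨p, hp, hpθ⟩ := Nat.exists_prime_and_dvd hθ1
  haveI := Fact.mk hp
  obtain ⟨ξ, hξ, hne⟩ := exists_irr_above N hθ
  have hξN : ∃ x ∈ N, ξ x ≠ ξ 1 := by
    by_contra hcon
    push Not at hcon
    refine hθ1 (hθ.isCharacter.charDegree_eq_one_iff.2 (apply_one_of_commutator_le_ker hθ
      fun x _ => (hξ.isCharacter.restrict N).apply_eq_of_constituent hθ hne (hcon x x.2)))
  obtain ⟨χ, hχ, hχN, hχp⟩ : ∃ χ, IsIrrCharacter G χ ∧ (∃ x ∈ N, χ x ≠ χ 1) ∧
      ¬ p ∣ charDegree χ := by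
    by_contra hcon
    push Not at hcon
    obtain ⟨M, _, h1, h2⟩ := exists_complement_of_rel N (p := p) fun χ hχ hx =>
      hcon χ hχ (hperf ▸ hx)
    haveI := h2.isNilpotent
    have h3 : (⊤ : Subgroup N).map (QuotientGroup.mk' M) = ⊥ :=
      Cfsg.Lib.Comp.eq_bot_of_perfect_of_le_solvable (H := ⊤) (by
        rw [← map_commutator]
        congr 1
        refine map_injective N.subtype_injective ?_
        rw [map_commutator, ← MonoidHom.range_eq_map, range_subtype, hperf]) inferInstance le_top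
    rw [Subgroup.map_eq_bot_iff, QuotientGroup.ker_mk', top_le_iff] at h3
    rw [h3, card_top] at h1
    exact (Nat.Prime.coprime_iff_not_dvd hp).1 h1.symm (hpθ.trans hθ.charDegree_dvd_card)
  have hpξ := hpθ.trans (charDegree_dvd_charDegree_of_over N hξ hθ hne)
  have h3 := three_of_mem h (charDegree_mem_cd hξ) (charDegree_mem_cd hχ) (hZ ξ hξ hξN).2
    (hZ χ hχ hχN).2 (fun e => hχp (e ▸ hpξ))
  by_cases hcop : (charDegree ξ).Coprime (charDegree χ)
  · rcases dichotomy h3 (hZ ξ hξ hξN).2 hcop hξ hχ rfl rfl with h4 | h4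
    · exact good_eq_empty h3 (hZ ξ hξ hξN).2 hcop hχ rfl (hZ χ hχ hχN).1 (χ := ⟨ξ, hξ⟩)
        (mem_good.2 ⟨rfl, h4⟩)
    · exact good_eq_empty (fun d hd => by have := h3 d hd; tauto) (hZ χ hχ hχN).2 hcop.symm hξ rfl
        (hZ ξ hξ hξN).1 (χ := ⟨χ, hχ⟩) (mem_good.2 ⟨rfl, fun η hη => h4 η (by rwa [mul_comm])⟩)
  · obtain ⟨q, hq, hq1, hq2⟩ := Nat.Prime.not_coprime_iff_dvd.1 hcop
    haveI := Fact.mk hq
    obtain ⟨M, _, h4, h5⟩ := exists_complement_of_cd (G := G) (p := q) fun d hd hd1 => by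
      rcases (h3 d hd).resolve_left hd1 with rfl | rfl <;> assumption
    have h6 : Nat.card M < k := by
      rw [← hk]
      refine lt_of_le_of_ne (Nat.le_of_dvd Nat.card_pos (card_subgroup_dvd_card M)) fun e => ?_
      rw [e] at h4
      exact (Nat.Prime.coprime_iff_not_dvd hq).1 h4.symm (hq1.trans hξ.charDegree_dvd_card)
    haveI := ih _ h6 M rfl (ordCompl[q] (charDegree ξ)) (ordCompl[q] (charDegree χ)) fun d hd => by
      obtain ⟨e, he, rfl⟩ := cd_complement M h4 h5 hd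
      rcases h3 e he with rfl | rfl | rfl <;> simp
    haveI := h5.isNilpotent
    haveI : Group.IsSolvable G := solvable_of_ker_le_range M.subtype (QuotientGroup.mk' M) (by simp)
    exact hNs inferInstance

section
variable {G : Type*} [Group G] [Finite G]

theorem exists_ne_one {H : Type*} [Group H] [Finite H] (h : MinNonab H) : ∃ m ∈ cd H, m ≠ 1 := by
  by_contra hcon
  push Not at hcon
  exact h.ne_bot (eq_bot_iff.2 (commutator_le.2 fun a _ b _ =>
    commutatorElement_eq_one_iff_mul_comm.2 (comm_iff_cd.2 hcon a b)))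

theorem caseA {m n : ℕ} (h : ∀ d ∈ cd G, d = 1 ∨ d = m ∨ d = n) (hc : (cd G).card ≤ 3)
    (K : Subgroup G) [K.Normal] (hK : MinNonab (G ⧸ K)) {p : ℕ} (hp : p.Prime)
    (hP : IsPGroup p (G ⧸ K)) : derivedSeries G 3 = ⊥ := by
  haveI := Fact.mk hp
  obtain ⟨f, hf, hf1⟩ := exists_ne_one hK
  obtain ⟨k, hk⟩ := hP.exists_card_eq
  obtain ⟨j, hj⟩ := exists_eq_pow_of_mem_cd hp hP hf
  have hpf : p ∣ f := hj ▸ dvd_pow_self p fun e => hf1 (by rw [hj, e, pow_zero])
  have hfG := cd_quotient_subset K hf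
  obtain ⟨N, _, h1, h2⟩ := exists_complement_of_cd (G := G) (p := p) fun d hd hd1 => by
    by_contra hn
    have h3 := mul_mem_cd_of_coprime K hf hd (by
      rw [index, hk]; exact Nat.Coprime.pow_right k ((Nat.Prime.coprime_iff_not_dvd hp).2 hn).symm)
    rcases three_of_mem h hfG hd hf1 hd1 (fun e => hn (e ▸ hpf)) _ h3 with e | e | e
    · exact hf1 (Nat.eq_one_of_mul_eq_one_right e)
    · exact hd1 ((Nat.mul_eq_left (pos_of_mem_cd hf).ne').1 e)
    · exact hf1 ((Nat.mul_eq_right (pos_of_mem_cd hd).ne').1 e)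
  by_cases hall : ∀ e ∈ cd G, ∃ i, e = p ^ i
  · refine derivedSeries_eq_bot_of_comm_by_nilpotent N (comm_subgroup_of_cd fun d hd => ?_)
      h2.isNilpotent hc
    obtain ⟨e, he, rfl⟩ := cd_complement N h1 h2 hd
    obtain ⟨i, rfl⟩ := hall e he
    exact Nat.ordCompl_self_pow hp
  push Not at hall
  obtain ⟨e, he, he'⟩ := hall
  have h3 := three_of_mem h hfG he hf1 (fun e1 => he' 0 (by rw [e1, pow_zero]))
    (fun e1 => he' j (e1 ▸ hj))
  have h4 : derivedSeries N 2 = ⊥ := derivedSeries_two_eq_bot_of_cd (m := ordCompl[p] e) fun d hd => by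
    obtain ⟨a, ha, rfl⟩ := cd_complement N h1 h2 hd
    rcases h3 a ha with rfl | rfl | rfl
    · simp
    · exact Or.inl (hj ▸ Nat.ordCompl_self_pow hp)
    · exact Or.inr rfl
  have h5 : derivedSeries (G ⧸ ⁅N, N⁆) 2 = ⊥ := derivedSeries_two_eq_bot_of_cd (m := f) fun d hd => by
    refine (or_assoc.2 (h3 d (cd_quotient_subset _ hd))).resolve_right ?_
    rintro rfl
    have h6 := dvd_index_of_comm (A := N.map (QuotientGroup.mk' ⁅N, N⁆)) (by
      rintro _ ⟨a, ha, rfl⟩ _ ⟨b, hb, rfl⟩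
      rw [← commutatorElement_eq_one_iff_mul_comm, ← map_commutatorElement]
      exact (QuotientGroup.eq_one_iff _).2 (commutator_mem_commutator ha hb)) hd
    obtain ⟨l, hl⟩ := h2.exists_card_eq
    rw [index_map_eq _ (QuotientGroup.mk'_surjective _)
      (by rw [QuotientGroup.ker_mk']; exact commutator_le_left N N), index, hl] at h6
    obtain ⟨i, -, hi⟩ := (Nat.dvd_prime_pow hp).1 h6
    exact he' i hi
  rw [← map_derivedSeries_eq (QuotientGroup.mk'_surjective _), Subgroup.map_eq_bot_iff,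
    QuotientGroup.ker_mk'] at h5
  have h6 := derived_step N.subtype (a := 2) (b := 1) (by
    rw [derivedSeries_one, map_subtype_commutator]; exact h5)
  rwa [h4, Subgroup.map_bot, le_bot_iff] at h6

theorem solvable_case [Group.IsSolvable G] {m n : ℕ} (h : ∀ d ∈ cd G, d = 1 ∨ d = m ∨ d = n)
    (hc : (cd G).card ≤ 3) : derivedSeries G 3 = ⊥ := by
  by_cases hab : _root_.commutator G ≤ ⊥
  · rw [derivedSeries_succ, derivedSeries_succ, derivedSeries_one, le_bot_iff.1 hab]; simp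
  obtain ⟨K, _, -, hK⟩ := exists_minNonab ⊥ hab
  obtain ⟨p, hp, hP | ⟨h1, h2, h3, h4⟩⟩ := hK.struct inferInstance
  · exact caseA h hc K hK hp hP
  haveI := Fact.mk hp
  obtain ⟨k, hk⟩ := h1.exists_card_eq
  set f := (_root_.commutator (G ⧸ K)).index with hf
  set N := (_root_.commutator (G ⧸ K)).comap (QuotientGroup.mk' K) with hN
  have hNf : N.index = f := index_comap_of_surjective _ (QuotientGroup.mk'_surjective K)
  have hmul : ∀ d ∈ cd N, ¬ p ∣ d → f * d ∈ cd G := by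
    intro d hd hpd
    obtain ⟨ψ, hψ, rfl⟩ := mem_cd'.1 hd
    refine h4.mul_mem_cd (QuotientGroup.mk' K) (QuotientGroup.mk'_surjective K) hK.ne_bot h2 hN hψ ?_
    rw [hk]
    exact Nat.Coprime.pow_right k ((Nat.Prime.coprime_iff_not_dvd hp).2 hpd).symm
  have hfG : f ∈ cd G := by simpa using hmul 1 one_mem_cd hp.not_dvd_one
  by_cases hf1 : f = 1
  · rw [index_eq_one] at hf1
    refine absurd (eq_bot_iff.2 (commutator_le.2 fun a _ b _ =>
      commutatorElement_eq_one_iff_mul_comm.2 ?_)) hK.ne_bot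
    exact congrArg Subtype.val (h2.is_comm.comm
      (⟨a, hf1 ▸ mem_top a⟩ : _root_.commutator (G ⧸ K)) ⟨b, hf1 ▸ mem_top b⟩)
  obtain ⟨e, he⟩ : ∃ e, ∀ d ∈ cd G, d = 1 ∨ d = f ∨ d = e := by
    rcases (h f hfG).resolve_left hf1 with e | e
    · exact ⟨n, e ▸ h⟩
    · exact ⟨m, fun d hd => by have := h d hd; omega⟩
  obtain ⟨W, _, h5, h6, h7⟩ := exists_complement_of_forall_dvd (G := G) (Nat.gcd f e)
    fun q _ hq d hd hd1 => by
      rcases (he d hd).resolve_left hd1 with rfl | rfl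
      · exact hq.trans (Nat.gcd_dvd_left _ _)
      · exact hq.trans (Nat.gcd_dvd_right _ _)
  by_cases hW : _root_.commutator G ≤ W
  swap
  · obtain ⟨L, _, hWL, hL⟩ := exists_minNonab W hW
    obtain ⟨q, hq, hV⟩ := hL.isMinNormal.exists_isPGroup inferInstance
    haveI : Group.IsNilpotent (G ⧸ L) := nilpotent_of_surjective
      (QuotientGroup.map W L (MonoidHom.id G) hWL) fun x => by
        obtain ⟨y, rfl⟩ := QuotientGroup.mk_surjective x
        exact ⟨y, rfl⟩
    exact caseA h hc L hL hq (hL.isPGroup_of_center hq hV fun e => hL.ne_bot (by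
      have := hL.isMinNormal.le_centralizer_of_isNilpotent ⊤ inferInstance
      rwa [coe_top, centralizer_univ, e, le_bot_iff] at this))
  have hU : ∀ d ∈ cd (W.subgroupOf N), d ≠ 1 → d.Coprime (Nat.gcd f e) ∧
      ∃ c, e = c * d ∧ ∀ r : ℕ, r.Prime → r ∣ c → r ∣ Nat.gcd f e := by
    intro d hd hd1
    have h8 : d.Coprime (Nat.gcd f e) := Nat.Coprime.coprime_dvd_left ((dvd_card_of_mem_cd hd).trans
      (card_comap_dvd_of_injective W N.subtype N.subtype_injective)) h5
    obtain ⟨a, ha, had⟩ := exists_mem_cd_of_normal _ hd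
    obtain ⟨b, hb, hbd⟩ := exists_mem_cd_of_normal _ had
    rw [hNf] at hb
    refine ⟨h8, ?_⟩
    rcases he _ hbd with e1 | e1 | e1
    · exact absurd (Nat.eq_one_of_mul_eq_one_left (Nat.eq_one_of_mul_eq_one_left e1)) hd1
    · have h9 : a * d ∣ f := e1 ▸ dvd_mul_left _ _
      rcases he _ (hmul _ had fun h10 => h3 (h10.trans h9)) with e2 | e2 | e2
      · exact absurd (Nat.eq_one_of_mul_eq_one_right e2) hf1
      · exact absurd (Nat.eq_one_of_mul_eq_one_left
          ((Nat.mul_eq_left (pos_of_mem_cd hfG).ne').1 e2)) hd1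
      · exact absurd (h8.eq_one_of_dvd ((dvd_mul_left d a).trans
          (Nat.dvd_gcd h9 (e2 ▸ dvd_mul_left _ _)))) hd1
    · refine ⟨b * a, by rw [← e1, mul_assoc], fun r hr hr' => ?_⟩
      rcases (Nat.Prime.dvd_mul hr).1 hr' with h9 | h9
      · exact Nat.dvd_gcd (h9.trans hb) (e1 ▸ h9.mul_right _)
      · exact h7 r hr ((h9.trans ha).trans (relIndex_dvd_index_of_normal W N))
  have hdv : ∀ d ∈ cd (W.subgroupOf N), ∀ d' ∈ cd (W.subgroupOf N), d ≠ 1 → d' ≠ 1 → d ∣ d' := by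
    intro d hd d' hd' h8 h9
    obtain ⟨h10, c, hc, -⟩ := hU d hd h8
    obtain ⟨-, c', hc', h11⟩ := hU d' hd' h9
    refine Nat.Coprime.dvd_of_dvd_mul_left (m := c') (Nat.coprime_of_dvd fun r hr h12 h13 => ?_)
      (hc' ▸ hc ▸ dvd_mul_left _ _)
    exact hr.not_dvd_one (h10 ▸ Nat.dvd_gcd h12 (h11 r hr h13))
  obtain ⟨s, hs⟩ : ∃ s, ∀ d ∈ cd (W.subgroupOf N), d = 1 ∨ d = s := by
    by_cases h8 : ∃ s ∈ cd (W.subgroupOf N), s ≠ 1
    · obtain ⟨s, hs, hs1⟩ := h8
      exact ⟨s, fun d hd => or_iff_not_imp_left.2 fun h9 =>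
        Nat.dvd_antisymm (hdv d hd s hs h9 hs1) (hdv s hs d hd hs1 h9)⟩
    · push Not at h8
      exact ⟨1, fun d hd => Or.inl (h8 d hd)⟩
  have h8 := derived_step _ (derived_step (N.subtype.comp (W.subgroupOf N).subtype) (a := 1) (b := 0)
    fun x hx => by
      rw [derivedSeries_one] at hx
      have h9 : x ∈ N := by
        refine commutator_le.2 (fun a _ b _ => ?_) hx
        rw [hN, mem_comap, map_commutatorElement]
        exact commutator_mem_commutator (mem_top _) (mem_top _)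
      exact ⟨⟨⟨x, h9⟩, hW hx⟩, mem_top _, rfl⟩)
  rwa [derivedSeries_two_eq_bot_of_cd hs, Subgroup.map_bot, le_bot_iff] at h8

end

/-- A finite group with exactly three distinct irreducible character degrees is solvable of derived length at most 3: its third derived subgroup is trivial. -/
theorem result {G : Type*} [Group G] [Finite G] (hcd : Nat.card {n : ℕ // ∃ χ : Cfsg.IrrCharacter G, Cfsg.charDegree (χ : G → ℂ) = n} = 3) : derivedSeries G 3 = ⊥ := by
  rw [← card_cd] at hcd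
  obtain ⟨m, n, h⟩ : ∃ m n, ∀ d ∈ cd G, d = 1 ∨ d = m ∨ d = n := by
    obtain ⟨m, n, -, h⟩ := Finset.card_eq_two.1
      (show ((cd G).erase 1).card = 2 by rw [Finset.card_erase_of_mem one_mem_cd, hcd])
    refine ⟨m, n, fun d hd => or_iff_not_imp_left.2 fun h1 => ?_⟩
    simpa [h] using Finset.mem_erase.2 ⟨h1, hd⟩
  haveI := solv _ G rfl m n h
  exact solvable_case h hcd.le

end Cfsg.Agent.S4460
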