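import Cfsg.Statements.S4483
import Cfsg.Agent.Lib.Modular.RealTwo

set_option autoImplicit false
open Cfsg

namespace Cfsg.Agent.S4483

open Cfsg.Lib.Block Cfsg.Lib.Char Cfsg.Lib.Modular
open scoped ComplexConjugate

/-- Let G be a finite group of order 2^n·g₀ with g₀ odd, and M a maximal ideal of the algebraic integers containing 2. Every real-valued irreducible character of G of odd degree lies in the principal 2-block; consequently G has at most 2^(2n) real-valued irreducible characters of odd degree. -/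
theorem result {G : Type*} [Group G] [Finite G] (M : Ideal Cfsg.AlgInt) (hM : Cfsg.IsPModular 2 M) : (∀ χ : Cfsg.IrrCharacter G, (∀ g : G, ((χ : G → ℂ) g).im = 0) → Odd (Cfsg.charDegree (χ : G → ℂ)) → χ ∈ Cfsg.principalBlock M G) ∧ Nat.card {χ : Cfsg.IrrCharacter G // (∀ g : G, ((χ : G → ℂ) g).im = 0) ∧ Odd (Cfsg.charDegree (χ : G → ℂ))} ≤ 2 ^ (2 * (Nat.card G).factorization 2) := by
  have : Modular 2 M := ⟨hM⟩
  have := Fintype.ofFinite G
  have h1 : ∀ χ : Cfsg.IrrCharacter G, (∀ g : G, ((χ : G → ℂ) g).im = 0) →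
      Odd (Cfsg.charDegree (χ : G → ℂ)) → χ ∈ Cfsg.principalBlock M G := fun χ hr ho => by
    refine mem_principalBlock_of_red_inv (fun h => (Nat.not_even_iff_odd.2 ho)
      (even_iff_two_dvd.2 h)) fun g _ => ?_
    rw [centralChar_def, centralChar_def, index_centralizer_inv, χ.2.apply_inv,
      Complex.conj_eq_iff_im.2 (hr g)]
  refine ⟨h1, le_trans (Nat.card_le_card_of_injective
    (fun χ => (⟨χ.1, h1 χ.1 χ.2.1 χ.2.2⟩ : principalBlock M G))
    fun a b h => Subtype.ext (congrArg Subtype.val h :)) ?_⟩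
  have h2 := four_mul_card_le (M := M) (G := G) Cfsg.Lib.Block.isPBlock_principalBlock
  rw [blockDefect_principalBlock] at h2
  have h3 : 0 < 2 ^ (2 * (Nat.card G).factorization 2) := by positivity
  change Nat.card (principalBlock M G) ≤ _
  omega

end Cfsg.Agent.S4483
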