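import Cfsg.Statements.S4528
import Cfsg.Agent.Lib.Tame.Dihedral

set_option autoImplicit false
open Cfsg

namespace Cfsg.Agent.S4528

open Cfsg.Lib.Block Cfsg.Lib.Char Cfsg.Lib.Modular Cfsg.Lib.Tame

/-- Let B be a 2-block of the finite group G (relative to a maximal ideal M of the algebraic integers containing 2) whose defect group D is dihedral of order 2 ^ n with n ≥ 3. Then B contains exactly 2 ^ (n - 2) + 3 irreducible characters, its 2-regular rank (the number of irreducible Brauer characters) is between 1 and 3, exactly four of its members have height zero, and every member has height at most one. -/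
theorem result {G : Type*} [Group G] [Finite G] (M : Ideal Cfsg.AlgInt) (hM : Cfsg.IsPModular 2 M) (B : Set (Cfsg.IrrCharacter G)) (hB : Cfsg.IsPBlock M B) (D : Subgroup G) (hD : Cfsg.IsDefectGroup 2 M B D) (n : ℕ) (hn : 3 ≤ n) (hdih : Nonempty (D ≃* DihedralGroup (2 ^ (n - 1)))) : Nat.card B = 2 ^ (n - 2) + 3 ∧ 1 ≤ Cfsg.blockRank 2 B ∧ Cfsg.blockRank 2 B ≤ 3 ∧ Nat.card {χ : Cfsg.IrrCharacter G // χ ∈ B ∧ Cfsg.blockHeight 2 B (χ : G → ℂ) = 0} = 4 ∧ ∀ χ ∈ B, Cfsg.blockHeight 2 B (χ : G → ℂ) ≤ 1 := by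
  classical
  have : Modular 2 M := ⟨hM⟩
  have := Fintype.ofFinite G
  obtain ⟨ω₀, hm, rfl⟩ := Prs.exists_isMax hB hD
  have := Fintype.ofFinite ω₀.grp
  obtain ⟨a, b, μ, h1, h⟩ := Cfsg.Lib.Inv.exists_mc_of_dihedral ω₀.pgrp
    (Nat.one_lt_two_pow (by omega)) hdih.some
  obtain rfl : μ = n - 2 := by have := Nat.pow_right_injective le_rfl h1; omega
  have hμ : n - 2 ≠ 0 := by omega
  have h2 := dih_card_eq hm h hμ
  obtain ⟨X, -, h3, -, -, h4⟩ := dih_card hm h hμ
  have h5 := Finset.card_ne_zero_of_mem h3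
  obtain ⟨c₁, c₂, c₃, c₄, -, -, -, -, -, h6, -⟩ := dih_signed hm h hμ
  refine ⟨h2, blockRank_pos hB, by omega, card_hzero.trans (exists_alpha hm h hμ).choose_spec.2.1,
    fun χ hχ => ?_⟩
  by_cases h7 : χ ∈ hzero B
  · exact (mem_hzero.1 h7).2.trans_le zero_le_one
  · exact (h6 χ (Finset.mem_sdiff.2 ⟨mem_irrs.2 hχ, h7⟩)).le

end Cfsg.Agent.S4528
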