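import Cfsg.Statements.S4558
import Cfsg.Agent.S0876
import Cfsg.Agent.Lib.Modular.Basic

set_option autoImplicit false
open Cfsg

namespace Cfsg.Agent.S4558

open Cfsg.Lib.Char Cfsg.Lib.Block in

/-- Let χ be a character of the finite group G and g an element of p-power order for the prime p. If χ g = 0, then p divides the degree of χ. -/
theorem result {G : Type*} [Group G] [Finite G] (p : ℕ) [Fact p.Prime] (χ : G → ℂ) (hχ : Cfsg.IsCharacter G χ) (g : G) (hg : ∃ j : ℕ, orderOf g = p ^ j) (h0 : χ g = 0) : p ∣ Cfsg.charDegree χ := by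
  obtain ⟨M, hM⟩ := Cfsg.Lib.Modular.exists_isPModular (Fact.out : p.Prime)
  haveI : Modular p M := ⟨hM⟩
  obtain ⟨j, hj⟩ := hg
  have h := Cfsg.Agent.S0876.red_pow_eq (M := M) hχ (k := j) (n := 1) (b := 0) (Nat.modEq_one)
    (x := g) (by simp [hj])
  rw [pow_zero, h0, red_zero, hχ.apply_one_eq] at h
  exact (red_natCast_eq_zero_iff _).1 h

end Cfsg.Agent.S4558
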