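import Cfsg.Statements.S4573
import Mathlib.GroupTheory.RegularWreathProduct
import Cfsg.Agent.Lib.CharDeg.Codeg
import Cfsg.Agent.Lib.Clifford.Monomial
import Cfsg.Agent.Lib.Core.Solvable

set_option autoImplicit false
universe u
open Cfsg

namespace Cfsg.Agent.S4573

open Cfsg.Lib Cfsg.Lib.Char Cfsg.Lib.Clifford Cfsg.Lib.Induce
open scoped ComplexConjugate

theorem classInner_pi {ι M : Type*} [Fintype ι] [DecidableEq ι] [Group M] [Fintype M]
    (φ ψ : ι → M → ℂ) :
    classInner (fun x : ι → M => ∏ i, φ i (x i)) (fun x => ∏ i, ψ i (x i)) =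
      ∏ i, classInner (φ i) (ψ i) := by
  simp only [classInner_def, map_prod, ← Finset.prod_mul_distrib]
  rw [← Fintype.piFinset_univ, ← Finset.prod_univ_sum (fun _ => Finset.univ)
    (fun i g => φ i g * conj (ψ i g)), Nat.card_fun, Finset.prod_mul_distrib]
  simp

theorem irr_pi {ι M : Type*} [Fintype ι] [DecidableEq ι] [Group M] [Fintype M]
    (θ : ι → IrrCharacter M) :
    IsIrrCharacter (ι → M) (fun x => ∏ i, (θ i : M → ℂ) (x i)) := by
  have h1 : IsCharacter (ι → M) (fun x => ∏ i, (θ i : M → ℂ) (x i)) := by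
    have := isCharacter_prod Finset.univ (fun i (x : ι → M) => (θ i : M → ℂ) (x i))
      fun i _ => (θ i).2.isCharacter.comp (Pi.evalMonoidHom (fun _ => M) i)
    convert this using 1
    ext; simp
  refine h1.isIrrCharacter_of_inner_self ?_
  rw [classInner_pi]
  exact Finset.prod_eq_one fun i _ => (θ i).2.inner_self

theorem exists_pi {ι M : Type*} [Fintype ι] [DecidableEq ι] [Group M] [Fintype M]
    (φ : (ι → M) → ℂ) (h : φ 1 ≠ 0) : ∃ θ : ι → IrrCharacter M,
      classInner φ (fun x => ∏ i, (θ i : M → ℂ) (x i)) ≠ 0 := by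
  classical
  by_contra hc
  push Not at hc
  apply h
  have e : regChar (ι → M) = ∑ θ : ι → IrrCharacter M, (∏ i, (θ i : M → ℂ) 1) •
      fun x : ι → M => ∏ i, (θ i : M → ℂ) (x i) := by
    funext x
    simp only [Finset.sum_apply, Pi.smul_apply, smul_eq_mul, ← Finset.prod_mul_distrib]
    rw [← Fintype.piFinset_univ, ← Finset.prod_univ_sum (fun _ => Finset.univ)
      (fun i (χ : IrrCharacter M) => (χ : M → ℂ) 1 * (χ : M → ℂ) (x i))]
    simp only [sum_irr_apply_one_mul_apply]
    by_cases hx : x = 1
    · subst hx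
      simp [Nat.card_fun]
    · obtain ⟨i, hi⟩ := Function.ne_iff.1 hx
      rw [regChar_of_ne_one hx]
      exact (Finset.prod_eq_zero (f := fun i => regChar M (x i)) (Finset.mem_univ i)
        (regChar_of_ne_one hi)).symm
  rw [← classInner_regChar_right φ, e, classInner_sum_right]
  exact Finset.sum_eq_zero fun θ _ => by rw [classInner_smul_right, hc, mul_zero]

/-- the product of linear characters -/
noncomputable def piHom {ι M : Type*} [Fintype ι] [Group M] (U : ι → Subgroup M)
    (lam : ∀ i, U i →* ℂˣ) : Subgroup.pi Set.univ U →* ℂˣ :=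
  MonoidHom.mk' (fun x => ∏ i, lam i ⟨x.1 i, x.2 i trivial⟩) fun x y => by
    rw [← Finset.prod_mul_distrib]
    exact Finset.prod_congr rfl fun i _ => by rw [← map_mul]; rfl

theorem indFun_pi {ι M : Type*} [Fintype ι] [DecidableEq ι] [Group M] [Fintype M]
    (U : ι → Subgroup M) (lam : ∀ i, U i →* ℂˣ) :
    indFun (Subgroup.pi Set.univ U) (fun x => (piHom U lam x : ℂ)) =
      fun x => ∏ i, indFun (U i) (fun u => (lam i u : ℂ)) (x i) := by
  funext x
  have h1 : ∀ z : ι → M, extendByZero (Subgroup.pi Set.univ U) (fun x => (piHom U lam x : ℂ)) z =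
      ∏ i, extendByZero (U i) (fun u => (lam i u : ℂ)) (z i) := by
    intro z
    by_cases hz : z ∈ Subgroup.pi Set.univ U
    · rw [extendByZero_of_mem _ _ hz]
      change ((∏ i, lam i ⟨z i, hz i trivial⟩ : ℂˣ) : ℂ) = _
      rw [Units.coe_prod]
      exact Finset.prod_congr rfl fun i _ => 
        (extendByZero_of_mem (U i) (fun u => (lam i u : ℂ)) (hz i trivial)).symm
    · rw [extendByZero_of_not_mem _ _ hz]
      obtain ⟨i, hi⟩ : ∃ i, z i ∉ U i := by
        by_contra h
        push Not at h
        exact hz fun i _ => h i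
      exact (Finset.prod_eq_zero (f := fun i => extendByZero (U i) (fun u => (lam i u : ℂ)) (z i))
        (Finset.mem_univ i) (extendByZero_of_not_mem _ _ hi)).symm
  have h2 : Nat.card (Subgroup.pi Set.univ U) = ∏ i, Nat.card (U i) := by
    rw [← Nat.card_pi]
    exact Nat.card_congr ((Equiv.subtypeEquivRight fun x => by simp [Subgroup.mem_pi]).trans
      (Equiv.subtypePiEquivPi (p := fun i (m : M) => m ∈ U i)))
  change (Nat.card (Subgroup.pi Set.univ U) : ℂ)⁻¹ * ∑ y : ι → M, extendByZero _ _ (y⁻¹ * x * y) =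
    ∏ i, ((Nat.card (U i) : ℂ)⁻¹ * ∑ y : M, extendByZero _ _ (y⁻¹ * x i * y))
  simp only [h1]
  rw [Finset.prod_mul_distrib, Finset.prod_univ_sum, Fintype.piFinset_univ, h2]
  simp

theorem charDegree_hom {G : Type*} [Group G] (lam : G →* ℂˣ) :
    charDegree (fun g => (lam g : ℂ)) = 1 := by
  have := (isCharacter_hom lam).apply_one_eq
  rw [map_one, Units.val_one] at this
  exact_mod_cast this.symm

theorem wreath {M Q : Type*} [Group M] [Fintype M] [Group Q] [Finite Q] (hQ : (Nat.card Q).Prime)
    (hM : ∀ χ : M → ℂ, IsIrrCharacter M χ → IsMonomial χ) [Fintype (M ≀ᵣ Q)]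
    (χ : M ≀ᵣ Q → ℂ) (hχ : IsIrrCharacter (M ≀ᵣ Q) χ) : IsMonomial χ := by
  classical
  haveI := Fintype.ofFinite Q
  let j : (Q → M) →* M ≀ᵣ Q := MonoidHom.mk' (fun f => ⟨f, 1⟩) fun f g => by
    ext <;> simp
  have hj : Function.Injective j := fun f g h => congrArg RegularWreathProduct.left h
  have hr : j.range = (RegularWreathProduct.rightHom : M ≀ᵣ Q →* Q).ker := by
    ext w
    constructor
    · rintro ⟨f, rfl⟩; rfl
    · intro h
      exact ⟨w.left, by ext; rfl; exact (show w.right = 1 from h).symm⟩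
  haveI : j.range.Normal := hr ▸ inferInstance
  have hidx : j.range.index = Nat.card Q := by
    rw [hr, Subgroup.index_ker, MonoidHom.range_eq_top_of_surjective _
      fun q => ⟨RegularWreathProduct.inl q, rfl⟩, Subgroup.card_top]
  let e := MonoidHom.ofInjective hj
  obtain ⟨θ, hθ⟩ := exists_pi (fun f => χ (j f)) (by rw [map_one]; exact hχ.apply_one_ne_zero)
  choose U lam hU using fun η : IrrCharacter M => hM η η.2
  have hΘ := irr_pi θ
  have hΘ' : (fun x => ∏ i, (θ i : M → ℂ) (x i)) =
      indFun (Subgroup.pi Set.univ fun i => U (θ i)) (fun x => (piHom _ (fun i => lam (θ i)) x : ℂ)) := by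
    rw [indFun_pi]
    funext x
    exact Finset.prod_congr rfl fun i _ => congrFun (hU (θ i)) _
  have hθN : classInner (fun n : j.range => χ n) (fun n => ∏ i, (θ i : M → ℂ) (e.symm n i)) ≠ 0 := by
    rw [← classInner_comp_equiv e]
    simp only [MulEquiv.symm_apply_apply]
    exact hθ
  have hdeg := clifford_degree j.range hχ (hΘ.comp_equiv e.symm) hθN
  obtain ⟨c, hc⟩ := (hχ.isCharacter.comp j.range.subtype).exists_inner_eq_nat
    (hΘ.comp_equiv e.symm).isCharacter
  have hc' : classInner (fun n : j.range => χ n) (fun n => ∏ i, (θ i : M → ℂ) (e.symm n i)) = c := hc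
  have hc0 : 0 < c := Nat.pos_of_ne_zero fun h => hθN (by rw [hc', h, Nat.cast_zero])
  have h1 : (∏ i, (θ i : M → ℂ) ((1 : Q → M) i)) =
      ((Subgroup.pi Set.univ fun i => U (θ i)).index : ℂ) := by
    have := congrFun hΘ' 1
    rw [indFun_one, map_one, Units.val_one, mul_one] at this
    exact this
  rw [hc', hχ.apply_one_eq, map_one, h1] at hdeg
  have hdeg' : charDegree χ = c * (inertia j.range fun n => ∏ i, (θ i : M → ℂ) (e.symm n i)).index *
      (Subgroup.pi Set.univ fun i => U (θ i)).index := by exact_mod_cast hdeg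
  rw [hΘ', frobenius_reciprocity' _ _ (hχ.isCharacter.comp j).isClassFunction] at hθ
  have hdvd := Subgroup.index_dvd_of_le (le_inertia j.range (hΘ.comp_equiv e.symm).isClassFunction)
  rw [hidx] at hdvd
  rcases (Nat.dvd_prime hQ).1 hdvd with hi | hi
  · have hconst : ∀ q, θ q = θ 1 := by
      intro q
      have h2 := (inertia_eq_top_iff _).1 (Subgroup.index_eq_one.1 hi) (RegularWreathProduct.inl q)
      have h3 : (fun x : Q → M => ∏ i, (θ (q * i) : M → ℂ) (x i)) =
          fun x => ∏ i, (θ i : M → ℂ) (x i) := by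
        funext x
        have h4 := h2 (e x)
        have h5 : (⟨RegularWreathProduct.inl q * (e x : M ≀ᵣ Q) * (RegularWreathProduct.inl q)⁻¹,
            Subgroup.Normal.conj_mem ‹_› _ (e x).2 _⟩ : j.range) = e fun i => x (q⁻¹ * i) := by
          apply Subtype.ext
          change RegularWreathProduct.inl q * j x * (RegularWreathProduct.inl q)⁻¹ = j _
          ext <;> simp [j]
        rw [h5] at h4
        simp only [MulEquiv.symm_apply_apply] at h4
        rw [← h4]
        exact Fintype.prod_equiv (Equiv.mulLeft q) _ _ fun i => by simp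
      have h4 := hΘ.inner_self
      nth_rewrite 1 [← h3] at h4
      rw [classInner_pi] at h4
      have h5 := Finset.prod_ne_zero_iff.1 (h4.trans_ne one_ne_zero) 1 (Finset.mem_univ _)
      rw [mul_one] at h5
      exact Subtype.ext ((θ q).2.eq_of_inner_ne_zero (θ 1).2 h5)
    obtain ⟨η, rfl⟩ : ∃ η, θ = fun _ => η := ⟨θ 1, funext hconst⟩
    let H : Subgroup (M ≀ᵣ Q) :=
      { carrier := {w | ∀ i, w.left i ∈ U η}
        mul_mem' := fun ha hb i => mul_mem (ha i) (hb _)
        one_mem' := fun i => one_mem _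
        inv_mem' := fun ha i => inv_mem (ha _) }
    let L : H →* ℂˣ := MonoidHom.mk' (fun w => ∏ i, lam η ⟨w.1.left i, w.2 i⟩) fun x y => by
      rw [← Fintype.prod_equiv (Equiv.mulLeft x.1.right⁻¹)
        (fun i => lam η ⟨y.1.left (x.1.right⁻¹ * i), y.2 _⟩) (fun i => lam η ⟨y.1.left i, y.2 i⟩)
        (fun i => rfl),
        ← Finset.prod_mul_distrib]
      exact Finset.prod_congr rfl fun i _ => by rw [← map_mul]; rfl
    have hcard : Nat.card H = Nat.card (Subgroup.pi Set.univ fun _ : Q => U η) * Nat.card Q := by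
      rw [← Nat.card_prod]
      exact Nat.card_congr
        { toFun := fun w => (⟨w.1.left, fun i _ => w.2 i⟩, w.1.right)
          invFun := fun x => ⟨⟨x.1.1, x.2⟩, fun i => x.1.2 i trivial⟩
          left_inv := fun w => rfl
          right_inv := fun x => rfl }
    have hHi : H.index = (Subgroup.pi Set.univ fun _ : Q => U η).index := by
      have a1 := H.card_mul_index
      have a2 := (Subgroup.pi Set.univ fun _ : Q => U η).card_mul_index
      rw [RegularWreathProduct.card, ← Nat.card_fun, ← a2, hcard] at a1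
      apply Nat.eq_of_mul_eq_mul_left (Nat.mul_pos (Nat.card_pos
        (α := Subgroup.pi Set.univ fun _ : Q => U η)) hQ.pos)
      rw [a1]; ring
    haveI : Fact (Nat.card Q).Prime := ⟨hQ⟩
    haveI : IsCyclic Q := isCyclic_of_prime_card rfl
    obtain ⟨β, hβ⟩ : ∃ β : IrrCharacter Q,
        classInner (fun h : H => χ h) (fun h => (L h : ℂ) * (β : Q → ℂ) h.1.right) ≠ 0 := by
      by_contra hcon
      push Not at hcon
      have h2 : classInner (fun h : H => χ h) (fun h => (L h : ℂ) * regChar Q h.1.right) = 0 := by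
        have : (fun h : H => (L h : ℂ) * regChar Q h.1.right) = ∑ β : IrrCharacter Q,
            (β : Q → ℂ) 1 • fun h : H => (L h : ℂ) * (β : Q → ℂ) h.1.right := by
          funext h
          simp only [← sum_irr_apply_one_mul_apply, Finset.sum_apply, Pi.smul_apply, smul_eq_mul,
            Finset.mul_sum]
          exact Finset.sum_congr rfl fun β _ => by ring
        rw [this, classInner_sum_right]
        exact Finset.sum_eq_zero fun β _ => by rw [classInner_smul_right, hcon, mul_zero]
      apply hθ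
      rw [classInner_def] at h2 ⊢
      have h3 := (mul_eq_zero.1 h2).resolve_left (inv_ne_zero (card_ne_zero_complex _))
      rw [← Fintype.sum_of_injective
        (fun u : Subgroup.pi Set.univ fun _ : Q => U η => (⟨j u, fun i => u.2 i trivial⟩ : H))
        (fun u v h => Subtype.ext (hj (congrArg Subtype.val h)))
        (fun u => (χ (j u) * conj ((piHom _ (fun _ => lam η) u : ℂˣ) : ℂ)) * Nat.card Q) _ ?_ ?_,
        ← Finset.sum_mul] at h3
      · rw [(mul_eq_zero.1 h3).resolve_right (card_ne_zero_complex _), mul_zero]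
      · intro h hh
        rw [regChar_of_ne_one, mul_zero, map_zero, mul_zero]
        intro h1
        exact hh ⟨⟨h.1.left, fun i _ => h.2 i⟩, Subtype.ext (by ext; rfl; exact h1.symm)⟩
      · intro u
        change _ = χ (j u) * conj (((piHom _ (fun _ => lam η) u : ℂˣ) : ℂ) * regChar Q 1)
        rw [regChar_one, map_mul, map_natCast, mul_assoc]
    obtain ⟨ν, hν⟩ := β.2.isCharacter.exists_hom_of_apply_one
      (comm_iff_forall_irr_apply_one.1 (fun a b => IsCyclic.commGroup.mul_comm a b) β)
    refine ⟨H, L * ν.comp (RegularWreathProduct.rightHom.comp H.subtype),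
      CharDeg.eq_indFun_of_index_mul_le hχ H (isCharacter_hom _) ?_ ?_⟩
    · rw [hν] at hβ
      exact hβ
    · rw [charDegree_hom, hdeg', hi, hHi]
      nlinarith
  · let e' := (Subgroup.pi Set.univ fun i => U (θ i)).equivMapOfInjective j hj
    refine ⟨(Subgroup.pi Set.univ fun i => U (θ i)).map j,
      (piHom _ (fun i => lam (θ i))).comp e'.symm.toMonoidHom,
      CharDeg.eq_indFun_of_index_mul_le hχ _ (isCharacter_hom _) ?_ ?_⟩
    · rw [← classInner_comp_equiv e']
      simp only [MonoidHom.comp_apply, MulEquiv.coe_toMonoidHom, MulEquiv.symm_apply_apply]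
      exact hθ
    · rw [charDegree_hom, hdeg', hi, Subgroup.index_map_of_injective _ hj, hidx]
      rw [mul_one, mul_comm, mul_assoc]
      exact Nat.le_mul_of_pos_left _ hc0

theorem embed {G M : Type*} [Group G] [Group M] (N : Subgroup G) [N.Normal] (f : N →* M)
    (hf : Function.Injective f) : ∃ φ : G →* M ≀ᵣ (G ⧸ N), Function.Injective φ := by
  have hmem : ∀ (g : G) (q : G ⧸ N), q.out⁻¹ * g * ((g : G ⧸ N)⁻¹ * q).out ∈ N := by
    intro g q
    rw [← QuotientGroup.eq_one_iff]
    simp
  refine ⟨MonoidHom.mk' (fun g => ⟨fun q => f ⟨_, hmem g q⟩, (g : G ⧸ N)⟩) fun g h => ?_, ?_⟩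
  · ext q
    · simp only [RegularWreathProduct.mul_left, Pi.mul_apply, ← map_mul]
      congr 1
      apply Subtype.ext
      simp [mul_assoc]
    · rfl
  · rw [injective_iff_map_eq_one]
    intro g hg
    have h1 : (g : G ⧸ N) = 1 := congrArg RegularWreathProduct.right hg
    have h2 : f ⟨_, hmem g 1⟩ = 1 := congrFun (congrArg RegularWreathProduct.left hg) 1
    have h3 := congrArg Subtype.val ((injective_iff_map_eq_one f).1 hf _ h2)
    simp only [h1, inv_one, mul_one, OneMemClass.coe_one] at h3
    rwa [mul_assoc, inv_mul_eq_one, eq_comm, mul_eq_right] at h3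

/-- Every finite solvable group is isomorphic to a subgroup of a finite M-group, a group each of whose irreducible characters is induced from a homomorphism of some subgroup into ℂˣ. -/
theorem result {G : Type u} [Group G] [Finite G] (hsolv : Group.IsSolvable G) : ∃ (M : Type u) (_ : Group M) (_ : Fintype M), (∀ χ : M → ℂ, Cfsg.IsIrrCharacter M χ → (∃ (H : Subgroup M) (lam : ↥H →* ℂˣ), χ = Cfsg.indFun H (fun h => (lam h : ℂ)))) ∧ ∃ f : G →* M, Function.Injective f := by
  induction hn : Nat.card G using Nat.strong_induction_on generalizing G with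
  | _ n ih =>
  by_cases h : (⊥ : Subgroup G) = ⊤
  · haveI : Subsingleton G := Subgroup.subsingleton_iff.1 (subsingleton_of_bot_eq_top h)
    letI := Fintype.ofFinite G
    exact ⟨G, inferInstance, inferInstance, fun χ hχ => isMonomial_of_isNilpotent hχ,
      MonoidHom.id G, Function.injective_id⟩
  · obtain ⟨N, hN, -, hp⟩ := Core.exists_normal_index_prime_ge h inferInstance
    obtain ⟨M, _, _, hM, f, hf⟩ := ih _ (hn ▸ Core.card_lt_of_ne_top
      (fun e => hp.ne_one (Subgroup.index_eq_one.2 e))) (G := N) inferInstance rfl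
    letI := Fintype.ofFinite (M ≀ᵣ (G ⧸ N))
    exact ⟨M ≀ᵣ (G ⧸ N), inferInstance, inferInstance, wreath hp hM, embed N f hf⟩

end Cfsg.Agent.S4573
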