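import Cfsg.Statements.S4561
import Cfsg.Agent.S4573
import Cfsg.Agent.Lib.CharDeg.GL2Char

set_option autoImplicit false
universe u
open Cfsg

namespace Cfsg.Agent.S4561

open Cfsg.Lib Cfsg.Lib.Char Cfsg.Lib.Clifford Cfsg.Lib.Induce
open scoped ComplexConjugate

universe v

/-- the inductive invariant -/
def Good (G : Type v) [Group G] : Prop :=
  ∃ (H : Type v) (_ : Group H) (_ : Finite H) (χ : H → ℂ) (Z : Subgroup H) (_ : Z.Normal)
    (lam : Z →* ℂˣ), IsCharacter H χ ∧ (∀ z : Z, χ z = χ 1 * lam z) ∧ (∀ h, h ∉ Z → χ h = 0) ∧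
    χ 1 ^ 2 = Z.index ∧ (∃ f : G →* H ⧸ Z, Function.Injective f) ∧
    (∀ r : ℕ, r.Prime → r ∣ Nat.card H → r ∣ Nat.card G) ∧
    (∃ m : ℕ, Squarefree m ∧ ∀ z, lam z ^ m = 1) ∧
    ∀ r : ℕ, r.Prime → r ∣ Nat.card G → ∃ z, orderOf (lam z) = r

theorem step {G N Q : Type v} [Group G] [Group N] [Group Q] [Finite Q] (hQ : (Nat.card Q).Prime)
    (hG : Nat.card G = Nat.card N * Nat.card Q)
    (hemb : ∀ (M : Type v) [Group M] (f : N →* M), Function.Injective f →
      ∃ φ : G →* M ≀ᵣ Q, Function.Injective φ)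
    (h : Good N) : Good G := by
  classical
  obtain ⟨K, _, _, θ, Z, _, lam, hθ, h1, h2, h3, ⟨f, hf⟩, h4, ⟨m, hm, hm'⟩, h5⟩ := h
  obtain ⟨φ, hφ⟩ := hemb _ f hf
  haveI := Fintype.ofFinite Q
  haveI : Fact (Nat.card Q).Prime := ⟨hQ⟩
  haveI : IsCyclic Q := isCyclic_of_prime_card rfl
  obtain ⟨D, _, ev, hev, hinj, hD⟩ : ∃ (D : Type v) (_ : CommGroup D) (ev : Q → D →* ℂˣ),
      (∀ i i' c, ev (i * i') c = ev i c * ev i' c) ∧ (∀ c, (∀ i, ev i c = 1) → c = 1) ∧
      Nat.card D = Nat.card Q :=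
    ⟨Q →* ℂˣ, inferInstance, fun i => MonoidHom.mk' (fun c => c i) fun a b => rfl,
      fun i i' c => map_mul c i i', fun c h => MonoidHom.ext h, by
        rw [card_hom_units, (commutator_eq_bot_iff Q).2 inferInstance, Subgroup.index_bot]⟩
  let ev' : D → Q →* ℂˣ := fun c => MonoidHom.mk' (fun i => ev i c) fun a b => hev a b c
  have hev1 : ∀ c, ev 1 c = 1 := fun c => map_one (ev' c)
  haveI : Finite D := Nat.finite_of_card_ne_zero (hD ▸ hQ.ne_zero)
  haveI := Fintype.ofFinite ((K × D) ≀ᵣ Q)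
  let j : (Q → K × D) →* (K × D) ≀ᵣ Q := MonoidHom.mk' (fun f => ⟨f, 1⟩) fun f g => by
    ext1 <;> simp
  have hj : Function.Injective j := fun f g h => congrArg RegularWreathProduct.left h
  have hr : ∀ w : (K × D) ≀ᵣ Q, w ∈ j.range ↔ w.right = 1 := by
    intro w
    constructor
    · rintro ⟨f, rfl⟩; rfl
    · intro h
      exact ⟨w.left, by ext1; rfl; exact h.symm⟩
  have hr' : j.range = (RegularWreathProduct.rightHom : _ ≀ᵣ Q →* Q).ker := by
    ext w; exact hr w
  haveI : j.range.Normal := hr' ▸ inferInstance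
  let e := MonoidHom.ofInjective hj
  let Θ : (Q → K × D) → ℂ := fun x => ∏ i, (θ (x i).1 * (ev i (x i).2 : ℂˣ))
  have hΘ : IsCharacter _ Θ := by
    have := isCharacter_prod Finset.univ
      (fun i (x : Q → K × D) => θ (x i).1 * (ev i (x i).2 : ℂˣ))
      fun i _ => (hθ.comp ((MonoidHom.fst K D).comp (Pi.evalMonoidHom (fun _ => K × D) i))).mul
        (isCharacter_hom ((ev i).comp
          ((MonoidHom.snd _ _).comp (Pi.evalMonoidHom (fun _ => K × D) i))))
    convert this using 1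
    ext; simp [Θ]
  have hΘ' : IsCharacter j.range (fun n => Θ (e.symm n)) := hΘ.comp e.symm.toMonoidHom
  have hval : ∀ x, indFun j.range (fun n => Θ (e.symm n)) (j x) =
      Θ x * ∑ q, ((ev q (∏ i, (x i).2) : ℂˣ) : ℂ) := by
    intro x
    rw [GLTwo.indFun_eq_sum_of_bijective j.range (fun q => RegularWreathProduct.inl q⁻¹) ?_
      hΘ'.isClassFunction, Finset.mul_sum]
    · refine Finset.sum_congr rfl fun q _ => ?_
      have : (RegularWreathProduct.inl q⁻¹ : (K × D) ≀ᵣ Q)⁻¹ * j x *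
          (RegularWreathProduct.inl q⁻¹ : (K × D) ≀ᵣ Q) =
          ((e fun i => x (q⁻¹ * i) : j.range) : (K × D) ≀ᵣ Q) := by
        change _ = j _
        ext1
        · funext i; simp [j]
        · simp [j]
      rw [this, extendByZero_coe, MulEquiv.symm_apply_apply]
      simp only [Θ, map_prod, Units.coe_prod, ← Finset.prod_mul_distrib]
      exact Fintype.prod_equiv (Equiv.mulLeft q⁻¹) _ _ fun i => by
        simp only [Equiv.coe_mulLeft]
        rw [mul_assoc, ← Units.val_mul, mul_comm _ (ev q _), ← hev, mul_inv_cancel_left]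
    · constructor
      · intro q q' h
        rw [QuotientGroup.eq, hr] at h
        simpa [mul_inv_eq_one] using h
      · intro w
        obtain ⟨w, rfl⟩ := QuotientGroup.mk_surjective w
        refine ⟨w.right⁻¹, ?_⟩
        rw [QuotientGroup.eq, hr]
        simp
  let Ψ : (K × D) ≀ᵣ Q →* ((K ⧸ Z) ≀ᵣ Q) × D := MonoidHom.mk'
    (fun w => (⟨fun i => ((w.left i).1 : K ⧸ Z), w.right⟩, ∏ i, (w.left i).2)) fun a b => by
      ext1
      · ext1 <;> rfl
      · simp only [RegularWreathProduct.mul_left, Pi.mul_apply, Prod.snd_mul, Finset.prod_mul_distrib]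
        congr 1
        exact Fintype.prod_equiv (Equiv.mulLeft a.right⁻¹) _ _ fun i => rfl
  have hΨ : Function.Surjective Ψ := by
    rintro ⟨w, c⟩
    refine ⟨⟨fun i => ((w.left i).out, Pi.mulSingle (M := fun _ => D) 1 c i), w.right⟩, ?_⟩
    ext1
    · ext1
      · funext i; exact QuotientGroup.out_eq' _
      · rfl
    · change ∏ i, Pi.mulSingle (M := fun _ => D) 1 c i = c
      rw [Finset.prod_pi_mulSingle']; simp
  have hker : ∀ w : (K × D) ≀ᵣ Q, w ∈ Ψ.ker ↔ w.right = 1 ∧ (∀ i, (w.left i).1 ∈ Z) ∧ ∏ i, (w.left i).2 = 1 := by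
    intro w
    rw [MonoidHom.mem_ker, Prod.ext_iff, RegularWreathProduct.ext_iff, funext_iff]
    simp only [← QuotientGroup.eq_one_iff]
    exact ⟨fun h => ⟨h.1.2, h.1.1, h.2⟩, fun h => ⟨⟨h.2.1, h.1⟩, h.2.2⟩⟩
  let L : Ψ.ker →* ℂˣ := MonoidHom.mk'
    (fun w => ∏ i, (lam ⟨(w.1.left i).1, ((hker _).1 w.2).2.1 i⟩ * ev i (w.1.left i).2)) fun a b => by
      rw [← Finset.prod_mul_distrib]
      refine Finset.prod_congr rfl fun i _ => ?_
      have : (a * b).1.left i = a.1.left i * b.1.left i := by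
        change a.1.left i * b.1.left (a.1.right⁻¹ * i) = _
        rw [((hker _).1 a.2).1, inv_one, one_mul]
      rw [mul_mul_mul_comm, ← map_mul]
      congr 1
      · congr 1
        exact Subtype.ext (congrArg Prod.fst this)
      · rw [this, Prod.snd_mul, map_mul]
  have hone : indFun j.range (fun n => Θ (e.symm n)) 1 = θ 1 ^ Nat.card Q * Nat.card Q := by
    rw [← map_one j, hval]
    simp [Θ]
  refine ⟨(K × D) ≀ᵣ Q, inferInstance, inferInstance,
    indFun j.range (fun n => Θ (e.symm n)), Ψ.ker, inferInstance, L, isCharacter_indFun _ hΘ',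
    ?_, ?_, ?_, ?_, ?_, ?_, ?_⟩
  · rintro ⟨w, hw⟩
    obtain ⟨a1, a2, a3⟩ := (hker w).1 hw
    obtain ⟨x, rfl⟩ := (hr w).2 a1
    rw [hone]
    change indFun j.range (fun n => Θ (e.symm n)) (j x) =
      _ * ((∏ i, (lam ⟨(x i).1, a2 i⟩ * ev i (x i).2) : ℂˣ) : ℂ)
    have a4 : ∏ i, (x i).2 = 1 := a3
    have a5 : ∀ i, θ (x i).1 = θ 1 * lam ⟨(x i).1, a2 i⟩ := fun i => h1 ⟨(x i).1, a2 i⟩
    rw [hval, a4]
    simp only [Θ, a5, Units.coe_prod, Units.val_mul, mul_assoc, Finset.prod_mul_distrib, map_one,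
      Units.val_one, Finset.prod_const, Finset.sum_const, Finset.card_univ, nsmul_eq_mul,
      Nat.card_eq_fintype_card]
    ring
  · intro w hw
    by_cases a1 : w.right = 1
    · obtain ⟨x, rfl⟩ := (hr w).2 a1
      rw [hval]
      by_cases a2 : ∀ i, (x i).1 ∈ Z
      · have a3 : ∏ i, (x i).2 ≠ 1 := fun h => hw ((hker _).2 ⟨a1, a2, h⟩)
        have := sum_hom_units_eq_zero ((Units.coeHom ℂ).comp (ev' (∏ i, (x i).2))) fun h => a3
          (hinj _ fun q => Units.ext (DFunLike.congr_fun h q))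
        exact mul_eq_zero_of_right _ this
      · push Not at a2
        obtain ⟨i, hi⟩ := a2
        refine mul_eq_zero_of_left (Finset.prod_eq_zero (Finset.mem_univ i) ?_) _
        rw [h2 _ hi, zero_mul]
    · exact indFun_normal_of_not_mem _ _ fun h => a1 ((hr w).1 h)
  · rw [hone, Subgroup.index_ker, MonoidHom.range_eq_top_of_surjective _ hΨ, Subgroup.card_top,
      Nat.card_prod, RegularWreathProduct.card, hD, mul_pow, ← pow_mul, mul_comm _ 2, pow_mul, h3]
    push_cast
    rw [Subgroup.index]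
    ring
  · exact ⟨(QuotientGroup.quotientKerEquivOfSurjective Ψ hΨ).symm.toMonoidHom.comp
      ((MonoidHom.inl _ _).comp φ), (QuotientGroup.quotientKerEquivOfSurjective Ψ hΨ).symm.injective.comp
        (fun a b h => hφ (congrArg Prod.fst h))⟩
  · intro r hr hd
    rw [RegularWreathProduct.card, Nat.card_prod, hD] at hd
    rw [hG]
    rcases (hr.dvd_mul).1 hd with h | h
    · rcases (hr.dvd_mul).1 (hr.dvd_of_dvd_pow h) with h | h
      · exact (h4 r hr h).mul_right _
      · exact h.mul_left _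
    · exact h.mul_left _
  · obtain ⟨m', a1, a2, a3⟩ : ∃ m', Squarefree m' ∧ m ∣ m' ∧ Nat.card Q ∣ m' := by
      by_cases h : Nat.card Q ∣ m
      · exact ⟨m, hm, dvd_rfl, h⟩
      · exact ⟨m * Nat.card Q, (Nat.squarefree_mul (hQ.coprime_iff_not_dvd.2 h).symm).2
          ⟨hm, hQ.squarefree⟩, dvd_mul_right _ _, dvd_mul_left _ _⟩
    refine ⟨m', a1, fun w => ?_⟩
    change (∏ i, _) ^ m' = 1
    rw [← Finset.prod_pow]
    refine Finset.prod_eq_one fun i _ => ?_
    obtain ⟨k, hk⟩ := a2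
    obtain ⟨l, hl⟩ := a3
    rw [mul_pow, ← map_pow (ev i)]
    nth_rewrite 1 [hk]
    rw [pow_mul, hm', one_pow, one_mul, hl, ← hD, pow_mul, pow_card_eq_one', one_pow, map_one]
  · intro r hr hd
    rw [hG] at hd
    rcases (hr.dvd_mul).1 hd with h | h
    · obtain ⟨z, hz⟩ := h5 r hr h
      refine ⟨⟨j fun i => (Pi.mulSingle (M := fun _ => Z) 1 z i, 1),
        (hker _).2 ⟨rfl, fun i => Subtype.prop _, Finset.prod_const_one⟩⟩, ?_⟩
      rw [← hz]
      congr 1
      change ∏ i, (lam (Pi.mulSingle (M := fun _ => Z) 1 z i) * ev i 1) = _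
      simp only [map_one, mul_one]
      rw [Finset.prod_eq_single 1]
      · simp
      · intro b _ hb; simp [Pi.mulSingle_eq_of_ne hb]
      · simp
    · obtain rfl := (Nat.prime_dvd_prime_iff_eq hr hQ).1 h
      haveI : Nontrivial D := Finite.one_lt_card_iff_nontrivial.1 (hD ▸ hQ.one_lt)
      obtain ⟨c, hc⟩ := exists_ne (1 : D)
      obtain ⟨q, hq⟩ := not_forall.1 (mt (hinj c) hc)
      refine ⟨⟨j fun i => (1, Pi.mulSingle (M := fun _ => D) q c i *
          Pi.mulSingle (M := fun _ => D) 1 c⁻¹ i),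
        (hker _).2 ⟨rfl, fun i => one_mem _, ?_⟩⟩, ?_⟩
      · change ∏ i, (Pi.mulSingle (M := fun _ => D) q c i *
          Pi.mulSingle (M := fun _ => D) 1 c⁻¹ i) = 1
        rw [Finset.prod_mul_distrib, Finset.prod_pi_mulSingle', Finset.prod_pi_mulSingle']; simp
      · have : orderOf (ev q c) = Nat.card Q :=
          orderOf_eq_prime (by rw [← map_pow, ← hD, pow_card_eq_one', map_one]) hq
        rw [← this]
        congr 1
        change ∏ i, (lam 1 * ev i (Pi.mulSingle (M := fun _ => D) q c i *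
          Pi.mulSingle (M := fun _ => D) 1 c⁻¹ i)) = _
        simp only [map_one, one_mul, map_mul, Finset.prod_mul_distrib]
        rw [Finset.prod_eq_single q, Finset.prod_eq_single 1]
        · simp [hev1]
        · intro b _ hb; simp [Pi.mulSingle_eq_of_ne hb]
        · simp
        · intro b _ hb; simp [Pi.mulSingle_eq_of_ne hb]
        · simp

theorem good (G : Type v) [Group G] [Finite G] (hsolv : Group.IsSolvable G) : Good G := by
  induction hn : Nat.card G using Nat.strong_induction_on generalizing G with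
  | _ n ih =>
  by_cases h : (⊥ : Subgroup G) = ⊤
  · haveI : Subsingleton G := Subgroup.subsingleton_iff.1 (subsingleton_of_bot_eq_top h)
    refine ⟨G, inferInstance, inferInstance, fun _ => 1, ⊤, inferInstance, 1,
      isIrrCharacter_one.isCharacter, fun z => by simp, fun h hh => absurd trivial hh, by simp,
      ⟨1, fun a b _ => Subsingleton.elim a b⟩, fun r _ h => h, ⟨1, squarefree_one, fun z => by simp⟩,
      fun r hr h => ?_⟩
    rw [Nat.card_of_subsingleton (1 : G)] at h
    exact absurd (Nat.dvd_one.1 h) hr.ne_one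
  · obtain ⟨N, hN, -, hp⟩ := Core.exists_normal_index_prime_ge h inferInstance
    exact step (N := N) (Q := G ⧸ N) hp N.card_mul_index.symm (fun M _ f hf => S4573.embed N f hf)
      (ih _ (hn ▸ Core.card_lt_of_ne_top
        (fun e => hp.ne_one (Subgroup.index_eq_one.2 e))) N inferInstance rfl)

/-- For every finite solvable group G there is a finite group H with a faithful irreducible character χ whose degree squared equals the index of the centre Z(H) (so χ is fully ramified over the centre), such that G is isomorphic to a subgroup of H/Z(H), the primes dividing the orders of H, of Z(H) and of G are the same, and the order of Z(H) is squarefree. -/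
theorem result {G : Type u} [Group G] [Finite G] (hsolv : Group.IsSolvable G) : ∃ (H : Type u) (_ : Group H) (_ : Finite H) (χ : Cfsg.IrrCharacter H), (∀ h : H, (χ : H → ℂ) h = (χ : H → ℂ) 1 → h = 1) ∧ (Cfsg.charDegree (χ : H → ℂ)) ^ 2 = (Subgroup.center H).index ∧ (∃ f : G →* H ⧸ Subgroup.center H, Function.Injective f) ∧ (∀ p : ℕ, p.Prime → ((p ∣ Nat.card H ↔ p ∣ Nat.card G) ∧ (p ∣ Nat.card (Subgroup.center H) ↔ p ∣ Nat.card G))) ∧ Squarefree (Nat.card (Subgroup.center H)) := by
  classical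
  obtain ⟨H, _, _, χ, Z, _, lam, hχ, h1, h2, h3, ⟨f, hf⟩, h4, ⟨m, hm, hm'⟩, h5⟩ := good G hsolv
  haveI := Fintype.ofFinite H
  have hi0 : (Z.index : ℂ) ≠ 0 := by exact_mod_cast Subgroup.FiniteIndex.index_ne_zero
  have h0 : χ 1 ≠ 0 := fun h => hi0 (by rw [← h3, h]; simp)
  have hnorm : ∀ z : Z, ‖(lam z : ℂ)‖ = 1 := fun z =>
    Complex.norm_eq_one_of_pow_eq_one (n := m) (by rw [← Units.val_pow_eq_pow_val, hm', Units.val_one])
      hm.ne_zero
  have hirr : IsIrrCharacter H χ := by
    refine hχ.isIrrCharacter_of_inner_self ?_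
    rw [classInner_def, ← Fintype.sum_of_injective (fun z : Z => (z : H)) Subtype.val_injective
      (fun _ => (Z.index : ℂ)) _ (fun h hh => by
        rw [h2 h fun h' => hh ⟨⟨h, h'⟩, rfl⟩, zero_mul]) (fun z => by
        rw [h1, map_mul, mul_mul_mul_comm, Complex.mul_conj (lam z : ℂ), Complex.normSq_eq_norm_sq,
          hnorm, ← h3, hχ.apply_one_eq]
        simp [pow_two])]
    rw [Finset.sum_const, Finset.card_univ, ← Nat.card_eq_fintype_card, nsmul_eq_mul, ← Nat.cast_mul,
      Z.card_mul_index, inv_mul_cancel₀ (card_ne_zero_complex H)]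
  haveI := hχ.charKer_normal
  obtain ⟨ψ, hψ, hψ'⟩ := hirr.exists_deflate (charKer χ) fun x hx => hχ.mem_charKer_iff.1 hx
  have hψ1 : ψ 1 = χ 1 := hψ' 1
  have hle : charKer χ ≤ Z := fun x hx => by_contra fun h =>
    h0 (by rw [← hχ.mem_charKer_iff.1 hx, h2 x h])
  have hcen : Subgroup.center (H ⧸ charKer χ) = Z.map (QuotientGroup.mk' (charKer χ)) := by
    ext x
    obtain ⟨x, rfl⟩ := QuotientGroup.mk_surjective x
    constructor
    · intro hx
      refine ⟨x, by_contra fun h => h0 ?_, rfl⟩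
      have := hψ.isCharacter.mem_charCenter_iff.1 (hψ.center_le_charCenter hx)
      rw [hψ', h2 x h, hψ1, norm_zero] at this
      exact norm_eq_zero.1 this.symm
    · rintro ⟨z, hz, e⟩
      rw [← e, Subgroup.mem_center_iff]
      intro g
      obtain ⟨g, rfl⟩ := QuotientGroup.mk_surjective g
      have a1 : z ∈ charCenter χ := hχ.mem_charCenter_iff.2 (by
        rw [h1 ⟨z, hz⟩, norm_mul, hnorm, mul_one])
      have a2 := (QuotientGroup.eq_one_iff _).2 (hχ.commutator_mem_charKer a1 g)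
      simp only [QuotientGroup.mk_mul, QuotientGroup.mk_inv] at a2
      rw [mul_inv_eq_one, mul_inv_eq_iff_eq_mul] at a2
      exact a2.symm
  have hcard : Nat.card (Subgroup.center (H ⧸ charKer χ)) = Nat.card lam.range := by
    have : Z.map (QuotientGroup.mk' (charKer χ)) =
        ((QuotientGroup.mk' (charKer χ)).comp Z.subtype).range := by
      rw [MonoidHom.range_comp, Z.range_subtype]
    rw [hcen, this, ← Subgroup.index_ker, ← Subgroup.index_ker]
    congr 1
    ext z
    rw [MonoidHom.mem_ker, MonoidHom.mem_ker]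
    change ((z : H) : H ⧸ charKer χ) = 1 ↔ _
    rw [QuotientGroup.eq_one_iff, hχ.mem_charKer_iff, h1, mul_right_eq_self₀, Units.val_eq_one]
    exact or_iff_left h0
  haveI : Finite lam.range := Finite.of_surjective _ lam.rangeRestrict_surjective
  have hdvd : Nat.card lam.range ∣ m := by
    rw [← IsCyclic.exponent_eq_card]
    refine Monoid.exponent_dvd_of_forall_pow_eq_one ?_
    rintro ⟨_, z, rfl⟩
    exact Subtype.ext (hm' z)
  have hZG : ∀ p : ℕ, p.Prime → p ∣ Nat.card G → p ∣ Nat.card (Subgroup.center (H ⧸ charKer χ)) := by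
    intro p hp h
    obtain ⟨z, hz⟩ := h5 p hp h
    rw [hcard, ← hz]
    exact Subgroup.orderOf_dvd_natCard _ ⟨z, rfl⟩
  have hHG : ∀ p : ℕ, p.Prime → p ∣ Nat.card (H ⧸ charKer χ) → p ∣ Nat.card G := fun p hp h =>
    h4 p hp (h.trans (Subgroup.card_quotient_dvd_card _))
  refine ⟨H ⧸ charKer χ, inferInstance, inferInstance, ⟨ψ, hψ⟩, ?_, ?_, ?_, fun p hp =>
    ⟨⟨hHG p hp, fun h => (hZG p hp h).trans (Subgroup.card_subgroup_dvd_card _)⟩,
      ⟨fun h => hHG p hp (h.trans (Subgroup.card_subgroup_dvd_card _)), hZG p hp⟩⟩,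
    hcard ▸ hm.squarefree_of_dvd hdvd⟩
  · intro x hx
    obtain ⟨x, rfl⟩ := QuotientGroup.mk_surjective x
    exact (QuotientGroup.eq_one_iff _).2 (hχ.mem_charKer_iff.2 ((hψ' x).symm.trans (hx.trans hψ1)))
  · rw [hcen, Subgroup.index_map, QuotientGroup.ker_mk', sup_eq_left.2 hle, QuotientGroup.range_mk',
      Subgroup.index_top, mul_one]
    have : (charDegree ψ : ℂ) ^ 2 = Z.index := by rw [← hψ.apply_one_eq, hψ1, h3]
    exact_mod_cast this
  · let E := ((QuotientGroup.quotientMulEquivOfEq hcen).trans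
      (QuotientGroup.quotientQuotientEquivQuotient (charKer χ) Z hle)).symm
    exact ⟨E.toMonoidHom.comp f, E.injective.comp hf⟩

end Cfsg.Agent.S4561
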