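import Cfsg.Statements.S4591
import Cfsg.Agent.Lib.CharDeg.MinNonab
import Cfsg.Agent.Lib.CharDeg.GlaubermanCount
import Cfsg.Agent.Lib.Clifford.Extension
import Cfsg.Agent.Lib.Core.Frattini
import Cfsg.Agent.Lib.BG.Hall
import Cfsg.Agent.Lib.FH.A
import Cfsg.Agent.S0081

set_option autoImplicit false
open Cfsg

namespace Cfsg.Agent.S4591

open Subgroup Cfsg.Lib Cfsg.Lib.BG Cfsg.Lib.Char Cfsg.Lib.Induce Cfsg.Lib.Clifford Cfsg.Lib.CharDeg
open scoped commutatorElement

section
variable {G : Type*} [Group G] [Finite G] {p : ℕ} [hp : Fact p.Prime]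

theorem up {T : Subgroup G} (hT : ¬ p ∣ T.index) {η : T → ℂ} (hη : IsIrrCharacter T η) (hd : ¬ p ∣ charDegree η)
    {x : T} (hx : ∀ χ : IrrCharacter G, ¬ p ∣ charDegree (χ : G → ℂ) → (χ : G → ℂ) x = (χ : G → ℂ) 1) :
    η x = η 1 := by
  haveI := Fintype.ofFinite G
  haveI := Fintype.ofFinite T
  obtain ⟨χ, hχ, hne, h3⟩ := exists_constituent_not_dvd (isCharacter_indFun T hη.isCharacter) (p := p) (by
    rw [charDegree_eq_of_apply_one (n := T.index * charDegree η) (by rw [indFun_one, hη.apply_one_eq, Nat.cast_mul])]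
    exact fun h4 => ((Nat.Prime.dvd_mul hp.out).1 h4).elim hT hd)
  rw [frobenius_reciprocity T η hχ.isClassFunction, Ne, classInner_eq_zero_comm] at hne
  exact (hχ.isCharacter.restrict T).apply_eq_of_constituent hη hne (hx ⟨χ, hχ⟩ h3)

theorem cop {H P : Subgroup G} (hH : ¬ p ∣ Nat.card H) (hP : IsPGroup p P) : (Nat.card H).Coprime (Nat.card P) := by
  obtain ⟨k, hk⟩ := hP.exists_card_eq
  rw [hk]
  exact (((Nat.Prime.coprime_iff_not_dvd hp.out).2 hH).symm).pow_right k

theorem gl (H : Subgroup G) [H.Normal] (hH : ¬ p ∣ Nat.card H) {P : Subgroup G} (hP : IsPGroup p P) :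
    H ⊓ 𝐂(P) = ⊥ ↔ ∀ θ : H → ℂ, IsIrrCharacter H θ → P ≤ inertia H θ → θ = fun _ => 1 := by
  have e := card_invariant_irr_eq_card_irr (A := P) (C := ↥(H ⊓ 𝐂(P))) (pgroup_sol hP) H
    (MulAut.conjNormal.comp P.subtype) (inclusion inf_le_left) (inclusion_injective _)
    (fun x => ⟨fun h => ⟨⟨x, x.2, mem_cent.2 fun s hs =>
        mul_inv_eq_iff_eq_mul.1 (congrArg Subtype.val (h ⟨s, hs⟩))⟩, rfl⟩, by
      rintro ⟨y, rfl⟩ s
      exact Subtype.ext (mul_inv_eq_iff_eq_mul.2 (mem_cent.1 y.2.2 s s.2))⟩) (cop hH hP)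
  constructor
  · intro h θ hθ hi
    have h1 : Nat.card (IrrCharacter ↥(H ⊓ 𝐂(P))) = 1 := by
      rw [card_irr_eq_card_conjClasses, h]
      haveI : Subsingleton (ConjClasses (⊥ : Subgroup G)) := ConjClasses.mk_surjective.subsingleton
      exact Nat.card_unique
    rw [h1, Nat.card_eq_one_iff_unique] at e
    exact congrArg (fun z => z.1.1) (e.1.elim ⟨⟨θ, hθ⟩, fun a g => (mem_inertia_iff H).1 (hi a.2) g⟩
      ⟨⟨_, isIrrCharacter_one⟩, fun _ _ => rfl⟩)
  · intro h
    have h1 : Nat.card (IrrCharacter ↥(H ⊓ 𝐂(P))) = 1 := by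
      rw [← e, Nat.card_eq_one_iff_unique]
      refine ⟨⟨fun a b => Subtype.ext (Subtype.ext ?_)⟩, ⟨⟨⟨_, isIrrCharacter_one⟩, fun _ _ => rfl⟩⟩⟩
      rw [h a.1.1 a.1.2 fun s hs => (mem_inertia_iff H).2 (a.2 ⟨s, hs⟩),
        h b.1.1 b.1.2 fun s hs => (mem_inertia_iff H).2 (b.2 ⟨s, hs⟩)]
    refine eq_bot_iff.2 fun x hx => mem_bot.2 (congrArg Subtype.val (eq_one_of_forall_irr_apply_eq
      (g := (⟨x, hx⟩ : ↥(H ⊓ 𝐂(P)))) fun χ hχ => ?_))
    have : χ = fun _ => 1 := congrArg Subtype.val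
      ((Nat.card_eq_one_iff_unique.1 h1).1.elim (⟨χ, hχ⟩ : IrrCharacter _) ⟨_, isIrrCharacter_one⟩)
    rw [this]

theorem idx (N : Subgroup G) [N.Normal] (P : Subgroup G) : N.relIndex (N ⊔ P) ∣ Nat.card P := by
  rw [relIndex_sup_left]
  exact index_dvd_card _

theorem nd (N : Subgroup G) (P : Sylow p G) : ¬ p ∣ (N ⊔ (P : Subgroup G)).index :=
  fun h => P.not_dvd_index (h.trans (index_dvd_of_le le_sup_right))

end

/-- Let G be a finite group, p a prime and P a Sylow p-subgroup, and let N be the largest normal subgroup of G in which P has trivial centralizer (N is normal with C_N(P) = 1 and contains every normal subgroup with that property). Then the intersection of the kernels of the irreducible characters of G of degree prime to p is the normal core in G of the subgroup N·P' (P' the derived subgroup of P). In particular, when G has no nontrivial normal subgroup of order prime to p, that intersection is the normal core of P'. -/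
theorem result {G : Type*} [Group G] [Finite G] (p : ℕ) [Fact p.Prime] (P : Sylow p G) (N : Subgroup G) [N.Normal]
    (hN : N ⊓ Subgroup.centralizer ((P : Subgroup G) : Set G) = ⊥)
    (hmax : ∀ L : Subgroup G, L.Normal → L ⊓ Subgroup.centralizer ((P : Subgroup G) : Set G) = ⊥ → L ≤ N) :
    {g : G | ∀ χ : Cfsg.IrrCharacter G, ¬ p ∣ Cfsg.charDegree (χ : G → ℂ) → (χ : G → ℂ) g = (χ : G → ℂ) 1} =
      ((N ⊔ ⁅(P : Subgroup G), (P : Subgroup G)⁆).normalCore : Set G) := by
  have hp : p.Prime := Fact.out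
  let K : Subgroup G := ⨅ χ : {χ : IrrCharacter G // ¬ p ∣ charDegree (χ : G → ℂ)}, charKer (χ.1 : G → ℂ)
  have mK : ∀ g, g ∈ K ↔ ∀ χ : IrrCharacter G, ¬ p ∣ charDegree (χ : G → ℂ) → (χ : G → ℂ) g = (χ : G → ℂ) 1 :=
    fun g => mem_iInf.trans ⟨fun h χ d => χ.2.isCharacter.mem_charKer_iff.1 (h ⟨χ, d⟩),
      fun h χ => χ.1.2.isCharacter.mem_charKer_iff.2 (h χ.1 χ.2)⟩
  haveI : K.Normal := ⟨fun x hx g => (mK _).2 fun χ d => (χ.2.isClassFunction x g).trans ((mK x).1 hx χ d)⟩
  ext g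
  refine (mK g).symm.trans ⟨fun hg => normal_le_normalCore.2 (?_ : K ≤ _) hg, fun hg => (mK g).2 fun χ d => ?_⟩
  · have h1 : K ⊓ (P : Subgroup G) ≤ ⁅(P : Subgroup G), (P : Subgroup G)⁆ := fun x hx => by
      by_contra c
      obtain ⟨η, hη, e1, e2⟩ := exists_irr_ker_ge_apply_ne (_root_.commutator (P : Subgroup G)) (g := ⟨x, hx.2⟩)
        fun d => c (map_subtype_commutator (P : Subgroup G) ▸ ⟨_, d, rfl⟩)
      refine e2 (up P.not_dvd_index hη ?_ ((mK x).1 hx.1))
      rw [hη.isCharacter.charDegree_eq_one_iff.2 (apply_one_of_commutator_le_ker hη e1)]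
      exact hp.not_dvd_one
    have h2 := hasNormalPComplement_iff.1 (Agent.S0081.result P K
      (h1.trans (Core.commutator_le_frattiniOf_of_isNilpotent P.isPGroup'.isNilpotent)))
    have kn : (⊤ : Subgroup G) ≤ 𝐍(K) := (normalizer_eq_top K).ge
    haveI : (𝐎({p}ᶜ, K)).Normal := normalizer_eq_top_iff.1 (eq_top_iff.2 (norm_pcore kn _))
    have h3 := PiGrp.p'_iff.1 h2.pi
    have h4 := (gl 𝐎({p}ᶜ, K) h3 P.isPGroup').2 fun θ hθ hi => by
      obtain ⟨η, hη, e⟩ := exists_extension_le_of_coprime 𝐎({p}ᶜ, K) (T := 𝐎({p}ᶜ, K) ⊔ P) le_sup_left hθ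
        (sup_le (le_inertia _ hθ.isClassFunction) hi) ((cop h3 P.isPGroup').coprime_dvd_right (idx _ _))
      have e1 : η 1 = θ 1 := e 1
      have e2 : ∀ n, θ n = θ 1 := fun n => by
        rw [← e n, ← e1]
        refine up (nd _ P) hη (fun d => h3 (d.trans ?_)) ((mK _).1 (h2.le n.2))
        rw [charDegree_eq_of_apply_one (n := charDegree θ) (e1.trans hθ.apply_one_eq)]
        exact hθ.charDegree_dvd_card
      funext n
      rw [e2, apply_one_of_commutator_le_ker hθ fun x _ => e2 x]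
    rw [← ((Syl.of_sylow_top P).inf_nml ⟨le_top, kn⟩).sup_eq h2.le (by simpa using h2.idx)]
    exact sup_le_sup (hmax _ inferInstance h4) (inf_comm K _ ▸ h1)
  · have h3 : ¬ p ∣ Nat.card N := fun c => by
      have := FH.dvd_card_cent P.isPGroup' (le_top.trans (normalizer_eq_top N).ge) c
      rw [hN, card_bot] at this
      exact hp.not_dvd_one this
    set T := N ⊔ (P : Subgroup G)
    set L := (N ⊔ ⁅(P : Subgroup G), (P : Subgroup G)⁆).normalCore
    haveI := Fintype.ofFinite T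
    haveI := Fintype.ofFinite L
    obtain ⟨η, hη, hne, d'⟩ := exists_constituent_not_dvd (χ.2.isCharacter.restrict T) (p := p) d
    obtain ⟨k, hk⟩ := P.isPGroup'.exists_card_eq
    have h4 := (isIrrCharacter_res_subgroupOf_iff (le_sup_left : N ≤ T)).1 (isIrrCharacter_res_of_coprime
      (N.subgroupOf T) hη ((((Nat.Prime.coprime_iff_not_dvd hp).2 d').symm.pow_right k).coprime_dvd_right
        (hk ▸ idx N P)))
    have h5 := (gl N h3 P.isPGroup').1 hN _ h4 fun s hs =>
      conjChar_res_le N le_sup_left hη.isClassFunction (mem_sup_right hs)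
    obtain ⟨lam, rfl⟩ := hη.isCharacter.exists_hom_of_apply_one (congrFun h5 1)
    have h6 : N ⊔ ⁅(P : Subgroup G), (P : Subgroup G)⁆ ≤ lam.ker.map T.subtype :=
      sup_le (fun n hn => ⟨⟨n, mem_sup_left hn⟩, Units.ext (congrFun h5 ⟨n, hn⟩), rfl⟩)
        (commutator_le.2 fun a ha b hb => ⟨⁅(⟨a, mem_sup_right ha⟩ : T), ⟨b, mem_sup_right hb⟩⁆, by
          rw [SetLike.mem_coe, MonoidHom.mem_ker, map_commutatorElement]
          exact commutatorElement_eq_one_iff_mul_comm.2 (mul_comm _ _), rfl⟩)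
    have h7 : L ≤ T := ((normalCore_le _).trans h6).trans (map_subtype_le _)
    have h8 : (fun x : L => (lam (inclusion h7 x) : ℂ)) = fun _ => 1 := funext fun x => by
      obtain ⟨y, hy, e⟩ := h6 (normalCore_le _ x.2)
      rw [show inclusion h7 x = y from Subtype.ext e.symm, MonoidHom.mem_ker.1 hy, Units.val_one]
    have h9 := inner_comp_ne_zero_of_constituent (inclusion h7) (χ.2.isCharacter.restrict T) hη hne isCharacter_one
      (by rw [h8, isIrrCharacter_one.inner_self]; exact one_ne_zero)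
    have h10 := res_eq_smul_of_invariant L χ.2 isIrrCharacter_one h9 fun _ _ => rfl
    exact (congrFun h10 ⟨g, hg⟩).trans (congrFun h10 1).symm

end Cfsg.Agent.S4591
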