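import Cfsg.Statements.S4762
import Cfsg.Agent.Lib.CharDeg.DerivedP
import Cfsg.Agent.Lib.Core.Fitting
import Cfsg.Agent.Lib.PGroup.Frattini

set_option autoImplicit false
open Cfsg

namespace Cfsg.Agent.S4762

open scoped commutatorElement in
theorem comm_pow_left {G : Type*} [Group G] {x y : G} (h : ⁅x, y⁆ ∈ Subgroup.center G) (n : ℕ) :
    ⁅x ^ n, y⁆ = ⁅x, y⁆ ^ n := by
  induction n with
  | zero => simp
  | succ n ih =>
    have hc := Subgroup.mem_center_iff.1 h
    have e : ⁅x ^ (n + 1), y⁆ = x * ⁅x ^ n, y⁆ * x⁻¹ * ⁅x, y⁆ := by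
      simp only [commutatorElement_def, pow_succ']; group
    have h2 := Subgroup.mem_center_iff.1 (Subgroup.pow_mem _ h n) x
    rw [e, ih, h2, pow_succ]; group

open Cfsg.Lib.Char Cfsg.Lib.Core Cfsg.Lib.CharDeg Cfsg.Lib.PGroup Subgroup in
open scoped commutatorElement in

/-- Let p be a prime and G a finite nilpotent group. Then G has exactly one irreducible complex character of degree divisible by p if and only if p = 2 and G is an extraspecial 2-group. -/
theorem result {G : Type*} [Group G] [Finite G] [Group.IsNilpotent G] (p : ℕ) [Fact p.Prime] : Nat.card {χ : Cfsg.IrrCharacter G // p ∣ Cfsg.charDegree (χ : G → ℂ)} = 1 ↔ (p = 2 ∧ Cfsg.IsExtraspecial 2 G) := by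
  classical
  have hp : p.Prime := Fact.out
  constructor
  · intro h
    obtain ⟨⟨χ, hχp⟩, hu⟩ := Nat.card_eq_one_iff_exists.1 h
    have hu' : ∀ φ ψ : G → ℂ, IsIrrCharacter G φ → IsIrrCharacter G ψ → p ∣ charDegree φ →
        p ∣ charDegree ψ → φ = ψ := by
      intro φ ψ hφ hψ h1 h2
      have e := (hu ⟨⟨φ, hφ⟩, h1⟩).trans (hu ⟨⟨ψ, hψ⟩, h2⟩).symm
      exact congrArg (fun x => (x.1 : G → ℂ)) e
    have hG : IsPGroup p G := by
      rcases eq_bot_or_commutator_le_of_unique (pPrimeCore p G)
        (isPGroup_quotient_pPrimeCore p) hu' with h0 | h0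
      · have := pCore_sup_pPrimeCore_eq_top (G := G) p
        rw [h0, sup_bot_eq] at this
        have h2 := pCore_isPGroup p G
        rw [this] at h2
        exact h2.of_equiv Subgroup.topEquiv
      · exfalso
        haveI := Fintype.ofFinite (pCore p G)
        have hab : ∀ a ∈ pCore p G, ∀ b ∈ pCore p G, a * b = b * a := by
          intro a ha b hb
          have h1 : ⁅a, b⁆ ∈ pCore p G ⊓ pPrimeCore p G :=
            ⟨(pCore p G).mul_mem ((pCore p G).mul_mem ((pCore p G).mul_mem ha hb)
              ((pCore p G).inv_mem ha)) ((pCore p G).inv_mem hb),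
              h0 (commutator_mem_commutator (mem_top _) (mem_top _))⟩
          rw [inf_eq_bot_of_isPGroup_of_coprime (pCore_isPGroup p G) (pPrimeCore_coprime p G),
            mem_bot] at h1
          exact commutatorElement_eq_one_iff_mul_comm.1 h1
        exact not_dvd_index_pCore (G := G) p
          (hχp.trans (Cfsg.Lib.Clifford.charDegree_dvd_index_of_comm _ χ.2 hab))
    have hχ1 : (χ : G → ℂ) 1 ≠ 1 := (dvd_charDegree_iff_of_isPGroup hG χ.2).1 hχp
    have hc := card_eq_index_commutator_add G
    have hf : Finset.univ.filter (fun ψ : IrrCharacter G => (ψ : G → ℂ) 1 ≠ 1) = {χ} := by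
      ext ψ
      simp only [Finset.mem_filter, Finset.mem_univ, true_and, Finset.mem_singleton]
      constructor
      · intro h1
        exact Subtype.ext (hu' _ _ ψ.2 χ.2 ((dvd_charDegree_iff_of_isPGroup hG ψ.2).2 h1) hχp)
      · rintro rfl; exact hχ1
    rw [hf, Finset.sum_singleton, ← (_root_.commutator G).card_mul_index] at hc
    obtain ⟨k, hk⟩ := exists_eq_pow_of_mem_cd hp hG (charDegree_mem_cd χ.2)
    obtain ⟨j, hj⟩ := IsPGroup.iff_card.1 (hG.to_subgroup (_root_.commutator G))
    set a := (_root_.commutator G).index with ha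
    have hj0 : j ≠ 0 := by
      rintro rfl
      rw [hj, pow_zero, one_mul] at hc
      have := χ.2.charDegree_pos
      have : charDegree (χ : G → ℂ) ^ 2 = 0 := by omega
      simp at this; omega
    have hb1 : 1 ≤ p ^ j := Nat.one_le_pow _ _ hp.pos
    have he : (p ^ j - 1) * a = charDegree (χ : G → ℂ) ^ 2 := by
      rw [Nat.sub_mul, ← hj, hc]; simp
    have hb : p ^ j - 1 = 1 := by
      have hd : p ^ j - 1 ∣ p ^ (k * 2) := by rw [pow_mul, ← hk, ← he]; exact dvd_mul_right _ _
      obtain ⟨i, -, hi⟩ := (Nat.dvd_prime_pow hp).1 hd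
      rcases i with _ | i
      · rw [hi, pow_zero]
      · exfalso
        have h1 : p ∣ p ^ j - 1 := by rw [hi]; exact dvd_pow_self p (Nat.succ_ne_zero i)
        have h2 : p ∣ p ^ j := dvd_pow_self p hj0
        have := (Nat.dvd_sub h2 h1)
        rw [Nat.sub_sub_self hb1] at this
        exact hp.ne_one (Nat.dvd_one.1 this)
    have hb2 : p ^ j = 2 := by omega
    have hp2 : p = 2 := by
      have : p ∣ 2 := hb2 ▸ dvd_pow_self p hj0
      exact (Nat.prime_dvd_prime_iff_eq hp Nat.prime_two).1 this
    subst hp2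
    rw [hb2] at hj
    have hZ : _root_.commutator G ≤ center G := le_center_of_card_eq hG _ hj
    have hle := charDegree_sq_le_index_center χ.2
    rw [← he, hb, one_mul] at hle
    have hEq : _root_.commutator G = center G := by
      refine Subgroup.eq_of_le_of_card_ge hZ ?_
      have h1 := (center G).card_mul_index
      rw [← (_root_.commutator G).card_mul_index, ← ha] at h1
      by_contra hlt
      push Not at hlt
      have hpos : 0 < a := Nat.pos_of_ne_zero Subgroup.index_ne_zero_of_finite
      nlinarith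
    refine ⟨rfl, ⟨hG, le_antisymm ?_ ?_, hEq⟩, by rw [← hEq, hj]⟩
    · rw [frattini_le_iff_sq_mem hG]
      intro x
      rw [mem_center_iff]
      intro y
      have hm : ⁅x, y⁆ ∈ _root_.commutator G := commutator_mem_commutator (mem_top _) (mem_top _)
      have h1 := comm_pow_left (hZ hm) 2
      have h2 : ⁅x, y⁆ ^ 2 = 1 := by
        have := pow_card_eq_one' (x := (⟨_, hm⟩ : _root_.commutator G))
        rw [hj] at this
        exact congrArg Subtype.val this
      rw [h2] at h1
      exact (commutatorElement_eq_one_iff_mul_comm.1 h1).symm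
    · rw [← hEq]; exact ((frattini_le_iff hG).1 le_rfl).1
  · rintro ⟨rfl, ⟨hG, -, hEq⟩, hZ⟩
    have hcc : Nat.card (_root_.commutator G) = 2 := by rw [hEq, hZ]
    have hc := card_eq_index_commutator_add G
    rw [Finset.sum_congr rfl (g := fun _ => (center G).index) (fun ψ hψ =>
      charDegree_sq_of_card_commutator hp hcc hEq.le ψ.2 (Finset.mem_filter.1 hψ).2),
      Finset.sum_const, smul_eq_mul, ← (_root_.commutator G).card_mul_index, hcc, hEq] at hc
    have hpos : 0 < (center G).index := Nat.pos_of_ne_zero Subgroup.index_ne_zero_of_finite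
    rw [Nat.subtype_card (Finset.univ.filter fun ψ : IrrCharacter G => (ψ : G → ℂ) 1 ≠ 1)
      (fun ψ => by simp [dvd_charDegree_iff_of_isPGroup hG ψ.2])]
    nlinarith

end Cfsg.Agent.S4762
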