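import Cfsg.Statements.S4776
import Cfsg.Agent.Lib.CharDeg.RelGraph2

set_option autoImplicit false
open Cfsg

namespace Cfsg.Agent.S4776

open Cfsg.Lib.RelGraph

/-- Let N be a normal subgroup of the finite group G that is not perfect and is contained in the derived subgroup of G. Consider the common-divisor graph on the relative degree set cd(G|N) (the degrees of the irreducible complex characters of G whose kernel does not contain N; two distinct degrees adjacent when they have a common divisor greater than one). Then this graph has at most two connected components; and if a, b ∈ cd(G|N) lie in different components, then one of a, b is coprime to the index m of the derived subgroup of N in N while the other is divisible by every prime divisor of m. -/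
theorem result {G : Type*} [Group G] [Finite G] (N : Subgroup G) [N.Normal] (hN : ⁅N, N⁆ < N) (hNG : N ≤ commutator G) : Nat.card (Cfsg.commonDivisorGraph.induce (Cfsg.relCharDegrees N)).ConnectedComponent ≤ 2 ∧ ∀ (a b : ℕ) (ha : a ∈ Cfsg.relCharDegrees N) (hb : b ∈ Cfsg.relCharDegrees N), ¬ (Cfsg.commonDivisorGraph.induce (Cfsg.relCharDegrees N)).Reachable ⟨a, ha⟩ ⟨b, hb⟩ → (Nat.Coprime a (⁅N, N⁆.relIndex N) ∧ ∀ r : ℕ, r.Prime → r ∣ ⁅N, N⁆.relIndex N → r ∣ b) ∨ (Nat.Coprime b (⁅N, N⁆.relIndex N) ∧ ∀ r : ℕ, r.Prime → r ∣ ⁅N, N⁆.relIndex N → r ∣ a) := by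
  obtain ⟨c, hc, H⟩ := exists_centre hNG hN
  obtain ⟨q, hq, hqm⟩ := exists_prime_dvd hN
  have hall : ∀ a ∈ relCharDegrees N, ¬ Rch (relCharDegrees N) a c → ∀ r : ℕ, r.Prime →
      r ∣ ⁅N, N⁆.relIndex N → r ∣ a := fun a ha h r hr hm => by
    by_contra hx
    exact h (H r hr hm a ha hx)
  have hboth : ∀ a ∈ relCharDegrees N, ∀ b ∈ relCharDegrees N, ¬ Rch (relCharDegrees N) a c →
      ¬ Rch (relCharDegrees N) b c → Rch (relCharDegrees N) a b := fun a ha b hb h1 h2 =>
    rch ha hb (not_coprime_of_dvd hq.one_lt (hall a ha h1 q hq hqm) (hall b hb h2 q hq hqm))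
  have hcop : ∀ a ∈ relCharDegrees N, ∀ b ∈ relCharDegrees N, ¬ Rch (relCharDegrees N) a b →
      ¬ Rch (relCharDegrees N) b c → a.Coprime (⁅N, N⁆.relIndex N) := fun a ha b hb h1 h2 => by
    by_contra hx
    obtain ⟨r, hr, r1, r2⟩ := Nat.Prime.not_coprime_iff_dvd.1 hx
    exact h1 (rch ha hb (not_coprime_of_dvd hr.one_lt r1 (hall b hb h2 r hr r2)))
  refine ⟨?_, fun a b ha hb hab => ?_⟩
  · have h2 : Nat.card Prop = 2 := by rw [Nat.card_eq_fintype_card, Fintype.card_prop]
    rw [← h2]
    refine Nat.card_le_card_of_injective (fun C => C = (commonDivisorGraph.induce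
      (relCharDegrees N)).connectedComponentMk ⟨c, hc⟩) fun C D => ?_
    induction C using SimpleGraph.ConnectedComponent.ind with | _ a => ?_
    induction D using SimpleGraph.ConnectedComponent.ind with | _ b => ?_
    intro e
    simp only [SimpleGraph.ConnectedComponent.eq, eq_iff_iff] at e ⊢
    by_cases h1 : Rch (relCharDegrees N) a c
    · exact h1.2.2.trans (e.1 h1.2.2).symm
    · exact (hboth a a.2 b b.2 h1 fun h => h1 ⟨a.2, hc, e.2 h.2.2⟩).2.2
  · have hab' : ¬ Rch (relCharDegrees N) a b := fun h => hab h.2.2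
    by_cases h2 : Rch (relCharDegrees N) b c
    · have h1 : ¬ Rch (relCharDegrees N) a c := fun h => hab' (h.trans h2.symm)
      exact Or.inr ⟨hcop b hb a ha (fun h => hab' h.symm) h1, hall a ha h1⟩
    · exact Or.inl ⟨hcop a ha b hb hab' h2, hall b hb h2⟩

end Cfsg.Agent.S4776
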