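import Cfsg.Statements.S4779
import Cfsg.Agent.Lib.CharDeg.RelGraph2

set_option autoImplicit false
open Cfsg

namespace Cfsg.Agent.S4779

open Cfsg.Lib.RelGraph Cfsg.Lib.Char

/-- Let N be a solvable normal subgroup of the finite group G contained in the derived subgroup of G, and consider the common-divisor graph on the relative degree set cd(G|N) (degrees of irreducible complex characters of G whose kernel does not contain N, two distinct degrees adjacent when not coprime). If this graph has two vertices that are not joined by any path, then there is a vertex a₀ such that any two distinct vertices in the component of a₀ are adjacent, and any two distinct vertices outside that component are adjacent or have a common neighbour (one component is complete, the other has diameter at most 2). -/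
theorem result {G : Type*} [Group G] [Finite G] (N : Subgroup G) [N.Normal] [Group.IsSolvable N] (hNG : N ≤ commutator G) (hdisc : ¬ (Cfsg.commonDivisorGraph.induce (Cfsg.relCharDegrees N)).Preconnected) : ∃ a₀ : ↥(Cfsg.relCharDegrees N), (∀ b c : ↥(Cfsg.relCharDegrees N), (Cfsg.commonDivisorGraph.induce (Cfsg.relCharDegrees N)).Reachable a₀ b → (Cfsg.commonDivisorGraph.induce (Cfsg.relCharDegrees N)).Reachable a₀ c → b ≠ c → (Cfsg.commonDivisorGraph.induce (Cfsg.relCharDegrees N)).Adj b c) ∧ (∀ b c : ↥(Cfsg.relCharDegrees N), ¬ (Cfsg.commonDivisorGraph.induce (Cfsg.relCharDegrees N)).Reachable a₀ b → ¬ (Cfsg.commonDivisorGraph.induce (Cfsg.relCharDegrees N)).Reachable a₀ c → b ≠ c → (Cfsg.commonDivisorGraph.induce (Cfsg.relCharDegrees N)).Adj b c ∨ ∃ d : ↥(Cfsg.relCharDegrees N), (Cfsg.commonDivisorGraph.induce (Cfsg.relCharDegrees N)).Adj b d ∧ (Cfsg.commonDivisorGraph.induce (Cfsg.relCharDegrees N)).Adj d c) := by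
  have := Fintype.ofFinite N
  simp only [SimpleGraph.Preconnected, not_forall] at hdisc
  obtain ⟨u, v, huv⟩ := hdisc
  have hN : ⁅N, N⁆ < N := by
    have : Nontrivial N := (Subgroup.nontrivial_iff_ne_bot N).2 (by
      rintro rfl
      obtain ⟨χ, ⟨x, hx, hne⟩, -⟩ := u.2
      exact hne (by rw [Subgroup.mem_bot.1 hx]))
    refine lt_of_le_of_ne (Subgroup.commutator_le_left N N) fun e => ?_
    have h5 := IsSolvable.commutator_lt_top_of_nontrivial N
    rw [← Subgroup.map_subtype_commutator] at e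
    exact h5.ne (Subgroup.map_injective N.subtype_injective (e.trans (by
      rw [← MonoidHom.range_eq_map, Subgroup.range_subtype])))
  obtain ⟨c, hc, H⟩ := exists_centre hNG hN
  obtain ⟨q, hq, hqm⟩ := exists_prime_dvd hN
  have hall : ∀ a ∈ relCharDegrees N, ¬ Rch (relCharDegrees N) a c → ∀ r : ℕ, r.Prime →
      r ∣ ⁅N, N⁆.relIndex N → r ∣ a := fun a ha h r hr hm => by
    by_contra hx
    exact h (H r hr hm a ha hx)
  obtain ⟨a, ha⟩ : ∃ a : relCharDegrees N, ¬ Rch (relCharDegrees N) a c := by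
    by_contra hx
    push Not at hx
    exact huv ((hx u).trans (hx v).symm).2.2
  refine ⟨a, fun x y hx hy hne => adj_of_not_coprime x.2 y.2 (pos_of_mem x.2)
    (fun e => hne (Subtype.ext e)) (not_coprime_of_dvd hq.one_lt
    (hall x x.2 (fun h => ha (Rch.trans ⟨a.2, x.2, hx⟩ h)) q hq hqm)
    (hall y y.2 (fun h => ha (Rch.trans ⟨a.2, y.2, hy⟩ h)) q hq hqm)), fun x y hx hy hne => ?_⟩
  have hcop : ∀ x : relCharDegrees N, ¬ (commonDivisorGraph.induce
      (relCharDegrees N)).Reachable a x → (⁅N, N⁆.relIndex N).Coprime x := fun x hx => by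
    by_contra h
    obtain ⟨r, hr, r1, r2⟩ := Nat.Prime.not_coprime_iff_dvd.1 h
    exact hx (rch a.2 x.2 (not_coprime_of_dvd hr.one_lt (hall a a.2 ha r hr r1) r2)).2.2
  by_cases hxy : (x : ℕ).Coprime y
  swap
  · exact Or.inl (adj_of_not_coprime x.2 y.2 (pos_of_mem x.2) (fun e => hne (Subtype.ext e)) hxy)
  right
  suffices h : ∃ d ∈ relCharDegrees N, ¬ (x : ℕ).Coprime d ∧ ¬ d.Coprime y by
    obtain ⟨d, hd, h1, h2⟩ := h
    exact ⟨⟨d, hd⟩, adj_of_not_coprime x.2 hd (pos_of_mem x.2) (fun e => h2 (e ▸ hxy)) h1,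
      adj_of_not_coprime hd y.2 (pos_of_mem hd) (fun e => h1 (e ▸ hxy)) h2⟩
  have c1 := hcop x hx
  have c2 := hcop y hy
  obtain ⟨χ, θ, o1, n1, e1⟩ := exists_of_mem x.2
  obtain ⟨ψ, φ, o2, n2, e2⟩ := exists_of_mem y.2
  obtain ⟨η, ρ, o3, n3, e3⟩ := exists_of_mem a.2
  rw [← e1] at c1 hxy
  rw [← e2] at c2 hxy
  rw [← e1, ← e2]
  by_cases d2 : charDegree φ = 1
  · obtain ⟨l, rfl⟩ := exists_eq_lin o2.irr'.isCharacter d2
    exact exists_common_lin hNG o1 o2 n1 (fun e => n2 (by rw [e, lin_one])) c1 (fun _ => c2) hxy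
  by_cases d1 : charDegree θ = 1
  · obtain ⟨l, rfl⟩ := exists_eq_lin o1.irr'.isCharacter d1
    obtain ⟨d, hd, h1, h2⟩ := exists_common_lin hNG o2 o1 n2 (fun e => n1 (by rw [e, lin_one])) c2
      (fun _ => c1) hxy.symm
    exact ⟨d, hd, fun h => h2 h.symm, fun h => h1 h.symm⟩
  exfalso
  have hx' : ¬ Rch (relCharDegrees N) (charDegree χ) (charDegree η) := by
    rw [e1, e3]; exact fun h => hx h.symm.2.2
  by_cases d3 : charDegree ρ = 1
  · obtain ⟨l, rfl⟩ := exists_eq_lin o3.irr'.isCharacter d3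
    obtain ⟨d, hd, h1, h2⟩ := exists_common_lin hNG o1 o3 n1 (fun e => n3 (by rw [e, lin_one])) c1
      (fun e => absurd e d1) (by
        by_contra h
        exact hx' (rch (o1.mem n1) (o3.mem n3) h))
    exact hx' ((rch (o1.mem n1) hd h1).trans (rch hd (o3.mem n3) h2))
  · rcases rch_of_nonlinear hNG o1 o2 o3 d1 d2 d3 hxy with h | h
    · exact hx' h
    · rw [e2, e3] at h; exact hy h.symm.2.2

end Cfsg.Agent.S4779
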