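import Cfsg.Statements.S4783
import Cfsg.Agent.Lib.Gar.E
import Cfsg.Agent.S4460

set_option autoImplicit false
open Cfsg

namespace Cfsg.Agent.S4783

open Cfsg.Lib.Char Cfsg.Lib.CharDeg Cfsg.Lib.Clifford Cfsg.Lib.Induce Cfsg.Lib.Core Cfsg.Lib.Gar
  Subgroup

theorem three {G : Type*} [Group G] [Finite G] [Group.IsSolvable G] (h : (cd G).card ≤ 3) :
    derivedSeries G 3 = ⊥ := by
  have := Fintype.ofFinite G
  have h1 : ((cd G).erase 1).card ≤ 2 := by rw [Finset.card_erase_of_mem one_mem_cd]; omega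
  obtain ⟨T, h2, h3⟩ := Infinite.exists_superset_card_eq _ 2 h1
  obtain ⟨m, n, -, rfl⟩ := Finset.card_eq_two.1 h3
  refine S4460.solvable_case (m := m) (n := n) (fun d hd => or_iff_not_imp_left.2 fun e => ?_) h
  simpa using h2 (Finset.mem_erase.2 ⟨e, hd⟩)

theorem sort3 {s : Finset ℕ} (h : s.card = 3) :
    ∃ a b c, a < b ∧ b < c ∧ a ∈ s ∧ ∀ d ∈ s, d = a ∨ d = b ∨ d = c := by
  obtain ⟨x, y, z, h1, h2, h3, rfl⟩ := Finset.card_eq_three.1 h
  refine ⟨min x (min y z), x + y + z - min x (min y z) - max x (max y z), max x (max y z),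
    by omega, by omega, ?_, ?_⟩ <;> simp only [Finset.mem_insert, Finset.mem_singleton] <;> omega

theorem pcase {G : Type*} [Group G] [Fintype G] {q a b c : ℕ} (hq : q.Prime)
    (h : ∀ χ, IsIrrCharacter G χ →
      charDegree χ = 1 ∨ charDegree χ = a ∨ charDegree χ = b ∨ charDegree χ = c)
    (hP : IsPGroup q (derivedSeries G 1)) : derivedSeries G 4 = ⊥ := by
  by_contra h4
  have l (n : ℕ) : derivedSeries G (n + 1) ≤ derivedSeries G n := commutator_le_left _ _
  have ne {n : ℕ} (e : derivedSeries G (n + 1) ≠ ⊥) : derivedSeries G n ≠ ⊥ :=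
    fun e' => e (le_bot_iff.1 (e' ▸ l n))
  have k {n : ℕ} {χ : G → ℂ} (e : ¬ Kr χ (derivedSeries G (n + 1))) :
      ¬ Kr χ (derivedSeries G n) := fun e' => e fun x hx => e' x (l n hx)
  have d {χ : G → ℂ} (h1 : IsIrrCharacter G χ) (e : ¬ Kr χ (derivedSeries G 1)) :
      charDegree χ = a ∨ charDegree χ = b ∨ charDegree χ = c :=
    (h χ h1).resolve_left fun e' => e (kr_comm h1.isCharacter e')
  have hP2 := hP.to_le (l 1)
  obtain ⟨e1, x1, a1, a2, a3, -, a4⟩ := t1s _ hq hP (ne (ne (ne h4)))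
  obtain ⟨e2, x2, b1, b2, b3, -, b4⟩ := t1s _ hq hP2 (ne (ne h4))
  obtain ⟨e3, x3, c1, c2, c3, -, c4⟩ := t1s _ hq (hP2.to_le (l 2)) (ne h4)
  obtain ⟨x4, d1, d2⟩ := ex_not_kr h4
  have n1 : charDegree x2 ≠ charDegree x1 := fun e => a3 (e ▸ a4 _ b1 b2)
  have n2 : charDegree x3 ≠ charDegree x1 := fun e => a3 (e ▸ a4 _ c1 (k c2))
  have n3 : charDegree x4 ≠ charDegree x1 := fun e => a3 (e ▸ a4 _ d1 (k (k d2)))
  have n4 : charDegree x3 ≠ charDegree x2 := fun e => b3 (e ▸ b4 _ c1 c2)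
  have n5 : charDegree x4 ≠ charDegree x2 := fun e => b3 (e ▸ b4 _ d1 (k d2))
  have n6 : charDegree x4 ≠ charDegree x3 := fun e => c3 (e ▸ c4 _ d1 d2)
  have := d a1 a2
  have := d b1 (k b2)
  have := d c1 (k (k c2))
  have := d d1 (k (k (k d2)))
  omega

theorem four (G : Type*) [Group G] [Finite G] :
    Group.IsSolvable G → (cd G).card ≤ 4 → derivedSeries G 4 = ⊥ := by
  refine induction_on_card (P := fun G _ _ => Group.IsSolvable G → (cd G).card ≤ 4 →
    derivedSeries G 4 = ⊥) G fun G _ _ ih hs hc => ?_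
  by_contra h4
  have := Fintype.ofFinite G
  have quo (N : Subgroup G) [N.Normal] (h : N ≠ ⊥) : derivedSeries G 4 ≤ N := by
    rw [← map_mk'_eq_bot_iff, map_derivedSeries_eq (QuotientGroup.mk'_surjective N)]
    exact ih _ (card_quotient_lt h) inferInstance
      ((Finset.card_le_card (cd_quotient_subset N)).trans hc)
  by_cases h3 : (cd G).card ≤ 3
  · exact h4 (by rw [derivedSeries_succ, three h3]; simp)
  obtain ⟨a, b, c, ab, bc, ha, h⟩ := sort3 (s := (cd G).erase 1)
    (by rw [Finset.card_erase_of_mem one_mem_cd]; omega)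
  have a0 := pos_of_mem_cd (Finset.mem_of_mem_erase ha)
  have h' (χ : G → ℂ) (hχ : IsIrrCharacter G χ) :
      charDegree χ = 1 ∨ charDegree χ = a ∨ charDegree χ = b ∨ charDegree χ = c :=
    or_iff_not_imp_left.2 fun e => h _ (Finset.mem_erase.2 ⟨e, charDegree_mem_cd hχ⟩)
  obtain ⟨Z, hZ, -⟩ := exists_isMinNormal_le (derivedSeries_normal G 4) h4
  obtain ⟨q, hq, hP⟩ := hZ.exists_isPGroup inferInstance
  have := Fact.mk hq
  have := hZ.1
  have hO : pPrimeCore q G = ⊥ := by
    by_contra hO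
    exact h4 (le_bot_iff.1 ((le_inf (quo Z hZ.2) (quo _ hO)).trans
      (inf_pPrimeCore_eq_bot hP).le))
  by_cases hN : _root_.commutator G ≤ pCore q G
  · exact h4 (pcase hq h' ((pCore_isPGroup q G).to_le hN))
  have nc (χ : G → ℂ) (hχ : IsIrrCharacter G χ) (hk : Kr χ (pCore q G)) : charDegree χ ≠ c := by
    intro e
    have hF := fittingSubgroup_eq_pCore hO
    have h1 : ∃ ψ, IsIrrCharacter G ψ ∧ charDegree χ < charDegree ψ ∧ charKer ψ < charKer χ := by
      by_cases h2 : charKer χ ≤ fittingSubgroup G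
      · have h5 : charKer χ = fittingSubgroup G := le_antisymm h2
          (hF ▸ fun x hx => hχ.isCharacter.mem_charKer_iff.2 (hk x hx))
        exact exists_larger_of_eq_fitting hχ h5 fun e => hN (by rw [← hF, ← h5, e]; exact le_top)
      · exact exists_larger_of_not_le_fitting hχ h2
    obtain ⟨ψ, h1, h2, -⟩ := h1
    have := h' ψ h1
    omega
  refine Su.false (G := G) ⟨hq, hO, a0, ab, bc, h', nc, ?_, h4⟩ hN
  rw [← map_mk'_eq_bot_iff, map_derivedSeries_eq (QuotientGroup.mk'_surjective _)]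
  refine three ((Finset.card_le_card (t := {1, a, b}) fun d hd => ?_).trans Finset.card_le_three)
  obtain ⟨χ, hχ, rfl⟩ := mem_cd'.1 hd
  have c1 := h' _ hχ.inflate
  have c2 := nc _ hχ.inflate fun x hx => inflate_apply_of_mem _ χ hx
  have c3 : charDegree (fun g : G => χ (g : G ⧸ pCore q G)) = charDegree χ :=
    charDegree_congr rfl
  rw [c3] at c1 c2
  simp only [Finset.mem_insert, Finset.mem_singleton]
  omega

/-- A finite solvable group with exactly four distinct irreducible complex character degrees has trivial fourth derived subgroup (derived length at most 4). -/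
theorem result {G : Type*} [Group G] [Finite G] [Group.IsSolvable G] (hcd : Nat.card ↥(Cfsg.charDegrees G) = 4) : derivedSeries G 4 = ⊥ := by
  exact four G inferInstance (card_cd.trans hcd).le

end Cfsg.Agent.S4783
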