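import Cfsg.Statements.S4805
import Cfsg.Agent.Lib.Cam.Sol
import Cfsg.Agent.Lib.CharDeg.DerivedP
import Cfsg.Agent.Lib.CharDeg.CosetSum

set_option autoImplicit false
open Cfsg

namespace Cfsg.Agent.S4805

open Cfsg.Lib.Char Cfsg.Lib.CharDeg
open scoped ComplexConjugate Classical

section
variable {G : Type*} [Group G] [Finite G]

theorem lin_iff (ψ : IrrCharacter G) :
    (∀ n ∈ commutator G, (ψ : G → ℂ) n = (ψ : G → ℂ) 1) ↔ charDegree (ψ : G → ℂ) = 1 := by
  rw [ψ.2.isCharacter.charDegree_eq_one_iff]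
  refine ⟨apply_one_of_commutator_le_ker ψ.2, fun h n hn => ?_⟩
  obtain ⟨lam, e⟩ := ψ.2.isCharacter.exists_hom_of_apply_one h
  rw [e]
  simp [show lam n = 1 from Abelianization.commutator_subset_ker lam hn]

theorem sum_coset (N : Subgroup G) [N.Normal] {x h : G} (hn : ∀ n ∈ N, ¬ IsConj (n * x) h) :
    ∑ ψ : IrrCharacter G, (if ∀ n ∈ N, (ψ : G → ℂ) n = (ψ : G → ℂ) 1 then
      (ψ : G → ℂ) x * conj ((ψ : G → ℂ) h) else 0) = 0 := by
  have := Fintype.ofFinite N
  have h1 : ∑ n : N, ∑ ψ : IrrCharacter G, (ψ : G → ℂ) (n * x) * conj ((ψ : G → ℂ) h) = 0 :=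
    Finset.sum_eq_zero fun n _ => sum_irr_mul_conj_of_not_isConj (hn n n.2)
  rw [Finset.sum_comm] at h1
  refine mul_left_cancel₀ (Nat.cast_ne_zero.2 (Nat.card_pos (α := N)).ne') ?_
  rw [mul_zero, Finset.mul_sum]
  refine Eq.trans (Finset.sum_congr rfl fun ψ _ => ?_) h1
  rw [← Finset.sum_mul, sum_normal_mul_apply N ψ.2]
  split_ifs <;> simp [mul_assoc]

theorem sum_lin : ∑ ψ : IrrCharacter G, (if charDegree (ψ : G → ℂ) = 1 then (1 : ℂ) else 0) =
    (commutator G).index := by
  rw [← card_linear_irr, Finset.sum_boole, Nat.card_eq_fintype_card, Fintype.card_subtype]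
  exact congrArg _ (congrArg _ (Finset.filter_congr fun χ _ => χ.2.isCharacter.charDegree_eq_one_iff))

theorem lin_mul (ψ : IrrCharacter G) (h1 : charDegree (ψ : G → ℂ) = 1) {x h : G} (hx : x * h⁻¹ ∈ commutator G) :
    (ψ : G → ℂ) x * conj ((ψ : G → ℂ) h) = 1 := by
  have e := ψ.2.isCharacter.charDegree_eq_one_iff.1 h1
  rw [← ψ.2.isCharacter.apply_inv, ← ψ.2.isCharacter.map_mul_of_apply_one e, (lin_iff ψ).2 h1 _ hx, e]

end

/-- Let G be a finite group, g an element outside the centre of G, and χ an irreducible complex character of degree greater than one with χ(g) ≠ 0 such that every other irreducible character of degree greater than one vanishes at g. Then g lies in the derived subgroup G′ and χ(g) = −[G : G′]/χ(1); G′ is the union of the kernel of χ (the elements where χ takes the value χ(1)) and the conjugacy class of g, and χ vanishes outside G′; every irreducible character of degree greater than one whose kernel contains that of χ equals χ; and G is solvable.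 -/
theorem result {G : Type*} [Group G] [Finite G] (g : G) (hg : g ∉ Subgroup.center G) (χ : Cfsg.IrrCharacter G) (hχ1 : Cfsg.charDegree (χ : G → ℂ) ≠ 1) (hχg : (χ : G → ℂ) g ≠ 0) (hother : ∀ ψ : Cfsg.IrrCharacter G, Cfsg.charDegree (ψ : G → ℂ) ≠ 1 → ψ ≠ χ → (ψ : G → ℂ) g = 0) : g ∈ commutator G ∧ (χ : G → ℂ) g = -(((commutator G).index : ℂ) / (χ : G → ℂ) 1) ∧ ((commutator G : Set G) = {x : G | (χ : G → ℂ) x = (χ : G → ℂ) 1} ∪ {h : G | IsConj g h}) ∧ (∀ x : G, x ∉ commutator G → (χ : G → ℂ) x = 0) ∧ (∀ ψ : Cfsg.IrrCharacter G, Cfsg.charDegree (ψ : G → ℂ) ≠ 1 → (∀ x : G, (χ : G → ℂ) x = (χ : G → ℂ) 1 → (ψ : G → ℂ) x = (ψ : G → ℂ) 1) → ψ = χ) ∧ Group.IsSolvable G := by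
  have hd : (χ : G → ℂ) 1 ≠ 0 := by
    rw [χ.2.apply_one_eq]
    exact Nat.cast_ne_zero.2 χ.2.charDegree_pos.ne'
  have hc1 : conj ((χ : G → ℂ) 1) = (χ : G → ℂ) 1 := by rw [χ.2.apply_one_eq, map_natCast]
  have col : ∀ h : G, ¬ IsConj g h → ∑ ψ : IrrCharacter G, (if charDegree (ψ : G → ℂ) = 1 then
      (ψ : G → ℂ) g * conj ((ψ : G → ℂ) h) else 0) + (χ : G → ℂ) g * conj ((χ : G → ℂ) h) = 0 := by
    intro h hh
    refine Eq.trans ?_ (sum_irr_mul_conj_of_not_isConj hh)
    rw [← Finset.sum_ite_eq' Finset.univ χ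
      (fun ψ : IrrCharacter G => (ψ : G → ℂ) g * conj ((ψ : G → ℂ) h)) |>.trans (if_pos (Finset.mem_univ _)),
      ← Finset.sum_add_distrib]
    refine Finset.sum_congr rfl fun ψ _ => ?_
    by_cases e : ψ = χ
    · subst e
      simp [hχ1]
    · by_cases e' : charDegree (ψ : G → ℂ) = 1
      · simp [e, e']
      · simp [e, e', hother ψ e' e]
  have out : ∀ h : G, g * h⁻¹ ∉ commutator G → (χ : G → ℂ) h = 0 := by
    intro h hh
    have hnc : ∀ n ∈ commutator G, ¬ IsConj (n * g) h := by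
      intro n hn hc
      obtain ⟨c, rfl⟩ := isConj_iff.1 hc
      apply hh
      rw [← Abelianization.ker_of, MonoidHom.mem_ker] at hn ⊢
      simp [hn]
    have h1 := sum_coset (commutator G) hnc
    simp only [lin_iff] at h1
    have h2 := col h (by simpa using hnc 1 (one_mem _))
    rw [h1, zero_add] at h2
    simpa [hχg] using h2
  have hgM : g ∈ commutator G := by
    by_contra hc
    exact hd (out 1 (by simpa using hc))
  have out' : ∀ x : G, x ∉ commutator G → (χ : G → ℂ) x = 0 := fun x hx =>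
    out x fun e => hx (inv_mem_iff.1 ((Subgroup.mul_mem_cancel_left _ hgM).1 e))
  have inn : ∀ h ∈ commutator G, ¬ IsConj g h →
      ((commutator G).index : ℂ) + (χ : G → ℂ) g * conj ((χ : G → ℂ) h) = 0 := by
    intro h hh hc
    rw [← col h hc, ← sum_lin]
    congr 1
    refine Finset.sum_congr rfl fun ψ _ => ?_
    split_ifs with e
    · exact (lin_mul ψ e (mul_mem hgM (inv_mem hh))).symm
    · rfl
  have hg1 : ¬ IsConj g 1 := fun e => hg (by rw [isConj_one_left.1 e]; exact one_mem _)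
  have h1 := inn 1 (one_mem _) hg1
  rw [hc1] at h1
  have hval : (χ : G → ℂ) g = -(((commutator G).index : ℂ) / (χ : G → ℂ) 1) := by
    field_simp
    linear_combination h1
  have hker : ∀ h ∈ commutator G, ¬ IsConj g h → (χ : G → ℂ) h = (χ : G → ℂ) 1 := by
    intro h hh hc
    have h2 := inn h hh hc
    have h3 : conj ((χ : G → ℂ) h) = (χ : G → ℂ) 1 := mul_left_cancel₀ hχg (by linear_combination h2 - h1)
    rw [← hc1] at h3
    exact (starRingEnd ℂ).injective h3
  have hkM : ∀ x, (χ : G → ℂ) x = (χ : G → ℂ) 1 → x ∈ commutator G := fun x hx => by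
    by_contra hc
    exact hd (hx ▸ out' x hc)
  have hgk : (χ : G → ℂ) g ≠ (χ : G → ℂ) 1 := by
    intro e
    rw [e, χ.2.apply_one_eq] at h1
    have h2 : (commutator G).index + charDegree (χ : G → ℂ) * charDegree (χ : G → ℂ) = 0 := by exact_mod_cast h1
    have := (commutator G).index_ne_zero_of_finite
    omega
  have huniq : ∀ ψ : IrrCharacter G, charDegree (ψ : G → ℂ) ≠ 1 →
      (∀ x : G, (χ : G → ℂ) x = (χ : G → ℂ) 1 → (ψ : G → ℂ) x = (ψ : G → ℂ) 1) → ψ = χ := by
    intro ψ hψ hk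
    by_contra hne
    have := Fintype.ofFinite (commutator G)
    have h2 := sum_normal_mul_apply (commutator G) ψ.2 1
    rw [if_neg (fun e => hψ ((lin_iff ψ).1 e))] at h2
    have h3 : ∀ n : commutator G, (ψ : G → ℂ) (n * 1) = if IsConj g n then 0 else (ψ : G → ℂ) 1 := by
      intro n
      rw [mul_one]
      split_ifs with e
      · rw [← ψ.2.isClassFunction.eq_of_isConj e, hother ψ hψ hne]
      · exact hk _ (hker n n.2 e)
    simp only [h3] at h2
    rw [Finset.sum_ite, Finset.sum_const_zero, zero_add, Finset.sum_const, nsmul_eq_mul, mul_eq_zero,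
      ψ.2.apply_one_eq] at h2
    rcases h2 with h2 | h2
    · have h4 := Finset.card_eq_zero.1 (Nat.cast_eq_zero.1 h2)
      exact Finset.notMem_empty (1 : commutator G) (h4 ▸ Finset.mem_filter.2 ⟨Finset.mem_univ _, hg1⟩)
    · exact ψ.2.charDegree_pos.ne' (Nat.cast_eq_zero.1 h2)
  refine ⟨hgM, hval, ?_, out', huniq, ?_⟩
  · ext x
    constructor
    · intro hx
      by_cases e : IsConj g x
      · exact Or.inr e
      · exact Or.inl (hker x hx e)
    · rintro (hx | hx)
      · exact hkM x hx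
      · obtain ⟨c, rfl⟩ := isConj_iff.1 hx
        exact Subgroup.Normal.conj_mem inferInstance g hgM c
  · have := χ.2.isCharacter.charKer_normal
    have hm := fun x => χ.2.isCharacter.mem_charKer_iff (g := x)
    refine Lib.Cam.solvable (charKer (χ : G → ℂ)) hgM (fun e => hgk ((hm g).1 e)) (fun x hx => hkM x ((hm x).1 hx))
      (fun x hx hx' => by_contra fun e => hx' ((hm x).2 (hker x hx e))) fun x hx u hu => ?_
    by_contra hc
    have h2 := sum_coset (charKer (χ : G → ℂ)) (x := u * x) (h := x) fun n hn e =>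
      hc ⟨n, hn, by rw [mul_assoc]; exact e.symm⟩
    refine Nat.cast_ne_zero.2 (commutator G).index_ne_zero_of_finite (sum_lin.symm.trans (Eq.trans ?_ h2))
    refine Finset.sum_congr rfl fun ψ _ => ?_
    by_cases e : charDegree (ψ : G → ℂ) = 1
    · rw [if_pos e, if_pos fun n hn => (lin_iff ψ).2 e n (hkM n ((hm n).1 hn)), lin_mul ψ e (by simpa using hu)]
    · rw [if_neg e]
      split_ifs with e'
      · rw [huniq ψ e fun y hy => e' y ((hm y).2 hy), out' x hx, map_zero, mul_zero]
      · rfl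

end Cfsg.Agent.S4805
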