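import Cfsg.Statements.S4811
import Cfsg.Agent.Lib.CharDeg.MinNonab

set_option autoImplicit false
open Cfsg

namespace Cfsg.Agent.S4811

open Cfsg.Lib.Char Cfsg.Lib.CharDeg Cfsg.Lib.Clifford Cfsg.Lib.Induce Subgroup

theorem index_ne_one {H : Type*} [Group H] (h : MinNonab H)
    (hab : IsMulCommutative (_root_.commutator H)) : (_root_.commutator H).index ≠ 1 := by
  intro h1
  rw [index_eq_one] at h1
  refine h.ne_bot (eq_bot_iff.2 (commutator_le.2 fun a _ b _ =>
    commutatorElement_eq_one_iff_mul_comm.2 ?_))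
  exact congrArg Subtype.val (hab.is_comm.comm (⟨a, h1 ▸ mem_top a⟩ : _root_.commutator H)
    ⟨b, h1 ▸ mem_top b⟩)

theorem exists_ne_one {H : Type*} [Group H] [Finite H] (h : MinNonab H) : ∃ m ∈ cd H, m ≠ 1 := by
  by_contra hcon
  push Not at hcon
  exact h.ne_bot (eq_bot_iff.2 (commutator_le.2 fun a _ b _ =>
    commutatorElement_eq_one_iff_mul_comm.2 (comm_iff_cd.2 hcon a b)))

theorem two_centres (G : Type*) [Group G] [Finite G] [Group.IsSolvable G] :
    ∃ p r : ℕ, p.Prime ∧ r.Prime ∧ ∀ d ∈ cd G, d ≠ 1 → p ∣ d ∨ ∃ e ∈ cd G, d ∣ e ∧ r ∣ e := by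
  by_cases hc : _root_.commutator G ≤ ⊥
  · refine ⟨2, 2, Nat.prime_two, Nat.prime_two, fun d hd h1 => absurd ?_ h1⟩
    obtain ⟨χ, hχ, rfl⟩ := mem_cd'.1 hd
    exact hχ.isCharacter.charDegree_eq_one_iff.2 (apply_one_of_commutator_le_ker hχ
      fun x hx => by rw [mem_bot.1 (hc hx)])
  obtain ⟨K, _, -, hK⟩ := exists_minNonab ⊥ hc
  obtain ⟨p, hp, hP | ⟨h1, h2, -, h4⟩⟩ := hK.struct inferInstance
  · haveI := Fact.mk hp
    obtain ⟨m, hm, hm1⟩ := exists_ne_one hK
    obtain ⟨k, hk⟩ := hP.exists_card_eq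
    obtain ⟨j, rfl⟩ := exists_eq_pow_of_mem_cd hp hP hm
    refine ⟨p, p, hp, hp, fun d hd _ => or_iff_not_imp_left.2 fun h =>
      ⟨_, mul_mem_cd_of_coprime K hm hd ?_, dvd_mul_left _ _, Dvd.dvd.mul_right
        (dvd_pow_self p fun e => hm1 (by rw [e, pow_zero])) _⟩⟩
    rw [index, hk]
    exact Nat.Coprime.pow_right k ((Nat.Prime.coprime_iff_not_dvd hp).2 h).symm
  · haveI := Fact.mk hp
    obtain ⟨k, hk⟩ := h1.exists_card_eq
    refine ⟨p, _, hp, Nat.minFac_prime (index_ne_one hK h2), fun d hd _ =>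
      or_iff_not_imp_left.2 fun h => ?_⟩
    obtain ⟨a, b, ha, hb, rfl⟩ := exists_mem_cd_normal
      ((_root_.commutator (G ⧸ K)).comap (QuotientGroup.mk' K)) hd
    obtain ⟨ψ, hψ, rfl⟩ := mem_cd'.1 hb
    rw [index_comap_of_surjective _ (QuotientGroup.mk'_surjective K)] at ha
    refine ⟨_, h4.mul_mem_cd (QuotientGroup.mk' K) (QuotientGroup.mk'_surjective K) hK.ne_bot h2 rfl
      hψ ?_, Nat.mul_dvd_mul_right ha _, (Nat.minFac_dvd _).mul_right _⟩
    rw [hk]
    exact Nat.Coprime.pow_right k ((Nat.Prime.coprime_iff_not_dvd hp).2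
      fun h5 => h (h5.mul_left _)).symm

/-- For every finite solvable group G the character degree graph of G (vertices: the primes dividing some irreducible complex character degree; edges: distinct primes whose product divides some degree) has at most two connected components. -/
theorem result {G : Type*} [Group G] [Finite G] [Group.IsSolvable G] : Nat.card ((Cfsg.degreeGraph G).induce (Cfsg.degreePrimes G)).ConnectedComponent ≤ 2 := by
  obtain ⟨p, r, hp, hr, h⟩ := two_centres G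
  have key : ∀ (s : ℕ) (_ : s.Prime) (a b : degreePrimes G), (∃ d ∈ cd G, a.1 ∣ d ∧ s ∣ d) →
      (∃ d ∈ cd G, b.1 ∣ d ∧ s ∣ d) →
      ((degreeGraph G).induce (degreePrimes G)).connectedComponentMk a =
        ((degreeGraph G).induce (degreePrimes G)).connectedComponentMk b := by
    intro s hs a b ⟨d, hd, h1, h2⟩ ⟨e, he, h3, h4⟩
    have aux : ∀ (a : degreePrimes G) (d : ℕ) (hd : d ∈ cd G), a.1 ∣ d → ∀ h : s ∣ d,
        ∀ hs' : s ∈ degreePrimes G,
        ((degreeGraph G).induce (degreePrimes G)).Reachable a ⟨s, hs'⟩ := by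
      intro a d hd h1 h2 hs'
      by_cases e : a.1 = s
      · rw [show a = ⟨s, hs'⟩ from Subtype.ext e]
      · exact SimpleGraph.Adj.reachable ⟨e, a.2.1, hs, d, mem_cd.1 hd,
          Nat.Coprime.mul_dvd_of_dvd_of_dvd ((Nat.coprime_primes a.2.1 hs).2 e) h1 h2⟩
    have hs' : s ∈ degreePrimes G := ⟨hs, d, mem_cd.1 hd, h2⟩
    exact SimpleGraph.ConnectedComponent.sound
      ((aux a d hd h1 h2 hs').trans (aux b e he h3 h4 hs').symm)
  have cl : ∀ a : degreePrimes G,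
      (∃ d ∈ cd G, a.1 ∣ d ∧ p ∣ d) ∨ (∃ d ∈ cd G, a.1 ∣ d ∧ r ∣ d) := by
    rintro ⟨a, ha, d, hd, h1⟩
    rcases h d (mem_cd.2 hd) (by rintro rfl; exact ha.not_dvd_one h1) with h2 | ⟨e, he, h2, h3⟩
    · exact Or.inl ⟨d, mem_cd.2 hd, h1, h2⟩
    · exact Or.inr ⟨e, he, h1.trans h2, h3⟩
  by_contra hcon
  push Not at hcon
  haveI := Nat.finite_of_card_ne_zero (lt_of_le_of_lt (Nat.zero_le _) hcon).ne'
  haveI := Fintype.ofFinite ((degreeGraph G).induce (degreePrimes G)).ConnectedComponent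
  rw [Nat.card_eq_fintype_card, Fintype.two_lt_card_iff] at hcon
  obtain ⟨A, B, C, h1, h2, h3⟩ := hcon
  obtain ⟨a, rfl⟩ := A.exists_rep
  obtain ⟨b, rfl⟩ := B.exists_rep
  obtain ⟨c, rfl⟩ := C.exists_rep
  rcases cl a with ha | ha <;> rcases cl b with hb | hb <;> rcases cl c with hc | hc <;>
    first
      | exact h1 (key _ ‹_› _ _ ha hb)
      | exact h2 (key _ ‹_› _ _ ha hc)
      | exact h3 (key _ ‹_› _ _ hb hc)

end Cfsg.Agent.S4811
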