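import Cfsg.Statements.S4845
import Cfsg.Agent.Lib.CharDeg.DerivedP
import Cfsg.Agent.S4762
import Cfsg.Agent.Lib.Misc.Cyclic

set_option autoImplicit false
open Cfsg

namespace Cfsg.Agent.S4845

open Cfsg.Lib.Char Cfsg.Lib.CharDeg Cfsg.Lib.PGroup Subgroup
open scoped commutatorElement

theorem card_commutator_quotient {G : Type*} [Group G] [Finite G] (K : Subgroup G) [K.Normal]
    (hK : K ≤ _root_.commutator G) :
    Nat.card K * Nat.card (_root_.commutator (G ⧸ K)) = Nat.card (_root_.commutator G) := by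
  have e : _root_.commutator (G ⧸ K) = (_root_.commutator G).map (QuotientGroup.mk' K) := by
    rw [_root_.commutator_def, _root_.commutator_def, map_commutator,
      map_top_of_surjective _ (QuotientGroup.mk'_surjective K)]
  have h2 : (_root_.commutator (G ⧸ K)).index = (_root_.commutator G).index := by
    rw [e, index_map_eq _ (QuotientGroup.mk'_surjective K) (by rwa [QuotientGroup.ker_mk'])]
  have h3 := (_root_.commutator (G ⧸ K)).card_mul_index
  have h4 := (_root_.commutator G).card_mul_index
  have h5 := K.card_mul_index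
  have hpos : 0 < (_root_.commutator G).index := Nat.pos_of_ne_zero index_ne_zero_of_finite
  refine Nat.eq_of_mul_eq_mul_right hpos ?_
  rw [h4, mul_assoc, ← h2, h3, ← h5]; rfl

/-- Data attached to a normal subgroup of order `p` of a derived subgroup of order `p ^ 2`. -/
theorem data {G : Type*} [Group G] [Finite G] {p : ℕ} [hp : Fact p.Prime] (hG : IsPGroup p G)
    (h : SameKer G) (hc : Nat.card (_root_.commutator G) = p ^ 2) (K : Subgroup G) [K.Normal]
    (hK : K ≤ _root_.commutator G) (hKp : Nat.card K = p) :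
    ∃ (Z : Subgroup G) (χ : G → ℂ), IsIrrCharacter G χ ∧ χ 1 ≠ 1 ∧ (∀ g, χ g = χ 1 ↔ g ∈ K) ∧
      charDegree χ ^ 2 = Z.index ∧ charDegree χ ∈ cd (G ⧸ K) ∧ (∀ g, g ∈ Z ↔ ∀ x, ⁅g, x⁆ ∈ K) ∧
      _root_.commutator G ≤ Z ∧ (∀ x, x ^ p ∈ Z) ∧
      ((center G).index = Z.index ∨ (center G).index = p * Z.index) ∧
      ∀ c ∈ Z, c ∉ center G → ∀ x, Commute x c → ∀ z ∈ Z, Commute x z := by
  have hq : Nat.card (_root_.commutator (G ⧸ K)) = p := by
    have := card_commutator_quotient K hK
    rw [hKp, hc, sq] at this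
    exact Nat.eq_of_mul_eq_mul_left hp.out.pos this
  have hGq := hG.to_quotient K
  have hZq := le_center_of_card_eq hGq _ hq
  have hKZ := le_center_of_card_eq hG K hKp
  obtain ⟨χ, hχ, h1, hker, hdeg, hcyc⟩ := (h.quotient K).isCyclic_center hp.out hq hZq
  set Z := (center (G ⧸ K)).comap (QuotientGroup.mk' K) with hZ
  have hmem : ∀ g, g ∈ Z ↔ ∀ x, ⁅g, x⁆ ∈ K := by
    intro g
    rw [hZ, mem_comap, mem_center_iff]
    constructor
    · intro hg x
      rw [← QuotientGroup.eq_one_iff]
      change QuotientGroup.mk' K ⁅g, x⁆ = 1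
      rw [map_commutatorElement, commutatorElement_eq_one_iff_mul_comm]
      exact (hg _).symm
    · intro hg y
      obtain ⟨x, rfl⟩ := QuotientGroup.mk'_surjective K y
      have := (QuotientGroup.eq_one_iff _).2 (hg x)
      change QuotientGroup.mk' K ⁅g, x⁆ = 1 at this
      rw [map_commutatorElement, commutatorElement_eq_one_iff_mul_comm] at this
      exact this.symm
  have hZZ : center G ≤ Z := fun g hg => (hmem g).2 fun x => by
    rw [commutatorElement_eq_one_iff_mul_comm.2 (mem_center_iff.1 hg x).symm]; exact K.one_mem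
  obtain ⟨⟨w', hw'⟩, hgen⟩ := hcyc.exists_generator
  obtain ⟨w, rfl⟩ := QuotientGroup.mk'_surjective K w'
  have hwZ : w ∈ Z := hw'
  have hwp : w ^ p ∈ center G := by
    rw [mem_center_iff]
    intro y
    have h2 := (hmem w).1 hwZ y
    have h3 := S4762.comm_pow_left (hKZ h2) p
    have h4 : ⁅w, y⁆ ^ p = 1 := by
      have := pow_card_eq_one' (x := (⟨_, h2⟩ : K))
      rw [hKp] at this
      exact congrArg Subtype.val this
    rw [h4] at h3
    exact (commutatorElement_eq_one_iff_mul_comm.1 h3).symm
  have hdec : ∀ z ∈ Z, ∃ k ∈ center G, ∃ i : ℤ, z = k * w ^ i := by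
    intro z hz
    obtain ⟨i, hi⟩ := hgen ⟨QuotientGroup.mk' K z, hz⟩
    have h2 : QuotientGroup.mk' K (w ^ i) = QuotientGroup.mk' K z := by
      rw [map_zpow]; simpa using congrArg Subtype.val hi
    have h3 : z * (w ^ i)⁻¹ ∈ K := by
      rw [← QuotientGroup.eq_one_iff]
      change QuotientGroup.mk' K (z * (w ^ i)⁻¹) = 1
      rw [map_mul, map_inv, h2, mul_inv_cancel]
    exact ⟨_, hKZ h3, i, by group⟩
  refine ⟨Z, fun g => χ (g : G ⧸ K), hχ.inflate, h1, fun g => ⟨fun hg => ?_, fun hg => ?_⟩, ?_,
    ?_, hmem, ?_, ?_, ?_, ?_⟩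
  · exact (QuotientGroup.eq_one_iff _).1 (hker _ hg)
  · exact Cfsg.Lib.Clifford.inflate_apply_of_mem K χ hg
  · rw [hZ, index_comap_of_surjective _ (QuotientGroup.mk'_surjective K), ← hdeg]; rfl
  · exact charDegree_mem_cd hχ
  · intro g hg
    refine hZq ?_
    have := mem_map_of_mem (QuotientGroup.mk' K) hg
    rw [_root_.commutator_def, map_commutator] at this
    exact commutator_mono le_top le_top this
  · intro x
    rw [hZ, mem_comap, map_pow, mem_center_iff]
    intro y
    have hm : ⁅QuotientGroup.mk' K x, y⁆ ∈ _root_.commutator (G ⧸ K) :=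
      commutator_mem_commutator (mem_top _) (mem_top _)
    have h3 := S4762.comm_pow_left (hZq hm) p
    have h4 : ⁅QuotientGroup.mk' K x, y⁆ ^ p = 1 := by
      have := pow_card_eq_one' (x := (⟨_, hm⟩ : _root_.commutator (G ⧸ K)))
      rw [hq] at this
      exact congrArg Subtype.val this
    rw [h4] at h3
    exact (commutatorElement_eq_one_iff_mul_comm.1 h3).symm
  · have hsup : Z = center G ⊔ zpowers w := by
      refine le_antisymm (fun z hz => ?_) (sup_le hZZ (by rwa [zpowers_le]))
      obtain ⟨k, hk, i, rfl⟩ := hdec z hz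
      exact mul_mem (mem_sup_left hk) (mem_sup_right (zpow_mem (mem_zpowers w) i))
    by_cases hw : w ∈ center G
    · left
      rw [hsup, sup_eq_left.2 (by rwa [zpowers_le])]
    · right
      rw [← relIndex_mul_index hZZ]
      congr 1
      rw [hsup]
      exact relIndex_sup_zpowers (by rw [normalizer_eq_top]; trivial) hw hwp
  · intro c hc hcZ x hx z hz
    obtain ⟨k, hk, i, rfl⟩ := hdec c hc
    obtain ⟨k', hk', j, rfl⟩ := hdec z hz
    have hw : w ∉ center G := fun hw => hcZ (mul_mem hk (zpow_mem hw i))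
    have hi : ¬ (p : ℤ) ∣ i := fun hi =>
      hcZ (mul_mem hk ((zpow_mem_iff_dvd hw hwp i).2 hi))
    have hxk : Commute x k := mem_center_iff.1 hk x
    have hxi : Commute x (w ^ i) := by
      have := hxk.inv_right.mul_right hx
      rwa [inv_mul_cancel_left] at this
    have hxp : Commute x (w ^ (p : ℤ)) := by
      rw [zpow_natCast]; exact mem_center_iff.1 hwp x
    have hcop : IsCoprime (p : ℤ) i :=
      (Int.prime_iff_natAbs_prime.2 (by simpa using hp.out)).irreducible.coprime_iff_not_dvd.2 hi
    obtain ⟨a, b, hab⟩ := hcop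
    have hxw : Commute x w := by
      have := (hxp.zpow_right a).mul_right (hxi.zpow_right b)
      rwa [← zpow_mul, ← zpow_mul, ← zpow_add, mul_comm _ a, mul_comm _ b, hab, zpow_one] at this
    exact (show Commute x k' from mem_center_iff.1 hk' x).mul_right (hxw.zpow_right j)

theorem sq_ne {p a b : ℕ} (hp : p.Prime) (hb : b ≠ 0) : a ^ 2 ≠ p * b ^ 2 := by
  intro h
  have ha : a ≠ 0 := by
    rintro rfl
    exact mul_ne_zero hp.ne_zero (pow_ne_zero 2 hb) (by simpa using h.symm)
  have := congrArg (fun n => n.factorization p) h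
  simp only [Nat.factorization_pow, Nat.factorization_mul hp.ne_zero (pow_ne_zero 2 hb),
    Finsupp.add_apply, Finsupp.smul_apply, smul_eq_mul, hp.factorization_self] at this
  omega

theorem not_sq {G : Type*} [Group G] [Finite G] {p : ℕ} [hp : Fact p.Prime] (hG : IsPGroup p G)
    (h : SameKer G) (hc : Nat.card (_root_.commutator G) = p ^ 2) : False := by
  have hne : _root_.commutator G ≠ ⊥ := by
    intro h0; rw [h0, card_bot] at hc
    exact hp.out.ne_one ((Nat.pow_eq_one.1 hc.symm).resolve_right two_ne_zero)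
  obtain ⟨a, ha, haZ, hao⟩ := exists_mem_center_orderOf_eq hG _ hne
  have hnorm : ∀ b ∈ center G, (zpowers b).Normal := fun b hb =>
    ⟨fun n hn g => by
      have := mem_center_iff.1 ((zpowers_le.2 hb) hn) g
      rw [this, mul_inv_cancel_right]; exact hn⟩
  haveI := hnorm a haZ
  obtain ⟨Z, χ, hχ, h1, hker, hdeg, hcd, hmem, hGZ, hpow, hidx, hcomm⟩ :=
    data hG h hc (zpowers a) (by rwa [zpowers_le]) (by rw [Nat.card_zpowers, hao])
  have hKZ : zpowers a ≤ center G := by rwa [zpowers_le]
  by_cases hcen : _root_.commutator G ≤ center G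
  · have hexp : ∀ b ∈ _root_.commutator G, b ^ p = 1 := by
      let E : Subgroup G :=
        { carrier := {g | g ∈ center G ∧ g ^ p = 1}
          one_mem' := ⟨one_mem _, one_pow p⟩
          mul_mem' := fun {x y} hx hy => ⟨mul_mem hx.1 hy.1, by
            rw [(show Commute x y from (mem_center_iff.1 hx.1 y).symm).mul_pow, hx.2, hy.2,
              one_mul]⟩
          inv_mem' := fun {x} hx => ⟨inv_mem hx.1, by rw [inv_pow, hx.2, inv_one]⟩ }
      have : _root_.commutator G ≤ E := by
        rw [_root_.commutator_def, commutator_le]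
        intro x _ y _
        have hm : ∀ x y : G, ⁅x, y⁆ ∈ center G := fun x y =>
          hcen (commutator_mem_commutator (mem_top _) (mem_top _))
        refine ⟨hm x y, ?_⟩
        by_contra hne
        have hxp : x ^ p ∉ center G := fun hx => hne (by
          rw [← S4762.comm_pow_left (hm x y), commutatorElement_eq_one_iff_mul_comm]
          exact (mem_center_iff.1 hx y).symm)
        have h2 := hcomm _ (hpow x) hxp x (Commute.self_pow x p) _ (hpow y)
        apply hne
        have h3 := S4762.comm_pow_left (hm y x) p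
        rw [commutatorElement_eq_one_iff_mul_comm.2 h2.symm.eq] at h3
        rw [← commutatorElement_inv, inv_pow, ← h3, inv_one]
      exact fun b hb => (this hb).2
    obtain ⟨b, hb, hba⟩ : ∃ b ∈ _root_.commutator G, b ∉ zpowers a := by
      by_contra hcon
      push Not at hcon
      have := card_le_of_le (show _root_.commutator G ≤ zpowers a from hcon)
      rw [hc, Nat.card_zpowers, hao] at this
      have := hp.out.one_lt
      nlinarith
    have hbo : orderOf b = p := orderOf_eq_prime (hexp b hb) (by rintro rfl; exact hba (one_mem _))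
    haveI := hnorm b (hcen hb)
    obtain ⟨Z', χ', hχ', h1', hker', hdeg', -, -, -, -, hidx', -⟩ :=
      data hG h hc (zpowers b) (by rwa [zpowers_le]) (by rw [Nat.card_zpowers, hbo])
    have hd : charDegree χ' = charDegree χ := by
      refine Nat.pow_left_injective two_ne_zero ?_
      change charDegree χ' ^ 2 = charDegree χ ^ 2
      rw [← hdeg] at hidx
      rw [← hdeg'] at hidx'
      rcases hidx with e | e <;> rcases hidx' with e' | e'
      · rw [← e, ← e']
      · exact absurd (e.symm.trans e') (sq_ne hp.out hχ'.charDegree_pos.ne')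
      · exact absurd (e'.symm.trans e) (sq_ne hp.out hχ.charDegree_pos.ne')
      · exact Nat.eq_of_mul_eq_mul_left hp.out.pos (e'.symm.trans e)
    refine hba ((hker b).1 (h χ' χ hχ' hχ h1' ?_ b ((hker' b).2 (mem_zpowers b))))
    rw [hχ.apply_one_eq, hχ'.apply_one_eq, hd]
  · obtain ⟨c, hc1, hc2⟩ := SetLike.not_le_iff_exists.1 hcen
    set D := centralizer ({c} : Set G) with hD
    have hDZ : ∀ x ∈ D, ∀ z ∈ Z, Commute x z := fun x hx =>
      hcomm c (hGZ hc1) hc2 x (mem_centralizer_singleton_iff.1 hx)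
    have hZD : Z ≤ D := fun z hz =>
      mem_centralizer_singleton_iff.2 (hcomm c (hGZ hc1) hc2 c (Commute.refl c) z hz).symm
    have hDi : D.index ≤ p := by
      rw [hD, ← card_isConj, ← hao, ← Nat.card_zpowers]
      refine Nat.card_le_card_of_injective (fun y => ⟨c * y.1⁻¹, ?_⟩) ?_
      · obtain ⟨g, hg⟩ := isConj_iff.1 y.2
        have := (hmem c).1 (hGZ hc1) g
        rw [← hg]
        convert this using 1
        rw [commutatorElement_def]; group
      · intro y y' e
        have := congrArg Subtype.val e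
        exact Subtype.ext (by simpa using this)
    have hDne : D ≠ ⊤ := fun hT => hc2 (mem_center_iff.2 fun g =>
      mem_centralizer_singleton_iff.1 (show g ∈ D by rw [hT]; trivial))
    have hDp : D.index = p := by
      obtain ⟨k, hk⟩ := hG.index D
      rcases k with _ | k
      · exact absurd (index_eq_one.1 hk) hDne
      · refine le_antisymm hDi (Nat.le_of_dvd (Nat.pos_of_ne_zero index_ne_zero_of_finite) ?_)
        rw [hk]; exact dvd_pow_self p (Nat.succ_ne_zero k)
    have hDD : ⁅D, D⁆ ≤ center G := by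
      have h3 : ∀ A B : Subgroup G, ⁅⁅A, B⁆, D⁆ = ⊥ := by
        intro A B
        rw [eq_bot_iff, commutator_le]
        intro g hg x hx
        rw [mem_bot, commutatorElement_eq_one_iff_mul_comm]
        exact (hDZ x hx g (hGZ (commutator_mono le_top le_top hg))).symm.eq
      have := commutator_commutator_eq_bot_of_rotate (h3 D ⊤) (h3 ⊤ D)
      rw [commutator_eq_bot_iff_le_centralizer] at this
      intro g hg
      rw [mem_center_iff]
      exact fun x => this hg x (mem_top x)
    have hinf : _root_.commutator G ⊓ center G = zpowers a := by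
      rcases eq_or_eq_of_card_eq_prime_mul hp.out (H := zpowers a) (K := _root_.commutator G)
        (L := _root_.commutator G ⊓ center G) (le_inf (by rwa [zpowers_le]) hKZ) inf_le_left
        (by rw [hc, Nat.card_zpowers, hao, sq]) with e | e
      · exact e
      · exact absurd (inf_eq_left.1 e) hcen
    have hdle : charDegree χ ≤ p := by
      have := le_index_of_comm (H := D.map (QuotientGroup.mk' (zpowers a))) (by
        rintro _ ⟨x, hx, rfl⟩ _ ⟨y, hy, rfl⟩
        rw [← commutatorElement_eq_one_iff_mul_comm, ← map_commutatorElement]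
        refine (QuotientGroup.eq_one_iff _).2 ?_
        rw [← hinf]
        exact ⟨commutator_mem_commutator (mem_top _) (mem_top _),
          hDD (commutator_mem_commutator hx hy)⟩) hcd
      refine this.trans (le_trans (Nat.le_of_dvd (Nat.pos_of_ne_zero index_ne_zero_of_finite)
        (index_map_dvd _ (QuotientGroup.mk'_surjective _))) hDi)
    have hrel : Z.relIndex D ≤ p := by
      have := relIndex_mul_index hZD
      rw [← hdeg, hDp] at this
      have h2 : Z.relIndex D * p ≤ p * p := by rw [this, sq]; exact Nat.mul_le_mul hdle hdle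
      exact Nat.le_of_mul_le_mul_right h2 hp.out.pos
    have hDab : ∀ x ∈ D, ∀ y ∈ D, x * y = y * x := by
      by_cases hZeq : Z = D
      · intro x hx y hy
        exact (hDZ x hx y (hZeq ▸ hy)).eq
      · obtain ⟨x, hx, hxZ, hxp, hxn⟩ := exists_mem_normalizer_of_lt (hG.to_subgroup D)
          (lt_of_le_of_ne hZD hZeq)
        have hle : Z ⊔ zpowers x ≤ D := sup_le hZD (by rwa [zpowers_le])
        have heq : Z ⊔ zpowers x = D := by
          refine eq_of_le_of_card_ge hle ?_
          rw [card_sup_zpowers hxn hxZ hxp, ← card_mul_relIndex hZD, mul_comm]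
          exact Nat.mul_le_mul_right _ hrel
        intro u hu v hv
        rw [← heq] at hu hv
        obtain ⟨m, hm, i, rfl⟩ := (mem_sup_zpowers_iff hxn).1 hu
        obtain ⟨m', hm', j, rfl⟩ := (mem_sup_zpowers_iff hxn).1 hv
        have e1 : Commute m m' := hDZ m (hZD hm) m' hm'
        have e2 : Commute x m := hDZ x hx m hm
        have e3 : Commute x m' := hDZ x hx m' hm'
        exact ((e1.mul_right (e2.symm.zpow_right j)).mul_left
          ((e3.zpow_left i).mul_right (Commute.zpow_zpow_self x i j))).eq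
    have hall : ∀ ψ, IsIrrCharacter G ψ → ψ 1 ≠ 1 → charDegree ψ = p := fun ψ hψ hψ1 =>
      le_antisymm (hDp ▸ le_index_of_comm hDab (charDegree_mem_cd hψ))
        (Nat.le_of_dvd hψ.charDegree_pos ((dvd_charDegree_iff_of_isPGroup hG hψ).2 hψ1))
    have ha1 : a ≠ 1 := by rintro rfl; rw [orderOf_one] at hao; exact hp.out.ne_one hao.symm
    obtain ⟨ψ, hψ, hψa⟩ := exists_irr_apply_ne_of_ne_one ha1
    have hψ1 : ψ 1 ≠ 1 := fun h1 =>
      hψa (by rw [apply_eq_one_of_mem_commutator hψ.isCharacter h1 ha, h1])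
    refine hψa (h χ ψ hχ hψ h1 ?_ a ((hker a).2 (mem_zpowers a)))
    rw [hχ.apply_one_eq, hψ.apply_one_eq, hall χ hχ h1, hall ψ hψ hψ1]

theorem card_eq {G : Type*} [Group G] [Finite G] {p : ℕ} [hp : Fact p.Prime] (hG : IsPGroup p G)
    (h : SameKer G) (hna : ¬ IsMulCommutative G) : Nat.card (_root_.commutator G) = p := by
  obtain ⟨n, hn⟩ := IsPGroup.iff_card.1 (hG.to_subgroup (_root_.commutator G))
  rcases n with _ | _ | n
  · exfalso
    apply hna
    rw [pow_zero, card_eq_one] at hn
    refine ⟨⟨fun a b => commutatorElement_eq_one_iff_mul_comm.1 ?_⟩⟩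
    have : ⁅a, b⁆ ∈ _root_.commutator G := commutator_mem_commutator (mem_top _) (mem_top _)
    rwa [hn, mem_bot] at this
  · simpa using hn
  · exfalso
    obtain ⟨K, hKn, hK, hKc⟩ := exists_normal_le_card_eq_pow hG (_root_.commutator G) (k := n)
      (by rw [hn]; exact Nat.pow_le_pow_right hp.out.pos (by omega))
    refine not_sq (hG.to_quotient K) (h.quotient K) ?_
    have := card_commutator_quotient K hK
    rw [hKc, hn, show p ^ (n + 1 + 1) = p ^ n * p ^ 2 by ring] at this
    exact Nat.eq_of_mul_eq_mul_left (pow_pos hp.out.pos n) this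

/-- Let p be a prime and P a finite non-commutative p-group. Then every two irreducible characters of P of the same degree greater than 1 are Galois conjugate (one is obtained from the other by composing with g ↦ g^k for some k prime to the order of P) if and only if the centre of P is cyclic and the derived subgroup of P has order p. -/
theorem result {P : Type*} [Group P] [Finite P] (p : ℕ) [Fact p.Prime] (hP : IsPGroup p P) (hna : ¬ IsMulCommutative P) :
    (∀ χ ψ : Cfsg.IrrCharacter P, Cfsg.charDegree (χ : P → ℂ) ≠ 1 → Cfsg.charDegree (χ : P → ℂ) = Cfsg.charDegree (ψ : P → ℂ) → ∃ k : ℕ, Nat.Coprime k (Nat.card P) ∧ ∀ g : P, (ψ : P → ℂ) g = (χ : P → ℂ) (g ^ k)) ↔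
      (IsCyclic (Subgroup.center P) ∧ Nat.card (commutator P) = p) := by
  have hp : p.Prime := Fact.out
  constructor
  · intro H
    have hS : SameKer P := by
      intro χ ψ hχ hψ h1 h2 g hg
      obtain ⟨k, -, hk⟩ := H ⟨χ, hχ⟩ ⟨ψ, hψ⟩
        (fun e => h1 (hχ.isCharacter.charDegree_eq_one_iff.1 e)) (charDegree_congr h2)
      have e : ψ g = χ (g ^ k) := hk g
      rw [e, ← h2]
      exact hχ.isCharacter.mem_charKer_iff.1 (pow_mem (hχ.isCharacter.mem_charKer_iff.2 hg) k)
    have hc := card_eq hP hS hna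
    obtain ⟨-, -, -, -, -, hcyc⟩ := hS.isCyclic_center hp hc (le_center_of_card_eq hP _ hc)
    exact ⟨hcyc, hc⟩
  · rintro ⟨hcyc, hc⟩ ⟨χ, hχ⟩ ⟨ψ, hψ⟩ h1 h2
    change charDegree χ ≠ 1 at h1
    change charDegree χ = charDegree ψ at h2
    change ∃ k : ℕ, Nat.Coprime k (Nat.card P) ∧ ∀ g : P, ψ g = χ (g ^ k)
    have hZ := le_center_of_card_eq hP _ hc
    have hχ1 : χ 1 ≠ 1 := fun e => h1 (hχ.isCharacter.charDegree_eq_one_iff.2 e)
    have h11 : χ 1 = ψ 1 := by rw [hχ.apply_one_eq, hψ.apply_one_eq, h2]
    have hψ1 : ψ 1 ≠ 1 := h11 ▸ hχ1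
    obtain ⟨⟨z, hz⟩, hgen⟩ := hcyc.exists_generator
    have hne : _root_.commutator P ≠ ⊥ := by
      intro h0; rw [h0, card_bot] at hc; exact hp.ne_one hc.symm
    obtain ⟨a, ha, -, hao⟩ := exists_mem_center_orderOf_eq hP _ hne
    have ha1 : a ≠ 1 := by rintro rfl; rw [orderOf_one] at hao; exact hp.ne_one hao.symm
    obtain ⟨m, hm⟩ := (IsPGroup.iff_orderOf.1 hP) z
    -- faithful on the centre
    have hprim : ∀ φ : P → ℂ, IsIrrCharacter P φ → φ 1 ≠ 1 →
        IsPrimitiveRoot (φ z / φ 1) (p ^ m) ∧ ∀ i : ℕ, φ (z ^ i) = (φ z / φ 1) ^ i * φ 1 := by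
      intro φ hφ hφ1
      have hpow : ∀ i : ℕ, φ (z ^ i) = (φ z / φ 1) ^ i * φ 1 := by
        intro i
        induction i with
        | zero => simp
        | succ i ih =>
          rw [pow_succ', Cfsg.IsCharacter.apply_mul_of_mem_charCenter hφ.apply_one_ne_zero
            (hφ.center_le_charCenter hz), ih]; ring
      refine ⟨⟨?_, fun l hl => ?_⟩, hpow⟩
      · have := hpow (p ^ m)
        rw [← hm, pow_orderOf_eq_one] at this
        rw [← hm]
        exact mul_right_cancel₀ hφ.apply_one_ne_zero (by rw [← this, one_mul])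
      · rw [← hm, orderOf_dvd_iff_pow_eq_one]
        by_contra hne'
        have hk : z ^ l ∈ charKer φ := hφ.isCharacter.mem_charKer_iff.2 (by rw [hpow, hl, one_mul])
        obtain ⟨b, hb, hbo⟩ : ∃ b ∈ zpowers (z ^ l), orderOf b = p := by
          obtain ⟨j, hj⟩ := (IsPGroup.iff_orderOf.1 hP) (z ^ l)
          have : p ∣ Nat.card (zpowers (z ^ l)) := by
            rw [Nat.card_zpowers, hj]
            refine dvd_pow_self p ?_
            rintro rfl
            exact hne' (orderOf_eq_one_iff.1 hj)
          obtain ⟨b, hb⟩ := exists_prime_orderOf_dvd_card' p this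
          exact ⟨b, b.2, by rw [Subgroup.orderOf_coe, hb]⟩
        have hbZ : b ∈ center P := (zpowers_le.2 (pow_mem hz l)) hb
        have hab : zpowers (⟨a, hZ ha⟩ : center P) = zpowers (⟨b, hbZ⟩ : center P) := by
          refine Cfsg.Lib.Misc.cyclic_eq_of_card_eq ?_
          rw [Nat.card_zpowers, Nat.card_zpowers, ← Subgroup.orderOf_coe, ← Subgroup.orderOf_coe]
          exact hao.trans hbo.symm
        have : (⟨a, hZ ha⟩ : center P) ∈ zpowers (⟨b, hbZ⟩ : center P) := hab ▸ mem_zpowers _
        obtain ⟨i, hi⟩ := this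
        have hi' : b ^ i = a := by simpa using congrArg Subtype.val hi
        refine ne_of_card_commutator hp hc hφ hφ1 ha ha1 (hφ.isCharacter.mem_charKer_iff.1 ?_)
        rw [← hi']
        exact zpow_mem ((zpowers_le.2 hk) hb) i
    obtain ⟨hp1, hv1⟩ := hprim χ hχ hχ1
    obtain ⟨hp2, hv2⟩ := hprim ψ hψ hψ1
    haveI : NeZero (p ^ m) := ⟨pow_ne_zero m hp.ne_zero⟩
    obtain ⟨k, -, hk, hkc⟩ := (hp1.isPrimitiveRoot_iff).1 hp2
    have hm0 : m ≠ 0 := by
      rintro rfl
      obtain ⟨i, hi⟩ := hgen ⟨a, hZ ha⟩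
      have hi' : z ^ i = a := by simpa using congrArg Subtype.val hi
      rw [pow_zero, orderOf_eq_one_iff] at hm
      rw [hm, one_zpow] at hi'
      exact ha1 hi'.symm
    have hkp : k.Coprime p := hk.coprime_dvd_right (dvd_pow_self p hm0)
    obtain ⟨n, hn⟩ := IsPGroup.iff_card.1 hP
    have hkP : k.Coprime (Nat.card P) := hn ▸ hkp.pow_right n
    refine ⟨k, hkP, fun g => ?_⟩
    by_cases hg : g ∈ center P
    · obtain ⟨i, hi⟩ := (mem_powers_iff_mem_zpowers.2 (hgen ⟨g, hg⟩))
      have hi' : z ^ i = g := by simpa using congrArg Subtype.val hi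
      rw [← hi', ← pow_mul, hv1, hv2, ← hkc, ← pow_mul, h11, mul_comm k i]
    · have hgk : g ^ k ∉ center P := by
        intro hgk
        apply hg
        obtain ⟨l, hl⟩ := exists_pow_eq_self_of_coprime
          (hkP.coprime_dvd_right (orderOf_dvd_natCard g))
        rw [← hl]; exact pow_mem hgk l
      rw [vanish_of_card_commutator hp hc hZ hψ hψ1 hg,
        vanish_of_card_commutator hp hc hZ hχ hχ1 hgk]

end Cfsg.Agent.S4845
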