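import Cfsg.Statements.S4848
import Cfsg.Agent.Lib.VN.Nil
import Cfsg.Agent.Lib.Core.PCore
import Cfsg.Agent.S4456
import Cfsg.Agent.S4558

set_option autoImplicit false
open Cfsg Subgroup Cfsg.Lib.VN Cfsg.Lib.Char Cfsg.Lib.Core
open scoped Pointwise

namespace Cfsg.Agent.S4848

/-- Let p be a prime and G a finite non-commutative group in which every vanishing element (an element at which some irreducible character is zero) has order a positive power of p. Then either G is a p-group, or the centre of G equals O_p(G) and G/Z(G) is a Frobenius group with a Frobenius complement of p-power order. -/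
theorem result {G : Type*} [Group G] [Finite G] (hna : ¬ IsMulCommutative G) (p : ℕ) [Fact p.Prime] (hvan : ∀ g : G, (∃ χ : Cfsg.IrrCharacter G, (χ : G → ℂ) g = 0) → ∃ m : ℕ, 1 ≤ m ∧ orderOf g = p ^ m) :
    IsPGroup p G ∨ (Subgroup.center G = Cfsg.pCore p G ∧ ∃ H : Subgroup (G ⧸ Subgroup.center G), Cfsg.IsFrobeniusComplement H ∧ IsPGroup p H) := by
  have hp : p.Prime := Fact.out
  have hv : ∀ g : G, ¬ NV g → ∃ m, orderOf g = p ^ m := fun g hg => by
    simp only [NV, not_forall, not_not] at hg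
    obtain ⟨χ, hχ, e⟩ := hg
    obtain ⟨m, -, hm⟩ := hvan g ⟨⟨χ, hχ⟩, e⟩
    exact ⟨m, hm⟩
  obtain ⟨K, hK, hc, n, hn⟩ := S4456.result (G := G) p hp fun χ h1 => by
    obtain ⟨g, hg⟩ := χ.2.exists_apply_eq_zero fun e => h1 (χ.2.isCharacter.charDegree_eq_one_iff.2 e)
    exact S4558.result p _ χ.2.isCharacter g (hv g fun h => h _ χ.2 hg) hg
  have hQ : IsPGroup p (G ⧸ K) := IsPGroup.of_card hn
  have hone : ∀ k ∈ K, ∀ m, k ^ p ^ m = 1 → k = 1 := fun k hk m e =>
    (pow_eq_one_iff_of_coprime (hc.pow_right m)).1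
      ⟨congrArg Subtype.val (pow_card_eq_one' (x := (⟨k, hk⟩ : K))), e⟩
  have hF : ∀ y : G, ∀ m, y ^ p ^ m = 1 → y ∉ center G → ∀ k ∈ K, Commute k y → k = 1 := fun y m hy hz k hk e => by
    obtain ⟨j, hj⟩ := hv (k * y) fun h => hz (h.central K hQ.isNilpotent
      ((hc.symm.pow_left m).coprime_dvd_left (orderOf_dvd_of_pow_eq_one hy)) hk)
    refine hone k hk (j + m) ?_
    have h1 := e.mul_pow (p ^ (j + m))
    rw [pow_add, pow_mul (k * y), ← hj, pow_orderOf_eq_one, one_pow, mul_comm (orderOf _), pow_mul y, hy, one_pow,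
      mul_one, mul_comm, hj, ← pow_add] at h1
    exact h1.symm
  by_cases h0 : K = ⊥
  · exact Or.inl (IsPGroup.of_card (n := n) (by rw [← hn, h0, index_bot]))
  obtain ⟨k₀, hk₀, hk₁⟩ := (bot_or_exists_ne_one K).resolve_left h0
  obtain ⟨y, m, hy, hz⟩ : ∃ (y : G) (m : ℕ), y ^ p ^ m = 1 ∧ y ∉ center G := by
    obtain ⟨χ, hχ⟩ := not_forall.1 fun h => hna ⟨⟨comm_iff_forall_irr_apply_one.2 h⟩⟩
    obtain ⟨g, hg⟩ := χ.2.exists_apply_eq_zero hχ
    obtain ⟨m, hm⟩ := hv g fun h => h _ χ.2 hg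
    exact ⟨g, m, hm ▸ pow_orderOf_eq_one g, fun h => nv_of_center h _ χ.2 hg⟩
  have hZ : IsPGroup p (center G) := fun z => by
    obtain ⟨j, hj⟩ := hQ (z : G)
    refine ⟨j, Subtype.ext (hF y m hy hz _ ((QuotientGroup.eq_one_iff _).1 hj) ?_)⟩
    exact (mem_center_iff.1 (z ^ p ^ j).2 y).symm
  have hPK : ∀ Q : Subgroup G, IsPGroup p Q → ∀ k ∈ K, k ∈ Q → k = 1 := fun Q hQ k hk h => by
    obtain ⟨j, hj⟩ := hQ ⟨k, h⟩
    exact hone k hk j (congrArg Subtype.val hj)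
  obtain ⟨P, hP⟩ := IsPGroup.exists_le_sylow (P := zpowers y) (IsPGroup.of_card_dvd_pow (n := m)
    (by rw [Nat.card_zpowers]; exact orderOf_dvd_of_pow_eq_one hy))
  have hZP : center G ≤ P := hZ.le_sylow_of_normal P
  have hm : ∀ x : G, (x : G ⧸ center G) ∈ (P : Subgroup G).map (QuotientGroup.mk' _) ↔ x ∈ (P : Subgroup G) :=
    fun x => by
      change x ∈ comap (QuotientGroup.mk' _) (map _ _) ↔ _
      rw [comap_map_eq, QuotientGroup.ker_mk', sup_eq_left.2 hZP]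
  have hKP : ∀ g : G, ∃ k ∈ K, ∃ u ∈ (P : Subgroup G), k * u = g := fun g => by
    have h1 : K ⊔ P = ⊤ := by
      rw [← index_eq_one]
      exact Nat.eq_one_of_dvd_coprimes ((Nat.Coprime.pow_left n (hp.coprime_iff_not_dvd.2 P.not_dvd_index)))
        (hn ▸ index_dvd_of_le le_sup_left) (index_dvd_of_le le_sup_right)
    exact mem_sup_of_normal_left.1 (h1 ▸ mem_top g)
  refine Or.inr ⟨le_antisymm (le_pCore inferInstance hZ) fun x hx => not_not.1 fun e => hk₁ ?_,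
    (P : Subgroup G).map (QuotientGroup.mk' _), ⟨fun e => hz ?_, fun e => hk₁ ?_, fun g hg => ?_⟩, P.2.map _⟩
  · obtain ⟨j, hj⟩ := pCore_isPGroup p G ⟨x, hx⟩
    refine hF x j (congrArg Subtype.val hj) e k₀ hk₀ (commute_of_normal_of_disjoint K (pCore p G) hK inferInstance
      (disjoint_def.2 fun {k} h1 h2 => hPK _ (pCore_isPGroup p G) k h1 h2) _ _ hk₀ hx)
  · have := (hm y).2 (hP (mem_zpowers y))
    rwa [e, mem_bot, QuotientGroup.eq_one_iff] at this
  · exact hPK _ P.2 k₀ hk₀ ((hm k₀).1 (e ▸ mem_top _))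
  · obtain ⟨g, rfl⟩ := QuotientGroup.mk_surjective g
    obtain ⟨k, hk, u, hu, rfl⟩ := hKP g
    refine (eq_bot_iff_forall _).2 fun x ⟨h1, h2⟩ => ?_
    obtain ⟨x, rfl⟩ := QuotientGroup.mk_surjective x
    have h3 := (hm x).1 h1
    have h4 : (k * u)⁻¹ * x * (k * u) ∈ (P : Subgroup G) := (hm _).1 (by
      simpa [mul_assoc] using mem_pointwise_smul_iff_inv_smul_mem.1 h2)
    have h5 : x⁻¹ * k⁻¹ * x * k = 1 := hPK _ P.2 _ (mul_mem (hK.conj_mem' _ (inv_mem hk) x) hk) (by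
      convert mul_mem (inv_mem h3) (mul_mem (mul_mem hu h4) (inv_mem hu)) using 1
      group)
    obtain ⟨j, hj⟩ := P.2 ⟨x, h3⟩
    refine (QuotientGroup.eq_one_iff _).2 (not_not.1 fun e => hg ((hm _).2 ?_))
    rw [hF x j (congrArg Subtype.val hj) e k hk (by
      rw [mul_assoc, ← mul_inv_rev, inv_mul_eq_one] at h5; exact h5), one_mul]
    exact hu

end Cfsg.Agent.S4848
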