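import Cfsg.Statements.S4930
import Cfsg.Agent.S4591
import Cfsg.Agent.S4931

set_option autoImplicit false
open Cfsg

namespace Cfsg.Agent.S4930

open Subgroup Cfsg.Lib Cfsg.Lib.BG Cfsg.Lib.Char Cfsg.Lib.Induce Cfsg.Lib.Clifford Cfsg.Lib.CharDeg Cfsg.Agent.S4591
open scoped commutatorElement

theorem num {A B : Type*} [Fintype A] [Fintype B] [DecidableEq B] (c : A → B) (a : A → ℕ) (b : B → ℕ)
    (h0 : ∀ x, 0 < a x) (h : ∀ y, ∑ x with c x = y, a x ≤ b y) :
    ∑ x, a x ^ 2 ≤ ∑ y, b y ^ 2 ∧ (∑ x, a x ^ 2 = ∑ y, b y ^ 2 → ∀ x, a x = b (c x)) := by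
  have h1 : ∀ x, a x ≤ b (c x) := fun x =>
    (Finset.single_le_sum (f := a) (fun _ _ => Nat.zero_le _) (by simp)).trans (h (c x))
  have h2 : ∀ x ∈ Finset.univ, a x ^ 2 ≤ a x * b (c x) := fun x _ => by
    rw [sq]; exact Nat.mul_le_mul_left _ (h1 x)
  have h3 : ∑ x, a x * b (c x) ≤ ∑ y, b y ^ 2 := by
    rw [← Finset.sum_fiberwise (s := Finset.univ) (g := c)]
    refine Finset.sum_le_sum fun y _ => ?_
    rw [Finset.sum_congr rfl (g := fun x => a x * b y) fun x hx => by rw [(Finset.mem_filter.1 hx).2],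
      ← Finset.sum_mul, sq]
    exact Nat.mul_le_mul_right _ (h y)
  refine ⟨(Finset.sum_le_sum h2).trans h3, fun e x => ?_⟩
  have := (Finset.sum_eq_sum_iff_of_le h2).1 (le_antisymm (Finset.sum_le_sum h2) (h3.trans e.ge)) x (Finset.mem_univ x)
  rw [sq] at this
  exact Nat.eq_of_mul_eq_mul_left (h0 x) this

section
variable {G : Type*} [Group G] [Finite G] {p : ℕ} [hp : Fact p.Prime]

omit hp in
theorem sum_le [Fintype G] {χ : G → ℂ} (hχ : IsCharacter G χ) {ι : Type*} (s : Finset ι) (f : ι → IrrCharacter G)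
    (inj : Function.Injective f) (h : ∀ i ∈ s, classInner χ (f i) ≠ 0) :
    ∑ i ∈ s, charDegree (f i : G → ℂ) ≤ charDegree χ := by
  classical
  obtain ⟨n, hn⟩ := hχ.exists_eq_sum_nat
  have h1 : charDegree χ = ∑ ψ : IrrCharacter G, n ψ * charDegree (ψ : G → ℂ) := by
    refine charDegree_eq_of_apply_one ?_
    rw [hn, Finset.sum_apply, Nat.cast_sum]
    exact Finset.sum_congr rfl fun ψ _ => by rw [Pi.smul_apply, ψ.2.apply_one_eq]; simp
  rw [h1, ← Finset.sum_image (f := fun ψ : IrrCharacter G => charDegree (ψ : G → ℂ)) inj.injOn]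
  refine le_trans (Finset.sum_le_sum fun ψ hψ => ?_) (Finset.sum_le_sum_of_subset (Finset.subset_univ _))
  obtain ⟨i, hi, rfl⟩ := Finset.mem_image.1 hψ
  refine Nat.le_mul_of_pos_left _ (Nat.pos_of_ne_zero fun e => h i hi ?_)
  rw [hn, classInner_sum_smul_irr, e, Nat.cast_zero]

theorem kerlem (P : Sylow p G) (N L : Subgroup G) [N.Normal] [L.Normal] (hN : N ⊓ 𝐂((P : Subgroup G)) = ⊥)
    (hL : L ≤ N ⊔ ⁅(P : Subgroup G), (P : Subgroup G)⁆) {χ : G → ℂ} (hχ : IsIrrCharacter G χ)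
    (d : ¬ p ∣ charDegree χ) {g : G} (hg : g ∈ L) : χ g = χ 1 := by
  have h3 : ¬ p ∣ Nat.card N := fun c => by
    have := FH.dvd_card_cent P.isPGroup' (le_top.trans (normalizer_eq_top N).ge) c
    rw [hN, card_bot] at this
    exact hp.out.not_dvd_one this
  set T := N ⊔ (P : Subgroup G)
  haveI := Fintype.ofFinite G
  haveI := Fintype.ofFinite T
  haveI := Fintype.ofFinite L
  obtain ⟨η, hη, hne, d'⟩ := exists_constituent_not_dvd (hχ.isCharacter.restrict T) (p := p) d
  obtain ⟨k, hk⟩ := P.isPGroup'.exists_card_eq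
  have h4 := (isIrrCharacter_res_subgroupOf_iff (le_sup_left : N ≤ T)).1 (isIrrCharacter_res_of_coprime
    (N.subgroupOf T) hη ((((Nat.Prime.coprime_iff_not_dvd hp.out).2 d').symm.pow_right k).coprime_dvd_right
      (hk ▸ idx N P)))
  have h5 := (gl N h3 P.isPGroup').1 hN _ h4 fun s hs =>
    conjChar_res_le N le_sup_left hη.isClassFunction (mem_sup_right hs)
  obtain ⟨lam, rfl⟩ := hη.isCharacter.exists_hom_of_apply_one (congrFun h5 1)
  have h6 : N ⊔ ⁅(P : Subgroup G), (P : Subgroup G)⁆ ≤ lam.ker.map T.subtype :=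
    sup_le (fun n hn => ⟨⟨n, mem_sup_left hn⟩, Units.ext (congrFun h5 ⟨n, hn⟩), rfl⟩)
      (commutator_le.2 fun a ha b hb => ⟨⁅(⟨a, mem_sup_right ha⟩ : T), ⟨b, mem_sup_right hb⟩⁆, by
        rw [SetLike.mem_coe, MonoidHom.mem_ker, map_commutatorElement]
        exact commutatorElement_eq_one_iff_mul_comm.2 (mul_comm _ _), rfl⟩)
  have h7 : L ≤ T := (hL.trans h6).trans (map_subtype_le _)
  have h8 : (fun x : L => (lam (inclusion h7 x) : ℂ)) = fun _ => 1 := funext fun x => by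
    obtain ⟨y, hy, e⟩ := h6 (hL x.2)
    rw [show inclusion h7 x = y from Subtype.ext e.symm, MonoidHom.mem_ker.1 hy, Units.val_one]
  have h9 := inner_comp_ne_zero_of_constituent (inclusion h7) (hχ.isCharacter.restrict T) hη hne isCharacter_one
    (by rw [h8, isIrrCharacter_one.inner_self]; exact one_ne_zero)
  have h10 := res_eq_smul_of_invariant L hχ isIrrCharacter_one h9 fun _ _ => rfl
  exact (congrFun h10 ⟨g, hg⟩).trans (congrFun h10 1).symm

theorem deg_quo (S : Sylow p G) [(S : Subgroup G).Normal] {β : G ⧸ ⁅(S : Subgroup G), (S : Subgroup G)⁆ → ℂ}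
    (hβ : IsIrrCharacter _ β) : ¬ p ∣ charDegree β := by
  have hs := QuotientGroup.mk'_surjective ⁅(S : Subgroup G), (S : Subgroup G)⁆
  haveI : ((S : Subgroup G).map (QuotientGroup.mk' ⁅(S : Subgroup G), (S : Subgroup G)⁆)).Normal :=
    Normal.map inferInstance _ hs
  haveI := Fintype.ofFinite ((S : Subgroup G).map (QuotientGroup.mk' ⁅(S : Subgroup G), (S : Subgroup G)⁆))
  have h5 := charDegree_dvd_index_of_comm ((S : Subgroup G).map
      (QuotientGroup.mk' ⁅(S : Subgroup G), (S : Subgroup G)⁆)) hβ (by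
    rintro _ ⟨a, ha, rfl⟩ _ ⟨b, hb, rfl⟩
    rw [← commutatorElement_eq_one_iff_mul_comm, ← map_commutatorElement, QuotientGroup.mk'_apply,
      QuotientGroup.eq_one_iff]
    exact commutator_mem_commutator ha hb)
  exact fun d => S.not_dvd_index (d.trans (h5.trans (index_map_dvd _ hs)))

theorem main (P : Sylow p G) :
    Nat.card 𝐍((P : Subgroup G)) ≤ Nat.card (_root_.commutator P) *
      (∑ᶠ χ : {χ : IrrCharacter G // ¬ p ∣ charDegree (χ : G → ℂ)}, charDegree (χ.1 : G → ℂ) ^ 2) ∧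
    (Nat.card 𝐍((P : Subgroup G)) = Nat.card (_root_.commutator P) *
      (∑ᶠ χ : {χ : IrrCharacter G // ¬ p ∣ charDegree (χ : G → ℂ)}, charDegree (χ.1 : G → ℂ) ^ 2) ↔
      ∃ K : Subgroup G, K.Normal ∧ K ⊓ 𝐍((P : Subgroup G)) = ⊥ ∧ K ⊔ 𝐍((P : Subgroup G)) = ⊤) := by
  classical
  have ext := Agent.S4931.result p P
  have hPN : (P : Subgroup G) ≤ 𝐍((P : Subgroup G)) := le_normalizer
  have hCN : 𝐂((P : Subgroup G)) ≤ 𝐍((P : Subgroup G)) := centralizer_le_normalizer _
  generalize hN : 𝐍((P : Subgroup G)) = N at *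
  haveI := Fintype.ofFinite G
  haveI := Fintype.ofFinite N
  let S : Sylow p N := P.subtype hPN
  haveI : (S : Subgroup N).Normal := by
    subst hN; exact normal_in_normalizer
  let D : Subgroup N := ⁅(S : Subgroup N), (S : Subgroup N)⁆
  have c1 : Nat.card D = Nat.card (_root_.commutator P) := by
    rw [← card_map_of_injective N.subtype_injective, map_commutator, Sylow.coe_subtype, map_subgroupOf_eq_of_le hPN,
      ← map_subtype_commutator, card_map_of_injective (subtype_injective _)]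
  have c2 : Nat.card N = Nat.card (_root_.commutator P) *
      ∑ β : IrrCharacter (N ⧸ D), charDegree (β : N ⧸ D → ℂ) ^ 2 := by
    rw [sum_charDegree_sq, ← c1, ← D.card_mul_index, index_eq_card]
  let f : IrrCharacter (N ⧸ D) → IrrCharacter N := fun β => ⟨_, β.2.inflate⟩
  have finj : Function.Injective f := fun a b e => Subtype.ext (funext fun x => by
    obtain ⟨x, rfl⟩ := QuotientGroup.mk_surjective x
    exact congrFun (congrArg Subtype.val e) x)
  have fd : ∀ β, charDegree (f β : N → ℂ) = charDegree (β : N ⧸ D → ℂ) := fun β => rfl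
  have kd : ∀ θ : N → ℂ, IsIrrCharacter N θ → ¬ p ∣ charDegree θ → ∃ β, (f β : N → ℂ) = θ := fun θ hθ d => by
    obtain ⟨β, h1, h2⟩ := hθ.exists_deflate D fun x hx => kerlem S ⊥ D (bot_inf_eq _) le_sup_right hθ d hx
    exact ⟨⟨β, h1⟩, funext h2⟩
  have ab : ∀ β : IrrCharacter (N ⧸ D), ∃ χ : {χ : IrrCharacter G // ¬ p ∣ charDegree (χ : G → ℂ)},
      classInner (fun x : N => (χ.1 : G → ℂ) x) (f β) ≠ 0 := fun β => by
    obtain ⟨χ, hχ, hne, h3⟩ := exists_constituent_not_dvd (isCharacter_indFun N (f β).2.isCharacter) (p := p) (by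
      rw [charDegree_eq_of_apply_one (n := N.index * charDegree (f β : N → ℂ))
        (by rw [indFun_one, (f β).2.apply_one_eq, Nat.cast_mul])]
      exact fun h4 => ((Nat.Prime.dvd_mul hp.out).1 h4).elim
        (fun h5 => P.not_dvd_index (h5.trans (index_dvd_of_le hPN))) (deg_quo S β.2))
    rw [frobenius_reciprocity N _ hχ.isClassFunction, Ne, classInner_eq_zero_comm] at hne
    exact ⟨⟨⟨χ, hχ⟩, h3⟩, hne⟩
  choose c hc using ab
  obtain ⟨n1, n2⟩ := num c (fun β => charDegree (β : N ⧸ D → ℂ)) (fun χ => charDegree (χ.1 : G → ℂ))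
    (fun β => β.2.charDegree_pos) fun χ => sum_le (χ.1.2.isCharacter.restrict N) _ f finj fun β hβ =>
      (Finset.mem_filter.1 hβ).2 ▸ hc β
  rw [finsum_eq_sum_of_fintype, c2]
  refine ⟨Nat.mul_le_mul_left _ n1, fun e => ?_, fun ⟨K, hK, h1, h2⟩ => congrArg _ (le_antisymm n1 ?_)⟩
  · obtain ⟨K, h1, h2, h3⟩ := ext.1 fun θ d => by
      obtain ⟨β, hβ⟩ := kd θ θ.2 d
      refine ⟨(c β).1, congrFun ((eq_of_constituent_of_apply_one_eq ((c β).1.2.isCharacter.restrict N) (f β).2
        (hc β) ?_).trans hβ)⟩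
      rw [(f β).2.apply_one_eq, fd, n2 (Nat.eq_of_mul_eq_mul_left Nat.card_pos e) β]
      exact (c β).1.2.apply_one_eq
    exact ⟨K, h1, h3, h2⟩
  · have hc := (Cfsg.Lib.Core.isComplement'_of_inf_eq_bot h1 h2).symm
    have r : ∀ χ : {χ : IrrCharacter G // ¬ p ∣ charDegree (χ : G → ℂ)}, ∃ β : IrrCharacter (N ⧸ D),
        ∀ g : G, (χ.1 : G → ℂ) g = (f β : N → ℂ) (hc.QuotientMulEquiv (g : G ⧸ K)) := fun χ => by
      obtain ⟨χ', h3, h4⟩ := χ.1.2.exists_deflate K fun x hx =>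
        kerlem P K K (eq_bot_mono h1 (inf_le_inf_left _ hCN)) le_sup_left χ.1.2 χ.2 hx
      obtain ⟨β, hβ⟩ := kd _ (h3.comp_equiv hc.QuotientMulEquiv.symm) (by
        rw [charDegree_congr (ψ := (χ.1 : G → ℂ)) ((congrArg χ' (map_one hc.QuotientMulEquiv.symm)).trans (h4 1))]
        exact χ.2)
      exact ⟨β, fun g => by rw [hβ, ← h4]; simp⟩
    choose r hr using r
    have rinj : Function.Injective r := fun a b e => Subtype.ext (Subtype.ext (funext fun g => by rw [hr, hr, e]))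
    rw [Finset.sum_congr rfl (g := fun χ => charDegree (r χ : N ⧸ D → ℂ) ^ 2) fun χ _ => by
        rw [← fd, charDegree_congr (ψ := (f (r χ) : N → ℂ))
          ((hr χ 1).trans (congrArg _ (map_one hc.QuotientMulEquiv)))],
      ← Finset.sum_image (f := fun β : IrrCharacter (N ⧸ D) => charDegree (β : N ⧸ D → ℂ) ^ 2) rinj.injOn]
    exact Finset.sum_le_sum_of_subset (Finset.subset_univ _)

end

/-- Let G be a finite group, P a Sylow 2-subgroup of G with normalizer N, and P′ the commutator subgroup of P. Then the sum of the squares of the degrees of the irreducible complex characters of G of odd degree is at least the index of P′ in N (the order of N divided by the order of P′), and equality holds if and only if N has a normal complement in G: a normal subgroup K of G with K ∩ N = 1 and KN = G. -/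
theorem result {G : Type*} [Group G] [Finite G] (P : Sylow 2 G) :
    Nat.card (Subgroup.normalizer ((P : Subgroup G) : Set G)) ≤ Nat.card (commutator ↥P) * (∑ᶠ χ : {χ : Cfsg.IrrCharacter G // ¬ 2 ∣ Cfsg.charDegree (χ : G → ℂ)}, Cfsg.charDegree (χ.1 : G → ℂ) ^ 2) ∧
    (Nat.card (Subgroup.normalizer ((P : Subgroup G) : Set G)) = Nat.card (commutator ↥P) * (∑ᶠ χ : {χ : Cfsg.IrrCharacter G // ¬ 2 ∣ Cfsg.charDegree (χ : G → ℂ)}, Cfsg.charDegree (χ.1 : G → ℂ) ^ 2) ↔
      ∃ K : Subgroup G, K.Normal ∧ K ⊓ Subgroup.normalizer ((P : Subgroup G) : Set G) = ⊥ ∧ K ⊔ Subgroup.normalizer ((P : Subgroup G) : Set G) = ⊤) := by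
  exact main P

end Cfsg.Agent.S4930
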