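import Cfsg.Statements.S4997
import Cfsg.Agent.Lib.CharDeg.VanP

set_option autoImplicit false
open Cfsg

namespace Cfsg.Agent.S4997

open Subgroup Cfsg.Lib.CharDeg.VanP Cfsg.Lib.Core Cfsg.Lib.Char

/-- Let p be an odd prime and G a finite solvable group with exactly one conjugacy class consisting of vanishing elements (elements at which some irreducible complex character is zero) of order divisible by p. Let P be a Sylow p-subgroup of G. Then the order of P is at most p times the order of the largest normal p-subgroup of G. -/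
theorem result {G : Type*} [Group G] [Finite G] (hsolv : Group.IsSolvable G) (p : ℕ) [Fact p.Prime] (hp : p ≠ 2) (h1 : Set.ncard {C : ConjClasses G | (∀ g ∈ C.carrier, ∃ χ : Cfsg.IrrCharacter G, (χ : G → ℂ) g = 0) ∧ ∃ g ∈ C.carrier, p ∣ orderOf g} = 1) (P : Sylow p G) : Nat.card ↥(P : Subgroup G) ≤ p * Nat.card ↥(Cfsg.pCore p G) := by
  obtain ⟨C, hC⟩ := Set.ncard_eq_one.1 h1
  have key : ∀ x : G, Van p x → ConjClasses.mk x = C := fun x ⟨⟨χ, hχ⟩, hx⟩ => hC.le
    ⟨fun g hg => ⟨χ, by
      obtain ⟨c, rfl⟩ := isConj_iff.1 (ConjClasses.mk_eq_mk_iff_isConj.1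
        (ConjClasses.mem_carrier_iff_mk_eq.1 hg).symm)
      rw [χ.2.isCharacter.isClassFunction, hχ]⟩, x, ConjClasses.mem_carrier_mk, hx⟩
  have h2 := not_dvd_index hsolv fun x y hx hy => by
    obtain ⟨c, rfl⟩ := isConj_iff.1 (ConjClasses.mk_eq_mk_iff_isConj.1 ((key x hx).trans (key y hy).symm))
    exact ((MulAut.conj c).orderOf_eq x).symm
  have h3 := pCore_le_sylow P
  obtain ⟨k, hk⟩ := P.isPGroup'.index ((pCore p G).subgroupOf P)
  have h4 : k ≤ 1 := not_lt.1 fun e => h2 ((pow_dvd_pow p e).trans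
    (hk ▸ relIndex_dvd_index_of_le h3))
  rw [← card_mul_relIndex h3, mul_comm, relIndex, hk]
  exact Nat.mul_le_mul_right _ ((Nat.pow_le_pow_right (Fact.out : p.Prime).pos h4).trans_eq (pow_one p))

end Cfsg.Agent.S4997
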