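import Cfsg.Statements.S5052
import Cfsg.Agent.Lib.RI.SzX

set_option autoImplicit false
open Cfsg

namespace Cfsg.Agent.S5052

/-- Let G be a finite group with O₂(G) = 1 and trivial centre, generated by a class D of odd transpositions whose commuting graph is connected, with some product of two different commuting members again in D. Then for each d ∈ D the members of D with the same commuting members as d, together with 1, form a subgroup E(d); and for every x ∈ D with dx of odd order greater than 1, the subgroup generated by E(d) and x is isomorphic to L₂(q) where q is the order of E(d). -/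
theorem result {G : Type*} [Group G] [Finite G] {D : Set G} (hD : Cfsg.IsOddTranspositionSet D) (hcl : Cfsg.IsRootInvolutionClass D)
    (hO : Cfsg.pCore 2 G = ⊥) (hZ : Subgroup.center G = ⊥) (hDD : (D ∩ Cfsg.commutingProducts D).Nonempty)
    (hc : Cfsg.IsConnectedSet (Cfsg.CommAdj D) D) {d : G} (hd : d ∈ D) :
    (Cfsg.sameCommutingSubgroup D d : Set G) = Cfsg.sameCommutingClass D d ∪ {1} ∧
    ∀ x ∈ Cfsg.oddPartners D d, ∃ (F : Type) (_ : Field F) (_ : Fintype F),
      Fintype.card F = Nat.card ↥(Cfsg.sameCommutingSubgroup D d) ∧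
      Nonempty (↥(Subgroup.closure (Cfsg.sameCommutingClass D d ∪ {x})) ≃* Matrix.ProjectiveSpecialLinearGroup (Fin 2) F) := by
  open Cfsg.Lib.RI in
  have h1 := rt_of hD.1
  have h2 : Cfsg.sameCommutingClass D d = Es D d := Set.ext fun _ => mem_ec
  have h4 := four_of hDD
  have hg := hD.1.generates
  have ho : Cfsg.IsConnectedSet (Cfsg.OddAdj D) D := fun a ha b hb => by
    obtain ⟨g, rfl⟩ := hcl.2.2 a ha b hb
    obtain ⟨x, hx, o⟩ : ∃ x ∈ D, Od a x := by
      by_contra! h
      exact h1.ne_one ha (Subgroup.mem_bot.1 (hO ▸ h1.mem_pCore hg ha h))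
    exact h1.oc_cj_self' ha hx o (hg.ge (Subgroup.mem_top g))
  have H : OT D := ⟨h1, Deg.of_odd hD, h4, ho, hc⟩
  have hz : Cfsg.twoZCore G = ⊥ := eq_bot_iff.2 fun z hz => hZ ▸ Subgroup.mem_center_iff.2 fun g => by
    have := mem_zs.1 hz g
    rw [hO, Subgroup.mem_bot, inv_mul_eq_one] at this
    exact cj_eq_iff.1 this.symm
  have := h1.simple_quot hg ho h4
  have : IsSimpleGroup G :=
    ((QuotientGroup.quotientMulEquivOfEq hz).trans QuotientGroup.quotientBot).symm.isSimpleGroup
  rw [Cfsg.sameCommutingSubgroup, h2]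
  refine ⟨Set.ext fun m => ⟨fun hm => (eq_or_ne m 1).symm.imp (H.es_mem hg hd hm) id, ?_⟩, fun x hx => ?_⟩
  · rintro (h | rfl)
    exacts [mem_cl h, one_mem _]
  · rw [Set.union_singleton]
    exact H.l2 hg hd ((h1.mem_op hd).1 hx).1 ((h1.mem_op hd).1 hx).2

end Cfsg.Agent.S5052
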