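import Cfsg.Statements.S5055
import Cfsg.Agent.Lib.RI.RS3

set_option autoImplicit false
open Cfsg

namespace Cfsg.Agent.S5055

/-- The Root Structure Theorem for root involutions. Let G be a finite group with O₂(G) = 1 and trivial centre, generated by a non-degenerate class D of root involutions such that for every d ∈ D the members of D with the same commuting members as d, together with 1, form a subgroup E(d). For d ∈ D let M_d be the subgroup generated by d and the members e ≠ d of D commuting with d with ed ∈ D, let W_d be the set of members of D commuting with d that have no partner with product of odd order among the members commuting with d, and let N_d be the subgroup generated by W_d. Then N_d = M_d; the members of D in N_d are d and the e just described; the commutator subgroup of N_d is E(d); and the members of D central in N_d are exactly those with the same commuting members as d. -/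
theorem result {G : Type*} [Group G] [Finite G] {D : Set G} (hD : Cfsg.IsNondegenerateRootInvolutionSet D)
    (hcl : Cfsg.IsRootInvolutionClass D) (hO : Cfsg.pCore 2 G = ⊥) (hZ : Subgroup.center G = ⊥)
    (hE : ∀ d ∈ D, (Cfsg.sameCommutingSubgroup D d : Set G) = Cfsg.sameCommutingClass D d ∪ {1}) {d : G} (hd : d ∈ D) :
    Subgroup.closure {w | Cfsg.IsIsolatedElem (Cfsg.OddAdj (Cfsg.commutingMembers D d)) (Cfsg.commutingMembers D d) w} =
      Subgroup.closure (Cfsg.productPartners D d ∪ {d}) ∧
    D ∩ (Subgroup.closure (Cfsg.productPartners D d ∪ {d}) : Set G) = Cfsg.productPartners D d ∪ {d} ∧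
    ⁅Subgroup.closure (Cfsg.productPartners D d ∪ {d}), Subgroup.closure (Cfsg.productPartners D d ∪ {d})⁆ =
      Cfsg.sameCommutingSubgroup D d ∧
    Cfsg.sameCommutingClass D d = {e | e ∈ D ∧ e ∈ Subgroup.closure (Cfsg.productPartners D d ∪ {d}) ∧
      ∀ y ∈ Subgroup.closure (Cfsg.productPartners D d ∪ {d}), e * y = y * e} := by
  ---
  open Cfsg.Lib.RI in
  obtain ⟨h1, h2, h3⟩ := nd_of hD hcl
  have h4 := h1.he_of hE
  rw [h1.wd_eq, ← h1.wd_eq_xp h2 h4 hd]
  refine ⟨rfl, Set.ext fun e => ⟨fun h => h1.wd_closure h.1 h.2, fun h => ⟨h.1, mem_cl h⟩⟩,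
    h1.wd_comm h2 h4 h3 hd, Set.ext fun e => ⟨fun h => ?_, fun h => mem_ec.2 ⟨h.1,
      h1.ec_of_central h2 h4 hd (h1.wd_closure h.1 h.2.1) fun y hy => h.2.2 y (mem_cl hy)⟩⟩⟩
  obtain ⟨he, h⟩ := mem_ec.1 h
  exact ⟨he, mem_cl ⟨he, h.comm hd, fun z hz c o => o.1 ((h z hz).1 c.symm).symm⟩,
    fun y hy => comm_closure (fun s hs => ((h s hs.1).1 hs.2.1.symm).symm) hy⟩

end Cfsg.Agent.S5055
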