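import Cfsg.Statements.S5174
import Cfsg.Agent.Lib.PSLF.Red
import Cfsg.Agent.Lib.PSLF.Model
import Cfsg.Agent.Lib.Grp.FusTwo
import Cfsg.Agent.Lib.PSL2.Structure
import Cfsg.Agent.Lib.Linear.Simple
import Cfsg.Agent.S3116

set_option autoImplicit false
open Cfsg

namespace Cfsg.Agent.S5174

open Cfsg.Lib Cfsg.Lib.PSL2 Cfsg.Lib.Inv in
theorem aut_two {F : Type*} [Field F] [Fintype F] (h : Fintype.card F % 8 = 1 ∨ Fintype.card F % 8 = 7)
    (S : Sylow 2 (Matrix.ProjectiveSpecialLinearGroup (Fin 2) F)) :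
    IsPGroup 2 (MulAut (S : Subgroup (Matrix.ProjectiveSpecialLinearGroup (Fin 2) F))) := by
  have hodd : Fintype.card F % 2 = 1 := by omega
  have h16 : 16 ∣ Fintype.card F ^ 2 - 1 := by
    refine (Nat.modEq_iff_dvd' (Nat.one_le_pow _ _ Fintype.card_pos)).1 ?_
    have : ∀ r, r < 16 → (r % 8 = 1 ∨ r % 8 = 7) → 1 % 16 = r ^ 2 % 16 := by decide
    rw [Nat.ModEq, Nat.pow_mod]
    exact this _ (Nat.mod_lt _ (by norm_num)) (by omega)
  have hq : 4 ≤ Fintype.card F := by
    have := Fintype.one_lt_card (α := F)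
    omega
  have := Linear.isSimpleGroup_PSL_fin (F := F) (n := 2) le_rfl fun _ => hq
  obtain ⟨k, hk⟩ := S.isPGroup'.exists_card_eq
  have h8 : 2 ^ 3 ∣ Nat.card S := S.pow_dvd_card_of_pow_dvd_card (by
    have := card_PSL2_mul (K := F)
    rw [gcd_two_eq_of_odd (by rwa [Nat.card_eq_fintype_card, Nat.odd_iff]), Nat.card_eq_fintype_card (α := F)] at this
    exact Nat.dvd_of_mul_dvd_mul_left two_pos (this ▸ h16.mul_left _))
  obtain ⟨j, rfl⟩ : ∃ j, k = j + 2 := ⟨k - 2, by
    have := (Nat.pow_dvd_pow_iff_le_right one_lt_two).1 (hk ▸ h8)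
    omega⟩
  have hG := Grp.pResidual_two_of_simple hk
  obtain ⟨p, hp⟩ := CharP.exists F
  have := Fact.mk (CharP.char_is_prime F p)
  obtain ⟨a, b, m, h, hS⟩ := exists_le_dihL_of_coprime (AlgebraicClosure F) p
    (H := (S : Subgroup (Matrix.ProjectiveSpecialLinearGroup (Fin 2) F)))
    (hk ▸ ((Nat.coprime_primes Nat.prime_two this.out).2 fun e => by
      subst e
      have := char_dvd_card (F := F) 2
      rw [Nat.card_eq_fintype_card] at this
      omega).pow_left _)
    fun e => absurd (Nat.prime_three.dvd_of_dvd_pow (hk ▸ (show 3 ∣ 12 by norm_num).trans e : 3 ∣ 2 ^ (j + 2)))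
      (by norm_num)
  have hn : ¬ (S : Subgroup _) ≤ torusL F a b := fun e => by
    obtain ⟨g, -, hg⟩ := h.exists_zpowers_eqL
    obtain ⟨H, hH⟩ := exists_index_two_of_isCyclic (even_iff_two_dvd.2 (((Dvd.intro 4 rfl).trans h8).trans
      (Subgroup.card_subgroup_dvd_card _))) S (Subgroup.isCyclic_of_le (hg ▸ e))
    exact pResidual_two_eq_top_iff.1 hG H hH
  have hc := card_of_le_dihL h.ne hS hn
  have := Nat.le_of_dvd Nat.card_pos h8
  exact S3116.result S.isPGroup' (.inl ⟨_, by omega, dihedral_of_le_dihL h.ne hS hn⟩)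

/-- Let q be odd and n ≥ 2, with q ≡ 1 or 7 (mod 8) if n = 2. Let G be a finite nonabelian simple group with Sylow 2-subgroup S, and suppose the 2-fusion system of G on S has a normal subsystem E over T that is isomorphic to the 2-fusion system of PSL_n(q) (realized by an injective homomorphism of T onto a Sylow 2-subgroup of PSL_n(q)) and whose centralizer in S is trivial: every subgroup Y of C_S(T) such that every map of E extends to a map of the fusion system of G fixing Y elementwise is trivial. Then the 2-fusion system of G itself is isomorphic to that of PSL_n(q). -/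
theorem result {G : Type*} [Group G] [Finite G] [IsSimpleGroup G] (hG : ¬ IsMulCommutative G) (S : Sylow 2 G) (n : ℕ) (hn : 2 ≤ n) {F : Type*} [Field F] [Fintype F] (q : ℕ) (hFq : Fintype.card F = q) (hq : Odd q) (h2 : n = 2 → q % 8 = 1 ∨ q % 8 = 7) {T : Subgroup G} (E : Cfsg.FusionSystem T) (hE : E.IsNormalIn (Cfsg.groupFusionSystem (S : Subgroup G)) 2) (hiso : ∃ ι : T →* Matrix.ProjectiveSpecialLinearGroup (Fin n) F, E.IsRealizedBy ι ∧ ∃ T' : Sylow 2 (Matrix.ProjectiveSpecialLinearGroup (Fin n) F), (T' : Subgroup (Matrix.ProjectiveSpecialLinearGroup (Fin n) F)) = ι.range) (hC : ∀ Y : Subgroup G, Y ≤ Cfsg.FusionSystem.centralizerIn (S : Subgroup G) T → (∀ P : Subgroup G, E.Hom P ⊆ (Cfsg.groupFusionSystem (S : Subgroup G)).centralizerHom Y P) → Y = ⊥) : ∃ ι : ↥(S : Subgroup G) →* Matrix.ProjectiveSpecialLinearGroup (Fin n) F, (Cfsg.groupFusionSystem (S : Subgroup G)).IsRealizedBy ι ∧ ∃ T' : Sylow 2 (Matrix.ProjectiveSpecialLinearGroup (Fin n) F), (T'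 : Subgroup (Matrix.ProjectiveSpecialLinearGroup (Fin n) F)) = ι.range := by
  subst hFq
  obtain ⟨ι, hι, T', hT'⟩ := hiso
  obtain ⟨rfl, h⟩ := Lib.PSLF.reduce hG S E hE (Lib.PSLF.fus_rigid hE.1.2.2 ι hι (by
    rw [← hT']
    intro α ho hf
    rcases hn.eq_or_lt with rfl | hn
    · obtain ⟨k, hk⟩ := aut_two (h2 rfl) T' α
      exact orderOf_eq_one_iff.1 (Nat.eq_one_of_dvd_coprimes (Nat.Coprime.pow_right k ho.coprime_two_right) dvd_rfl
        (orderOf_dvd_of_pow_eq_one hk))
    · obtain ⟨P, Δ, H⟩ := Lib.PSLF.exists_model hn F hq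
      exact H.rigid hn T' α ho hf)) hC
  exact ⟨ι, Lib.Fusion.ext_hom h ▸ hι, T', hT'⟩

end Cfsg.Agent.S5174
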