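import Cfsg.Statements.S5192
import Cfsg.Agent.Lib.Fusion.Transfer

set_option autoImplicit false
open Cfsg

namespace Cfsg.Agent.S5192

open Cfsg.Lib.Fusion Cfsg.Lib.Transfer Subgroup
open Cfsg.FusionSystem hiding inv_mem
open scoped IsMulCommutative

/-- A Thompson-type transfer for saturated fusion systems. Let F be a saturated fusion system on a finite 2-group S, T a subgroup of S of index 2, and i an involution of S such that every fully normalized F-conjugate of i lies in S but outside T. Then i does not lie in the hyperfocal subgroup of F (the Sylow group of the 2-residual subsystem). -/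
theorem result {Ω : Type*} [Group Ω] [Finite Ω] {S : Subgroup Ω}
    (hS : IsPGroup 2 ↥S) (F : Cfsg.FusionSystem S) (hF : F.IsSaturated 2)
    (T : Subgroup Ω) (hTS : T ≤ S) (hT : T.relIndex S = 2)
    (i : Ω) (hi : i ∈ S) (hi2 : orderOf i = 2)
    (h : ∀ j : Ω, F.IsConjElt i j → F.IsFullyNormalized (Subgroup.zpowers j) → j ∉ T) :
    i ∉ F.hyperfocalSubgroup 2 := by
  intro hyp
  have hF' : Sat F 2 := ⟨hS, hF⟩
  obtain ⟨f, hf, hfn⟩ := hF'.exists_fn (zpowers_le.2 hi)
  have hin := le_normalizerIn (zpowers_le.2 hi) (mem_zpowers i)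
  rw [hf.homOn.im_zpowers hin] at hfn
  have hu : f i ∈ F.focalSubgroup := by
    simpa using mul_mem (hyp_le_focal F 2 hyp) (hf.mem_focal hin)
  have : (T.subgroupOf S).Normal := normal_of_index_eq_two hT
  have hc : Nat.card (S ⧸ T.subgroupOf S) = 2 := hT
  have : IsCyclic (S ⧸ T.subgroupOf S) := isCyclic_of_prime_card hc
  have hsq : ∀ a : S ⧸ T.subgroupOf S, a ^ 2 = 1 := fun a => hc ▸ pow_card_eq_one'
  obtain ⟨a, ha, ha'⟩ := (Nat.card_eq_two_iff' (1 : S ⧸ T.subgroupOf S)).1 hc
  have hle : zpowers (f i) ≤ centralizerIn S (zpowers (f i)) :=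
    le_inf hfn.1 (le_centralizer _)
  refine ha (hF'.eq_one_of_centralizer (QuotientGroup.mk' (T.subgroupOf S)) hsq
    (u := ⟨f i, hf.mem hin⟩) hu (Subtype.ext ?_) fun g y hg e => ha' _ fun h1 => ?_)
  · change f i ^ 2 = 1
    rw [← hf.homOn.map_pow hin, ← hi2, pow_orderOf_eq_one, hf.homOn.map_one]
  · have hgi := hle (mem_zpowers (f i))
    refine h y ?_ ?_ ((QuotientGroup.eq_one_iff y).1 h1)
    · rw [← e]
      exact ((hf.mono (le_normalizerIn (zpowers_le.2 hi))).comp (hg.mono hle) fun x hx =>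
        hf.homOn.im_zpowers hin ▸ mem_im_of_mem f hx).isConjElt (mem_zpowers i)
    · rw [← e, ← hg.homOn.im_zpowers hgi]
      refine hg.fullyNormalized_im hfn fun s hs => ⟨hs.1, mem_centralizer_of_conj_eq fun x hx => ?_⟩
      have h2 : Nat.card (zpowers (f i)) = 2 := by
        rw [← hf.homOn.im_zpowers hin, (hf.mono (zpowers_le.2 hin)).card_im, Nat.card_zpowers, hi2]
      obtain ⟨b, -, hb⟩ := (Nat.card_eq_two_iff' (1 : zpowers (f i))).1 h2
      by_cases hx1 : x = 1
      · simp [hx1]
      · exact congrArg Subtype.val ((hb ⟨_, conj_mem_of_mem_normalizer hs.2 hx⟩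
          (by simpa [Subtype.ext_iff] using hx1)).trans
          (hb ⟨x, hx⟩ (by simpa [Subtype.ext_iff] using hx1)).symm)

end Cfsg.Agent.S5192
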