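import Cfsg.Statements.S5207
import Cfsg.Agent.Lib.RV.L3
import Cfsg.Agent.Lib.RV.Tits
import Cfsg.Agent.Lib.RV.Th
import Cfsg.Agent.Lib.RV.Mon

set_option autoImplicit false
open Cfsg

namespace Cfsg.Agent.S5207

/-- Let p be an odd prime other than 7 and S a finite p-group that is extraspecial of order p³ and exponent p. Then every saturated fusion system over S is realizable: it is the fusion system of some finite group on a Sylow p-subgroup. -/
theorem result {Ω : Type*} [Group Ω] {S : Subgroup Ω} [Finite S] (p : ℕ) [Fact p.Prime] (hS : IsPGroup p S) (F : Cfsg.FusionSystem S) (hF : F.IsSaturated p) (hp : p ≠ 2) (hp7 : p ≠ 7) (hE : Cfsg.IsExtraspecial p ↥S) (hcard : Nat.card S = p ^ 3) (hexp : Monoid.exponent ↥S = p) : F.IsRealizable p := by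
  open Cfsg.Lib Cfsg.Lib.Fusion Cfsg.Lib.RV in
  obtain ⟨x, y, h⟩ : ∃ x y : S, x * y ≠ y * x := by
    by_contra! h
    have := hE.2
    rw [(Subgroup.eq_top_iff' _).2 fun x => Subgroup.mem_center_iff.2 fun y => h y x, Subgroup.card_top, hcard] at this
    exact (lt_self_pow₀ (Fact.out : p.Prime).one_lt (by decide)).ne' this
  have c := Subgroup.mem_center_iff.1 (hE.1.2.2.le (Subgroup.commutator_mem_commutator (Subgroup.mem_top x) (Subgroup.mem_top y)))
  have e : ∀ g : S, g ^ p = 1 := fun g => hexp ▸ Monoid.pow_exponent_eq_one g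
  obtain ⟨ι, -, -, i⟩ := He.exists_hom hp (e x) (e y) (e _) (by rw [commutatorElement_def]; group) (c x) (c y)
  have q := (MulEquiv.ofBijective ι ((He.injective_of hp (i ▸ mt commutatorElement_eq_one_iff_mul_comm.1 h)).bijective_of_nat_card_le
    (hcard.trans He.card'.symm).le)).symm
  obtain ⟨F', i⟩ := exists_iso F (homOn_fn q.toMonoidHom) (injOn_fn q.injective) (S' := ⊤)
    (by rw [im_fn, MonoidHom.range_eq_top.2 q.surjective])
  have h1 : Sat F' p := i.sat ⟨hS, hF⟩
  refine Rk2.realizable_of_iso i ?_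
  by_cases h2 : ∀ u v, Rad F' u → Rad F' v → wd u v = 0
  · exact realizable_of_one hp h1 h2
  suffices ∃ D : Dat p, D.Rz hp ∧ (dat hp h1).Is D from let ⟨_, a, b⟩ := this; a F' h1 b
  by_cases h3 : (dat hp h1).Three
  · rcases h3.prime hp with rfl | rfl | rfl | rfl
    · exact realizable_three hp h3
    · exact (three_five hp).imp fun D k => ⟨k.1, Dat.is_of_three (.inl rfl) h3 k.2⟩
    · exact absurd rfl hp7
    · exact (three_thirteen hp).imp fun D k => ⟨k.1, Dat.is_of_three (.inr rfl) h3 k.2⟩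
  · push Not at h2
    obtain ⟨u, v, a, b, c⟩ := h2
    obtain ⟨D, d1, d2⟩ := Dat.exists_ax (D := dat hp h1) a b c h3
    exact (realizable_ax hp d2).imp fun E k => ⟨k.1, d1.symm.trans k.2⟩

end Cfsg.Agent.S5207
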