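import Cfsg.Statements.S5242
import Cfsg.Agent.Lib.LK.Up

set_option autoImplicit false
open Cfsg

namespace Cfsg.Agent.S5242

/-- Let F be a saturated fusion system over a finite p-group S and A a subgroup of S central in F (every map of F extends to a map fixing A elementwise). Then, for every factor system E of F by A, F is exotic (saturated, but not the fusion system of a finite group on one of its Sylow p-subgroups) if and only if E is exotic. -/
theorem result {Ω : Type*} [Group Ω] {S : Subgroup Ω} [Finite S] (p : ℕ) [Fact p.Prime] (hS : IsPGroup p S) (F : Cfsg.FusionSystem S) (hF : F.IsSaturated p) (A : Subgroup Ω) (hA : F.IsCentral A) {Ω' : Type*} [Group Ω'] {S' : Subgroup Ω'} [Finite S'] (θ : ↥S →* Ω') (E : Cfsg.FusionSystem S') (hE : F.IsFactorSystem A θ E) : F.IsExotic p ↔ E.IsExotic p := by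
  have h1 : Cfsg.Lib.Fusion.Sat F p := ⟨hS, hF⟩
  have h2 : Cfsg.Lib.Fusion.Sat E p :=
    (Cfsg.Lib.Fusion.isFactorSystem_iff.1 hE).sat (Cfsg.Lib.LK.stronglyClosed_of_central hA) h1
  exact ⟨fun h => ⟨h2.sat, fun r => h.2 (Cfsg.Lib.LK.real_up h1 hA θ hE r)⟩,
    fun h => ⟨hF, fun r => h.2 (Cfsg.Lib.LK.real_down hA θ hE r)⟩⟩

end Cfsg.Agent.S5242
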