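import Cfsg.Statements.S5260
import Cfsg.Agent.Lib.Sp4F.Fin

set_option autoImplicit false
open Cfsg

namespace Cfsg.Agent.S5260

/-- Let p be a prime, K a finite field of characteristic p, and S a finite p-group isomorphic to a Sylow p-subgroup of the symplectic group Sp₄(K). Then every exotic fusion system F over S (saturated but not the fusion system of a finite group on a Sylow p-subgroup) has no nontrivial normal subgroup: O_p(F) = 1. -/
theorem result {Ω : Type*} [Group Ω] {S : Subgroup Ω} [Finite S] (p : ℕ) [Fact p.Prime] (hS : IsPGroup p S) (F : Cfsg.FusionSystem S) (hF : F.IsSaturated p) {K : Type*} [Field K] [Fintype K] [CharP K p] (T : Sylow p ↥(Matrix.symplecticGroup (Fin 2) K)) (e : ↥S ≃* ↥(T : Subgroup ↥(Matrix.symplecticGroup (Fin 2) K))) (hex : F.IsExotic p) : F.core = ⊥ := by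
  open Cfsg.Lib Cfsg.Lib.Fusion Cfsg.Lib.Sp4F in
  by_contra hN
  obtain ⟨q⟩ := U.nonempty_equiv T
  let f := (e.trans q).toMonoidHom
  obtain ⟨F', i⟩ := exists_iso F (homOn_fn f) (injOn_fn (e.trans q).injective) (S' := ⊤)
    (by rw [im_fn, MonoidHom.range_eq_top.2 (e.trans q).surjective])
  have h1 : Sat F' p := i.sat ⟨hS, hF⟩
  have h2 : F'.core ≠ ⊥ := by rwa [← i.im_core, Ne, i.im_eq_bot_iff (core_le F)]
  refine hex.2 (Rk2.realizable_of_iso i ?_)
  by_cases h : p = 2
  · subst h
    exact realizable_two h1 h2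
  · exact Rk2.realizable_of_constrained h1.pg (constrained_odd (fun h3 => h
      ((Nat.prime_dvd_prime_iff_eq Fact.out Nat.prime_two).1
        ((CharP.cast_eq_zero_iff K p 2).1 h3))) h1 h2)

end Cfsg.Agent.S5260
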