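import Cfsg.Statements.S5296
import Cfsg.Agent.Lib.Fusion.Small

set_option autoImplicit false
universe u
open Cfsg

namespace Cfsg.Agent.S5296

open Cfsg.Lib.Fusion Cfsg.Lib.PGroup

/-- Small-exponent abelian subgroups of the hyperfocal subgroup control fusion. Let E and F be saturated fusion systems over the same finite p-group S with E contained in F. Suppose that E and F have the same maps between A and B for all subgroups A, B of the hyperfocal subgroup of F that are elementary abelian when p is odd, respectively abelian of exponent dividing 4 when p = 2. Then E = F. -/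
theorem result {Ω : Type u} [Group Ω] {S : Subgroup Ω} [Finite S] (p : ℕ) [Fact p.Prime] (hS : IsPGroup p S)
    (E F : Cfsg.FusionSystem S) (hE : E.IsSaturated p) (hF : F.IsSaturated p) (hEF : E.IsSubsystemOf F)
    (hodd : p ≠ 2 → ∀ A B : Subgroup Ω, A ≤ (F.hyperfocalSubgroup p) → B ≤ (F.hyperfocalSubgroup p) →
      Cfsg.IsElementaryAbelian p A → Cfsg.IsElementaryAbelian p B → E.homSet A B = F.homSet A B)
    (htwo : p = 2 → ∀ A B : Subgroup Ω, A ≤ (F.hyperfocalSubgroup p) → B ≤ (F.hyperfocalSubgroup p) →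
      IsMulCommutative ↥A → IsMulCommutative ↥B → (∀ a ∈ A, a ^ 4 = 1) → (∀ b ∈ B, b ^ 4 = 1) → E.homSet A B = F.homSet A B) :
    ∀ P : Subgroup Ω, E.Hom P = F.Hom P := by
  have hF' : Sat F p := ⟨hS, hF⟩
  refine fun P => (hEF P).antisymm (hF'.sub_of_small_abelian ⟨hS, hE⟩ hEF
    (fun A hA h1 h2 f hf => ?_) P)
  have h3 : im f A ≤ F.hyperfocalSubgroup p := im_le_iff.2 fun x hx =>
    hf.mem_of_stronglyClosed hF'.stronglyClosed_hyp hx (hA hx)
  have h4 : IsMulCommutative (im f A) := hf.homOn.range_toHom ▸ inferInstance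
  have h5 : ∀ y ∈ im f A, SmallElt p y := fun y hy => by
    obtain ⟨x, hx, rfl⟩ := hf.mem_im.1 hy
    exact hf.homOn.smallElt hx (h2 x hx)
  have h6 : E.homSet A (im f A) = F.homSet A (im f A) := by
    by_cases hp : p = 2
    · have h7 : ∀ x : Ω, SmallElt p x → x ^ 4 = 1 := fun x hx =>
        hx.elim (fun e => by rw [show 4 = p * 2 by omega, pow_mul, e, one_pow]) fun e => e.2
      exact htwo hp A _ hA h3 h1 h4 (fun x hx => h7 x (h2 x hx)) fun x hx => h7 x (h5 x hx)
    · exact hodd hp A _ hA h3 ⟨h1, fun x hx => (h2 x hx).resolve_right fun e => hp e.1⟩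
        ⟨h4, fun x hx => (h5 x hx).resolve_right fun e => hp e.1⟩
  exact ⟨_, (h6.ge ⟨hf.toHom_mem, fun x => mem_im_of_mem f x.2⟩).1, fun _ => rfl⟩

end Cfsg.Agent.S5296
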