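import Cfsg.Statements.S5308
import Cfsg.Agent.Lib.Fusion.Comp
-- import your own Cfsg.Agent.* helpers here

set_option autoImplicit false
open Cfsg

namespace Cfsg.Agent.S5308

/-- A saturated fusion system F over a finite p-group S has a generalized Fitting subsystem — a central product of the inner fusion system of O_p(F) (the largest subgroup of S normal in F) with a layer of F — and every generalized Fitting subsystem of F is a normal subsystem of F. -/
theorem result {Ω : Type*} [Group Ω] {S : Subgroup Ω} [Finite S] (p : ℕ) [Fact p.Prime] (hS : IsPGroup p S) (F : Cfsg.FusionSystem S) (hF : F.IsSaturated p) :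
    (∃ (U : Subgroup Ω) (D : Cfsg.FusionSystem U), D.IsGeneralizedFittingOf F p) ∧
      ∀ (U : Subgroup Ω) (D : Cfsg.FusionSystem U), D.IsGeneralizedFittingOf F p → D.IsNormalIn F p := by
  open Subgroup Cfsg.Lib.Transfer Cfsg.Lib.Fusion in
  open Cfsg.FusionSystem hiding inv_mem in
  · refine ⟨?_, fun U D hD => ?_⟩
    · obtain ⟨T, E, h⟩ := Sat.exists_lay ⟨hS, hF⟩
      obtain ⟨D, hD⟩ := h.exists_cPr (normal_core F) rfl
      exact ⟨_, D, (isGeneralizedFittingOf_iff hS).2 ⟨T, E, h, hD⟩⟩
    · obtain ⟨T, E, h, hD⟩ := (isGeneralizedFittingOf_iff hS).1 hD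
      exact (h.nrm_cPr (normal_core F) hD).isNormalIn

end Cfsg.Agent.S5308
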