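import Cfsg.Statements.S5309
import Cfsg.Agent.Lib.Fusion.CPre
-- import your own Cfsg.Agent.* helpers here

set_option autoImplicit false
open Cfsg

namespace Cfsg.Agent.S5309

/-- Self-centralizing property of the generalized Fitting subsystem. Let F be a saturated fusion system over a finite p-group S and D a generalized Fitting subsystem of F, over U. Then the centre of D is the largest subgroup Y of C_S(U) centralized by D in F, in the sense that every map of D extends to a map of F fixing Y elementwise: the centre of D is such a subgroup, and every such Y lies in the centre of D. -/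
theorem result {Ω : Type*} [Group Ω] {S : Subgroup Ω} [Finite S] (p : ℕ) [Fact p.Prime] (hS : IsPGroup p S) (F : Cfsg.FusionSystem S) (hF : F.IsSaturated p)
    {U : Subgroup Ω} (D : Cfsg.FusionSystem U) (hD : D.IsGeneralizedFittingOf F p) :
    (D.center ≤ Cfsg.FusionSystem.centralizerIn S U ∧ ∀ P : Subgroup Ω, D.Hom P ⊆ F.centralizerHom D.center P) ∧
      ∀ Y : Subgroup Ω, Y ≤ Cfsg.FusionSystem.centralizerIn S U →
        (∀ P : Subgroup Ω, D.Hom P ⊆ F.centralizerHom Y P) → Y ≤ D.center := by
  open Subgroup Cfsg.Lib.Transfer Cfsg.Lib.Fusion in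
  open Cfsg.FusionSystem hiding inv_mem in
  · obtain ⟨T, E, h1, h2⟩ := (isGeneralizedFittingOf_iff hS).1 hD
    have h := h1.nrm_cPr (normal_core F) h2
    have := finite_of_le h.le
    have k := cen_of_central (central_center D) h.sub
    refine ⟨⟨k.le, (cen_iff_hom k.le).2 k⟩, fun Y hY H => ?_⟩
    have k' := (cen_iff_hom hY).1 H
    exact le_center (k'.central h.satE ((k'.le_cS h).trans ((h.cS_le_core
      (fun U C hC => subsystem_trans (h1.comps U C hC) h2.sub₂) h2.le₁).trans h2.le₁)))

end Cfsg.Agent.S5309
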