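import Cfsg.Statements.S5313
import Cfsg.Agent.S5174
import Cfsg.Agent.S5308
import Cfsg.Agent.S5309
import Cfsg.Agent.S0215

set_option autoImplicit false
open Cfsg

namespace Cfsg.Agent.S5313

open Cfsg.Lib Cfsg.Lib.Fusion Subgroup

/-- Let q be odd, n ≥ 2, with q ≡ 1 or 7 (mod 8) if n = 2, and F a field with q elements. Let G be a finite nonabelian simple group with Sylow 2-subgroup S. If some generalized Fitting subsystem of the 2-fusion system of G on S, over U, is isomorphic to the 2-fusion system of PSL_n(q) (realized by an injective homomorphism of U onto a Sylow 2-subgroup of PSL_n(F)), then the 2-fusion system of G itself is isomorphic to that of PSL_n(q). -/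
theorem result {G : Type*} [Group G] [Finite G]
    [IsSimpleGroup G] (hG : ¬ IsMulCommutative G) (S : Sylow 2 G) (n : ℕ) (hn : 2 ≤ n) {F : Type*} [Field F] [Fintype F]
    (q : ℕ) (hFq : Fintype.card F = q) (hq : Odd q) (h2 : n = 2 → q % 8 = 1 ∨ q % 8 = 7)
    {U : Subgroup G} (D : Cfsg.FusionSystem U) (hD : D.IsGeneralizedFittingOf (Cfsg.groupFusionSystem (S : Subgroup G)) 2)
    (hiso : ∃ ι : ↥U →* Matrix.ProjectiveSpecialLinearGroup (Fin n) F, D.IsRealizedBy ι ∧
      ∃ T' : Sylow 2 (Matrix.ProjectiveSpecialLinearGroup (Fin n) F), (T' : Subgroup (Matrix.ProjectiveSpecialLinearGroup (Fin n) F)) = ι.range) :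
    ∃ ι : ↥(S : Subgroup G) →* Matrix.ProjectiveSpecialLinearGroup (Fin n) F,
      (Cfsg.groupFusionSystem (S : Subgroup G)).IsRealizedBy ι ∧
        ∃ T' : Sylow 2 (Matrix.ProjectiveSpecialLinearGroup (Fin n) F), (T' : Subgroup (Matrix.ProjectiveSpecialLinearGroup (Fin n) F)) = ι.range := by
  have hF := sat_group S
  have hN := (S5308.result 2 hF.pg _ hF.sat).2 U D hD
  refine S5174.result hG S n hn q hFq hq h2 D hN hiso fun Y h1 h3 =>
    le_bot_iff.1 (((S5309.result 2 hF.pg _ hF.sat D hD).2 Y h1 h3).trans (le_of_eq (by_contra fun hZ => ?_)))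
  obtain ⟨ι, hι, T, hT⟩ := hiso
  have hp : IsPGroup 2 D.center := hF.pg.to_le ((center_le D).trans hN.1.2.2.2.1.1)
  obtain ⟨k, hk, e⟩ := hp.nontrivial_iff_card.1 ((nontrivial_iff_ne_bot _).2 hZ)
  obtain ⟨z, hz⟩ := exists_prime_orderOf_dvd_card' 2 (e ▸ dvd_pow_self 2 hk.ne' : 2 ∣ Nat.card D.center)
  have hzU := center_le D z.2
  have hu : orderOf (ι ⟨z, hzU⟩) = 2 := by rw [orderOf_injective ι hι.1, ← hz, ← orderOf_coe, ← orderOf_coe z]
  have hq4 : n = 2 → 4 ≤ Fintype.card F := fun h => by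
    have := Fintype.one_lt_card (α := F)
    have := h2 h
    omega
  have := Linear.isSimpleGroup_PSL_fin hn hq4
  obtain ⟨N, hN', ho, hc⟩ := S0215.result T _ hu (hT.ge ⟨_, rfl⟩) fun g hg => by
    let e : U ≃* ι.range := MonoidHom.ofInjective hι.1
    have hP : zpowers z.1 ≤ U := zpowers_le.2 hzU
    have h1 : ∀ x : zpowers z.1, g * ι ⟨x, hP x.2⟩ * g⁻¹ ∈ ι.range := by
      rintro ⟨_, i, rfl⟩
      have := zpow_mem (hT.le hg) i
      rwa [conj_zpow, ← map_zpow] at this
    let φ : zpowers z.1 →* G := U.subtype.comp (e.symm.toMonoidHom.comp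
      (((MulAut.conj g).toMonoidHom.comp (ι.comp (inclusion hP))).codRestrict _ h1))
    have hφ : ∀ x, φ x ∈ U := fun x => (e.symm _).2
    have h4 : ∀ x, ι ⟨φ x, hφ x⟩ = g * ι ⟨x, hP x.2⟩ * g⁻¹ := fun x =>
      congrArg Subtype.val (e.apply_symm_apply ⟨_, h1 x⟩)
    have h5 := (mor_fn ((hι.2 _ hP φ hφ).2 ⟨g, h4⟩)).eq_of_central (central_center D) (mem_zpowers _) z.2
    rw [fn_apply _ (mem_zpowers _)] at h5
    exact (h4 ⟨_, mem_zpowers _⟩).symm.trans (congrArg ι (Subtype.ext h5))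
  rcases hN'.eq_bot_or_eq_top with rfl | rfl
  · have hz : ι ⟨z, hzU⟩ ∈ center _ := mem_center_iff.2 fun g =>
      (mul_inv_eq_iff_eq_mul.1 (mul_inv_eq_one.1 (hc g))).symm
    rcases (inferInstance : (center (Matrix.ProjectiveSpecialLinearGroup (Fin n) F)).Normal).eq_bot_or_eq_top with h | h
    · rw [h, mem_bot] at hz
      simp [hz] at hu
    · have h6 := congrArg (Subgroup.map (QuotientGroup.mk' (center (Matrix.SpecialLinearGroup (Fin n) F))))
        (Linear.commutator_SL_eq_top (ι := Fin n) (F := F) (hn.eq_or_lt.symm.imp (by simp; omega) fun h =>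
          Linear.exists_ne_zero_sq_ne_one (by rw [Nat.card_eq_fintype_card]; exact hq4 h.symm)))
      rw [_root_.commutator_def, Subgroup.map_commutator, map_top_of_surjective _ (QuotientGroup.mk'_surjective _)] at h6
      exact bot_ne_top (((commutator_eq_bot_iff_center_eq_top _).2 h).symm.trans h6)
  · rw [card_top] at ho
    exact ho.not_two_dvd_nat (hu ▸ orderOf_dvd_natCard _)

end Cfsg.Agent.S5313
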