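import Cfsg.Statements.S5324
import Cfsg.Agent.Lib.Fusion.DblAlt
import Cfsg.Agent.Lib.Ly.Main
-- import your own Cfsg.Agent.* helpers here

set_option autoImplicit false
open Cfsg

namespace Cfsg.Agent.S5324

/-- For a finite group G isomorphic to the Lyons group, the 2-fusion system of G on a Sylow 2-subgroup is simple: saturated, over a nontrivial 2-group, with no normal subsystem other than the trivial one and itself. -/
theorem result {G : Type*} [Group G] [Finite G] (hG : Cfsg.Spor.IsoLy G) (S : Sylow 2 G) : (Cfsg.groupFusionSystem (S : Subgroup G)).IsSimple 2 := by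
  open Subgroup Cfsg.Lib.Transfer Cfsg.Lib.Fusion in
  open Cfsg.FusionSystem hiding inv_mem in
  obtain ⟨e⟩ := hG
  obtain ⟨ρ, h⟩ := Lib.Ly.exists_lift Lib.Ly.relsM
  obtain ⟨⟨ι, h1⟩, hd⟩ := Lib.Ly.solΓ
  have := Lib.Ly.isLy_GM.1
  have : Finite Spor.Ly := .of_equiv _ e.toEquiv
  have hb : Function.Bijective ρ := (Nat.bijective_iff_surjective_and_card ρ).2
    ⟨MonoidHom.range_eq_top.1 (Lib.Ly.topM _ fun c hc => ⟨_, h c hc⟩),
      (h1.card hd).trans Lib.Ly.isLy_GM.2.symm⟩
  exact Lib.Fusion.simple_of_double_alt11 Lib.Ly.doubleT.1 Lib.Ly.doubleT.2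
    ((MulEquiv.ofBijective ρ hb).symm.trans e.symm) S

end Cfsg.Agent.S5324
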