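import Cfsg.Statements.S5343
import Cfsg.Agent.Lib.Fusion.PPrime
-- import your own Cfsg.Agent.* helpers here

set_option autoImplicit false
universe u
open Cfsg

namespace Cfsg.Agent.S5343

section
open Subgroup Cfsg.Lib.Transfer Cfsg.Lib.Fusion
open Cfsg.FusionSystem hiding inv_mem
open scoped commutatorElement

theorem aux {p : ℕ} [Fact p.Prime] (n : ℕ) : ∀ (G : Type u) [Group G] [Finite G] (V : Subgroup G)
    (A : FusionSystem V), Nat.card G = n → SylGrp A ⊤ p → A.IsSimple p →
    ∃ (G' : Type u) (_ : Group G') (_ : Finite G') (_ : IsSimpleGroup G') (V' : Subgroup G')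
      (A' : FusionSystem V') (t : G → G'), SylGrp A' ⊤ p ∧ Iso A A' t := by
  induction n using Nat.strong_induction_on with
  | _ n ih =>
  intro G _ _ V A hn hA hs
  by_cases hG : IsSimpleGroup G
  · exact ⟨G, _, inferInstance, hG, V, A, _, hA, iso_refl A⟩
  obtain ⟨h0, h1⟩ := hA.sat.simple_iff.1 hs
  have : Nontrivial G := by
    by_contra h
    rw [not_nontrivial_iff_subsingleton] at h
    exact h0 (Subsingleton.elim _ _)
  obtain ⟨N, hN, hb, ht⟩ : ∃ N : Subgroup G, N.Normal ∧ N ≠ ⊥ ∧ N ≠ ⊤ := by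
    by_contra h
    push Not at h
    exact hG ⟨fun N hN => or_iff_not_imp_left.2 (h N hN)⟩
  obtain ⟨B, hB⟩ := exists_grp (inf_le_right : V ⊓ N ≤ N)
  have key : ∀ (G' : Type u) [Group G'] [Finite G'] (V' : Subgroup G') (A' : FusionSystem V')
      (t : G → G'), Nat.card G' < n → SylGrp A' ⊤ p → Iso A A' t →
      ∃ (G' : Type u) (_ : Group G') (_ : Finite G') (_ : IsSimpleGroup G') (V' : Subgroup G')
      (A' : FusionSystem V') (t : G → G'), SylGrp A' ⊤ p ∧ Iso A A' t :=
    fun G' _ _ V' A' t h2 h3 h4 => by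
      obtain ⟨G'', _, _, _, V'', A'', u, h5, h6⟩ := ih _ h2 G' V' A' rfl h3 (h4.simple hA.pg hs)
      exact ⟨G'', _, inferInstance, inferInstance, V'', A'', _, h5, h4.trans h6⟩
  rcases h1 _ B (hA.nrm_of_normal le_top le_normalizer_of_normal rfl hB) with h | ⟨h, h'⟩
  · have hπ := homOn_hom ⊤ (QuotientGroup.mk' N)
    have e : im (QuotientGroup.mk' N) ⊤ = ⊤ := by
      rw [im_hom, map_top_of_surjective _ (QuotientGroup.mk'_surjective N)]
    have h2 := hA.fac hπ (grp_group (im (QuotientGroup.mk' N) V)) e rfl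
    have e' : V ⊓ hπ.pre ⊥ = ⊥ := eq_bot_iff.2 fun x hx =>
      h.le ⟨hx.1, (QuotientGroup.eq_one_iff x).1 (mem_bot.1 hx.2.2)⟩
    rw [e'] at h2
    refine key _ _ _ _ ?_ ⟨grp_group _, h2.isPGroup hA.pg, fun h3 => hA.syl (h3.trans ?_)⟩ h2
    · rw [← hn, card_eq_card_quotient_mul_card_subgroup N]
      exact lt_mul_of_one_lt_right Nat.card_pos (one_lt_card_iff_ne_bot N |>.2 hb)
    · exact e ▸ hπ.relIndex_im_dvd le_top
  · have hV : V ≤ N := inf_eq_left.1 h
    have hA' : Grp A N := ⟨hV, fun P f => by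
      rw [← (grp_ofSubgroup hV).mor P f, ← hB.mor_iff (grp_ofSubgroup hV) h]
      exact ⟨h' P f, fun hf => hf.of_sub (hA.toGrp.sub hB inf_le_left le_top)⟩⟩
    have e : im N.subtype ⊤ = N := by rw [im_hom, ← MonoidHom.range_eq_map, range_subtype]
    have e' : im N.subtype (V.subgroupOf N) = V := by rw [im_hom, map_subgroupOf_eq_of_le hV]
    have h2 := (grp_group (V.subgroupOf N)).iso (homOn_hom ⊤ N.subtype)
      N.subtype_injective.injOn hA' e e'
    obtain ⟨j, hj, -⟩ := h2.symm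
    refine key _ _ _ j ?_ ⟨grp_group _, hj.isPGroup hA.pg, ?_⟩ hj
    · rw [← hn, ← card_top (G := G)]
      exact card_lt_of_lt (lt_top_iff_ne_top.2 ht)
    · rw [relIndex_top_right]
      exact not_dvd_relIndex_of_le_normalizer hA.syl le_top le_normalizer_of_normal

end

/-- Let F be a simple saturated fusion system over a finite p-group S that is realized by some finite group on a Sylow p-subgroup. Then F is realized by a finite simple group on a Sylow p-subgroup. -/
theorem result {Ω : Type u} [Group Ω] {S : Subgroup Ω} [Finite S] (p : ℕ) [Fact p.Prime] (hS : IsPGroup p S) (F : Cfsg.FusionSystem S) (hsimple : F.IsSimple p) (hreal : F.IsRealizable p) : ∃ (G : Type u) (_ : Group G) (_ : Finite G) (_ : IsSimpleGroup G) (ι : ↥S →* G), F.IsRealizedBy ι ∧ ∃ T : Sylow p G, (T : Subgroup G) = ι.range := by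
  open Subgroup Cfsg.Lib.Transfer Cfsg.Lib.Fusion in
  open Cfsg.FusionSystem hiding inv_mem in
  obtain ⟨G, _, _, ι, h1, T, hT⟩ := hreal
  have h2 := isRealizedBy_iff.1 h1
  obtain ⟨G', _, _, _, V, A, t, h3, h4⟩ := aux _ G _ _ rfl
    (sylGrp_of_sylow (grp_group ι.range) T hT) (h2.simple hS hsimple)
  have h5 := h2.trans h4
  refine ⟨G', _, inferInstance, inferInstance, _, h5.isRealizedBy h3.toGrp, ?_⟩
  rw [HomOn.range_toHom, h5.im_eq]
  exact h3.exists_sylow

end Cfsg.Agent.S5343
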