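import Cfsg.Statements.S5443
import Cfsg.Agent.Lib.Fi.M24X

set_option autoImplicit false
open Cfsg

namespace Cfsg.Agent.S5443

open Cfsg.Lib Cfsg.Lib.Fi

open Subgroup Calc M24

theorem e6_img {G : Type*} [Group G] [Finite G] {S Q : Subgroup G} [Q.Normal] (hQ : Q ≤ S) (hp : IsPGroup 2 Q)
    {x : Fin 6 → G} (h1 : ∀ i, x i ∈ S) (h2 : ∀ i j, (x i * x j) ^ CoxeterMatrix.E₆ i j ∈ Q)
    (h3 : ∀ j, (x 0 * x 2) ^ 2 ^ j ≠ 1) (hc : Nat.card S ≤ 51840 * Nat.card Q) :
    Nonempty (S.map (QuotientGroup.mk' Q) ≃* isometryGroup (ZMod 2) (quadFormMinus 2 (ZMod 2) 1 1)) := by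
  obtain ⟨e⟩ := e6_iso
  have l : CoxeterMatrix.E₆.IsLiftable fun i => (⟨x i, mem_map_of_mem _ (h1 i)⟩ : S.map (QuotientGroup.mk' Q)) :=
    fun i j => Subtype.ext ((QuotientGroup.eq_one_iff _).2 (h2 i j))
  let cs := CoxeterMatrix.E₆.toCoxeterSystem
  have g1 : cs.simple 0 * cs.simple 2 ∉ (cs.lift ⟨_, l⟩).ker := fun a => by
    rw [MonoidHom.mem_ker, map_mul, cs.lift_apply_simple, cs.lift_apply_simple] at a
    obtain ⟨j, hj⟩ := hp ⟨x 0 * x 2, (QuotientGroup.eq_one_iff _).1 (congrArg Subtype.val a)⟩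
    exact h3 j (congrArg Subtype.val hj)
  refine ⟨(MulEquiv.ofBijective _ (((MonoidHom.ker_eq_bot_iff _).1
    (E6_normal (cs.simple_mul_simple_pow 0 2) g1)).bijective_of_nat_card_le ?_)).symm.trans e⟩
  rw [← Core.card_map_mk'_mul Q S, inf_eq_right.2 hQ] at hc
  exact (Nat.le_of_mul_le_mul_right hc Nat.card_pos).trans card_E6.ge

theorem two_le {G : Type*} [Group G] [Finite G] {K : Subgroup G} {y a b : G} (h : ∀ g ∈ K, g * y * g⁻¹ = a ∨ g * y * g⁻¹ = b) :
    Nat.card K ≤ 2 * Nat.card ↥(K ⊓ centralizer {y}) :=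
  (card_le_of_conj_mem (S := {a, b}) h).trans
    (Nat.mul_le_mul_right _ ((Set.ncard_insert_le ..).trans_eq (by rw [Set.ncard_singleton])))

theorem pair_le {G : Type*} [Group G] {D : Set G} {τ : ℕ → G} (h : H24 D τ) {a b : ℕ} (e : F.cliqueOK [a, b] = true)
    {K : Subgroup G} (hK : K ≤ centralizer {τ a * τ b}) :
    Nat.card K ≤ 2 * Nat.card ↥(K ⊓ centralizer {τ a, τ b}) := by
  have := h.fin
  refine (two_le (y := τ a) (a := τ a) (b := τ b) fun g hg => ?_).trans (Nat.mul_le_mul_left _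
    (card_le_of_le fun g hg => ⟨hg.1, ?_⟩))
  · simpa using h.conj_mem_fp (uniq2 h) (h.fp e) (by simpa using hK hg) (.head _)
  · have u : Commute g (τ a) := mem_centralizer_singleton_iff.1 hg.2
    have v := u.inv_right.mul_right (mem_centralizer_singleton_iff.1 (hK hg.1))
    rw [inv_mul_cancel_left] at v
    rintro _ (rfl | rfl)
    exacts [u.symm, v.symm]

/-- Let G be a finite group of large Fischer type at the involution z: the generalized Fitting subgroup Q of H = C_G(z) is extraspecial of order 2^13, H has normal subgroups Q ≤ H₁ ≤ H₂ with H₁/Q of order 3, H₂/H₁ the projective special unitary group of dimension 4 over the field with nine elements and H₂ of index 2 in H, and some conjugate of z other than z lies in Q. Let t be an involution of Q not conjugate to z in G, and S the set of elements of H conjugating t to t or to t z (the stabilizer of the image of t in Q modulo its centre). Then the image of S in H/Q is isomorphic to the full isometry group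 of the elliptic quadratic form in dimension 6 over the field with two elements. -/
theorem result {G : Type*} [Group G] [Finite G] (z : G) (Q : Subgroup (Subgroup.centralizer ({z} : Set G))) [Q.Normal] (hF : Cfsg.IsOfLargeFischerTypeAt z Q) (t : Subgroup.centralizer ({z} : Set G)) (htQ : t ∈ Q) (ht2 : orderOf t = 2) (ht : ¬ IsConj z (t : G)) (S : Subgroup (Subgroup.centralizer ({z} : Set G))) (hS : ∀ h : Subgroup.centralizer ({z} : Set G), h ∈ S ↔ (h * t * h⁻¹ = t ∨ ((h * t * h⁻¹ : Subgroup.centralizer ({z} : Set G)) : G) = t * z)) : Nonempty (↥(S.map (QuotientGroup.mk' Q)) ≃* Cfsg.isometryGroup (ZMod 2) (Cfsg.quadFormMinus 2 (ZMod 2) 1 1)) := by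
  have := Calc.Fi24.finite
  obtain ⟨D, k⟩ := F24.exists_lf hF
  have tQ := mem_map_of_mem (Subgroup.subtype _) htQ
  obtain ⟨ι, τ, h, e⟩ := ls_of k tQ (k.P_of_not tQ ((orderOf_injective _ (subtype_injective _) t).trans ht2) ht)
  have i := h.inj'
  have q := h.eQ hF
  have r := h.rng'
  have ez := h.ez
  change (ι.comp (Subgroup.subtype _)) t = _ at e
  have hS' : ∀ g, g ∈ S ↔ (ι g * (τ 0 * τ 8) = τ 0 * τ 8 * ι g ∨ ι g * (τ 0 * τ 8) = τ 0 * τ 8 * z4.ev τ * ι g) := fun g => by
    rw [hS, ← e, ← ez, ← i.eq_iff, ← h.inj.eq_iff]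
    simp [mul_inv_eq_iff_eq_mul]
  have m : ∀ x ∈ x43 ++ YQ4, x.ev τ ∈ S.map (ι.comp (Subgroup.subtype _)) := fun x hx => by
    obtain ⟨g, hg⟩ := r.ge ((List.mem_append.1 hx).elim (mem_zc h.has sg24 x43_ev x43_gen x)
      fun u => Q_le h.has sg24 ((lev_env τ YQ4 13).ge (mem_genW _ u)))
    refine ⟨g, (hS' g).2 ?_, hg⟩
    rw [show ι g = _ from hg]
    exact (Bool.or_eq_true_iff.1 (allA_iff.1 x43_t x hx)).imp (fun u => by simpa [ev_tw, W.ev] using h.has.eq u)
      fun u => by simpa [ev_tw, W.ev] using h.has.eq u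
  choose x hx ex using fun c : Fin 6 => env_mem_of (fun t ht => m t (List.mem_append_left _ ht)) c
  have cq : Nat.card Q = 2 ^ 13 := hF.1.2.2.2.1
  refine e6_img (x := x) ((map_le_map_iff_of_injective i).1 (q.trans_le ((lev_env τ YQ4 13).trans_le
    (genW_le.2 fun t ht => m t (List.mem_append_right _ ht))))) (.of_card cq) hx (fun a b => ?_) (fun j u => ?_) ?_
  · rw [← mem_map_iff_mem i, q, map_pow, map_mul, ex, ex]
    exact cox_of h.has.snd x43_ok a b
  · refine h.has.notP (by decide : Nat.Coprime 3 2) _ _ x43_np j ?_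
    have := congrArg (ι.comp (Subgroup.subtype _)) u
    rwa [map_pow, map_mul, ex, ex, map_one] at this
  · obtain ⟨-, -, c⟩ := h.has.clique cl4
    have c1 : τ 0 * τ 8 * z4.ev τ = τ 167 * τ 34 := by
      simpa [ev_tw, W.ev] using h.has.eq (s := .mul (tw [0, 8]) z4) (t := tw [167, 34]) (by decide +kernel)
    have n : S.map (ι.comp (Subgroup.subtype _)) ≤ commutator _ ⊓ centralizer {z4.ev τ} := r ▸ map_le_range _ _
    have a1 := two_le (K := S.map (ι.comp (Subgroup.subtype _))) (y := τ 0 * τ 8) (a := τ 0 * τ 8)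
      (b := τ 0 * τ 8 * z4.ev τ) (by rintro _ ⟨g, hg, rfl⟩; simpa [mul_inv_eq_iff_eq_mul] using (hS' g).1 hg)
    have a2 := pair_le h.has (a := 0) (b := 8) (by decide +kernel) (K := _ ⊓ _) (inf_le_right (a := S.map (ι.comp (Subgroup.subtype _))))
    have a3 := pair_le h.has (a := 167) (b := 34) (by decide +kernel)
      (K := S.map (ι.comp (Subgroup.subtype _)) ⊓ centralizer {τ 0 * τ 8} ⊓ centralizer {τ 0, τ 8}) fun g hg =>
        c1 ▸ mem_centralizer_singleton_iff.2 (Commute.mul_right (mem_centralizer_singleton_iff.1 hg.1.2)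
          (mem_centralizer_singleton_iff.1 (n hg.1.1).2))
    have a4 := card_half h.has sg24 (m := 53084160) (a := 0) (h.has.cert k_t3_ok).card (by decide)
      (h.has.mem_CZ (ks := [.l 0]) (by decide +kernel) _ (List.mem_singleton_self _))
    have a5 := a3.trans (Nat.mul_le_mul_left 2 (a4.le.trans' (card_le_of_le fun g hg => mem_inf.2 ⟨(n hg.1.1.1).1,
      Fi.mem_CZ.2 (List.forall_mem_cons.2 ⟨hg.2 _ (.inl rfl), List.forall_mem_cons.2 ⟨hg.2 _ (.inr rfl),
        List.forall_mem_cons.2 ⟨hg.1.2 _ (.inr rfl), List.forall_mem_singleton.2 (hg.1.2 _ (.inl rfl))⟩⟩⟩)⟩)))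
    rw [← card_map_of_injective i, cq]
    omega

end Cfsg.Agent.S5443
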