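import Cfsg.Statements.S5444
import Cfsg.Agent.Lib.Fi.LfS

set_option autoImplicit false
open Cfsg

namespace Cfsg.Agent.S5444

open Cfsg.Lib Cfsg.Lib.Fi

open Subgroup Calc M24

/-- Let G be a finite group of large Fischer type at the involution z: the generalized Fitting subgroup Q of H = C_G(z) is extraspecial of order 2^13, H has normal subgroups Q ≤ H₁ ≤ H₂ with H₁/Q of order 3, H₂/H₁ the projective special unitary group of dimension 4 over the field with nine elements and H₂ of index 2 in H, and some conjugate of z other than z lies in Q. Let T be a Sylow 2-subgroup of H. Then T has exactly one elementary abelian subgroup A of largest order; A has order 2^11, it meets Q in a subgroup of order 2^7, and its image in H/Q has order 16. -/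
theorem result {G : Type*} [Group G] [Finite G] (z : G) (Q : Subgroup (Subgroup.centralizer ({z} : Set G))) [Q.Normal] (hF : Cfsg.IsOfLargeFischerTypeAt z Q) (T : Sylow 2 ↥(Subgroup.centralizer ({z} : Set G))) : ∃ A : Subgroup ↥(T : Subgroup (Subgroup.centralizer ({z} : Set G))), Cfsg.maxElementaryAbelianSubgroups 2 ↥(T : Subgroup (Subgroup.centralizer ({z} : Set G))) = {A} ∧ Nat.card A = 2 ^ 11 ∧ Nat.card ↥(A.map (T : Subgroup (Subgroup.centralizer ({z} : Set G))).subtype ⊓ Q) = 2 ^ 7 ∧ Nat.card ↥((A.map (T : Subgroup (Subgroup.centralizer ({z} : Set G))).subtype).map (QuotientGroup.mk' Q)) = 16 := by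
  have := Calc.Fi24.finite
  obtain ⟨ι, τ, h⟩ := exists_ls hF
  obtain ⟨g, e⟩ := sylow_std h.inj' (m := 76545) (h.rng' ▸ T_le h.has sg24 21) ((pccT h.has).card_eq le_rfl)
    (h.rng' ▸ card_zc h.has sg24) (by decide) T
  replace h := h.conj g
  change _ = lev (env (fun a => ι g * τ a * (ι g)⁻¹) YT) 21 at e
  generalize (fun a => ι g * τ a * (ι g)⁻¹) = σ at h e
  have i := h.inj'.comp (T : Subgroup (centralizer {z})).subtype_injective
  have m := PLocal.maxIn_map (e := 2) (f := (ι.comp (Subgroup.subtype _)).comp (Subgroup.subtype _)) i ⊤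
  rw [← map_map, Core.map_subtype_top, e, maxT h.has, PLocal.maxIn_top, eq_comm] at m
  obtain ⟨A, hA, a⟩ := m.ge (Set.mem_singleton _)
  have a' : (A.map (Subgroup.subtype _)).map (ι.comp (Subgroup.subtype _)) = _ := (map_map ..).trans a
  have q : lev (env σ YQ4) 13 = genW σ YQ4 := lev_env ..
  have s : lev (env σ YT) 11 ⊔ lev (env σ YQ4) 13 = lev (env σ YT) 17 := by
    refine le_antisymm (sup_le (Fi.lev_mono _ (by decide)) (q.trans_le (mem_lev_of_subOK h.has.snd YT_Q))) ?_
    rw [lev_env σ YT 17, ← List.take_append_drop 11 (YT.take 17), List.take_take, genW_le, List.forall_mem_append]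
    exact ⟨fun t ht => mem_sup_left ((lev_env σ YT 11).ge (mem_genW _ ht)),
      fun t ht => mem_sup_right (mem_lev_of_subOK h.has.snd YT_Q2 (mem_genW _ ht))⟩
  have c := Core.card_sup_mul_card_inf (((T_le h.has sg24 11).trans inf_le_right).trans (nrm_zc h.has).2)
  rw [s, (pccT h.has).card_eq (by decide), (pccT h.has).card_eq (by decide), (pccQ4 h.has).card_eq le_rfl, ← a',
    ← h.eQ hF, ← map_inf_eq _ _ _ h.inj', card_map_of_injective h.inj'] at c
  have c' : Nat.card (A.map (Subgroup.subtype _)) = 2 ^ 11 := by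
    rw [← card_map_of_injective h.inj', a', (pccT h.has).card_eq (by decide)]
  have c'' := Core.card_map_mk'_mul Q (A.map (Subgroup.subtype _))
  refine ⟨A, Set.eq_singleton_iff_unique_mem.2 ⟨hA, fun B hB => map_injective i
    ((m.le ⟨B, hB, rfl⟩).trans a.symm)⟩, (card_map_of_injective (subtype_injective _)).symm.trans c', by omega, ?_⟩
  rw [c', (by omega : Nat.card ↥(A.map (Subgroup.subtype _) ⊓ Q) = 2 ^ 7)] at c''
  omega

end Cfsg.Agent.S5444
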