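import Cfsg.Statements.S5445
import Cfsg.Agent.Lib.Fi.M24V
import Cfsg.Agent.Lib.Core.Frattini

set_option autoImplicit false
open Cfsg

namespace Cfsg.Agent.S5445

open Cfsg.Lib Cfsg.Lib.Fi

open Subgroup Calc M24

theorem prod_hom {N A B : Type*} [Group N] [Finite N] [Group A] [Group B] (hB : center B = ⊥) {R : Subgroup N} [R.Normal]
    {α : N →* A} {ψ : B →* N ⧸ R} (hψ : Function.Injective ψ) (hR : R ≤ α.ker)
    (h1 : ψ.range ≤ α.ker.map (QuotientGroup.mk' R)) (hc : Nat.card α.ker ≤ Nat.card B * Nat.card R)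
    (hS : ∀ a, ∃ s : N, α s = a ∧ (s : N ⧸ R) ∈ centralizer (ψ.range : Set (N ⧸ R))) :
    ∃ φ : N →* A × B, Function.Surjective φ ∧ φ.ker = R := by
  let β := QuotientGroup.lift R α hR
  have k : ψ.range = β.ker := by
    rw [QuotientGroup.ker_lift]
    refine eq_of_le_of_card_ge h1 (Nat.le_of_mul_le_mul_right ?_ (Nat.card_pos (α := R)))
    have := Core.card_map_mk'_mul R α.ker
    rw [inf_eq_right.2 hR] at this
    rwa [← Nat.card_congr (ψ.ofInjective hψ).toEquiv, this]
  let e := MulEquiv.ofBijective (β.comp (centralizer (ψ.range : Set (N ⧸ R))).subtype)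
    ⟨(injective_iff_map_eq_one _).2 fun s hs => by
      obtain ⟨b, hb⟩ := k.ge hs
      have : b ∈ center B := mem_center_iff.2 fun c => hψ (by rw [map_mul, map_mul, hb]; exact s.2 _ ⟨c, rfl⟩)
      exact Subtype.ext (hb.symm.trans (by rw [mem_bot.1 (hB.le this), map_one]; rfl)),
    fun a => let ⟨s, u, v⟩ := hS a; ⟨⟨s, v⟩, u⟩⟩
  have he : ∀ a, β (e.symm a) = a := e.apply_symm_apply
  have hb : ∀ b, β (ψ b) = 1 := fun b => k.le ⟨b, rfl⟩
  let f := ((Subgroup.subtype _).comp e.symm.toMonoidHom).noncommCoprod ψ fun a b => ((e.symm a).2 _ ⟨b, rfl⟩).symm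
  have hf : ∀ a b, f (a, b) = e.symm a * ψ b := fun _ _ => rfl
  have : Function.Bijective f := by
    refine ⟨(injective_iff_map_eq_one _).2 fun ⟨a, b⟩ u => ?_, fun x => ?_⟩
    · have := congrArg β u
      rw [hf, map_mul, he, hb, mul_one, map_one] at this
      rw [hf, this, map_one, coe_one, one_mul, map_eq_one_iff _ hψ] at u
      rw [this, u]; rfl
    · obtain ⟨b, u⟩ := k.ge (show β ((e.symm (β x) : N ⧸ R)⁻¹ * x) = 1 by rw [map_mul, map_inv, he, inv_mul_cancel])
      exact ⟨(β x, b), by rw [hf, u, mul_inv_cancel_left]⟩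
  let θ := MulEquiv.ofBijective f this
  exact ⟨θ.symm.toMonoidHom.comp (QuotientGroup.mk' R), θ.symm.surjective.comp (QuotientGroup.mk'_surjective R),
    Subgroup.ext fun x => (map_eq_one_iff _ θ.symm.injective).trans (QuotientGroup.eq_one_iff x)⟩

section
variable {G : Type*} [Group G] {D : Set G} {τ : ℕ → G} (h : H24 D τ)
include h

theorem cenR : centralizer (lev (env τ YR) 15 : Set G) = lev (env τ YR) 3 := by
  have := h.fin
  refine (eq_of_le_of_card_ge ?_ ((card_le_of_le ((centralizer_le (mem_lev_of_subOK h.snd tR_sub)).trans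
    ((CZ_eq_centralizer_genW _ _).ge.trans (h.cz_le (uniq2 h) tR_ok)))).trans_eq
    ((cWR h).trans ((pccR h).card_eq (by decide : 3 ≤ 15)).symm))).symm
  rw [← commutator_eq_bot_iff_le_centralizer, eq_bot_iff, ← lev_zero (env τ YR)]
  exact (pcRR h).comm (pccR h) (by decide) le_rfl (by decide +kernel)

theorem model (sg : Sg D) {K : Subgroup G} (hK : K = commutator G ⊓ normalizer (lev (env τ YR) 3 : Set G)) :
    lev (env τ YR) 15 ≤ K ∧ ∃ φ : K →* GL (Fin 3) (ZMod 2) × alternatingGroup (Fin 6),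
      Function.Surjective φ ∧ φ.ker = (lev (env τ YR) 15).subgroupOf K := by
  have := h.fin
  have P := pccR h
  have cV' : centralizer (lev (env τ YR) 3 : Set G) = CZ τ [z4, v45, u45] := centralizer_lev ..
  have m := mem_L h sg Y6_ev
  have m' := h.mem_CZ Y6_gen
  obtain ⟨n1, n2⟩ := nrm_of_rep h.snd (by decide) nR_ok
  have RK : lev (env τ YR) 15 ≤ K := Fi.lev_le.2 fun j _ => env_mem_of (fun t ht => hK ▸
    ⟨m t (by simp [ht]), centralizer_le_normalizer _ (cV' ▸ m' t (by simp [ht]))⟩) j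
  have XK : genW τ (X3 ++ Y6.tail) ≤ K := hK ▸ le_inf (genW_le.2 fun t ht => m t (by
    rcases List.mem_append.1 ht with u | u <;> simp [u, List.mem_of_mem_tail])) n2
  obtain ⟨co, ρ, C⟩ := P.exists_co (i := 0) (d := 3) (N := K) (by decide) ((pcRR h).comm P le_rfl (by decide) (by decide +kernel))
    ((pcRR h).pow P (by decide) (by decide +kernel) (by decide +kernel)) (hK.trans_le inf_le_right)
    (by rw [lev_zero]; exact le_normalizer_of_normal)
  have k : ρ.ker = (CZ τ [z4, v45, u45]).subgroupOf K := cV' ▸ Co.ker_bot (lev_zero (env τ YR) ▸ C.toCo)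
  have c : Nat.card ρ.ker ≤ 360 * 2 ^ 15 := by
    have a := card_inf_half sg.index (H := CZ τ [z4, v45, u45]) (d := τ 0) (h.mem_CZ (ks := [.l 0]) (by decide +kernel) _
      (List.mem_singleton_self _)) (sg.not_mem _ (h.mem (by decide)))
    have b := cV h
    have d : Nat.card ρ.ker ≤ Nat.card ↥(commutator G ⊓ CZ τ [z4, v45, u45]) := by
      rw [← card_map_of_injective K.subtype_injective, k, subgroupOf_map_subtype, hK]
      exact card_le_of_le (le_inf (inf_le_right.trans inf_le_left) inf_le_left)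
    omega
  have cG : Nat.card (GL (Fin 3) (ZMod 2)) = 168 := by rw [Matrix.card_GL_field]; decide
  generalize e : lev (env τ YR) 15 ⊔ genW τ (X3 ++ Y6.tail) = N
  have NK : N ≤ K := e ▸ sup_le RK XK
  have RN : lev (env τ YR) 15 ≤ N := e ▸ le_sup_left
  have XN : genW τ (X3 ++ Y6.tail) ≤ N := e ▸ le_sup_right
  have := normal_subgroupOf_of_le_normalizer (e ▸ sup_le le_normalizer n1 : N ≤ _)
  have hY : ∀ t ∈ Y6, t.ev τ ∈ N := List.forall_mem_cons.2 ⟨ev_wone τ ▸ one_mem N, fun t ht => XN (mem_genW _ (List.mem_append_right _ ht))⟩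
  obtain ⟨γ, R⟩ := Mult.A6.pr
  obtain ⟨ψ, hψ⟩ := hom_quot_of_pr R hY (by decide) (mem_lev_of_subOK h.snd Y6_pres)
  have : IsSimpleGroup (alternatingGroup (Fin 6)) := alternatingGroup.isSimpleGroup (by simp)
  have X3N : genW τ X3 ≤ N := (genW_mono _ (List.subset_append_left ..)).trans XN
  have cR := (card_subgroupOf RN).trans (P.card_eq le_rfl)
  obtain ⟨φ, s, u⟩ := prod_hom (alternatingGroup.center_eq_bot (by simp)) (α := ρ.comp (inclusion NK)) (ψ := ψ)
    (ψ.ker_eq_bot_iff.1 ((IsSimpleGroup.eq_bot_or_eq_top_of_normal _ inferInstance).resolve_right fun a => by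
      have b : ψ (γ 1 * γ 2) = 1 := a.ge trivial
      rw [map_mul, hψ, hψ, ← QuotientGroup.mk_mul, QuotientGroup.eq_one_iff] at b
      obtain ⟨j, hj⟩ := P.isPGroup le_rfl ⟨_, mem_subgroupOf.1 b⟩
      exact h.notP (by decide : Nat.Coprime 3 2) _ _ Y6_np j (congrArg Subtype.val hj)))
    (fun x hx => k.ge (lev_le_of_CZ (fun t ht => m' t (by simp [ht])) 15 hx))
    (by
      rintro _ ⟨b, rfl⟩
      refine mem_comap.1 ((R.top _ fun c => ?_).ge (mem_top b))
      exact ⟨_, k.ge (env_mem_of (Y := Y6) (fun t ht => m' t (by simp [ht])) c), (hψ c).symm⟩)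
    (by
      rw [cR, Mult.A6.card, ← card_map_of_injective (inclusion_injective NK), ← MonoidHom.comap_ker]
      exact (card_le_of_le (map_comap_le _ _)).trans c)
    fun a => by
      obtain ⟨x, hx⟩ := (eq_top_of_card_eq _ (le_antisymm (card_le_card_group _) (cG.trans_le
        ((CoP.mts h.snd ⟨C.toCo.mono (X3N.trans NK), C.bas⟩ r3_ok (genW_le.1 le_rfl)).le_card (by decide +kernel) rfl ch3)))).ge
        (mem_top a)
      refine ⟨⟨x, X3N x.2⟩, hx, ?_⟩
      suffices genW τ X3 ≤ ((centralizer (Set.range ψ)).comap (QuotientGroup.mk' _)).map N.subtype from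
        let ⟨y, hy, f⟩ := this x.2; (Subtype.ext f : y = ⟨x, X3N x.2⟩) ▸ hy
      refine genW_le.2 fun t ht => ⟨⟨_, X3N (mem_genW _ ht)⟩, ?_, rfl⟩
      rintro _ ⟨b, rfl⟩
      refine mem_centralizer_singleton_iff.1 ((R.top (comap ψ (centralizer {_})) fun c => ?_).ge (mem_top b))
      rw [mem_comap, hψ, mem_centralizer_singleton_iff, eq_comm, ← commutatorElement_eq_one_iff_mul_comm]
      refine (map_commutatorElement (QuotientGroup.mk' _) ..).symm.trans ((QuotientGroup.eq_one_iff _).2 ?_)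
      change t.ev τ * env τ Y6 c * (t.ev τ)⁻¹ * (env τ Y6 c)⁻¹ ∈ lev (env τ YR) 15
      refine (nthW_mem Y6 c).elim (fun v => ?_) fun v =>
        genW_le.1 (mem_lev_of_subOK h.snd Y6_com) _ (List.mem_flatMap.2 ⟨t, ht, List.mem_map_of_mem v⟩)
      rw [env, v, ev_wone]; simp
  obtain rfl : N = K := eq_of_le_of_card_ge NK (by
    rw [← Grp.card_ker_mul φ, u, cR, MonoidHom.range_eq_top.2 s, card_top, Nat.card_prod, cG, Mult.A6.card, ← Grp.card_ker_mul ρ]
    exact (Nat.mul_le_mul c ((card_le_card_group _).trans cG.le)).trans (by decide))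
  exact ⟨RN, φ, s, u⟩

end

/-- Let G be a finite group of large Fischer type at the involution z: the generalized Fitting subgroup Q of H = C_G(z) is extraspecial of order 2^13, H has normal subgroups Q ≤ H₁ ≤ H₂ with H₁/Q of order 3, H₂/H₁ the projective special unitary group of dimension 4 over the field with nine elements and H₂ of index 2 in H, and some conjugate of z other than z lies in Q. Then G has an elementary abelian subgroup V of order 8 containing z whose normalizer L has the following structure: the largest normal 2-subgroup R of L is special of order 2^15 with centre V, and L/R is isomorphic to the direct product of SL(3, 2) and the alternating group of degree 6. -/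
theorem result {G : Type*} [Group G] [Finite G] (z : G) (Q : Subgroup (Subgroup.centralizer ({z} : Set G))) [Q.Normal] (hF : Cfsg.IsOfLargeFischerTypeAt z Q) : ∃ V : Subgroup G, Cfsg.IsElementaryAbelian 2 V ∧ Nat.card V = 8 ∧ z ∈ V ∧ ∃ R : Subgroup G, R = (Cfsg.pCore 2 ↥(Subgroup.normalizer (V : Set G))).map (Subgroup.normalizer (V : Set G)).subtype ∧ Cfsg.IsSpecial 2 ↥R ∧ Nat.card R = 2 ^ 15 ∧ (Subgroup.center ↥R).map R.subtype = V ∧ ∃ _ : (R.subgroupOf (Subgroup.normalizer (V : Set G))).Normal, Nonempty (↥(Subgroup.normalizer (V : Set G)) ⧸ R.subgroupOf (Subgroup.normalizer (V : Set G)) ≃* Matrix.SpecialLinearGroup (Fin 3) (ZMod 2) × ↥(alternatingGroup (Fin 6))) := by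
  have := Calc.Fi24.finite
  obtain ⟨ι, τ, h⟩ := exists_ls hF
  obtain ⟨RK, φ, s, k⟩ := model h.has sg24 rfl
  have P := pccR h.has
  have VR : lev (env τ YR) 3 ≤ lev (env τ YR) 15 := Fi.lev_mono _ (by decide)
  have RL := RK.trans (inf_le_left.trans h.rng.ge)
  have eR := map_comap_eq_self RL
  have eV := map_comap_eq_self (VR.trans RL)
  have n := comap_normalizer_eq_of_le_range (VR.trans RL)
  generalize hV : comap ι (lev (env τ YR) 3) = V at eV n
  generalize hR : comap ι (lev (env τ YR) 15) = R at eR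
  let f : normalizer (V : Set G) →* ↥(commutator _ ⊓ normalizer (lev (env τ YR) 3 : Set Spor.Fi24)) :=
    (ι.comp (Subgroup.subtype _)).codRestrict _ fun x => ⟨h.rng.le ⟨x, rfl⟩, n.ge x.2⟩
  have fs : Function.Surjective f := fun ⟨y, a, b⟩ => by
    obtain ⟨x, rfl⟩ := h.rng.ge a
    exact ⟨⟨x, n.le b⟩, rfl⟩
  have k' : (φ.comp f).ker = R.subgroupOf _ := by rw [← MonoidHom.comap_ker, k, ← hR]; rfl
  have RN : R ≤ normalizer (V : Set G) := hR ▸ n ▸ comap_mono (RK.trans inf_le_right)
  have cR : Nat.card R = 2 ^ 15 := by rw [← card_map_of_injective h.inj, eR, P.card_eq le_rfl]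
  have : IsSimpleGroup (alternatingGroup (Fin 6)) := alternatingGroup.isSimpleGroup (by simp)
  have p := pCore_eq_ker (p := 2) (φ := φ.comp f) (s.comp fs) (by
    rw [Core.pCore_prod, pCore_GL_self, (IsSimpleGroup.eq_bot_or_eq_top_of_normal (pCore 2 _) inferInstance).resolve_right fun a => by
      obtain ⟨j, hj⟩ := IsPGroup.iff_card.1 (Core.pCore_isPGroup 2 (alternatingGroup (Fin 6)))
      rw [a, card_top, Mult.A6.card] at hj
      exact absurd (Nat.prime_three.dvd_of_dvd_pow (m := 2) (n := j) (by rw [← hj]; decide)) (by decide), bot_prod_bot])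
    (k' ▸ .of_card ((card_subgroupOf RN).trans cR))
  have c : center (lev (env τ YR) 15) = (lev (env τ YR) 3).subgroupOf _ := map_injective (subtype_injective _) (by
    rw [PGroup.map_subtype_center, cenR h.has, subgroupOf_map_subtype, inf_comm])
  obtain ⟨f1, f2⟩ := (pcRR h.has).frattini_eq P (a := 3) (by decide +kernel)
  let e := (R.equivMapOfInjective ι h.inj).trans (MulEquiv.subgroupCongr eR)
  have c' := Linear.map_center_mulEquiv e
  have hu : ∀ u : (ZMod 2)ˣ, (u : ZMod 2) = 1 := by decide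
  let g := MulEquiv.ofBijective (Matrix.SpecialLinearGroup.toGL (n := Fin 3) (R := ZMod 2))
    ⟨Matrix.SpecialLinearGroup.toGL_injective, fun g => ⟨⟨g, hu (Matrix.GeneralLinearGroup.det g)⟩, Units.ext rfl⟩⟩
  refine ⟨V, (PGroup.elemAb_map_iff_of_injective h.inj).1 (eV ▸ (pcRR h.has).elem P (by decide) (by decide +kernel)
    (by decide +kernel)), by rw [← card_map_of_injective h.inj, eV, P.card_eq (by decide)]; rfl,
    hV ▸ mem_comap.2 (h.ez ▸ mem_lev (env τ YR) (by decide : 0 < 3)), R, by rw [p, k', map_subgroupOf_eq_of_le RN],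
    ⟨.of_card cR, map_injective (f := e.toMonoidHom) e.injective ((Core.map_frattini_equiv e).trans (f1.trans (c.symm.trans c'.symm))),
      map_injective (f := e.toMonoidHom) e.injective (Eq.trans ?_ (f2.trans (c.symm.trans c'.symm)))⟩, cR, map_injective h.inj ?_,
    quot_of_ker ⟨k', MonoidHom.range_eq_top.2 (s.comp fs)⟩ ⟨topEquiv.trans (g.symm.prodCongr (.refl _))⟩⟩
  · rw [map_commutator_eq, MonoidHom.range_eq_top.2 e.surjective]; rfl
  · rw [eV, ← map_subgroupOf_eq_of_le VR, ← c, ← c', map_map, map_map]; rfl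

end Cfsg.Agent.S5445
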