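import Cfsg.Statements.S5447
import Cfsg.Agent.Lib.Fi.LfS

set_option autoImplicit false
open Cfsg

namespace Cfsg.Agent.S5447

open Cfsg.Lib Cfsg.Lib.Fi

/-- Let G be a finite group of large Fischer type at the involution z: the generalized Fitting subgroup Q of H = C_G(z) is extraspecial of order 2^13, H has normal subgroups Q ≤ H₁ ≤ H₂ with H₁/Q of order 3, H₂/H₁ the projective special unitary group of dimension 4 over the field with nine elements and H₂ of index 2 in H, and some conjugate of z other than z lies in Q. Let T be a Sylow 2-subgroup of G, A its Thompson subgroup and M = N_G(A) its normalizer. Then M controls fusion in A (elements of A conjugate in G are conjugate in M), and M has exactly two orbits on the non-identity elements of A: those conjugate to z in G and those not. -/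
theorem result {G : Type*} [Group G] [Finite G] (z : G) (Q : Subgroup (Subgroup.centralizer ({z} : Set G))) [Q.Normal] (hF : Cfsg.IsOfLargeFischerTypeAt z Q) (T : Sylow 2 G) (A M : Subgroup G) (hA : A = Cfsg.thompsonSubgroupOf 2 (T : Subgroup G)) (hM : M = Subgroup.normalizer (A : Set G)) : (∀ a ∈ A, ∀ g : G, g * a * g⁻¹ ∈ A → ∃ m ∈ M, m * a * m⁻¹ = g * a * g⁻¹) ∧ (∃ a ∈ A, a ≠ 1 ∧ IsConj z a) ∧ (∃ a ∈ A, a ≠ 1 ∧ ¬ IsConj z a) ∧ ∀ a ∈ A, ∀ b ∈ A, a ≠ 1 → b ≠ 1 → (IsConj z a ↔ IsConj z b) → ∃ m ∈ M, m * a * m⁻¹ = b := by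
  obtain ⟨ι, τ, h⟩ := exists_ls hF
  obtain ⟨β, b, e, -⟩ := h.thom T hA
  subst hM
  have d4 : ∀ {v a}, prB β v = ι a → v.card = 4 → IsConj z a := fun u c => h.h4 _ (u ▸ c ▸ b.dp _)
  have d2 : ∀ {v a}, prB β v = ι a → v.card = 2 → ¬ IsConj z a := fun u c => h.h2 _ (u ▸ c ▸ b.dp _)
  have k : ∀ a ∈ A, ∀ b ∈ A, a ≠ 1 → b ≠ 1 → (IsConj z a ↔ IsConj z b) →
      ∃ m ∈ Subgroup.normalizer (A : Set G), m * a * m⁻¹ = b := fun x hx y hy x1 y1 i => by
    obtain ⟨v, u, c⟩ := b.exists_pr (e ▸ hx) x1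
    obtain ⟨w, u', c'⟩ := b.exists_pr (e ▸ hy) y1
    refine b.orb e u u' ?_ (by omega)
    rcases c with c | c <;> rcases c' with c' | c'
    exacts [c.trans c'.symm, (d2 u c (i.2 (d4 u' c'))).elim, (d2 u' c' (i.1 (d4 u c))).elim, c.trans c'.symm]
  refine ⟨fun a ha g hg => ?_, ?_, ?_, k⟩
  · by_cases a1 : a = 1
    · exact ⟨1, one_mem _, by simp [a1]⟩
    · have c : IsConj a (g * a * g⁻¹) := isConj_iff.2 ⟨g, rfl⟩
      exact k a ha _ hg a1 (mt conj_eq_one_iff.1 a1) ⟨fun i => i.trans c, fun i => i.trans c.symm⟩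
  · obtain ⟨a, ha, a1, u⟩ := b.exists_mem (s := {none, some 0, some 1, some 2}) (by decide) (by decide) (by decide)
    exact ⟨a, e ▸ ha, a1, d4 u (by decide)⟩
  · obtain ⟨a, ha, a1, u⟩ := b.exists_mem (s := {none, some 0}) (by decide) (by decide) (by decide)
    exact ⟨a, e ▸ ha, a1, d2 u (by decide)⟩

end Cfsg.Agent.S5447
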