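import Cfsg.Statements.S5449
import Cfsg.Agent.Lib.F24.Glob
import Cfsg.Agent.S5466
-- import your own Cfsg.Agent.* helpers here

set_option autoImplicit false
open Cfsg

namespace Cfsg.Agent.S5449
open Cfsg.Lib Cfsg.Lib.ThreeTr Subgroup

/-- Let G be a finite group of large Fischer type at the involution z: the generalized Fitting subgroup Q of H = C_G(z) is extraspecial of order 2^13, H has normal subgroups Q ≤ H₁ ≤ H₂ with H₁/Q of order 3, H₂/H₁ the projective special unitary group of dimension 4 over the field with nine elements and H₂ of index 2 in H, and some conjugate of z other than z lies in Q. Then Q contains a four-group E, not containing z and containing an involution not conjugate to z in G, whose centralizer in G is quasisimple with quotient by E isomorphic to the projective special unitary group of dimension 6 over the field with four elements. -/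
theorem result {G : Type*} [Group G] [Finite G] (z : G) (Q : Subgroup (Subgroup.centralizer ({z} : Set G))) [Q.Normal] (hF : Cfsg.IsOfLargeFischerTypeAt z Q) : ∃ E : Subgroup G, E ≤ (Q.map (Subgroup.centralizer ({z} : Set G)).subtype) ∧ Cfsg.IsElementaryAbelian 2 E ∧ Nat.card E = 4 ∧ z ∉ E ∧ (∃ t ∈ E, orderOf t = 2 ∧ ¬ IsConj z t) ∧ Cfsg.IsQuasisimple ↥(Subgroup.centralizer (E : Set G)) ∧ ∃ (_ : (E.subgroupOf (Subgroup.centralizer (E : Set G))).Normal) (K : Type) (_ : Field K) (_ : Fintype K), Fintype.card K = 4 ∧ Nonempty (↥(Subgroup.centralizer (E : Set G)) ⧸ E.subgroupOf (Subgroup.centralizer (E : Set G)) ≃* Cfsg.PSU 6 K 2) := by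
  obtain ⟨D, h⟩ := F24.exists_lf hF
  obtain ⟨x, hx, p⟩ := D.π_surj F24.p0
  obtain ⟨ι, a, b, c, d, g, r, e1, e0⟩ := h.exists_frame hx (p ▸ F24.P_p0)
  obtain ⟨y, e2⟩ := g.ex2 r.ac.l r.ac.r
  obtain ⟨w, e3⟩ := g.ex2 r.ad.l r.ad.r
  have l := g.mem_Q r e0 e1 e2 e3
  have := Calc.Fi24.finite
  have : Fact (Nat.Prime 3) := ⟨Nat.prime_three⟩
  obtain ⟨q, -, k1, ⟨_, K, _, _, hK, ⟨f⟩⟩, -⟩ := S5466.result F24.grp24 Calc.Fi24.primitive _ (IsConj.refl _)
    (Calc.Fi24.pCore_le 3) (Calc.Fi24.pCore_le 2) Calc.Fi24.typeM24 _ rfl a b c r.ab.l r.ab.r r.ac.r r.ab.ne r.ac.ne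
    r.bc.ne r.ab.c r.ac.c r.bc.c _ _ _ rfl rfl rfl
  have m' : (closure {x, y}).map ι = closure {a * b, a * c} := by rw [MonoidHom.map_closure, Set.image_pair, e1, e2]
  have m := g.map_cen (closure {x, y} : Subgroup G)
  rw [← coe_map, m', ← k1] at m
  have sx := D.T_sq l.ta
  have sy := D.T_sq l.swap.ta
  have o : ∀ {u}, u ∈ D.T → orderOf u = 2 := fun hu => orderOf_eq_prime (by rw [sq, D.T_sq hu]) (D.T_ne hu)
  have cm : closure {x, y} ≤ centralizer (closure {x, y} : Subgroup G) := by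
    rw [centralizer_closure, closure_le]
    rintro u (rfl | rfl) v (rfl | rfl)
    exacts [rfl, l.comm.symm, l.comm, rfl]
  have nn : ((closure {x, y}).subgroupOf (centralizer (closure {x, y} : Subgroup G))).Normal :=
    normal_subgroupOf_of_le_normalizer (centralizer_le_normalizer _)
  obtain ⟨ψ, -⟩ := g.exists_equiv m
  obtain ⟨f'⟩ := g.quot_equiv m m'
  refine ⟨closure {x, y}, (closure_le _).2 (Set.pair_subset l.ha l.hb), ⟨le_centralizer_iff_isMulCommutative.1 cm,
    fun u hu => ?_⟩, Fi.card_closure_pair (o l.ta) (o l.swap.ta) l.f3.ne l.comm, fun hz => ?_,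
    ⟨x, subset_closure (Set.mem_insert ..), o l.ta, h.not_Z l.ta⟩, Comp.isQuasisimple_of_mulEquiv q ψ.symm,
    nn, K, _, _, hK, ⟨f'.trans f⟩⟩
  · rcases (Fi.mem_closure_pair sx sy l.comm).1 hu with rfl | rfl | rfl | rfl
    exacts [one_pow _, (sq _).trans sx, (sq _).trans sy, (sq _).trans (D.T_sq l.tab)]
  · rcases (Fi.mem_closure_pair sx sy l.comm).1 hz with e | e | e | e
    exacts [D.z_ne e, h.not_Z l.ta (e ▸ IsConj.refl _), h.not_Z l.swap.ta (e ▸ IsConj.refl _),
      h.not_Z l.tab (e ▸ IsConj.refl _)]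

end Cfsg.Agent.S5449
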