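import Cfsg.Statements.S5450
import Cfsg.Agent.Lib.F24.Glob
-- import your own Cfsg.Agent.* helpers here

set_option autoImplicit false
open Cfsg

namespace Cfsg.Agent.S5450
open Cfsg.Lib Cfsg.Lib.ThreeTr Subgroup

/-- Let G be a finite group of large Fischer type at the involution z: the generalized Fitting subgroup Q of H = C_G(z) is extraspecial of order 2^13, H has normal subgroups Q ≤ H₁ ≤ H₂ with H₁/Q of order 3, H₂/H₁ the projective special unitary group of dimension 4 over the field with nine elements and H₂ of index 2 in H, and some conjugate of z other than z lies in Q. Let t be an involution of Q not conjugate to z in G, and K the generalized Fitting subgroup of the centralizer of t. Then K is quasisimple of index 2 in the centralizer of t, contains t, and the centralizer of t modulo the subgroup generated by t is isomorphic to the full automorphism group of the Fischer group Fi₂₂ (as presented). -/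
theorem result {G : Type*} [Group G] [Finite G] (z : G) (Q : Subgroup (Subgroup.centralizer ({z} : Set G))) [Q.Normal] (hF : Cfsg.IsOfLargeFischerTypeAt z Q) (t : G) (htQ : ∃ htc : t ∈ Subgroup.centralizer ({z} : Set G), (⟨t, htc⟩ : Subgroup.centralizer ({z} : Set G)) ∈ Q) (ht2 : orderOf t = 2) (ht : ¬ IsConj z t) (K : Subgroup ↥(Subgroup.centralizer ({t} : Set G))) (hK : K = Cfsg.generalizedFittingSubgroup ↥(Subgroup.centralizer ({t} : Set G))) [hn : ((Subgroup.zpowers t).subgroupOf (Subgroup.centralizer ({t} : Set G))).Normal] : Cfsg.IsQuasisimple ↥K ∧ K.index = 2 ∧ (∃ htc : t ∈ Subgroup.centralizer ({t} : Set G), (⟨t, htc⟩ : ↥(Subgroup.centralizer ({t} : Set G))) ∈ K) ∧ Nonempty (↥(Subgroup.centralizer ({t} : Set G)) ⧸ (Subgroup.zpowers t).subgroupOf (Subgroup.centralizer ({t} : Set G)) ≃* MulAut Cfsg.Spor.Fi22) := by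
  obtain ⟨D, h⟩ := F24.exists_lf hF
  have tQ := Core.mem_map_subtype_iff.2 htQ
  obtain ⟨ι, a, b, c, d, g, r, e1, -⟩ := h.exists_frame tQ (h.P_of_not tQ ht2 ht)
  have := Calc.Fi24.finite
  have : Fact (Nat.Prime 3) := ⟨Nat.prime_three⟩
  have m := g.map_cen {t}
  rw [Set.image_singleton, e1] at m
  have k : centralizer {a * b} ≤ normalizer (zpowers (a * b) : Set Spor.Fi24) := by
    rw [← centralizer_closure, ← zpowers_eq_closure]
    exact centralizer_le_normalizer _
  have nn := normal_subgroupOf_of_le_normalizer ((inf_le_right (a := commutator _)).trans k)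
  obtain ⟨q, k1, k2, k3, k4, ⟨f⟩⟩ := S5465.result (hn := nn) F24.grp24 Calc.Fi24.primitive _ (IsConj.refl _)
    (Calc.Fi24.pCore_le 3) (Calc.Fi24.pCore_le 2) Calc.Fi24.typeM24 _ rfl a b r.ab.l r.ab.r r.ab.ne r.ab.c _ _ rfl rfl
  obtain ⟨ψ, hψ⟩ := g.exists_equiv m
  obtain ⟨f'⟩ := g.quot_equiv m (N := zpowers t) (by rw [MonoidHom.map_zpowers, e1])
  have j := Comp.map_genFitting_equiv ψ
  rw [← hK] at j
  rw [k1, ← j] at q k3 k4
  rw [subgroupOf, comap_map_eq_self_of_injective (subtype_injective _)] at k3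
  refine ⟨Comp.isQuasisimple_of_mulEquiv q ((ψ.subgroupMap K).trans (equivMapOfInjective _ _ (subtype_injective _))).symm,
    (index_map_equiv K ψ).symm.trans k3, ⟨mem_centralizer_singleton_iff.2 rfl, ?_⟩, ⟨f'.trans f⟩⟩
  obtain ⟨_, ⟨x, hx, rfl⟩, e⟩ := k4
  exact (Subtype.ext (g.inj ((hψ x).symm.trans (e.trans e1.symm))) : x = ⟨t, _⟩) ▸ hx

end Cfsg.Agent.S5450
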