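import Cfsg.Statements.S5451
import Cfsg.Agent.Lib.Fi.M24W
import Cfsg.Agent.Lib.Coprime.Action
import Cfsg.Agent.Lib.Unitary.Simple

set_option autoImplicit false
open Cfsg

namespace Cfsg.Agent.S5451

open Cfsg.Lib Cfsg.Lib.Fi

open Subgroup Calc M24
open scoped commutatorElement Matrix

section
variable {H : Type*} [Group H] {Q N M : Subgroup H} [N.Normal] [IsSimpleGroup (M ⧸ N.subgroupOf M)]

theorem between {P : Subgroup H} [hP : P.Normal] (h1 : N ≤ P) (h2 : P ≤ M) : P = N ∨ P = M := by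
  refine (((hP.subgroupOf M).map _ (QuotientGroup.mk'_surjective (N.subgroupOf M))).eq_bot_or_eq_top).imp
    (fun e => le_antisymm (fun x hx => ?_) h1) fun e => le_antisymm h2 ?_
  · rw [Subgroup.map_eq_bot_iff, QuotientGroup.ker_mk'] at e
    exact e (show (⟨x, h2 hx⟩ : M) ∈ P.subgroupOf M from hx)
  · have := congrArg (comap (QuotientGroup.mk' (N.subgroupOf M))) e
    rwa [comap_map_eq, QuotientGroup.ker_mk', sup_eq_left.2 (subgroupOf_mono M h1), comap_top, subgroupOf_eq_top] at this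

variable [Finite H] [Q.Normal] [M.Normal] (QN : Q ≤ N) (NM : N ≤ M) (hM : M.index = 2) (hQ : Nat.card Q = 2 ^ 13)
include QN NM hM hQ

theorem sup_eq (hN : Nat.card N = 3 * Nat.card Q) (c : 6 * Nat.card N < Nat.card H) {X : Subgroup H} (hX : Nat.card X = 3)
    (n : (X ⊔ Q).Normal) : X ⊔ Q = N := by
  have XM : X ≤ M := fun x hx => by
    have e : x ^ 3 = 1 := congrArg Subtype.val (hX ▸ pow_card_eq_one' (x := (⟨x, hx⟩ : X)))
    have := sq_mem_of_index_two hM (x ^ 2)
    rwa [← pow_mul, pow_succ, e, one_mul] at this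
  refine eq_of_le_of_card_ge (le_sup_left.trans_eq ((between (M := M) (P := X ⊔ Q ⊔ N) le_sup_right
    (sup_le (sup_le XM (QN.trans NM)) NM)).resolve_right fun e => ?_)) ?_
  · have a := Core.card_sup_mul_card_inf (H := X) (le_normalizer_of_normal (H := N))
    rw [sup_assoc, sup_eq_right.2 QN] at e
    have b := M.card_mul_index
    have : 0 < Nat.card ↥(X ⊓ N) := Nat.card_pos
    rw [e, hX] at a
    rw [hM] at b
    nlinarith
  · rw [Core.card_sup_of_disjoint le_normalizer_of_normal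
      (disjoint_of_coprime_natCard (by rw [hX, hQ]; decide)).eq_bot, hX, hN]

theorem core {w z o k l : H} (hw : orderOf w = 3) (hz : orderOf z = 2) (cz : ∀ g, Commute g z) (zQ : z ∈ Q)
    (e : zpowers w ⊔ Q = N) (cq : ∀ q ∈ Q, Commute q w → q ∈ zpowers z) (ho : o * w * o⁻¹ * w ∈ Q)
    (hk : Commute k w) (hl : Commute l w) (c5 : ⁅k, l⁆ ^ 5 = z * w) (c6 : ⁅k, l⁆ ^ 6 ≠ 1) {K : Subgroup H}
    (hK : K = centralizer (zpowers w : Set H)) : IsQuasisimple K ∧ IsCyclic (center K) ∧ Nat.card (center K) = 6 ∧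
      Nonempty (K ⧸ center K ≃* M ⧸ N.subgroupOf M) := by
  have m : ∀ {g}, g ∈ K ↔ Commute g w := by
    rw [hK, zpowers_eq_closure, centralizer_closure]; exact mem_centralizer_singleton_iff
  have e1 : K ⊔ Q = (centralizer (N.map (QuotientGroup.mk' Q) : Set (H ⧸ Q))).comap (QuotientGroup.mk' Q) := by
    rw [← e, Subgroup.map_sup, (map_eq_bot_iff Q).2 (QuotientGroup.ker_mk' Q).ge, sup_bot_eq,
      Coprime.centralizer_map_mk' (by rw [Nat.card_zpowers, hw, hQ]; decide) (.inl inferInstance), comap_map_eq,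
      QuotientGroup.ker_mk', hK]
  have : (N.map (QuotientGroup.mk' Q)).Normal := Normal.map ‹_› _ (QuotientGroup.mk'_surjective Q)
  have : (K ⊔ Q).Normal := e1 ▸ inferInstance
  have wN : w ∈ N := e ▸ mem_sup_left (mem_zpowers w)
  have o1 : o ∉ K ⊔ Q := fun a => by
    rw [e1] at a
    have b : (w : H ⧸ Q) * o = o * w := a _ (mem_map_of_mem _ wN)
    have : w ^ 2 ∈ Q := by
      rw [← QuotientGroup.eq_one_iff] at ho ⊢
      simpa [← b, sq] using ho
    have := orderOf_dvd_natCard _ this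
    rw [orderOf_pow' _ two_ne_zero, hw, hQ] at this
    exact absurd this (by decide)
  have o6 : orderOf (z * w) = 6 := by rw [(cz w).symm.orderOf_mul_eq_mul_orderOf_of_coprime (by rw [hz, hw]; decide), hz, hw]
  have z1 : z ^ 2 = 1 := hz ▸ pow_orderOf_eq_one z
  have w1 : w ^ 3 = 1 := hw ▸ pow_orderOf_eq_one w
  have NK : ∀ n ∈ N, n ∈ K → n ∈ zpowers (z * w) := fun n hn hn' => by
    obtain ⟨x, hx, q, hq, rfl⟩ := mem_sup_of_normal_right.1 (e.ge hn)
    refine mul_mem (zpowers_le.2 (mem_zpowers_iff.2 ⟨(4 : ℕ), ?_⟩) hx) (zpowers_le.2 (mem_zpowers_iff.2 ⟨(3 : ℕ), ?_⟩)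
      (cq q hq (m.1 ((mul_mem_cancel_left (zpowers_le.2 (m.2 rfl) hx)).1 hn'))))
    · rw [zpow_natCast, (cz w).symm.mul_pow, pow_mul z 2 2, z1, pow_succ w, w1]; simp
    · rw [zpow_natCast, (cz w).symm.mul_pow, pow_succ z, z1, w1]; simp
  have cK : ⁅k, l⁆ ∈ K := commutator_le_self K (commutator_mem_commutator (m.2 hk) (m.2 hl))
  have cN : ⁅k, l⁆ ∉ N := fun a => c6 (orderOf_dvd_iff_pow_eq_one.1 (o6 ▸ orderOf_dvd_of_mem_zpowers (NK _ a cK)))
  have MK : M ≤ K ⊔ Q := inf_eq_right.1 ((between (M := M) (P := (K ⊔ Q) ⊓ M) (le_inf (e ▸ sup_le_sup_right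
    (zpowers_le.2 (m.2 rfl)) _) NM) inf_le_right).resolve_left fun a => cN (a.le ⟨mem_sup_left cK, by
      simp [commutatorElement_def, mul_mem_iff_of_index_two hM]; tauto⟩))
  have KM : K ≤ M := fun x hx => by_contra fun a => o1 ((mul_mem_cancel_right (mem_sup_left hx)).1
    (MK ((mul_mem_iff_of_index_two hM).2 (iff_of_false (fun b => o1 (MK b)) a))))
  let φ := (QuotientGroup.mk' (N.subgroupOf M)).comp (inclusion KM)
  have s : Function.Surjective φ := fun g => by
    obtain ⟨g, rfl⟩ := QuotientGroup.mk_surjective g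
    obtain ⟨x, hx, q, hq, a⟩ := mem_sup_of_normal_right.1 (MK g.2)
    exact ⟨⟨x, hx⟩, QuotientGroup.eq.2 (show x⁻¹ * g ∈ N by rw [← a, inv_mul_cancel_left]; exact QN hq)⟩
  have f : ∀ x : K, x ∈ φ.ker ↔ (x : H) ∈ N := fun x => QuotientGroup.eq_one_iff _
  let y : K := ⟨z * w, m.2 ((cz w).symm.mul_left rfl)⟩
  have ky : φ.ker = zpowers y := by
    refine le_antisymm (fun x hx => ?_) (zpowers_le.2 ((f y).2 (mul_mem (QN zQ) wN)))
    obtain ⟨i, hi⟩ := NK _ ((f x).1 hx) x.2
    exact ⟨i, Subtype.ext hi⟩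
  have c' : (⟨_, cK⟩ : K) ∈ commutator K := commutator_mem_commutator (g₁ := (⟨k, m.2 hk⟩ : K)) (g₂ := ⟨l, m.2 hl⟩) trivial trivial
  have t : ∀ (P : Subgroup K) [P.Normal], φ.ker ≤ P → P = φ.ker ∨ P = ⊤ := fun P hP a =>
    (hP.map φ s).eq_bot_or_eq_top.imp (fun b => le_antisymm ((Subgroup.map_eq_bot_iff _).1 b) a) fun b => by
      rw [← comap_map_eq_self a, b, comap_top]
  have p := (t (commutator K) (ky ▸ zpowers_le.2 (by
    convert pow_mem c' 5; exact Subtype.ext c5.symm))).resolve_left fun a => cN ((f _).1 (a ▸ c'))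
  have q := (t (center K) (ky ▸ zpowers_le.2 (mem_center_iff.2 fun g => Subtype.ext ((cz g).mul_right (m.1 g.2))))).resolve_right
    fun a => c6 (by
      rw [commutatorElement_eq_one_iff_mul_comm.2 (congrArg Subtype.val
        (mem_center_iff.1 (a.ge (mem_top (⟨l, m.2 hl⟩ : K))) ⟨k, m.2 hk⟩) :), one_pow])
  have i := (QuotientGroup.quotientMulEquivOfEq q).trans (QuotientGroup.quotientKerEquivOfSurjective φ s)
  refine ⟨⟨⟨p⟩, i.isSimpleGroup⟩, (q.trans ky) ▸ inferInstance, ?_, ⟨i⟩⟩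
  rw [q, ky, Nat.card_zpowers, ← o6, ← orderOf_coe]

end

/-- Let G be a finite group of large Fischer type at the involution z: the generalized Fitting subgroup Q of H = C_G(z) is extraspecial of order 2^13, H has normal subgroups Q ≤ H₁ ≤ H₂ with H₁/Q of order 3, H₂/H₁ the projective special unitary group of dimension 4 over the field with nine elements and H₂ of index 2 in H, and some conjugate of z other than z lies in Q. Let X be a subgroup of H of order 3 whose product with Q is normal in H (X maps onto the normal subgroup of order 3 of H/Q). Then the centralizer of X in H is quasisimple with cyclic centre of order 6 and central quotient isomorphic to the projective special unitary group of dimension 4 over the field with nine elements. -/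
theorem result {G : Type*} [Group G] [Finite G] (z : G) (Q : Subgroup (Subgroup.centralizer ({z} : Set G))) [Q.Normal] (hF : Cfsg.IsOfLargeFischerTypeAt z Q) (X : Subgroup (Subgroup.centralizer ({z} : Set G))) (hX : Nat.card X = 3) (hXQ : (X ⊔ Q).Normal) : Cfsg.IsQuasisimple ↥(Subgroup.centralizer ((X : Subgroup (Subgroup.centralizer ({z} : Set G))) : Set (Subgroup.centralizer ({z} : Set G)))) ∧ IsCyclic ↥(Subgroup.center ↥(Subgroup.centralizer ((X : Subgroup (Subgroup.centralizer ({z} : Set G))) : Set (Subgroup.centralizer ({z} : Set G))))) ∧ Nat.card ↥(Subgroup.center ↥(Subgroup.centralizer ((X : Subgroup (Subgroup.centralizer ({z} : Set G))) : Set (Subgroup.centralizer ({z} : Set G))))) = 6 ∧ ∃ (K : Type) (_ : Field K) (_ : Fintype K), Fintype.card K = 9 ∧ Nonempty (↥(Subgroup.centralizer ((X : Subgroup (Subgroup.centralizer ({z} : Set G))) : Set (Subgroup.centralizer ({z} : Set G)))) ⧸ Subgroup.center ↥(Subgroup.centralizer ((X : Subgroup (Subgroup.centralizer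 ({z} : Set G))) : Set (Subgroup.centralizer ({z} : Set G)))) ≃* Cfsg.PSU 4 K 3) := by
  have := Calc.Fi24.finite
  obtain ⟨ι, τ, h⟩ := exists_ls hF
  obtain ⟨hs, N, M, _, _, QN, NM, hN, ⟨K, _, _, hK, ⟨e⟩⟩, hM⟩ := id hF
  have : IsSimpleGroup (PSU 4 K 3) := Unitary.isSimpleGroup_PSU (q := 3) hK (by decide) (by decide)
  have := e.isSimpleGroup
  have cq : Nat.card Q = 2 ^ 13 := hs.2.2.2.1
  have i := h.inj'
  have c : 6 * Nat.card N < Nat.card (centralizer {z}) := by
    rw [hN, cq, Nat.card_congr (MonoidHom.ofInjective i).toEquiv, h.rng', card_zc h.has sg24]; decide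
  have key : ∀ {τ}, LS z ι τ → ∃ w, ι.comp (Subgroup.subtype _) w = w4.ev τ ∧ orderOf w = 3 ∧ zpowers w ⊔ Q = N := fun {τ} h => by
    obtain ⟨w, hw⟩ := h.rng'.ge (mem_zc h.has sg24 d4_ev d4_gen w4 (by simp [YN4]))
    have o : orderOf w = 3 := by rw [← orderOf_injective _ i, hw, h.has.orderOf_eq w4_ord w4_ne]
    have e : lev (env τ YN4) 13 = lev (env τ YQ4) 13 := (lev_env ..).trans (lev_env τ YQ4 13).symm
    have s : (zpowers w ⊔ Q).map (ι.comp (Subgroup.subtype _)) = lev (env τ YN4) 14 := by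
      rw [Subgroup.map_sup, MonoidHom.map_zpowers, hw, h.eQ hF, ← e]
      exact (sup_le (zpowers_le.2 (mem_lev (env τ YN4) (by decide : 13 < 14))) (Fi.lev_mono _ (by decide))).antisymm
        (Fi.lev_le.2 fun j hj => (Nat.lt_succ_iff_lt_or_eq.1 hj).elim (fun a => mem_sup_right (mem_lev _ a)) fun a =>
          a ▸ mem_sup_left (mem_zpowers _))
    refine ⟨w, hw, o, sup_eq QN NM hM cq hN c ((Nat.card_zpowers w).trans o) ⟨fun n hn g => ?_⟩⟩
    rw [← mem_map_iff_mem i, s] at hn ⊢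
    rw [map_mul, map_mul, map_inv]
    exact conj_mem_of_normalizer ((nrm_zc h.has).1 (h.rng'.le ⟨g, rfl⟩).2) hn
  have XN := le_sup_left.trans_eq (sup_eq QN NM hM cq hN c hX hXQ)
  obtain ⟨S, hS⟩ := exists_sylow_eq (p := 3) (k := 1) (m := 2 ^ 13) ((card_subgroupOf XN).trans hX) (cq ▸ hN) (by decide)
  obtain ⟨w, hw, o, s⟩ := key h
  have i' := i.comp N.subtype_injective
  obtain ⟨g, u⟩ := sylow_std (j := (ι.comp (Subgroup.subtype _)).comp N.subtype) i' (τ := τ) (Y := [w4]) (p := 3) (k := 1) (m := 2 ^ 13)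
    ((Fi.lev_one _).trans_le (zpowers_le.2 ⟨⟨w, s ▸ mem_sup_left (mem_zpowers w)⟩, hw⟩))
    (by rw [Fi.lev_one, Nat.card_zpowers]; exact h.has.orderOf_eq (p := 3) w4_ord w4_ne)
    ((Nat.card_congr (MonoidHom.ofInjective i').toEquiv).symm.trans (cq ▸ hN)) (by decide) S
  replace h := h.conj g
  rw [← map_map, hS, map_subgroupOf_eq_of_le XN, Fi.lev_one] at u
  change _ = zpowers (w4.ev fun a => ι g * τ a * (ι g)⁻¹) at u
  generalize (fun a => ι g * τ a * (ι g)⁻¹) = σ at h u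
  obtain ⟨w, hw, o, s⟩ := key h
  obtain rfl : X = zpowers w := map_injective i (by rw [u, MonoidHom.map_zpowers, hw])
  have q := h.eQ hF
  have ez : ι.comp (Subgroup.subtype _) ⟨z, mem_centralizer_singleton_iff.2 rfl⟩ = z4.ev σ := h.ez
  have m := h.has.mem_CZ k51_gen
  have m' : ∀ t ∈ [k51, l51], ∃ x, ι.comp (Subgroup.subtype _) x = t.ev σ ∧ Commute x w := fun t ht => by
    obtain ⟨x, hx⟩ := h.rng'.ge ⟨mem_L h.has sg24 k51_ev t ht,
      mem_centralizer_singleton_iff.2 (Fi.mem_CZ.1 (m t ht) z4 (.head _)).symm⟩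
    exact ⟨x, hx, .of_map i (by rw [hx, hw]; exact (Fi.mem_CZ.1 (m t ht) w4 (.tail _ (.head _))).symm)⟩
  obtain ⟨k, hk, k'⟩ := m' _ (.head _)
  obtain ⟨l, hl, l'⟩ := m' _ (.tail _ (.head _))
  obtain ⟨x, hx⟩ := h.rng'.ge (mem_zc h.has sg24 d4_ev d4_gen oz1 (.head _))
  have c' : ι.comp (Subgroup.subtype _) ⁅k, l⁆ = c51.ev σ := by rw [map_commutatorElement, hk, hl]; rfl
  obtain ⟨a1, a2, a3, ⟨a4⟩⟩ := core QN NM hM cq (z := ⟨z, mem_centralizer_singleton_iff.2 rfl⟩) (o := x) o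
    ((orderOf_coe _).symm.trans hs.1) (fun g => Subtype.ext (mem_centralizer_singleton_iff.1 g.2))
    (by rw [← mem_map_iff_mem i, q, ez]; exact mem_lev (env σ YQ4) (by decide : 0 < 13)) s (fun y hy cy => by
      obtain ⟨co, ρ, C, R, -⟩ := exists_rep (d := 12) (j := 13) h.has.snd (pccQ4 h.has) (pcRQ4 h.has) (by decide +kernel) rw4_ok
      obtain ⟨⟨n, a⟩, -⟩ := List.forall₂_cons.1 R
      rw [← mem_map_iff_mem i, q] at hy
      have b := C.conj ⟨_, n⟩ _ hy
      rw [a, coe_mk, ← hw, ← (cy.map _).eq, mul_inv_cancel_right] at b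
      have f := congrArg (· *ᵥ co (ι.comp (Subgroup.subtype _) y)) (rw4_mat _ (.head _))
      simp only [Matrix.add_mulVec, ← Matrix.mulVec_mulVec, ← b, Matrix.one_mulVec, CharTwo.add_self_eq_zero] at f
      rw [← mem_map_iff_mem i, MonoidHom.map_zpowers, ez]
      exact (Fi.lev_one _).le ((C.zero _ hy).1 f.symm))
    (by rw [← mem_map_iff_mem i, q, map_mul, map_mul, map_mul, map_inv, hx, hw]
        exact genW_le_iff.1 (mem_lev_of_subOK h.has.snd d4_com) _ List.mem_cons_self) k' l'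
    (i (by rw [map_pow, map_mul, c', ez, hw]; exact h.has.eq c51_eq))
    (fun a => h.has.ne c51_ne (by rw [ev_wone, ← map_one (ι.comp (Subgroup.subtype (centralizer {z}))), ← a, map_pow, c']; rfl)) rfl
  exact ⟨a1, a2, a3, K, _, _, hK, ⟨a4.trans e⟩⟩

end Cfsg.Agent.S5451
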