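import Cfsg.Statements.S5460
import Cfsg.Agent.Lib.F24.Out
import Cfsg.Agent.S1715
-- import your own Cfsg.Agent.* helpers here

set_option autoImplicit false
open Cfsg

namespace Cfsg.Agent.S5460
open Cfsg.Lib Cfsg.Lib.ThreeTr Subgroup

/-- Let X be a finite group with a subgroup G₀ of index 2 that is of large Fischer type at an involution z central in some Sylow 2-subgroup of G₀ (the generalized Fitting subgroup Q of the centralizer C of z in G₀ is extraspecial of order 2^13, C has normal subgroups Q ≤ H₁ ≤ H₂ with H₁/Q of order 3, H₂/H₁ isomorphic to the projective special unitary group of dimension 4 over the field with nine elements and H₂ of index 2 in C, and some G₀-conjugate of z other than z lies in Q), and suppose the generalized Fitting subgroup of the centralizer of z in X is Q as well. Then there is an involution d of X outside G₀ commuting with z, and an involution t of the centralizer Y of d in G₀, such that: the centralizer of t in Y is quasisimple;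 its quotient by the subgroup generated by t is of type M(22) for some generating conjugacy class of 3-transpositions and has an involution whose own centralizer is quasisimple, with quotient by it the projective special unitary group of dimension 6 over the field with four elements, and which is not weakly closed in that centralizer; t is not weakly closed in its centralizer in Y; and the conjugacy class of t in Y is a class of 3-transpositions generating Y with respect to which Y is of type M(23). -/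
theorem result {X : Type*} [Group X] [Finite X] (G₀ : Subgroup X) (hidx : G₀.index = 2) (z : ↥G₀) (Q : Subgroup (Subgroup.centralizer ({z} : Set ↥G₀))) [Q.Normal] (hF : Cfsg.IsOfLargeFischerTypeAt z Q) (hcentral : ∃ P : Sylow 2 ↥G₀, z ∈ (P : Subgroup ↥G₀) ∧ ∀ x ∈ (P : Subgroup ↥G₀), Commute x z) (hFX : (Cfsg.generalizedFittingSubgroup ↥(Subgroup.centralizer ({(z : X)} : Set X))).map (Subgroup.subtype _) = ((Q.map (Subgroup.subtype _)).map G₀.subtype)) : ∃ d : X, orderOf d = 2 ∧ d ∉ G₀ ∧ Commute d (z : X) ∧ ∃ t : ↥(G₀ ⊓ Subgroup.centralizer ({d} : Set X)), orderOf t = 2 ∧ Cfsg.IsQuasisimple ↥(Subgroup.centralizer ({t} : Set ↥(G₀ ⊓ Subgroup.centralizer ({d} : Set X)))) ∧ (∃ (_ : ((Subgroup.zpowers t).subgroupOf (Subgroup.centralizer ({t} : Set ↥(G₀ ⊓ Subgroup.centralizer ({d} : Set X))))).Normal), (∃ E : Set (↥(Subgroup.centralizer ({t} : Set ↥(G₀ ⊓ Subgroup.centralizer ({d} : Set X)))) ⧸ (Subgroup.zpowers t).subgroupOf (Subgroup.centralizer ({t} : Set ↥(G₀ ⊓ Subgroup.centralizer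 ({d} : Set X))))), Cfsg.IsThreeTranspositionClass E ∧ Cfsg.IsOfTypeM22 _ E) ∧ ∃ d' : ↥(Subgroup.centralizer ({t} : Set ↥(G₀ ⊓ Subgroup.centralizer ({d} : Set X)))) ⧸ (Subgroup.zpowers t).subgroupOf (Subgroup.centralizer ({t} : Set ↥(G₀ ⊓ Subgroup.centralizer ({d} : Set X)))), orderOf d' = 2 ∧ Cfsg.IsQuasisimple ↥(Subgroup.centralizer ({d'} : Set _)) ∧ (∃ (K : Type) (_ : Field K) (_ : Fintype K), Fintype.card K = 4 ∧ ∃ _ : ((Subgroup.zpowers d').subgroupOf (Subgroup.centralizer ({d'} : Set _))).Normal, Nonempty (↥(Subgroup.centralizer ({d'} : Set _)) ⧸ (Subgroup.zpowers d').subgroupOf (Subgroup.centralizer ({d'} : Set _)) ≃* Cfsg.PSU 6 K 2)) ∧ ∃ g, g * d' * g⁻¹ ∈ Subgroup.centralizer ({d'} : Set _) ∧ g * d' * g⁻¹ ≠ d') ∧ (∃ g : ↥(G₀ ⊓ Subgroup.centralizer ({d} : Set X)), g * t * g⁻¹ ∈ Subgroup.centralizer ({t} : Set ↥(G₀ ⊓ Subgroup.centralizer ({d} : Set X))) ∧ g * t * g⁻¹ ≠ t) ∧ Cfsg.IsThreeTranspositionClass (conjugatesOf t) ∧ Cfsg.IsOfTypeM23 ↥(G₀ ⊓ Subgroup.centralizer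 ({d} : Set X)) (conjugatesOf t) := by
  obtain ⟨D, h⟩ := F24.exists_lf hF
  obtain ⟨-, -, -, f, -⟩ := h.exists_equiv
  obtain ⟨a⟩ := F24.iso_fi24 hidx f.symm (F24.cen_le hFX)
  obtain ⟨E, h1, h2, h3, -⟩ := F24.exists_t3 a
  have c := F24.class_of_prim h1.prim h2
  obtain ⟨τ, τ', τ'', k1, k2, k3, -⟩ := Fi.M24.pack (class_group c) (h1.out h3)
  obtain ⟨m, m1, m2, m3⟩ := Fi.M24.inv_cases k1 (class_group c) k2 k3 (x := (z : X)) ((orderOf_coe z).trans hF.1.1)
  obtain ⟨l, -, l1, l2, l3, l4⟩ := ((Fi.M24.inv_dp k1 m m1 m2).2 _).2 m3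
  obtain ⟨d, hd⟩ := List.exists_mem_of_length_pos (l1.ge.trans' m1)
  have n : d ∉ G₀ := fun hd' => by
    have := normal_of_index_eq_two hidx
    have : G₀ = ⊤ := eq_top_iff.2 (h2.ge.trans ((closure_le _).2 fun x hx => by
      obtain ⟨g, rfl⟩ := isConj_iff.1 ((F24.eq_conj c (l2 d hd)).ge hx)
      exact this.conj_mem _ hd' g))
    rw [this, index_top] at hidx
    exact absurd hidx (by decide)
  obtain ⟨A, a1, a2, a3⟩ := F24.m24_facts h1 h2 h3 hidx (l2 d hd) n
  have c' := F24.class_of_prim a1.prim a2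
  obtain ⟨t, ht⟩ := a1.prim.ne
  obtain ⟨q, nn, B, b1, b2, b3⟩ := F24.m23_facts a1 a2 a3 ht
  refine ⟨d, c.1.1 _ (l2 d hd), n, l4 ▸ Commute.list_prod_right _ _ (l3 d hd), t, c'.1.1 _ ht, q,
    ⟨nn, ⟨B, F24.class_of_prim b1.prim b2, b1.out b3⟩, F24.m22_facts b1 b2 b3⟩,
    F24.exists_conj_comm c' ht (a1.loc t ht).prim.ne, ?_⟩
  rw [F24.eq_conj c' ht]
  exact ⟨c', a1.out a3⟩

end Cfsg.Agent.S5460
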