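import Cfsg.Statements.S5461
import Cfsg.Agent.Lib.MY.Chart
-- import your own Cfsg.Agent.* helpers here

set_option autoImplicit false
open Cfsg

namespace Cfsg.Agent.S5461
open Cfsg.Lib Cfsg.Lib.ThreeTr Subgroup

/-- Let G be a finite group of Monster type at the involution z with Q the extraspecial normal subgroup of order 2^25 of C_G(z) (C_G(z)/Q identified with the first Conway group with Q modulo its centre the Leech lattice modulo 2, z not weakly closed in Q). Let s be a conjugate of z (in G) lying in Q and other than z, and Y a subgroup of order 3 of the joint centralizer of z and s lying in the centre of some Sylow 3-subgroup of it. Then the centralizer of Y is quasisimple, its quotient by Y is isomorphic to the commutator subgroup of the presented Fischer group Fi₂₄, and the normalizer of Y modulo Y is generated by a conjugacy class of 3-transpositions with respect to which it is of type M(24). -/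
theorem result {G : Type*} [Group G] [Finite G] (z : G) (Q : Subgroup (Subgroup.centralizer ({z} : Set G))) [Q.Normal] (hM : Cfsg.IsOfMonsterType z Q) (s : G) (hsQ : ∃ hsc : s ∈ Subgroup.centralizer ({z} : Set G), (⟨s, hsc⟩ : Subgroup.centralizer ({z} : Set G)) ∈ Q) (hs : IsConj z s) (hs1 : s ≠ z) (Y : Subgroup G) (hY : Y ≤ Subgroup.centralizer ({z, s} : Set G)) (hY3 : Nat.card Y = 3) (hc : ∃ P : Sylow 3 ↥(Subgroup.centralizer ({z, s} : Set G)), Y.subgroupOf (Subgroup.centralizer ({z, s} : Set G)) ≤ (Subgroup.center ↥(P : Subgroup ↥(Subgroup.centralizer ({z, s} : Set G)))).map (P : Subgroup ↥(Subgroup.centralizer ({z, s} : Set G))).subtype) [hn : (Y.subgroupOf (Subgroup.centralizer (Y : Set G))).Normal] [hn' : (Y.subgroupOf (Subgroup.normalizer (Y : Set G))).Normal] : Cfsg.IsQuasisimple ↥(Subgroup.centralizer (Y : Set G)) ∧ Cfsg.Spor.IsoFi24' (↥(Subgroup.centralizer (Y : Set G)) ⧸ Y.subgroupOf (Subgroup.centralizer (Y : Set G))) ∧ ∃ E : Set (↥(Subgroup.normalizer (Y : Set G))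 ⧸ Y.subgroupOf (Subgroup.normalizer (Y : Set G))), Cfsg.IsThreeTranspositionClass E ∧ Cfsg.IsOfTypeM24 _ E := by
  obtain ⟨h, e, ψ, hψ⟩ := hM
  obtain ⟨D, -, -⟩ := Mon.exists_xd h hψ
  rw [← Core.mem_map_subtype_iff] at hsQ
  obtain ⟨D, h1⟩ := Mon.exists_base D (Mon.card_map_of_setting h) hsQ hs hs1
  have : Fact (Nat.Prime 3) := ⟨Nat.prime_three⟩
  obtain ⟨q, hq, h2, D, h1, b, rfl, h4, h5⟩ := Mon.exists_twist_px D hsQ h1 hY hY3 (by norm_num)
  have h6 := (Mon.central_iff D (Mon.card_map_of_setting h) hsQ h1 hY rfl h4 h5).1 hc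
  rw [← top_inf_eq (centralizer _), show Nat.card ↥(⊤ ⊓ centralizer {Mathieu.mk q.1}) = q.2 from
    Mathieu.cls24.cent q hq] at h6
  rw [(show ∀ q ∈ Mathieu.c24, Mathieu.ordT q.1 = 3 → 27 ∣ q.2 → q.1 = Mathieu.r3A by decide +kernel) q hq h2 h6]
    at h5
  obtain ⟨φ, t, -⟩ := MY.exists_chart D h4 h5 hsQ hs hs1 h1
  have := Calc.Fi24.finite
  have := F24.simple_fi24'
  have le := centralizer_le_normalizer (zpowers (b : G) : Set G)
  have hH : ∀ {c}, c ∈ centralizer (zpowers (b : G) : Set G) ↔ Commute c b := fun {c} => by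
    rw [Core.centralizer_zpowers, mem_centralizer_singleton_iff]; rfl
  have k : φ.ker = (zpowers (b : G)).subgroupOf _ := t.ker.trans (Subgroup.ext fun _ =>
    ⟨fun ⟨k, e⟩ => ⟨k, congrArg Subtype.val e⟩, fun ⟨k, e⟩ => ⟨k, Subtype.ext e⟩⟩)
  let κ : centralizer (zpowers (b : G) : Set G) →* Spor.Fi24' := (φ.comp (inclusion le)).codRestrict _ fun c => by
    by_contra n
    exact MY.ne_inv3 h4 ((mul_inv_eq_iff_eq_mul.2 (hH.1 c.2).eq).symm.trans (congrArg Subtype.val (t.od _ n)))
  have su : Function.Surjective κ := fun u =>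
    let ⟨n, e⟩ := t.surj u
    ⟨⟨n, hH.2 (congrArg Subtype.val (t.ev n (e ▸ u.2)))⟩, Subtype.ext e⟩
  have k' : κ.ker = (zpowers (b : G)).subgroupOf _ := Subgroup.ext fun c =>
    Subtype.ext_iff.trans (SetLike.ext_iff.1 k (inclusion le c))
  have q := Comp.isQuasisimple_of_isSimpleGroup (G := Spor.Fi24') fun a =>
    bot_ne_top (F24.center_fi24'.symm.trans (center_eq_top_iff.2 a))
  obtain ⟨E, e1, e2, e3, -⟩ := F24.exists_t3 ((QuotientGroup.quotientMulEquivOfEq k.symm).trans
    (QuotientGroup.quotientKerEquivOfSurjective φ t.surj))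
  refine ⟨Comp.isQuasisimple_of_ker_le_center (eq_top_iff.2 ?_) su (fun c hc => mem_center_iff.2 fun g =>
    Subtype.ext (g.2 _ (k'.le hc)).symm) q, ⟨(QuotientGroup.quotientMulEquivOfEq k'.symm).trans
    (QuotientGroup.quotientKerEquivOfSurjective κ su)⟩, E, F24.class_of_prim e1.prim e2, e1.out e3⟩
  obtain ⟨x, y, x1, x2, x3⟩ := t.com
  rw [← comap_top κ, ← q.1.commutator_eq_top, _root_.commutator_def Spor.Fi24', ← map_top_of_surjective κ su, ← map_commutator,
    comap_map_eq, k']
  refine sup_le le_rfl ?_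
  rintro c ⟨j, hj⟩
  exact (mem_map_iff_mem (subtype_injective _)).1 ⟨_, zpow_mem (pow_mem (commutator_mem_commutator
    (mem_top ⟨x, hH.2 (congrArg Subtype.val x1)⟩) (mem_top ⟨y, hH.2 (congrArg Subtype.val x2)⟩)) 4) j,
    (congrArg (fun a : normalizer (zpowers (b : G) : Set G) => (a : G) ^ j) x3).trans hj⟩

end Cfsg.Agent.S5461
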