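import Cfsg.Statements.S5472
import Cfsg.Agent.Lib.Fi.M22O
import Cfsg.Agent.Lib.Fi.T22

set_option autoImplicit false
open Cfsg

namespace Cfsg.Agent.S5472

open Cfsg.Lib Cfsg.Lib.Fi

/-- Let G be a finite group with trivial centre generated by a conjugation-invariant set D of 3-transpositions on which it acts primitively, such that for some d in D the subgroup generated by the members of D other than d commuting with d has central largest normal 2- and 3-subgroups, and suppose G with D is of type M(22). Then G has a non-inner automorphism s of order 2 whose fixed-point subgroup is isomorphic to the full automorphism group of Ω⁺(8, 2) (the commutator subgroup of the isometry group of the hyperbolic quadratic form in dimension 8 over the field with two elements), together with distinct commuting members a, b of D fixed by s such that: s, s composed with conjugation by a, and s composed with conjugation by a b represent the three classes (under the automorphism group) of non-inner automorphisms of order 2; the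 elements fixed by the automorphism s composed with conjugation by a are exactly those fixed by s and commuting with a, and they form a group isomorphic to the direct product of a group of order 2 and the symplectic group of dimension 6 over the field with two elements; and the elements fixed by the automorphism s composed with conjugation by a b form a group whose largest normal 2-subgroup is elementary abelian of order 64 with quotient isomorphic to the full isometry group of the elliptic quadratic form in dimension 6 over the field with two elements. -/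
theorem result {G : Type*} [Group G] [Finite G] {D : Set G} (hD : Cfsg.IsThreeTranspositionGroup D) (hprim : Cfsg.IsPrimitiveUnderConj D) (d₀ : G) (hd₀ : d₀ ∈ D) (h3 : Cfsg.pCore 3 ↥(Subgroup.closure {y : G | y ∈ D ∧ y ≠ d₀ ∧ Commute d₀ y}) ≤ Subgroup.center ↥(Subgroup.closure {y : G | y ∈ D ∧ y ≠ d₀ ∧ Commute d₀ y})) (h2 : Cfsg.pCore 2 ↥(Subgroup.closure {y : G | y ∈ D ∧ y ≠ d₀ ∧ Commute d₀ y}) ≤ Subgroup.center ↥(Subgroup.closure {y : G | y ∈ D ∧ y ≠ d₀ ∧ Commute d₀ y})) (h22 : Cfsg.IsOfTypeM22 G D) : ∃ (s : MulAut G) (a b : G) (Cs : Subgroup G), orderOf s = 2 ∧ s ∉ (MulAut.conj : G →* MulAut G).range ∧ (∀ g : G, g ∈ Cs ↔ s g = g) ∧ Nonempty (↥Cs ≃* MulAut (Cfsg.Omega (ZMod 2) (Cfsg.quadFormPlus 4 (ZMod 2)))) ∧ a ∈ D ∧ b ∈ D ∧ a ≠ b ∧ Commute a b ∧ s a = a ∧ s b = b ∧ (∀ t : MulAut G, orderOf t = 2 → t ∉ (MulAut.conj : G →* MulAut G).range → (IsConj t s ∨ IsConj t (s * MulAut.conj a) ∨ IsConj t (s * MulAut.conj (a * b)))) ∧ ¬ IsConj s (s * MulAut.conj a) ∧ ¬ IsConj s (s * MulAut.conj (a * b)) ∧ ¬ IsConj (s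 * MulAut.conj a) (s * MulAut.conj (a * b)) ∧ (∀ g : G, (s * MulAut.conj a) g = g ↔ g ∈ Cs ⊓ Subgroup.centralizer ({a} : Set G)) ∧ Nonempty (↥(Cs ⊓ Subgroup.centralizer ({a} : Set G)) ≃* Multiplicative (ZMod 2) × Cfsg.PSp 3 (ZMod 2)) ∧ ∃ Csab O : Subgroup G, (∀ g : G, g ∈ Csab ↔ (s * MulAut.conj (a * b)) g = g) ∧ O = (Cfsg.pCore 2 ↥Csab).map Csab.subtype ∧ Cfsg.IsElementaryAbelian 2 O ∧ Nat.card O = 64 ∧ ∃ _ : (O.subgroupOf Csab).Normal, Nonempty (↥Csab ⧸ O.subgroupOf Csab ≃* Cfsg.isometryGroup (ZMod 2) (Cfsg.quadFormMinus 2 (ZMod 2) 1 1)) := by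
  obtain ⟨τ, h⟩ := M22.has22 hD h22
  obtain ⟨Γ, _, D', τ', ι, E⟩ := M22.H22.ext h
  obtain ⟨e, he⟩ := E.exists_aut (M22.aut_mem h hD)
  have H := E.has
  have k : ∀ (t : Calc.W) g, g ∈ (CZ τ' [t]).comap ι ↔ e (t.ev τ') g = g := fun t g => by
    rw [Subgroup.mem_comap, CZ_one, Subgroup.mem_centralizer_singleton_iff, ← E.inj.eq_iff, he, mul_inv_eq_iff_eq_mul, eq_comm]
  have r : ∀ π, e π ∈ (MulAut.conj : G →* MulAut G).range ↔ π ∈ ι.range := fun π =>
    exists_congr fun g => by rw [← E.aut_iota he, e.apply_eq_iff_eq]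
  have c : ∀ x y, IsConj (e x) (e y) ↔ IsConj x y := fun x y =>
    ⟨fun a => by simpa using e.symm.toMonoidHom.map_isConj a, e.toMonoidHom.map_isConj⟩
  have a : e (τ' 3510) * MulAut.conj (τ 16) = e (M22.sA.ev τ') := by
    rw [← E.aut_iota he, E.tau 16 (by decide), ← map_mul]; rfl
  have b : e (τ' 3510) * MulAut.conj (τ 16 * τ 92) = e (M22.sB.ev τ') := by
    rw [← E.aut_iota he, map_mul ι, E.tau 16 (by decide), E.tau 92 (by decide), ← map_mul]; rfl
  have f := E.mem_comap (Y := [.l 3510]) (ks := [.l 16, .l 92]) (by decide +kernel) (by decide +kernel)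
  obtain ⟨a1, a2⟩ := M22.cenA E
  obtain ⟨b1, b2, b3, b4⟩ := M22.cenB E
  refine ⟨e (τ' 3510), τ 16, τ 92, _, (e.orderOf_eq _).trans (H.orderOf_eq (t := .l 3510) (i := 0) (by decide +kernel)
    (by decide +kernel)), fun x => E.out ((r _).1 x), k (.l 3510), M22.autI E, h.mem (by decide), h.mem (by decide),
    fun x => absurd (h.inj (by decide) (by decide) x) (by decide), (h.comm_iff (.l 92) (by decide)).2 (by decide +kernel),
    (k _ _).1 (f _ (.head _)), (k _ _).1 (f _ (.tail _ (.head _))), fun t h1 h2 => ?_, ?_⟩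
  · obtain ⟨π, rfl⟩ := e.surjective t
    obtain ⟨i, hi⟩ := M22.inv_ext H (y := π) (by rw [← (e.orderOf_eq π).symm.trans h1, pow_orderOf_eq_one])
    have p : pure 3510 (nthW M22.R2 i) ≠ true := fun p => h2 ((r _).2 (by
      obtain ⟨x, rfl⟩ := isConj_iff.1 hi
      rw [env, ← E.ev p]; exact E.conj_mem _ _))
    rw [a, b, c, c, c]
    by_cases q : i < 7
    · interval_cases i <;> first | exact absurd (by decide +kernel) p | skip
      exacts [.inl hi.symm, .inr (.inl hi.symm), .inr (.inr hi.symm)]
    · exact absurd (by rw [nthW_eq, List.getD_eq_default _ _ (Nat.le_of_not_lt q)]; decide +kernel) p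
  · rw [a, b, c, c, c]
    exact ⟨H.not_isConj (s := .l 3510) (by decide +kernel), H.not_isConj (s := .l 3510) (by decide +kernel),
      H.not_isConj (by decide +kernel), fun g => by rw [← k, a1], a2, _, _, k _, b3.symm, b1, b2, b4⟩

end Cfsg.Agent.S5472
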