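import Cfsg.Statements.S5520
import Cfsg.Agent.Lib.MQ.Su6

set_option autoImplicit false
open Cfsg

namespace Cfsg.Agent.S5520

/-- In the special unitary group of dimension 6 over the field with four elements (determinant-one matrices preserving the standard Hermitian form), the subgroups K whose centre has order 3 with K modulo its centre isomorphic to the projective special unitary group of dimension 4 over the field with nine elements fall into exactly three conjugacy classes. -/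
theorem result (F : Type) [Field F] [Fintype F] (hF : Fintype.card F = 4) (F9 : Type) [Field F9] [Fintype F9] (hF9 : Fintype.card F9 = 9) : ∃ K₁ K₂ K₃ : Subgroup ↥(Cfsg.SU 6 F 2), (∀ K ∈ [K₁, K₂, K₃], Nat.card ↥(Subgroup.center ↥K) = 3 ∧ Nonempty (↥K ⧸ Subgroup.center ↥K ≃* Cfsg.PSU 4 F9 3)) ∧ (¬ ∃ g : ↥(Cfsg.SU 6 F 2), K₁.map (MulAut.conj g).toMonoidHom = K₂) ∧ (¬ ∃ g : ↥(Cfsg.SU 6 F 2), K₁.map (MulAut.conj g).toMonoidHom = K₃) ∧ (¬ ∃ g : ↥(Cfsg.SU 6 F 2), K₂.map (MulAut.conj g).toMonoidHom = K₃) ∧ ∀ K : Subgroup ↥(Cfsg.SU 6 F 2), Nat.card ↥(Subgroup.center ↥K) = 3 → Nonempty (↥K ⧸ Subgroup.center ↥K ≃* Cfsg.PSU 4 F9 3) → ∃ g : ↥(Cfsg.SU 6 F 2), K.map (MulAut.conj g).toMonoidHom = K₁ ∨ K.map (MulAut.conj g).toMonoidHom = K₂ ∨ K.map (MulAut.conj g).toMonoidHom = K₃ := by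
  obtain ⟨ι₀, i0, r0⟩ := Lib.F24T.exists_ι
  let σ : F ≃+* Lib.F24.K4 := FiniteField.ringEquivOfCardEq (hF.trans Lib.Asch.TF.card.symm)
  let τ : F9 ≃+* Lib.Asch.F9 := FiniteField.ringEquivOfCardEq (hF9.trans Lib.Asch.TF.card.symm)
  let e : SU 6 F 2 ≃* SU 6 Lib.F24.K4 2 :=
    Lib.Mult.subCongr (Lib.Linear.congrSL (.refl _) σ) (Lib.Mult.mem_su_map σ) (Lib.Mult.mem_su_map σ.symm)
  let ι := ι₀.comp e.toMonoidHom
  have hι : Function.Injective ι := i0.comp e.injective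
  have hr : ∀ g, g ∈ ι.range ↔ g ∈ Lib.F24.UG ∧ Lib.F24.dt g = 1 := fun g => by
    rw [← r0]
    exact ⟨fun ⟨a, h⟩ => ⟨_, h⟩, fun ⟨a, h⟩ => ⟨e.symm a, (congrArg ι₀ (e.apply_symm_apply a)).trans h⟩⟩
  refine ⟨Lib.F24T.KK ι 0, Lib.F24T.KK ι 1, Lib.F24T.KK ι 2, fun K hK => ?_,
    fun ⟨g, h⟩ => absurd (Lib.F24T.not_conj hr g h) (by decide),
    fun ⟨g, h⟩ => absurd (Lib.F24T.not_conj hr g h) (by decide),
    fun ⟨g, h⟩ => absurd (Lib.F24T.not_conj hr g h) (by decide), fun K h1 ⟨h2⟩ => ?_⟩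
  · obtain ⟨a, rfl⟩ : ∃ a, K = Lib.F24T.KK ι a := by
      simp only [List.mem_cons, List.not_mem_nil, or_false] at hK
      rcases hK with h | h | h <;> exact ⟨_, h⟩
    obtain ⟨h1, ⟨h2⟩⟩ := Lib.F24T.KK_spec hι hr a
    exact ⟨h1, ⟨h2.trans (Lib.Mult.psuCongr τ 4 3).symm⟩⟩
  · obtain ⟨g, a, h⟩ := Lib.F24T.exists_conj hι hr K h1 (h2.trans (Lib.Mult.psuCongr τ 4 3))
    refine ⟨g, ?_⟩
    fin_cases a
    exacts [Or.inl h, Or.inr (Or.inl h), Or.inr (Or.inr h)]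

end Cfsg.Agent.S5520
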