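import Cfsg.Statements.S5522
import Cfsg.Agent.Lib.Mathieu.Classes

set_option autoImplicit false
open Cfsg

namespace Cfsg.Agent.S5522

open Cfsg.Lib Cfsg.Lib.Golay Cfsg.Lib.Calc Cfsg.Lib.Grp Cfsg.Lib.Mathieu MulAction
open scoped Pointwise
set_option maxHeartbeats 400000
set_option maxRecDepth 100000

theorem key (g : M24) (hg : g ∈ m11) (h : (orderOf g).Prime) : ∃ x, x ∉ G.toF 340831 ∧ (g : P24) x = x := by
  refine cls11.forall_of (P := fun g => (orderOf g).Prime → ∃ x, x ∉ G.toF 340831 ∧ (g : P24) x = x)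
    (fun x _ k hk a b => ?_)
    (t := fun p => bor (memL (ordT p.1) [4, 6, 8])
      (anyLt 24 fun i => band (band (blt i 24) (!Calc.bit 340831 i)) (Nat.beq (get 5 p.1 i) i)))
    (fun x _ p a _ e b => ?_) (by decide +kernel) g hg h
  · rw [orderOf_conj'] at b
    obtain ⟨y, h1, h2⟩ := a b
    refine ⟨(k : P24) y, ?_, by simp [h2]⟩
    rwa [← show (k : P24) • G.toF 340831 = G.toF 340831 from hk.1, apply_mem_smul_iff]
  · rw [bor_eq_true, memL_iff, anyLt_iff] at e
    rcases e with e | ⟨i, hi, e⟩
    · have : ordT p.1 = 4 ∨ ordT p.1 = 6 ∨ ordT p.1 = 8 := by simpa using e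
      rw [R.orderOf_eq a (by omega)] at b
      rcases this with e | e | e <;> rw [e] at b <;> norm_num at b
    · rw [band_eq_true, beq_iff] at e
      exact ⟨_, pt_notMem e.1, by rw [Rp.apply a hi, e.2]⟩

/-- The Mathieu group M₁₁, realised as the stabiliser of one point of the dodecad of squares inside the stabiliser M₁₂ of that dodecad in M₂₄, acts on the twelve coordinate positions outside the dodecad of squares (its 3-transitive action of degree 12); in this action every element of prime order fixes a point, i.e. the action is elusive. -/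
theorem result (g : Equiv.Perm Cfsg.GolayPt) (hg : g ∈ Cfsg.Spor.M11) (hord : (orderOf g).Prime) :
    ∃ x : Cfsg.GolayPt, x ∉ Cfsg.Spor.squareDodecad ∧ g x = x := by
  rw [squareDodecad_eq]
  exact key ⟨g, M11_le hg⟩ ((mem_M11 _).2 hg) (by rwa [← Subgroup.orderOf_coe])

end Cfsg.Agent.S5522
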