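import Cfsg.Statements.S5533
import Cfsg.Agent.Lib.E6T.Mon
import Cfsg.Agent.Lib.M3.W2

set_option autoImplicit false
open Cfsg

namespace Cfsg.Agent.S5533

/-- The Monster (realised inside the presented Bimonster) has a Klein four-subgroup E whose normalizer N has a normal subgroup K containing E such that K/E is isomorphic to the twisted group ²E₆(2) (realised over the field with four elements, as in the definitions), N/K is isomorphic to the symmetric group of degree 3, and E has no complement in K. -/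
theorem result : ∃ (E N : Subgroup Cfsg.Spor.Monster) (K : Subgroup ↥N), IsKleinFour ↥E ∧ N = Subgroup.normalizer (E : Set Cfsg.Spor.Monster) ∧ E.subgroupOf N ≤ K ∧ (∃ (F : Type) (_ : Field F) (_ : Fintype F), Fintype.card F = 4 ∧ ∃ _ : ((E.subgroupOf N).subgroupOf K).Normal, Nonempty (↥K ⧸ (E.subgroupOf N).subgroupOf K ≃* ↥(Cfsg.Lie.twistedE6 F 2))) ∧ (∃ _ : K.Normal, Nonempty (↥N ⧸ K ≃* Equiv.Perm (Fin 3))) ∧ ∀ L : Subgroup ↥K, ¬ ((E.subgroupOf N).subgroupOf K).IsComplement' L := by
  have h := (Lib.E6T.cfg Lib.M3.nodesM).map Lib.M3.eM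
  obtain ⟨s, s1, s2⟩ := h.sw
  obtain ⟨t, t1, t2⟩ := h.sh
  exact Lib.E6T.shape h.cox h.spi h.f3 h.card h.cen h.ne1 h.ne2 h.ne s1 s2 t1 t2

end Cfsg.Agent.S5533
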