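import Cfsg.Statements.S5535
import Cfsg.Agent.Lib.M3.W2
import Cfsg.Agent.Lib.MY.Chart

set_option autoImplicit false
open Cfsg

namespace Cfsg.Agent.S5535

/-- The Monster (realised inside the presented Bimonster) has a subgroup X of order 3 whose normalizer N satisfies: N/X is isomorphic to the Fischer group Fi₂₄ (the full 3-transposition group presented in the definitions, whose commutator subgroup of index 2 is the simple group Fi₂₄′), and X has no complement in N. -/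
theorem result : ∃ (X N : Subgroup Cfsg.Spor.Monster), Nat.card ↥X = 3 ∧ N = Subgroup.normalizer (X : Set Cfsg.Spor.Monster) ∧ (∃ _ : (X.subgroupOf N).Normal, Nonempty (↥N ⧸ X.subgroupOf N ≃* Cfsg.Spor.Fi24)) ∧ ∀ L : Subgroup ↥N, ¬ (X.subgroupOf N).IsComplement' L := by
  obtain ⟨z, g, Q, D, h1, h2, h3⟩ := Lib.M3.exists_xdM
  have hs : IsConj z (g * z * g⁻¹) := isConj_iff.2 ⟨g, rfl⟩
  obtain ⟨D, h4⟩ := Lib.Mon.exists_base D h1 h2 hs h3
  obtain ⟨c, hc⟩ := D.surj (Lib.Mon.px Lib.MY.r3)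
  have o3 : orderOf (Lib.Mon.px Lib.MY.r3) = 3 := (orderOf_injective _ Lib.Mon.px_injective _).trans
    ((Lib.Mon.Fi.rep.orderOf_eq (by decide +kernel)).trans (by decide +kernel))
  have h5 : ((c ^ 3 : Subgroup.centralizer {z}) : Spor.Monster) ∈ Q := (D.ker _).1 (by
    rw [map_pow, hc, ← o3, pow_orderOf_eq_one])
  have h6 : D.ρ (c ^ 4) = Lib.Mon.px Lib.MY.r3 := by
    rw [map_pow, hc, pow_succ, ← o3, pow_orderOf_eq_one, one_mul]
  have h7 : orderOf ((c ^ 4 : Subgroup.centralizer {z}) : Spor.Monster) = 3 := by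
    haveI : Fact (Nat.Prime 3) := ⟨Nat.prime_three⟩
    refine orderOf_eq_prime ?_ fun e => ?_
    · obtain ⟨k, hk⟩ := D.lg.sq_mem _ h5
      rw [Subgroup.coe_pow, ← pow_mul, show 4 * 3 = 3 * 2 * 2 from rfl, pow_mul, pow_mul, ← Subgroup.coe_pow, ← hk,
        ← zpow_natCast, ← zpow_mul, mul_comm, zpow_mul, zpow_natCast, pow_two, D.lg.mul_self, one_zpow]
    · rw [show c ^ 4 = 1 from Subtype.ext e, map_one] at h6
      rw [← h6, orderOf_one] at o3
      omega
  obtain ⟨φ, t, -⟩ := Lib.MY.exists_chart D h7 h6 h2 hs h3 h4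
  generalize ((c ^ 4 : Subgroup.centralizer {z}) : Spor.Monster) = b at φ t h7
  have k : φ.ker = (Subgroup.zpowers b).subgroupOf _ := t.ker.trans (Subgroup.ext fun _ =>
    ⟨fun ⟨k, e⟩ => ⟨k, congrArg Subtype.val e⟩, fun ⟨k, e⟩ => ⟨k, Subtype.ext e⟩⟩)
  refine ⟨Subgroup.zpowers b, _, by rw [Nat.card_zpowers, h7], rfl, ⟨inferInstance,
    ⟨(QuotientGroup.quotientMulEquivOfEq k.symm).trans (QuotientGroup.quotientKerEquivOfSurjective φ t.surj)⟩⟩,
    fun L hL => ?_⟩
  have := t.gen (H := L) (by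
    rw [← Subgroup.map_top_of_surjective φ t.surj, ← hL.sup_eq_top, Subgroup.map_sup, ← k,
      (Subgroup.map_eq_bot_iff _).2 le_rfl, bot_sup_eq])
  have := congrArg Subtype.val (Subgroup.disjoint_def.1 hL.disjoint (Subgroup.mem_zpowers b) this)
  rw [show b = 1 from this, orderOf_one] at h7
  omega

end Cfsg.Agent.S5535
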