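import Cfsg.Statements.S5537
import Cfsg.Agent.Lib.M4.Th

set_option autoImplicit false
open Cfsg

namespace Cfsg.Agent.S5537

/-- The Monster (realised inside the presented Bimonster) has a subgroup isomorphic to the Thompson sporadic group (the finitely presented group of the definitions). -/
theorem result : ∃ H : Subgroup Cfsg.Spor.Monster, Cfsg.Spor.IsoTh ↥H := by
  obtain ⟨-, s, hs, -⟩ := Lib.M4.exists_Th
  exact ⟨_, ⟨(MonoidHom.ofInjective (f := Lib.M3.eM.toMonoidHom.comp s) (Lib.M3.eM.injective.comp hs)).symm⟩⟩

end Cfsg.Agent.S5537
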