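import Cfsg.Statements.S5565
import Cfsg.Agent.Lib.J4T.ModEx
import Cfsg.Agent.Lib.J4T.Three2

set_option autoImplicit false
open Cfsg

namespace Cfsg.Agent.S5565

open Cfsg.Lib.J4T Cfsg.Lib Subgroup Cfsg.Lib.Transfer

/-- Let G be a finite non-abelian simple group of Janko-four type (an involution z whose centralizer H has an extraspecial largest normal 2-subgroup E of order 2^13 containing its centralizer in H, a normal subgroup N ≥ E of H with N/E of order 3 and H/N the automorphism group of M₂₂, and a subgroup P ≤ N of order 3 with C_E(P) = ⟨z⟩, N_H(P) ≠ C_H(P) and P ≤ C_H(P)′). Then a Sylow 3-subgroup R of G contained in H is extraspecial of order 27 and exponent 3, its normalizer in G lies in H, and that normalizer has order 864. -/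
theorem result {G : Type*} [Group G] [Finite G] [IsSimpleGroup G] (hG : ¬ IsMulCommutative G) (z : G) (hJ : Cfsg.IsOfJankoFourTypeAt z) (R : Sylow 3 G) (hR : (R : Subgroup G) ≤ Subgroup.centralizer ({z} : Set G)) :
    Cfsg.IsExtraspecial 3 ↥(R : Subgroup G) ∧ Nat.card ↥(R : Subgroup G) = 27 ∧ Monoid.exponent ↥(R : Subgroup G) = 3 ∧
    Subgroup.normalizer ((R : Subgroup G) : Set G) ≤ Subgroup.centralizer ({z} : Set G) ∧ Nat.card ↥(Subgroup.normalizer ((R : Subgroup G) : Set G)) = 864 := by
  obtain ⟨J, rfl⟩ := exists_mod_at hJ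
  have h := J.heis_R0
  have c : Nat.card R = 3 ^ 3 := by
    rw [R.card_eq_multiplicity, J.card, show 86775571046077562880 = 3 ^ 3 * 3213910038743613440 by norm_num,
      Nat.factorization_mul (by norm_num) (by norm_num), Finsupp.add_apply, Nat.prime_three.factorization_pow,
      Nat.factorization_eq_zero_of_not_dvd (by norm_num)]
    simp
  rw [← J.hH] at hR ⊢
  obtain ⟨g, hg, e⟩ := conj_of_card hR c (by rw [J.card_H]; norm_num) (J.R0_le.trans inf_le_left) h.card
  rw [← e, ← conj_normalizer]
  exact ⟨ES.isExtraspecial_conj h.es g, by rw [card_conj, h.card]; rfl,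
    (Monoid.exponent_eq_of_mulEquiv (conjEquiv g _)).symm.trans h.exp,
    (conj_mono g (J.norm_R0.trans J.KH)).trans (conj_eq_self_of_mem hg).le, by rw [card_conj, J.card_norm_R0]⟩

end Cfsg.Agent.S5565
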