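import Cfsg.Statements.S5566
import Cfsg.Agent.Lib.J4T.Main

set_option autoImplicit false
open Cfsg

namespace Cfsg.Agent.S5566

/-- Let G be a finite non-abelian simple group of Janko-four type (an involution z whose centralizer H has an extraspecial largest normal 2-subgroup E of order 2^13 containing its centralizer in H, a normal subgroup N ≥ E of H with N/E of order 3 and H/N the automorphism group of M₂₂, and a subgroup P ≤ N of order 3 with C_E(P) = ⟨z⟩, N_H(P) ≠ C_H(P) and P ≤ C_H(P)′). Then a Sylow 2-subgroup of G has exactly one elementary abelian subgroup of order 2^11. -/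
theorem result {G : Type*} [Group G] [Finite G] [IsSimpleGroup G] (hG : ¬ IsMulCommutative G) (hJ : Cfsg.IsOfJankoFourType G) (T : Sylow 2 G) :
    ∃! V : Subgroup G, V ≤ (T : Subgroup G) ∧ Cfsg.IsElementaryAbelian 2 V ∧ Nat.card ↥V = 2 ^ 11 := by
  obtain ⟨z, P, h⟩ := hJ
  obtain ⟨Γ, -, hH, -⟩ := Lib.J4T.glob_of_type h
  obtain ⟨g, hg⟩ := Lib.Transfer.exists_conj_le_sylow T Γ.pg_V
  have hc := (Lib.Transfer.card_conj g _).trans Γ.card_V
  exact ⟨_, ⟨hg, Γ.ea_conj g, hc⟩, fun A hA => Γ.eq_of_isPGroup hH T.2 hA.2.1 hA.2.2 (Γ.ea_conj g) hc hA.1 hg⟩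

end Cfsg.Agent.S5566
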