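import Cfsg.Statements.S5567
import Cfsg.Agent.Lib.J4T.Main
import Cfsg.Agent.Lib.J4T.U

set_option autoImplicit false
open Cfsg

namespace Cfsg.Agent.S5567

/-- Let G be a finite non-abelian simple group of Janko-four type (an involution z whose centralizer H has an extraspecial largest normal 2-subgroup E of order 2^13 containing its centralizer in H, a normal subgroup N ≥ E of H with N/E of order 3 and H/N the automorphism group of M₂₂, and a subgroup P ≤ N of order 3 with C_E(P) = ⟨z⟩, N_H(P) ≠ C_H(P) and P ≤ C_H(P)′). Then every elementary abelian subgroup V of G of order 2^11 contains its centralizer, and its normalizer is a split extension of V by a complement isomorphic to the Mathieu group M₂₄. -/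
theorem result {G : Type*} [Group G] [Finite G] [IsSimpleGroup G] (hG : ¬ IsMulCommutative G) (hJ : Cfsg.IsOfJankoFourType G) (V : Subgroup G) (hV : Cfsg.IsElementaryAbelian 2 V) (hcard : Nat.card ↥V = 2 ^ 11) :
    Subgroup.centralizer (V : Set G) ≤ V ∧ ∃ K : Subgroup G, K ≤ Subgroup.normalizer (V : Set G) ∧ K ⊓ V = ⊥ ∧ K ⊔ V = Subgroup.normalizer (V : Set G) ∧ Cfsg.Spor.IsoM24 ↥K := by
  obtain ⟨z, P, h⟩ := hJ
  obtain ⟨Γ, -, hH, hM, -⟩ := Lib.J4T.glob_of_type h
  obtain ⟨-, Λ, hΛ⟩ := Γ.iso hH hM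
  obtain ⟨g, rfl⟩ := Γ.conj_V hH hV hcard
  have hi : Function.Injective Λ := fun a b e => by rw [← (hΛ a).2, e, (hΛ b).2]
  refine ⟨?_, Λ.range.map (MulAut.conj g).toMonoidHom, ?_, ?_, ?_,
    ⟨((MonoidHom.ofInjective hi).trans (Lib.Transfer.conjEquiv g _)).symm⟩⟩
  · rw [← Lib.Transfer.conj_centralizer]
    exact Lib.Transfer.conj_mono g fun x hx => Γ.mem_V_of_comm (hH.ge (Subgroup.mem_centralizer_singleton_iff.2
      (hx _ Γ.z_mem_V).symm)) fun u hu => (hx _ (Γ.e_mem_V hu)).symm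
  · rw [← Lib.Transfer.conj_normalizer, ← hM]
    exact Lib.Transfer.conj_mono g (by rintro _ ⟨m, rfl⟩; exact (hΛ m).1)
  · rw [← Lib.Transfer.conj_inf, Lib.Transfer.conj_eq_bot_iff, eq_bot_iff]
    rintro _ ⟨⟨m, rfl⟩, h⟩
    rw [← (hΛ m).2, Γ.ρ_V h, map_one]; exact one_mem _
  · rw [← Lib.Transfer.conj_normalizer, ← hM, ← Lib.Transfer.conj_sup, Lib.Transfer.conj_inj]
    refine le_antisymm (sup_le (by rintro _ ⟨m, rfl⟩; exact (hΛ m).1) Γ.VM) fun x hx => ?_
    obtain ⟨c, hc, e⟩ := Γ.exists_vv hx (hΛ _).1 (hΛ (Γ.ρ x)).2.symm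
    exact e ▸ Subgroup.mul_mem_sup ⟨_, rfl⟩ (Γ.vv_mem hc)

end Cfsg.Agent.S5567
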