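import Cfsg.Statements.S5568
import Cfsg.Agent.Lib.J4T.Main

set_option autoImplicit false
open Cfsg

namespace Cfsg.Agent.S5568

open Lib.Transfer in
theorem ncard_cl {G : Type*} [Group G] (N : Subgroup G) (g x : G) :
    (Lib.Grp.cl (g ⋆ N) (g * x * g⁻¹)).ncard = (Lib.Grp.cl N x).ncard := by
  rw [← Set.ncard_image_of_injective (Lib.Grp.cl N x) (MulAut.conj g).injective]
  congr 1
  ext y
  exact ⟨fun ⟨_, ⟨k, hk, rfl⟩, e⟩ => ⟨_, ⟨k, hk, rfl⟩, by simp [← e, mul_assoc]⟩,
    fun ⟨_, ⟨k, hk, rfl⟩, e⟩ => ⟨_, ⟨k, hk, rfl⟩, by simp [← e, mul_assoc]⟩⟩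

/-- Let G be a finite non-abelian simple group of Janko-four type (an involution z whose centralizer H has an extraspecial largest normal 2-subgroup E of order 2^13 containing its centralizer in H, a normal subgroup N ≥ E of H with N/E of order 3 and H/N the automorphism group of M₂₂, and a subgroup P ≤ N of order 3 with C_E(P) = ⟨z⟩, N_H(P) ≠ C_H(P) and P ≤ C_H(P)′). Let V be an elementary abelian subgroup of G of order 2^11. Then under conjugation by the normalizer of V the non-identity elements of V fall into an orbit of length 1771 consisting of conjugates of z and an orbit of length 276 consisting of involutions t not conjugate to z, and for such t the centralizer of t in G lies in the normalizer of V. -/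
theorem result {G : Type*} [Group G] [Finite G] [IsSimpleGroup G] (hG : ¬ IsMulCommutative G) (z : G) (hJ : Cfsg.IsOfJankoFourTypeAt z) (V : Subgroup G) (hV : Cfsg.IsElementaryAbelian 2 V) (hcard : Nat.card ↥V = 2 ^ 11) :
    ∃ z' t : G, z' ∈ V ∧ t ∈ V ∧ t ≠ 1 ∧ IsConj z z' ∧ ¬ IsConj z t ∧
    Set.ncard {v : G | ∃ n ∈ Subgroup.normalizer (V : Set G), n * z' * n⁻¹ = v} = 1771 ∧
    Set.ncard {v : G | ∃ n ∈ Subgroup.normalizer (V : Set G), n * t * n⁻¹ = v} = 276 ∧
    Subgroup.centralizer ({t} : Set G) ≤ Subgroup.normalizer (V : Set G) := by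
  obtain ⟨P, h⟩ := hJ
  obtain ⟨Γ, rfl, hH, hM, -⟩ := Lib.J4T.glob_of_type h
  obtain ⟨g, rfl⟩ := Γ.conj_V hH hV hcard
  have hw := Γ.not_isConj hH hM
  refine ⟨g * Γ.z * g⁻¹, g * Γ.cm 3 * g⁻¹, ⟨_, Γ.z_mem_V, rfl⟩, ⟨_, Γ.cm_mem 3, rfl⟩,
    by simpa [Γ.cm_three] using (Γ.not_conj_w hH).1, isConj_iff.2 ⟨g, rfl⟩,
    fun h => hw (h.trans (isConj_iff.2 ⟨g, rfl⟩).symm), ?_, ?_, fun x hx => ?_⟩
  · rw [← Lib.Transfer.conj_normalizer]
    exact (ncard_cl _ _ _).trans (Γ.ncard_cl hH)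
  · rw [← Lib.Transfer.conj_normalizer, ← hM]
    exact (ncard_cl _ _ _).trans (Γ.ncard_duads hH hM)
  · rw [← Lib.Transfer.conj_normalizer, ← hM, Lib.Transfer.mem_conj]
    refine Γ.centralizer_duad hH hM (Subgroup.mem_centralizer_singleton_iff.2 ?_)
    calc _ = g⁻¹ * (x * (g * Γ.cm 3 * g⁻¹)) * g := by group
      _ = _ := by rw [Subgroup.mem_centralizer_singleton_iff.1 hx]; group

end Cfsg.Agent.S5568
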