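import Cfsg.Statements.S5569
import Cfsg.Agent.Lib.J4T.Main
import Cfsg.Agent.Lib.J4T.U

set_option autoImplicit false
open Cfsg

namespace Cfsg.Agent.S5569

open Lib.J4T Lib.Transfer Lib.Mathieu Subgroup in
theorem cen_iff {G : Type*} [Group G] (Γ : Glob G) {x : G} (hx : x ∈ Γ.M) :
    x ∈ centralizer {Γ.vv (ll 0 ^^^ ll 23)} ↔ Γ.ρ x ∈ Du := by
  obtain ⟨c, hc⟩ := exists_R (Γ.ρ x)
  have hl : ∀ a b, ll a ^^^ ll b < 2048 := fun a b => Nat.xor_lt_two_pow (n := 11) (ll_lt _) (ll_lt _)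
  rw [mem_centralizer_singleton_iff, ← mul_inv_eq_iff_eq_mul, Γ.conj_duad hx hc (by norm_num) (by norm_num)]
  refine ⟨fun e => ?_, fun e => by rcases du_get hc e with h | h <;> simp [h.1, h.2, Nat.xor_comm]⟩
  rw [hc.mem_stab_set (by norm_num), show 8388609 = 2 ^ 0 ^^^ 2 ^ 23 by decide, img_xor hc, img_pow hc (by norm_num),
    img_pow hc (by norm_num)]
  rcases ll_xor_eq (by norm_num) (by norm_num) (hc.lt (i := 0) (by norm_num)) (hc.lt (i := 23) (by norm_num)) (by norm_num)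
    (Γ.vv_inj (hl 0 23) (hl _ _) e.symm) with h | h <;> simp only [← h.1, ← h.2, Nat.xor_comm]

/-- Let G be a finite non-abelian simple group of Janko-four type (an involution z whose centralizer H has an extraspecial largest normal 2-subgroup E of order 2^13 containing its centralizer in H, a normal subgroup N ≥ E of H with N/E of order 3 and H/N the automorphism group of M₂₂, and a subgroup P ≤ N of order 3 with C_E(P) = ⟨z⟩, N_H(P) ≠ C_H(P) and P ≤ C_H(P)′). Then the centralizer of an involution t of G that is not conjugate to z is a split extension of an elementary abelian normal subgroup of order 2^11 by a complement isomorphic to the automorphism group of M₂₂. -/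
theorem result {G : Type*} [Group G] [Finite G] [IsSimpleGroup G] (hG : ¬ IsMulCommutative G) (z : G) (hJ : Cfsg.IsOfJankoFourTypeAt z) (t : G) (ht : orderOf t = 2) (hnc : ¬ IsConj z t) :
    ∃ V K : Subgroup G, V ≤ Subgroup.centralizer ({t} : Set G) ∧ K ≤ Subgroup.centralizer ({t} : Set G) ∧
    Subgroup.centralizer ({t} : Set G) ≤ Subgroup.normalizer (V : Set G) ∧ Cfsg.IsElementaryAbelian 2 V ∧ Nat.card ↥V = 2 ^ 11 ∧
    K ⊓ V = ⊥ ∧ K ⊔ V = Subgroup.centralizer ({t} : Set G) ∧ Nonempty (↥K ≃* MulAut ↥Cfsg.Spor.M22) := by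
  open Lib.J4T Lib.Transfer Subgroup in
  obtain ⟨P, h⟩ := hJ
  obtain ⟨Γ, rfl, hH, hM, -⟩ := glob_of_type h
  obtain ⟨-, Λ, hΛ⟩ := Γ.iso hH hM
  obtain ⟨a, ha, hr⟩ := Rd.exists_aut
  obtain ⟨m, hm, e⟩ := Γ.conj_duad_w (i := 23) (j := 0) (by norm_num) (by norm_num)
  rw [Nat.xor_comm] at e
  obtain ⟨g, rfl⟩ := isConj_iff.1 ((isConj_iff.2 ⟨m, e.trans Γ.cm_three.symm⟩).trans
    ((Γ.two_classes hH hM ht).resolve_left hnc))
  have h0 : centralizer {g * Γ.vv (ll 0 ^^^ ll 23) * g⁻¹} = g ⋆ centralizer {Γ.vv (ll 0 ^^^ ll 23)} := by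
    ext x
    rw [mem_conj, mem_centralizer_singleton_iff, mem_centralizer_singleton_iff, ← mul_left_inj g, ← mul_right_inj g⁻¹]
    simp [mul_assoc]
  have h1 : centralizer {Γ.vv (ll 0 ^^^ ll 23)} ≤ Γ.M := fun x hx => by
    have := Γ.cen_w hH hM (mem_centralizer_singleton_iff.2 (e ▸ Commute.conj (mem_centralizer_singleton_iff.1 hx) m))
    simpa [mul_assoc] using mul_mem (mul_mem (inv_mem hm) this) hm
  have h2 : Γ.V ≤ centralizer {Γ.vv (ll 0 ^^^ ll 23)} := fun x hx => (cen_iff Γ (Γ.VM hx)).2 (Γ.ρ_V hx ▸ one_mem _)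
  have h3 : (Λ.comp a).range ≤ centralizer {Γ.vv (ll 0 ^^^ ll 23)} := by
    rintro _ ⟨m, rfl⟩
    exact (cen_iff Γ (hΛ _).1).2 ((hΛ _).2.symm ▸ hr.le ⟨m, rfl⟩)
  have hi : Function.Injective (Λ.comp a) := fun x y e => ha (by rw [← (hΛ (a x)).2, ← (hΛ (a y)).2]; exact congrArg _ e)
  rw [h0]
  refine ⟨g ⋆ Γ.V, g ⋆ (Λ.comp a).range, conj_mono g h2, conj_mono g h3, ?_, Γ.ea_conj g, (card_conj g _).trans Γ.card_V, ?_, ?_,
    ⟨((MonoidHom.ofInjective hi).trans (conjEquiv g _)).symm⟩⟩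
  · rw [← conj_normalizer, ← hM]
    exact conj_mono g h1
  · rw [← conj_inf, conj_eq_bot_iff, eq_bot_iff]
    rintro _ ⟨⟨m, rfl⟩, h⟩
    change Λ _ ∈ _ at h ⊢
    rw [← (hΛ (a m)).2, Γ.ρ_V h, map_one]; exact one_mem _
  · rw [← conj_sup, conj_inj]
    refine le_antisymm (sup_le h3 h2) fun x hx => ?_
    obtain ⟨c, hc, e⟩ := Γ.exists_vv (h1 hx) (hΛ _).1 (hΛ (Γ.ρ x)).2.symm
    obtain ⟨y, hy⟩ := hr.ge ((cen_iff Γ (h1 hx)).1 hx)
    exact e ▸ mul_mem_sup ⟨y, congrArg Λ hy⟩ (Γ.vv_mem hc)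

end Cfsg.Agent.S5569
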