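import Cfsg.Statements.S5574
import Cfsg.Agent.Lib.J4T.ModEx
import Cfsg.Agent.Lib.J4T.PentB

set_option autoImplicit false
open Cfsg

namespace Cfsg.Agent.S5574

open Cfsg.Lib.J4T Cfsg.Lib Subgroup Cfsg.Lib.Transfer

/-- Let G be a finite non-abelian simple group of Janko-four type (an involution z whose centralizer H has an extraspecial largest normal 2-subgroup E of order 2^13 containing its centralizer in H, a normal subgroup N ≥ E of H with N/E of order 3 and H/N the automorphism group of M₂₂, and a subgroup P ≤ N of order 3 with C_E(P) = ⟨z⟩, N_H(P) ≠ C_H(P) and P ≤ C_H(P)′). Then G has a special 2-subgroup L of order 2^15 with centre of order 8 whose normalizer M satisfies: M/L is isomorphic to the direct product of the symmetric group of degree 5 and L₃(2); L has no complement in M; M nevertheless contains subgroups isomorphic to the symmetric group of degree 5 and to L₃(2); and M contains the normalizer of some Sylow 5-subgroup and of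 some Sylow 7-subgroup of G. -/
theorem result {G : Type*} [Group G] [Finite G] [IsSimpleGroup G] (hG : ¬ IsMulCommutative G) (hJ : Cfsg.IsOfJankoFourType G) :
    ∃ L : Subgroup G, Cfsg.IsSpecial 2 ↥L ∧ Nat.card ↥L = 2 ^ 15 ∧ Nat.card ↥(Subgroup.center ↥L) = 8 ∧
    Nonempty (↥(Subgroup.normalizer (L : Set G)) ⧸ L.subgroupOf (Subgroup.normalizer (L : Set G)) ≃* Equiv.Perm (Fin 5) × Matrix.SpecialLinearGroup (Fin 3) (ZMod 2)) ∧
    (∀ K : Subgroup ↥(Subgroup.normalizer (L : Set G)), ¬ (L.subgroupOf (Subgroup.normalizer (L : Set G))).IsComplement' K) ∧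
    (∃ K₁ : Subgroup G, K₁ ≤ Subgroup.normalizer (L : Set G) ∧ Nonempty (↥K₁ ≃* Equiv.Perm (Fin 5))) ∧
    (∃ K₂ : Subgroup G, K₂ ≤ Subgroup.normalizer (L : Set G) ∧ Nonempty (↥K₂ ≃* Matrix.SpecialLinearGroup (Fin 3) (ZMod 2))) ∧
    (∃ Q : Sylow 5 G, Subgroup.normalizer ((Q : Subgroup G) : Set G) ≤ Subgroup.normalizer (L : Set G)) ∧
    (∃ S : Sylow 7 G, Subgroup.normalizer ((S : Subgroup G) : Set G) ≤ Subgroup.normalizer (L : Set G)) := by
  obtain ⟨J⟩ := nonempty_mod hJ
  have k : ∀ {p : ℕ} [Fact p.Prime] {x : G}, orderOf x = p → ¬p ^ 2 ∣ 86775571046077562880 →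
      ∃ Q : Sylow p G, Q = zpowers x := fun {p} _ x h h' =>
    ⟨(IsPGroup.of_card (G := zpowers x) (n := 1) (by rw [Nat.card_zpowers, h, pow_one])).toSylow fun e => h' (by
      rw [← J.card, ← (zpowers x).card_mul_index, Nat.card_zpowers, h, sq]; exact Nat.mul_dvd_mul_left p e), rfl⟩
  have : Fact (Nat.Prime 5) := ⟨Nat.prime_five⟩
  have : Fact (Nat.Prime 7) := ⟨Nat.prime_seven⟩
  obtain ⟨Q, hQ⟩ := k J.pe.1 (by decide)
  obtain ⟨S, hS⟩ := k J.pe.2.1 (by decide)
  exact ⟨J.LL, J.special_LL.1, J.LL_spec.2.2.2.1, J.special_LL.2, J.quot_NL, J.nonsplit_NL, ⟨_, J.K1_le, J.iso_K1.1⟩,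
    ⟨_, J.K2_le, J.iso_K2.1⟩, ⟨Q, hQ ▸ J.five.2.2⟩, S, hS ▸ J.seven.2.2.1⟩

end Cfsg.Agent.S5574
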