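import Cfsg.Statements.S5575
import Cfsg.Agent.Lib.J4T.ModEx
import Cfsg.Agent.Lib.J4T.Eleven

set_option autoImplicit false
open Cfsg

namespace Cfsg.Agent.S5575

open Cfsg.Lib.J4T Cfsg.Lib Subgroup Cfsg.Lib.Transfer

/-- Let G be a finite non-abelian simple group of Janko-four type (an involution z whose centralizer H has an extraspecial largest normal 2-subgroup E of order 2^13 containing its centralizer in H, a normal subgroup N ≥ E of H with N/E of order 3 and H/N the automorphism group of M₂₂, and a subgroup P ≤ N of order 3 with C_E(P) = ⟨z⟩, N_H(P) ≠ C_H(P) and P ≤ C_H(P)′). Then a Sylow 11-subgroup of G is extraspecial of order 11^3 and exponent 11, and its normalizer has order 2^4·3·5·11^3 and contains a subgroup isomorphic to GL₂(3). -/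
theorem result {G : Type*} [Group G] [Finite G] [IsSimpleGroup G] (hG : ¬ IsMulCommutative G) (hJ : Cfsg.IsOfJankoFourType G) (U : Sylow 11 G) :
    Cfsg.IsExtraspecial 11 ↥(U : Subgroup G) ∧ Nat.card ↥(U : Subgroup G) = 11 ^ 3 ∧ Monoid.exponent ↥(U : Subgroup G) = 11 ∧
    Nat.card ↥(Subgroup.normalizer ((U : Subgroup G) : Set G)) = 2 ^ 4 * 3 * 5 * 11 ^ 3 ∧
    ∃ K : Subgroup G, K ≤ Subgroup.normalizer ((U : Subgroup G) : Set G) ∧ Nonempty (↥K ≃* GL (Fin 2) (ZMod 3)) := by
  obtain ⟨J⟩ := nonempty_mod hJ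
  obtain ⟨x, y, U0, h, K, k1, ⟨f⟩, k2⟩ := J.ex11
  have c : Nat.card U = 11 ^ 3 := by
    rw [U.card_eq_multiplicity, J.card, show 86775571046077562880 = 11 ^ 3 * 65195770883604480 by norm_num,
      Nat.factorization_mul (by norm_num) (by norm_num), Finsupp.add_apply, Nat.prime_eleven.factorization_pow,
      Nat.factorization_eq_zero_of_not_dvd (by norm_num)]
    simp
  obtain ⟨g, -, e⟩ := conj_of_card (le_top : U.1 ≤ ⊤) c (by rw [card_top, J.card]; norm_num) le_top h.card
  rw [← e, ← conj_normalizer]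
  exact ⟨ES.isExtraspecial_conj h.es g, by rw [card_conj, h.card],
    (Monoid.exponent_eq_of_mulEquiv (conjEquiv g _)).symm.trans h.exp, by rw [card_conj, J.card_norm_U h k1 k2]; norm_num,
    _, conj_mono g k1, ⟨(conjEquiv g K).symm.trans f⟩⟩

end Cfsg.Agent.S5575
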