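import Cfsg.Statements.S5578
import Cfsg.Agent.Lib.J4T.ModEx
import Cfsg.Agent.Lib.J4T.ModC
import Cfsg.Agent.Lib.PSL2.SmallIso

set_option autoImplicit false
open Cfsg

namespace Cfsg.Agent.S5578

open Cfsg.Lib.J4T Cfsg.Lib.J4 Cfsg.Lib.Big Cfsg.Lib.Calc Cfsg.Lib.PSL2 Subgroup
open scoped MatrixGroups

set_option maxRecDepth 100000

def pg_U0 : ℕ := (nat_lit 0xb405780ac015c02c405900b4016c02e405e00bf016002cc05a80b8017402f405b80bb017c030006080c301)
def pg_R0 : ℕ := (nat_lit 0x77020000170000000002c7d0200000000000000045b4020000162b00800004c450200001580c08000050000000001400000000040000000001300000000055b4020000120000000004800000000110000000002800000000104c808000038000000000f00000000020000000000e00000000004000000000d00000000058790200000c0000000003c000000000b4c808000027100200000a00000000034000000000949808000016bd02000008000000000080000000007ab00800001d2c02000006b880800000c0000000005e580800001000000000040000000001800000000030000000003000000000020000000005c0000000001)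
def pg_D0 : ℕ := (nat_lit 0x296cda4043232ece1c00567f711dec6180d0000000000000f2010000000000000688080000000000002f6040000000000001540200000000000009881000000000000043808000000000000200040000000000000d00200000000000006201000000000000026c08000000000000106040000000000000610200000000000002681000000000000011c0800000000000006e040000000000000290200000000000000e810000000000000048080000000000000200400000000000000802000000000000003810000000000000004080000000000000000000000000000000000)
noncomputable def pg_L0 : Lib.Calc.Lv :=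
  ⟨(nat_lit 66), (nat_lit 68), (nat_lit 23), (nat_lit 24), (nat_lit 23), get (nat_lit 15) pg_U0,
    fun l x => get (nat_lit 42) pg_R0 (Nat.add (Nat.mul x (nat_lit 2)) (Nat.sub l (nat_lit 66))), get (nat_lit 69) pg_D0⟩
def pg_U1 : ℕ := (nat_lit 0x2b017406601880680190059019c05a0194061015c0630160060016c06a01780560170069017c04000)
def pg_R1 : ℕ := (nat_lit 0x1e5010000162808000043c0400003c00000000200000000828080000880000000040000000140000000110000000019404000029e02000026a01000003000000006000000004ca0200000aa0100000c00000000a800000001400000001c000000015500800003a80400003a80200000000000000728080000820040000000000000120000000107808000010000000024000000024000000002000000005bc04000048a0200000850100000b50080000a000000001000000001a000000014a00800003280400003400000002c000000006)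
def pg_D1 : ℕ := (nat_lit 0x2fbf0b1a0ab7780d000000000004f008000000000010402000000000003440800000000000c702000000000002a808000000000008102000000000001a4080000000000054020000000000013c08000000000003c02000000000000e00800000000000280200000000000094080000000000018020000000000005808000000000000c020000000000002c080000000000000020000000000000c080000000000003020000000000000000000000000000000)
noncomputable def pg_L1 : Lib.Calc.Lv :=
  ⟨(nat_lit 42), (nat_lit 44), (nat_lit 0), (nat_lit 23), (nat_lit 0), get (nat_lit 14) pg_U1,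
    fun l x => get (nat_lit 37) pg_R1 (Nat.add (Nat.mul x (nat_lit 2)) (Nat.sub l (nat_lit 42))), get (nat_lit 62) pg_D1⟩
def pg_U2 : ℕ := (nat_lit 0x1602f01a80cc0440230180084052026019009c062034016009405c02d01400a804802000)
def pg_D2 : ℕ := (nat_lit 0x17c02ab014c80a2004f00269012d809380484023701168089004380215010780828040c0203010080800040000)
noncomputable def pg_L2 : Lib.Calc.Lv :=
  ⟨(nat_lit 21), (nat_lit 22), (nat_lit 1), (nat_lit 22), (nat_lit 0), get (nat_lit 13) pg_U2,
    fun l x => get (nat_lit 5) (nat_lit 0x4542dd1a00664b1f2a848753613) (Nat.add (Nat.mul x (nat_lit 1)) (Nat.sub l (nat_lit 21))), get (nat_lit 17) pg_D2⟩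
noncomputable def pg_lvs : List Lib.Calc.Lv := [pg_L0, pg_L1, pg_L2]

theorem chk : pull [nat_lit 1, nat_lit 8202, nat_lit 14, nat_lit 16, nat_lit 18, nat_lit 23, nat_lit 12, nat_lit 32800, nat_lit 27, nat_lit 30, nat_lit 34, nat_lit 34, nat_lit 33, nat_lit 32, nat_lit 35, nat_lit 34, nat_lit 9216, nat_lit 23, nat_lit 17427, nat_lit 18432, nat_lit 19, nat_lit 20, nat_lit 3, nat_lit 22, nat_lit 23, nat_lit 6, nat_lit 25, nat_lit 8, nat_lit 9, nat_lit 28, nat_lit 11, nat_lit 12, nat_lit 31, nat_lit 14, nat_lit 15, nat_lit 16, nat_lit 59454, nat_lit 58, nat_lit 19475, nat_lit 38, nat_lit 21, nat_lit 40, nat_lit 41, nat_lit 5120, nat_lit 8192, nat_lit 26668, nat_lit 45, nat_lit 67655, nat_lit 29725, nat_lit 30, nat_lit 49, nat_lit 32, nat_lit 33, nat_lit 34, nat_lit 35, nat_lit 54, nat_lit 55, nat_lit 56, nat_lit 39, nat_lit 58, nat_lit 59, nat_lit 60, nat_lit 43, nat_lit 44, nat_lit 45, nat_lit 64, nat_lit 65, nat_lit 66, nat_lit 93271, nat_lit 1024, nat_lit 22528, nat_lit 24576, nat_lit 27648, nat_lit 56320] [nat_lit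 73, nat_lit 0] (fun C => band (eM.ordOK (C 0) 23)
    (eM.homOK 24 5 [956302485175575353788796878166559809, 14993316572118470587055432721897879] [C 0, C 1] [nat_lit 1024, nat_lit 2, nat_lit 2, nat_lit 3, nat_lit 4, nat_lit 6, nat_lit 6, nat_lit 8, nat_lit 9, nat_lit 10, nat_lit 10, nat_lit 12, nat_lit 0, nat_lit 1, nat_lit 15374, nat_lit 16, nat_lit 16, nat_lit 17, nat_lit 18, nat_lit 20, nat_lit 20, nat_lit 22, nat_lit 23, nat_lit 24, nat_lit 24, nat_lit 26, nat_lit 26, nat_lit 13312, nat_lit 16, nat_lit 2, nat_lit 18, nat_lit 4, nat_lit 5, nat_lit 21, nat_lit 22, nat_lit 8, nat_lit 9, nat_lit 0, nat_lit 1024, nat_lit 2048, nat_lit 3072, nat_lit 4096, nat_lit 5120, nat_lit 6144, nat_lit 7168, nat_lit 8192, nat_lit 9216, nat_lit 10240, nat_lit 11264, nat_lit 12288, nat_lit 13312, nat_lit 14336, nat_lit 15360, nat_lit 16384, nat_lit 17408, nat_lit 18432, nat_lit 19456, nat_lit 46110, nat_lit 31744, nat_lit 48128, nat_lit 33792, nat_lit 34850, nat_lit 51200, nat_lit 36864, nat_lit 53248, nat_lit 38915, nat_lit 39936,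 nat_lit 56320, nat_lit 41985, nat_lit 58425, nat_lit 59392, nat_lit 60416, nat_lit 61454, nat_lit 47104, nat_lit 63499, nat_lit 64521, nat_lit 50182, nat_lit 78926, nat_lit 80896, nat_lit 80896, nat_lit 81920, nat_lit 82944, nat_lit 83968, nat_lit 86016, nat_lit 86016, nat_lit 87040, nat_lit 89092, nat_lit 89088, nat_lit 91136, nat_lit 91142, nat_lit 93184, nat_lit 94219, nat_lit 94208, nat_lit 95247, nat_lit 96256, nat_lit 97280, nat_lit 98304, nat_lit 100355, nat_lit 100352]
      [nat_lit 101, nat_lit 42, nat_lit 43, nat_lit 44, nat_lit 45, nat_lit 46, nat_lit 47, nat_lit 48, nat_lit 49, nat_lit 50, nat_lit 51, nat_lit 52, nat_lit 53, nat_lit 54, nat_lit 55, nat_lit 56, nat_lit 57, nat_lit 58, nat_lit 59, nat_lit 60, nat_lit 61, nat_lit 62, nat_lit 38, nat_lit 34, nat_lit 31, nat_lit 30, nat_lit 27, nat_lit 25, nat_lit 39, nat_lit 24, nat_lit 35, nat_lit 23, nat_lit 32, nat_lit 28, nat_lit 22, nat_lit 26, nat_lit 40, nat_lit 36, nat_lit 33, nat_lit 29, nat_lit 41, nat_lit 37, nat_lit 72, nat_lit 87, nat_lit 13,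 nat_lit 10, nat_lit 14, nat_lit 8, nat_lit 11, nat_lit 15, nat_lit 9, nat_lit 12, nat_lit 16, nat_lit 6, nat_lit 17, nat_lit 2, nat_lit 7, nat_lit 18, nat_lit 0, nat_lit 3, nat_lit 19, nat_lit 1, nat_lit 4, nat_lit 20, nat_lit 5, nat_lit 21, nat_lit 99, nat_lit 100] pg_lvs)) = true := by decide +kernel

instance fact23 : Fact (Nat.Prime 23) := ⟨by norm_num⟩

/-- the points of the projective line -/
def P (i : ℕ) : P1 (ZMod 23) := if i < 23 then pt i else inf

theorem inj_P : Inj 24 P := fun i hi j hj e => by
  unfold P at e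
  split_ifs at e with a b b
  · exact (by decide : ∀ i < 23, ∀ j < 23, ((i : ℕ) : ZMod 23) = (j : ℕ) → i = j) i a j b (pt_inj.1 e)
  · exact absurd e (pt_ne_inf _)
  · exact absurd e (inf_ne_pt _)
  · omega

theorem faithful_P : Faithful PGL(2, ZMod 23) 24 P := fun _ h =>
  eq_one_of_fix_inf_zero_one (h 23 (by decide)) (by simpa [P] using h 0 (by decide)) (by simpa [P] using h 1 (by decide))

theorem rep_gl {a b c d : ZMod 23} {h : a * d - b * c ≠ 0} {C : ℕ} (e : tabOK 24 5 C = true)
    (e' : ∀ i : Fin 24, if i.1 < 23 then (if get 5 C i < 23 then a * i.1 + b = get 5 C i * (c * i.1 + d) else c * i.1 + d = 0)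
      else if get 5 C i < 23 then a = get 5 C i * c else c = 0) :
    Rep 24 5 P (Matrix.ProjGenLinGroup.mk (gl2 a b c d h)) C :=
  Rep.of_tabOK e fun i => by
    have := e' i
    unfold P
    rw [pgl_mk_smul]
    split_ifs at this ⊢
    exacts [(gl_smul_pt_eq_pt _ _ _).2 this, (gl_smul_pt_eq_inf _ _).2 this, (gl_smul_inf_eq_pt _ _).2 this,
      (gl_smul_inf_eq_inf _).2 this]

/-- Let G be a finite non-abelian simple group of Janko-four type (an involution z whose centralizer H has an extraspecial largest normal 2-subgroup E of order 2^13 containing its centralizer in H, a normal subgroup N ≥ E of H with N/E of order 3 and H/N the automorphism group of M₂₂, and a subgroup P ≤ N of order 3 with C_E(P) = ⟨z⟩, N_H(P) ≠ C_H(P) and P ≤ C_H(P)′). Then G has a subgroup isomorphic to PGL₂(23) (the general linear group of degree 2 over the integers modulo 23, modulo its centre). -/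
theorem result {G : Type*} [Group G] [Finite G] [IsSimpleGroup G] (hG : ¬ IsMulCommutative G) (hJ : Cfsg.IsOfJankoFourType G) :
    ∃ K : Subgroup G, Nonempty (↥K ≃* GL (Fin 2) (ZMod 23) ⧸ Subgroup.center (GL (Fin 2) (ZMod 23))) := by
  obtain ⟨J⟩ := nonempty_mod hJ
  obtain ⟨g, C, hR, e⟩ := J.pull chk
  obtain ⟨e1, e2⟩ := band_eq_true.1 e
  obtain ⟨f, hf, -⟩ := J.law.exists_hom inj_P faithful_P (as := [aff 1 1, Matrix.ProjGenLinGroup.mk (gl2 0 12 1 0 (by decide))])
    (.cons (rep_gl (by decide +kernel) (by decide +kernel)) (.cons (rep_gl (by decide +kernel) (by decide +kernel)) .nil))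
    (.cons (hR 0) (.cons (hR 1) .nil)) e2 (by rw [card_PGL2, Nat.card_zmod]; decide +kernel)
  refine ⟨f.range, ⟨(MonoidHom.ofInjective ((MonoidHom.ker_eq_bot_iff f).1 (by_contra fun k => ?_))).symm⟩⟩
  have := pslSub_le_of_normal (by simp) k (unip_le_pslSub inf (mem_unip_inf.2 ⟨1, rfl⟩))
  have h := Lib.J4T.Mod.ordp (hR 0) (by norm_num) e1
  rw [← (List.cons.inj hf).1, show f (aff 1 1) = 1 from this] at h
  simp at h

end Cfsg.Agent.S5578
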