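import Cfsg.Statements.S5586
import Cfsg.Agent.Lib.MA.E2
import Cfsg.Agent.Lib.MQ.U1
import Cfsg.Agent.Lib.MT.Mk

set_option autoImplicit false
open Cfsg

namespace Cfsg.Agent.S5586

open Subgroup Cfsg.Lib Cfsg.Lib.ES Cfsg.Lib.Griess Cfsg.Lib.Griess.MA Cfsg.Lib.Mon Cfsg.Lib.Leech

theorem exists_q {K : Type*} [Group K] [Finite K] {R : Subgroup K} [R.Normal] (es : IsExtraspecial 2 R) (hn : Nat.card R = 2 ^ 25)
    (hc : centralizer (R : Set K) ≤ R) {ρ : K →* Spor.Co1} (hs : Function.Surjective ρ) (hk : ρ.ker = R) :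
    ∃ f : Q →* K, Function.Injective f ∧ f.range = R ∧ ∀ g x, ∃ y, g * f x * g⁻¹ = f y ∧ piQ y = ρ g • piQ x := by
  obtain ⟨z, h, -⟩ := exists_sy_of_isExtraspecial es
  have c (g : K) : g ∈ centralizer {z} := mem_centralizer_singleton_iff.2 (mul_inv_eq_iff_eq_mul.1 ((h.mem_iff.1
    (h.omega _ (‹R.Normal›.conj_mem z h.mem g) ((normal_centralizer (H := R)).conj_mem z
      (fun x hx => mem_centralizer_singleton_iff.1 (h.cent hx)) g) (by rw [conj_pow, sq, h.mul_self]; simp))).resolve_left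
    (by simpa using h.ne_one)))
  obtain ⟨D, e⟩ := MQ.exists_xd_L2 ⟨h, hc, le_top.trans (normalizer_eq_top R).ge⟩ es hn (ρ := ρ.comp (centralizer {z}).subtype)
    (fun t => let ⟨g, e⟩ := hs t; ⟨⟨g, c g⟩, e⟩) (hk ▸ rfl)
  obtain ⟨s, a, b⟩ := D.π_surj om
  obtain ⟨f, f1, rfl, -, -, f2⟩ := MT.exists_qV D a b
  refine ⟨f, f1, rfl, fun g x => ?_⟩
  obtain ⟨y, k⟩ := ‹f.range.Normal›.conj_mem _ ⟨x, rfl⟩ g
  exact ⟨y, k.symm, by rw [← f2, ← f2, k, D.π_conj ⟨g, c g⟩ _ ⟨x, rfl⟩, e]; rfl⟩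

/-- The Monster is the only group generated by three subgroups C, N, L of the following kind: the largest normal 2-subgroup of C is extraspecial of order 2^25 of plus type, contains its centralizer in C, and has quotient C modulo it isomorphic to the first Conway group; N modulo its largest normal 2-subgroup is isomorphic to the direct product of the symmetric group of degree 3 and M₂₄; L modulo its largest normal 2-subgroup is the direct product of a normal subgroup isomorphic to L₃(2) and a normal subgroup B of order 2160 having a normal subgroup T of order 3 with B/T the symmetric group of degree 6, with T centralized by a subgroup of index 2 of B and with the commutator subgroup of B perfect of order 1080 (the triple cover of the alternating group of degree 6 extended by an automorphism); and the indices [N : N ∩ C] = 3, [L : L ∩ N] = [L : L ∩ C] = 7 and [L : L ∩ N ∩ C] = 21. -/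
theorem result {G : Type*} [Group G] (C N L : Subgroup G) (hgen : C ⊔ N ⊔ L = ⊤)
    (hQ : Cfsg.IsExtraspecial 2 ↥((Cfsg.pCore 2 ↥C).map C.subtype)) (hQc : Nat.card ↥((Cfsg.pCore 2 ↥C).map C.subtype) = 2 ^ 25)
    (hplus : ∃ E : Subgroup G, E ≤ ((Cfsg.pCore 2 ↥C).map C.subtype) ∧ Cfsg.IsElementaryAbelian 2 E ∧ Nat.card ↥E = 2 ^ 13)
    (hcc : C ⊓ Subgroup.centralizer (((Cfsg.pCore 2 ↥C).map C.subtype) : Set G) ≤ ((Cfsg.pCore 2 ↥C).map C.subtype))
    (hCo : Cfsg.Spor.IsoCo1 (↥C ⧸ Cfsg.pCore 2 ↥C))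
    (hN : Nonempty (↥N ⧸ Cfsg.pCore 2 ↥N ≃* Equiv.Perm (Fin 3) × ↥Cfsg.M24))
    (hL : ∃ A B : Subgroup (↥L ⧸ Cfsg.pCore 2 ↥L), A.Normal ∧ B.Normal ∧ A ⊓ B = ⊥ ∧ A ⊔ B = ⊤ ∧
      Nonempty (↥A ≃* Matrix.SpecialLinearGroup (Fin 3) (ZMod 2)) ∧ Nat.card ↥B = 2160 ∧
      ∃ (T : Subgroup ↥B) (_ : T.Normal), Nat.card ↥T = 3 ∧ Nonempty (↥B ⧸ T ≃* Equiv.Perm (Fin 6)) ∧
        (Subgroup.centralizer (T : Set ↥B)).index = 2 ∧ Nat.card ↥(commutator ↥B) = 1080 ∧
        ⁅commutator ↥B, commutator ↥B⁆ = commutator ↥B)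
    (hNC : C.relIndex N = 3) (hLN : N.relIndex L = 7) (hLC : C.relIndex L = 7) (hLNC : (N ⊓ C).relIndex L = 21) :
    Cfsg.Spor.IsoM G := by
  obtain ⟨e⟩ := hCo
  obtain ⟨n⟩ := hN
  obtain ⟨A, B, _, _, a, b, ⟨ε⟩, c, -⟩ := hL
  have := finite_co1
  have := Finite.of_equiv _ e.symm.toEquiv
  rw [Core.card_map_subtype] at hQc
  have : Finite (pCore 2 C) := Nat.finite_of_card_ne_zero (by rw [hQc]; norm_num)
  have f : Finite C := .of_equiv _ (groupEquivQuotientProdSubgroup (s := pCore 2 C)).symm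
  have k {H K : Type _} [Group H] [Group K] (P : Subgroup H) [P.Normal] (e : H ⧸ P ≃* K) :
      Function.Surjective (e.toMonoidHom.comp (QuotientGroup.mk' P)) ∧ (e.toMonoidHom.comp (QuotientGroup.mk' P)).ker = P :=
    ⟨e.surjective.comp (QuotientGroup.mk'_surjective P), by
      rw [← MonoidHom.comap_ker, (MonoidHom.ker_eq_bot_iff _).2 e.injective, MonoidHom.comap_bot, QuotientGroup.ker_mk']⟩
  have := Finite.of_equiv _ (equivMapOfInjective (pCore 2 C) _ C.subtype_injective).toEquiv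
  obtain ⟨q, q1, q2, q3⟩ := exists_q (isExtraspecial_congr (equivMapOfInjective _ _ C.subtype_injective).symm hQ) hQc
    (fun g h => (comap_map_eq_self_of_injective C.subtype_injective _).le (hcc ⟨g.2, by
      rintro _ ⟨x, hx, rfl⟩; exact congrArg Subtype.val (h x hx)⟩)) (k _ e).1 (k _ e).2
  let _ : AQ := ⟨G, C, C.subtype.comp q, C.subtype_injective.comp q1, fun x => (q x).2, _, (k _ e).1,
    fun g => (SetLike.ext_iff.1 ((k _ e).2.trans q2.symm) g).trans (exists_congr fun _ => Subtype.ext_iff),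
    fun g x => (q3 g x).imp fun _ h => ⟨congrArg Subtype.val h.1, h.2⟩⟩
  have := fin_of f (hLC ▸ (by decide : 7 ≠ 0))
  obtain ⟨u, v⟩ := k B ((isComplement'_of_disjoint_and_mul_eq_univ (disjoint_iff.2 a) (by
    rw [← mul_normal, b, coe_top])).QuotientMulEquiv.trans ε)
  obtain ⟨j, w⟩ := (Core.pCore_isPGroup 2 L).exists_card_eq
  have d : Nat.card (B.comap (QuotientGroup.mk' _)) = 2160 * 2 ^ j := by
    have := card_mul_index (B.comap (QuotientGroup.mk' _))
    rw [index_comap_of_surjective _ (QuotientGroup.mk'_surjective _), card_eq_card_quotient_mul_card_subgroup (pCore 2 L),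
      ← card_mul_index B, c, w, mul_right_comm] at this
    exact Nat.eq_of_mul_eq_mul_right (Nat.pos_of_ne_zero FiniteIndex.index_ne_zero) this
  rw [← v, MonoidHom.comap_ker] at d
  exact isoM ⟨a168, f, _, (k _ n).1, (k _ n).2.symm ▸ Core.pCore_isPGroup 2 N, _, u.comp (QuotientGroup.mk'_surjective _),
    d ▸ fun h => absurd (Nat.Prime.dvd_of_dvd_pow (by norm_num) ((Nat.Coprime.dvd_mul_left (by norm_num)).1 h)) (by decide),
    d ▸ Dvd.dvd.mul_right (by decide) _, hNC, hLN, hLC, hLNC⟩ hgen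

end Cfsg.Agent.S5586
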