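import Cfsg.Statements.S5587
import Cfsg.Agent.Lib.Bab.Mod

set_option autoImplicit false
open Cfsg

namespace Cfsg.Agent.S5587

open Lib.Bab Lib.Griess

/-- Over any field F whose characteristic is not 2, the Baby Monster (the finitely presented group of the definitions) has a faithful linear representation of degree 4371; every such representation is irreducible over F, and any two are equivalent. -/
theorem result (F : Type*) [Field F] (hF : ringChar F ≠ 2) :
    (∃ ρ : Cfsg.Spor.BabyMonster →* GL (Fin 4371) F, Function.Injective ρ) ∧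
    ∀ ρ : Cfsg.Spor.BabyMonster →* GL (Fin 4371) F, Function.Injective ρ →
      (∀ W : Submodule F (Fin 4371 → F), (∀ g : Cfsg.Spor.BabyMonster, ∀ v ∈ W, (ρ g : Matrix (Fin 4371) (Fin 4371) F).mulVec v ∈ W) → W = ⊥ ∨ W = ⊤) ∧
      ∀ ρ' : Cfsg.Spor.BabyMonster →* GL (Fin 4371) F, Function.Injective ρ' →
        ∃ P : GL (Fin 4371) F, ∀ g : Cfsg.Spor.BabyMonster, ρ' g = P * ρ g * P⁻¹ := by
  obtain ⟨π, hs, hk, _⟩ := exists_piB
  refine ⟨?_, fun ρ h => ⟨fun W hW => irred (repB_GL hk hF h) W fun g v hv =>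
    Submodule.mem_comap.2 ((Matrix.toLinAlgEquiv'_apply _ v).symm ▸ hW (π g) v hv), fun ρ' h' => ?_⟩⟩
  · obtain ⟨n, σ, h⟩ := exists_repB (K := F) (Ring.two_ne_zero hF)
    obtain ⟨f, e⟩ : ∃ f : Spor.BabyMonster →* _, ∀ g, f (π g) = σ.asGroupHom g :=
      ⟨_, π.liftOfRightInverse_comp_apply _ (Function.rightInverse_surjInv hs) ⟨σ.asGroupHom, fun g hg => Units.ext (by
        rcases (hk g).1 hg with e | e
        exacts [(ex_eq σ g).symm.trans (e ▸ h.one), (ex_eq σ g).symm.trans (e ▸ h.t)])⟩⟩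
    exact exists_GL_of h.finrank_eq ((Units.coeHom _).comp f) (g := π ⟨zA, z_B0⟩) fun k => h.ne ((ex_eq σ ⟨zA, z_B0⟩).trans
      ((congrArg Units.val (e _)).symm.trans k))
  obtain ⟨φ, e⟩ := exists_equiv (repB_GL hk hF h) (repB_GL hk hF h')
  refine ⟨Units.map (Matrix.toLinAlgEquiv' (R := F)).symm.toMulEquiv.toMonoidHom φ, fun g => eq_mul_inv_of_mul_eq (Units.ext ?_)⟩
  obtain ⟨g, rfl⟩ := hs g
  simpa [repGL] using congrArg (Matrix.toLinAlgEquiv' (R := F)).symm (e g)

end Cfsg.Agent.S5587
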