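import Cfsg.Statements.S5590
import Cfsg.Agent.Lib.Bab.Spl

set_option autoImplicit false
open Cfsg Cfsg.Lib.Griess Cfsg.Lib.Bab

namespace Cfsg.Agent.S5590

/-- Let F be a field of characteristic neither 2 nor 3 and ρ a faithful linear representation of the Baby Monster of degree 4371 over F. Then every extension of the Baby Monster by the corresponding module splits: if E is a group with an abelian normal subgroup A, an identification of E/A with the Baby Monster, and an additive identification of A with F^4371 under which conjugation by g ∈ E acts as ρ of the image of g, then A has a complement in E. -/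
theorem result (F : Type*) [Field F] (hF2 : ringChar F ≠ 2) (hF3 : ringChar F ≠ 3) (ρ : Cfsg.Spor.BabyMonster →* GL (Fin 4371) F) (hρ : Function.Injective ρ)
    (E : Type*) [Group E] (A : Subgroup E) [A.Normal] (e : E ⧸ A ≃* Cfsg.Spor.BabyMonster)
    (φ : Additive ↥A ≃+ (Fin 4371 → F))
    (hφ : ∀ (g : E) (a b : ↥A), (b : E) = g * a * g⁻¹ → φ (Additive.ofMul b) =
      (ρ (e (QuotientGroup.mk g)) : Matrix (Fin 4371) (Fin 4371) F).mulVec (φ (Additive.ofMul a))) :
    ∃ K : Subgroup E, A.IsComplement' K := by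
  classical
  obtain ⟨π, hs, hk, -⟩ := exists_piB
  have h := repB_GL hk hF2 hρ
  let D := ((e.toMonoidHom.comp (QuotientGroup.mk' A)).comp (MonoidHom.fst E B0)).eqLocus (π.comp (MonoidHom.snd E B0))
  let ψ : D →* Aut := B0.subtype.comp ((MonoidHom.snd E B0).comp D.subtype)
  have d : ∀ x : D, e x.1.1 = π x.1.2 := fun x => x.2
  have m : ∀ {x : D}, ψ x = 1 → x.1.1 ∈ A := fun {x} k => (QuotientGroup.eq_one_iff _).1 (e.map_eq_one_iff.1
    ((d x).trans ((hk _).2 (.inl k))))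
  have r : ∀ (x : D) v, ex (repGL π ρ) (ψ x) v = (ρ (π x.1.2)).1.mulVec v := fun x v =>
    (LinearMap.congr_fun (ex_eq (repGL π ρ) x.1.2) v).trans (Matrix.toLin'_apply _ v)
  obtain ⟨j, hj⟩ : ∃ j : D → Fin 4371 → F, ∀ x (k : x.1.1 ∈ A), j x = φ (.ofMul ⟨_, k⟩) :=
    ⟨fun x => if k : x.1.1 ∈ A then φ (.ofMul ⟨_, k⟩) else 0, fun _ k => dif_pos k⟩
  obtain ⟨L, c⟩ := h.split_B0 (φ := ψ) (j := j) ⟨h.mul, h.one, fun x => x.1.2.2,
    fun g k => let ⟨x, l⟩ := QuotientGroup.mk_surjective (e.symm (π ⟨g, k⟩)); ⟨⟨(x, ⟨g, k⟩), (e.eq_symm_apply.1 l :)⟩, rfl⟩,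
    fun a b => (hj _ (mul_mem (m a) (m b))).trans ((map_add φ (.ofMul ⟨_, m a⟩) (.ofMul ⟨_, m b⟩)).trans
      (congrArg₂ _ (hj _ (m a)).symm (hj _ (m b)).symm)),
    fun a k => Subtype.ext (Prod.ext (congrArg Subtype.val (φ.map_eq_zero_iff.1 ((hj _ (m a)).symm.trans k) :)) (Subtype.ext a)),
    fun v => ⟨⟨((φ.symm v).toMul, 1), (congrArg e ((QuotientGroup.eq_one_iff _).2 (φ.symm v).toMul.2)).trans
      ((map_one e).trans (map_one π).symm)⟩, rfl, (hj _ (φ.symm v).toMul.2).trans (φ.apply_symm_apply v)⟩,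
    fun x a k => have l := m (ψ.normal_ker.conj_mem a k x)
      (hj _ l).trans ((hφ x.1.1 ⟨_, m k⟩ ⟨_, l⟩ rfl).trans (.symm ((r x _).trans (by rw [d x, hj a (m k)]))))⟩ hF3
  refine ⟨L.map ((MonoidHom.fst E B0).comp D.subtype), Subgroup.isComplement'_of_disjoint_and_mul_eq_univ
    (Subgroup.disjoint_def.2 ?_) (Set.eq_univ_of_forall fun g => ?_)⟩
  · rintro _ a ⟨x, k, rfl⟩
    have b := c.inj _ (mul_mem k k) ((map_mul ψ x x).trans (((hk _).1 ((d x).symm.trans (e.map_eq_one_iff.2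
      ((QuotientGroup.eq_one_iff _).2 a)))).elim (fun l => (congrArg₂ _ l l).trans (one_mul _))
      fun l => (congrArg₂ _ l l).trans (by rw [← map_mul, t_mul_t, map_one])))
    have f : (2 : F) • φ (.ofMul ⟨_, a⟩) = 0 := by
      rw [two_smul, ← map_add, φ.map_eq_zero_iff]
      exact Subtype.ext congr(($b).1.1)
    exact congrArg Subtype.val (φ.map_eq_zero_iff.1 ((smul_eq_zero.1 f).resolve_left h.two) :)
  · obtain ⟨b, l⟩ := hs (e g)
    obtain ⟨y, k, rfl⟩ : ∃ y ∈ L, y.1.2 = b := (c.sur b b.2).imp fun _ k => ⟨k.1, Subtype.ext k.2⟩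
    exact ⟨g * y.1.1⁻¹, (QuotientGroup.eq_one_iff _).1 (by rw [QuotientGroup.mk_mul, ← e.injective ((d y).trans l)]; simp), _,
      ⟨y, k, rfl⟩, inv_mul_cancel_right ..⟩

end Cfsg.Agent.S5590
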