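import Cfsg.Statements.S5614
import Cfsg.Agent.Lib.Mathieu.Struct

set_option autoImplicit false
open scoped Pointwise
open Cfsg

namespace Cfsg.Agent.S5614

open Cfsg.Lib.Golay Cfsg.Lib.Calc Cfsg.Lib.Grp Cfsg.Lib.Mathieu MulAction

set_option maxRecDepth 100000
set_option maxHeartbeats 400000

def h_C : ℕ := (nat_lit 0x398debb98cd447d016805ac454c992ca71ddc2ce3bbd704daad9403e6eb412791106ba8a30c71ceef3a030ea9ae2d786d0254d2a26e8289c3c677ae740fa9e0414ece6b12a59a882c8710df98cf75b8c10762416985af554d45c844b8dc5e6fb9d622fa1d892d9a19c0d252095bac437035be67b81b50a79cb36061632d24a4a3515dc0cf77ae6053449a4bb20eb3ea652ce92d071083bae6778bbc8785476985ac44966a262a115c0d6fbcce07659a072b5e164d3555244ba222703bae6f38bc1487d46d63ad33c9664d22428820e775bce236491b2bb1ee9c14ba98e81d0a20837cd77382b154b262d839f391d64aa066b8820d777cce070592d5bcd8e7b647551262a2220839beeb388b1667a4b383acd3c948a92f418820df79ace0ad3920abbe6e65aa99217489862083bcdeb38bdab49ca307b9ac5a928398a418820)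
noncomputable def h_code : ℕ → ℕ := get (nat_lit 150) h_C
def h_R0 : ℕ := (nat_lit 0x9ed0400000420d030000010bf030000009ec040000000d3030000031640300000502c020000020000000000300000000005000000000020000000000100000000004)
noncomputable def h_L0 : Lv :=
  ⟨(nat_lit 15), (nat_lit 17), (nat_lit 0), (nat_lit 6), (nat_lit 0), get (nat_lit 13) (nat_lit 0x1a02f01600b806002000),
    fun l x => get (nat_lit 44) h_R0 (Nat.add (Nat.mul x (nat_lit 2)) (Nat.sub l (nat_lit 15))), get (nat_lit 27) (nat_lit 0x118f842098e2048000902000000400004080000000000000)⟩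
def h_R1 : ℕ := (nat_lit 0x39f03000001020100000200000000022f0200000403010000030101000000040100000000000000010000000004)
noncomputable def h_L1 : Lv :=
  ⟨(nat_lit 10), (nat_lit 12), (nat_lit 2), (nat_lit 5), (nat_lit 0), get (nat_lit 12) (nat_lit 0xa01901801b01000),
    fun l x => get (nat_lit 40) h_R1 (Nat.add (Nat.mul x (nat_lit 2)) (Nat.sub l (nat_lit 10))), get (nat_lit 17) (nat_lit 0x340d410903810080800000000)⟩
noncomputable def h_L2 : Lv :=
  ⟨(nat_lit 6), (nat_lit 8), (nat_lit 1), (nat_lit 2), (nat_lit 0), get (nat_lit 11) (nat_lit 3672064),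
    fun l x => get (nat_lit 37) (nat_lit 0x2808000004008000004000000003102000000) (Nat.add (Nat.mul x (nat_lit 2)) (Nat.sub l (nat_lit 6))), get (nat_lit 23) (nat_lit 0xb27a1607142400000000000)⟩
def h_R3 : ℕ := (nat_lit 0x90100000100000000e010000020000000020100000000000000400000003)
noncomputable def h_L3 : Lv :=
  ⟨(nat_lit 4), (nat_lit 6), (nat_lit 3), (nat_lit 4), (nat_lit 0), get (nat_lit 11) (nat_lit 8807911000064),
    fun l x => get (nat_lit 34) h_R3 (Nat.add (Nat.mul x (nat_lit 2)) (Nat.sub l (nat_lit 4))), get (nat_lit 17) (nat_lit 0x89030080800000000)⟩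
noncomputable def h_L4 : Lv :=
  ⟨(nat_lit 2), (nat_lit 3), (nat_lit 4), (nat_lit 3), (nat_lit 0), get (nat_lit 10) (nat_lit 538182656),
    fun l x => get (nat_lit 2) (nat_lit 18) (Nat.add (Nat.mul x (nat_lit 1)) (Nat.sub l (nat_lit 2))), get (nat_lit 2) (nat_lit 8)⟩
noncomputable def h_lvs : List Lv := [h_L0, h_L1, h_L2, h_L3, h_L4]
theorem h_ok : homOK 24 5 6 3 30 5 [100818020033396229542632817619536945, 731227120630473083027339491805355458] [35540, 132777] 720 h_code h_lvs = true := by
  decide +kernel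

/-- In the group of the length-24 code, the joint stabiliser of two octads meeting in exactly two points is isomorphic to the symmetric group of degree 6. -/
theorem result (o o' : Finset Cfsg.GolayPt) (ho : o ∈ Cfsg.octads) (ho' : o' ∈ Cfsg.octads) (h₂ : (o ∩ o').card = 2) : Nonempty (↥(MulAction.stabilizer Cfsg.M24 o ⊓ MulAction.stabilizer Cfsg.M24 o') ≃* Equiv.Perm (Fin 6)) := by
  have h0 := mem_octads_of_isOct (m := 4845570) (by decide +kernel)
  have h1 : (G.toF 8536111 ∩ G.toF 4845570).card = 2 := by rw [card_inter_toF (by norm_num)]; decide +kernel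
  obtain ⟨g, rfl⟩ := exists_smul_octad oct0_mem ho
  obtain ⟨k, a, rfl⟩ := (cls_oct_oct ho).exists_smul ((smul_mem_octads g.2).2 h0) ho'
    ((card_smul_inter _ _ _).trans (h1.trans h₂.symm))
  refine ((cjSt (g := k * g) (a := G.toF 8536111) ((mul_smul _ _ _).trans a)).inf
    (cjSt (a := G.toF 4845570) (mul_smul _ _ _))).iso ?_
  exact nonempty_equiv_top' inj_pt faithful_M24 (inj_finPt 6) (faithful_finPt 6)
    ((memO.inf (Mem.set (by norm_num))).list (by decide +kernel)) (perm_list (by decide +kernel))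
    (card_inf_stabilizer_eq (a := 448) (by norm_num) ((cls_oct_oct oct0_mem).ncard_orbit h0 (by rw [h1]; simp))
      (card_stabilizer_octad oct0_mem)).le (card_perm_fin 6) h_ok
    (by decide +kernel : surOK _ _ _ 720 [177248, 103776, 178312, 84680, 117384]
    [0, 0, 14346, 260, 715849227, 4610, 2494236169]
    [(0, [0, 1], 6), (1, [2, 3], 5), (2, [4, 5], 4), (4, [4, 6], 3), (3, [6], 2)] = true)

end Cfsg.Agent.S5614
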