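import Cfsg.Statements.S5619
import Cfsg.Agent.Lib.Mathieu.Struct

set_option autoImplicit false
open scoped Pointwise
open Cfsg

namespace Cfsg.Agent.S5619

open Cfsg.Lib Cfsg.Lib.Golay Cfsg.Lib.Calc Cfsg.Lib.Grp Cfsg.Lib.Mathieu MulAction

set_option maxRecDepth 100000
set_option maxHeartbeats 400000

theorem cj9 {d : Finset GolayPt} (hd : d ∈ dodecads) {p q r : GolayPt} (hp : p ∈ d) (hq : q ∈ d) (hr : r ∈ d)
    (hpq : p ≠ q) (hpr : p ≠ r) (hqr : q ≠ r) : ∃ g : M24, (g : P24) • G.toF 340831 = d ∧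
      Cj g m9 (stabilizer M24 d ⊓ stabilizer M24 p ⊓ stabilizer M24 q ⊓ stabilizer M24 r) := by
  obtain ⟨g, h1, h2⟩ := exists_map_dodecad hd (l := [G.pt 0, G.pt 1, G.pt 2]) (l' := [p, q, r]) (by decide)
    (by simp [*]) rfl (by simp) (List.forall_mem_cons.2 ⟨pt_mem (by decide), List.forall_mem_cons.2
      ⟨pt_mem (by decide), List.forall_mem_singleton.2 (pt_mem (by decide))⟩⟩) (by simp [*])
  simp only [List.map_cons, List.cons.injEq] at h2
  exact ⟨g, h1, (((cjSt h1).inf (cjPt h2.1)).inf (cjPt h2.2.1)).inf (cjPt h2.2.2.1)⟩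

theorem mem9 : Mem m9 (tAnd (tAnd (tAnd (tSet 340831) (tPt 0)) (tPt 1)) (tPt 2)) :=
  (mem11.inf (Mem.pt (by norm_num))).inf (Mem.pt (by norm_num))

def h_C : ℕ := (nat_lit 0xf779fc6f5951cb3acaec73c868adb0b228348820c6f59e7fdda55773a26355a4673d242c22d60820ef3fece37abadd4290ec7d510b292d88e7230820ef3fece37a5da952c9467b868bc48c3c26968820d671bf779fa3ad78b4a652c83abd329b0e880820e7fddd671b545f3a0ec67160c3ada4ba6b240820d671bf779f756eb8a1f055984a4da628ce990820e7fddd671b89e65a496873d3055c66b32ad20820d671bf779f75576518ac3dd28a3e449b63018820f779fc6f598aa6fa22f2a96093ac8db31c618820ef3fece37abae957b6289ba44b1cd0524ac18820ce37affbbc2bd47b11c65c5929d209aa2ed18820deb38ef3fe2ccea5b1c9b448d7d506a42f218820e7fddd671b89df3ac2eda150655992591c918820c6f59e7fdd752cb3a4a455cd0acdac7ca2818820ffbbcdeb38bdab49ca307b9ac5a928398a418820)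
noncomputable def h_code : ℕ → ℕ := get (nat_lit 160) h_C
def h_R0 : ℕ := (nat_lit 0x100800004601000003c0200000a000000000000000008000000086020000040000000080000000370100000420200000fc0400000400000001800000007000000000c0400001800000002000000005)
def h_D0 : ℕ := (nat_lit 0x8359c070020005000150200013020000a0200009020000002000030200000000000000)
noncomputable def h_L0 : Lv :=
  ⟨(nat_lit 14), (nat_lit 16), (nat_lit 3), (nat_lit 9), (nat_lit 0), get (nat_lit 12) (nat_lit 0x901b01c01e01f01a01d01801000),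
    fun l x => get (nat_lit 35) h_R0 (Nat.add (Nat.mul x (nat_lit 2)) (Nat.sub l (nat_lit 14))), get (nat_lit 28) h_D0⟩
noncomputable def h_L1 : Lv :=
  ⟨(nat_lit 6), (nat_lit 8), (nat_lit 4), (nat_lit 8), (nat_lit 0), get (nat_lit 11) (nat_lit 0x603c0600d0140240700800),
    fun l x => get (nat_lit 3) (nat_lit 46693070428977) (Nat.add (Nat.mul x (nat_lit 2)) (Nat.sub l (nat_lit 6))), get (nat_lit 12) (nat_lit 0xc02b02102302302000000)⟩
noncomputable def h_lvs : List Lv := [h_L0, h_L1]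
theorem h_ok : homOK 24 5 8 3 32 5 [858502712789113075489201924125100064, 424698032726113400716592269113985056] [858613, 14053585] 72 h_code h_lvs = true := by
  decide +kernel

/-- numbering of the quaternion group -/
def qt (i : ℕ) : QuaternionGroup 2 := if i < 4 then .a i else .xa i

theorem ext : Ext m9 (⊤ : Subgroup (QuaternionGroup 2)) 9 3 := by
  have hi : Inj 8 qt := by unfold Inj; decide +kernel
  have hf : Faithful (QuaternionGroup 2) 8 qt := fun g h => mul_eq_right.1 (h 0 (by norm_num))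
  obtain ⟨f, -, a0, a, b, c, -⟩ := exists_hom_ker inj_pt faithful_M24 hi hf (mem9.list (by decide +kernel))
    (top_list (List.forall_mem_cons.2 ⟨⟨qt 5, Rep.of_tabOK (by decide +kernel) (by decide +kernel)⟩,
      List.forall_mem_singleton.2 ⟨qt 1, Rep.of_tabOK (by decide +kernel) (by decide +kernel)⟩⟩))
    card_m9.le h_ok (by decide +kernel : surOK _ _ _ 8 []
    [0, 0]
    [(0, [0, 1], 8)] = true)
    (mem9.list (l := [929000492124499343650182431580424224, 487607080158395075740321133224921120]) (by decide +kernel)) (xs := [6402, 26626]) (by decide +kernel)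
    (by decide +kernel : surOK _ _ _ 9 []
    [0, 0]
    [(3, [0, 1], 9)] = true)
  have h2 := Ext.of_ker faithful_M24 b c (p := 3) (by decide +kernel)
  rwa [a, Subgroup.eq_top_of_card_eq f.range (by rw [a0, Nat.card_eq_fintype_card, QuaternionGroup.card])] at h2

theorem main {K : Type*} [Group K] [Finite K] (h : Ext K (⊤ : Subgroup (QuaternionGroup 2)) 9 3) :
    (∀ Q : Sylow 3 K, (Q : Subgroup K).Normal ∧ Nat.card Q = 9 ∧ ∀ x ∈ (Q : Subgroup K), x ^ 3 = 1) ∧
      ∀ P : Sylow 2 K, Nonempty (P ≃* QuaternionGroup 2) := by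
  obtain ⟨f, h1, h2, h3⟩ := h
  have h4 := card_ker_mul f
  have h8 : Nat.card (QuaternionGroup 2) = 8 := by rw [Nat.card_eq_fintype_card, QuaternionGroup.card]
  rw [h1, h2, Subgroup.card_top, h8] at h4
  haveI : Fact (Nat.Prime 3) := ⟨by norm_num⟩
  refine ⟨fun Q => ?_, fun P => ?_⟩
  · have a : Nat.card Q = 9 := by rw [Q.card_eq_multiplicity, ← h4]; decide +kernel
    have b : f.ker = Q := Subgroup.eq_of_le_of_card_ge
      (IsPGroup.le_sylow_of_normal (IsPGroup.of_card (n := 2) h2) Q) (by rw [h2]; exact a.le)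
    exact ⟨b ▸ inferInstance, a, b ▸ h3⟩
  · have a : Nat.card P = 8 := by rw [P.card_eq_multiplicity, ← h4]; decide +kernel
    have b : Function.Injective (f.comp (P : Subgroup K).subtype) := (injective_iff_map_eq_one _).2 fun x hx => by
      have c : x ^ 8 = 1 := by rw [← a]; exact pow_card_eq_one'
      have d : x ^ 3 = 1 := Subtype.ext (h3 x hx)
      rw [← pow_one x, ← show Nat.gcd 8 3 = 1 by norm_num, pow_gcd_eq_one]
      exact ⟨c, d⟩
    exact ⟨MulEquiv.ofBijective _ (b.bijective_of_nat_card_le (h8.trans a.symm).le)⟩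

/-- In the group of the length-24 code, the subgroup fixing a dodecad setwise and three of its points individually (a group of order 72) has a normal Sylow 3-subgroup that is elementary abelian of order 9, and its Sylow 2-subgroups are quaternion of order 8. -/
theorem result (d : Finset Cfsg.GolayPt) (hd : d ∈ Cfsg.dodecads) (p q r : Cfsg.GolayPt) (hp : p ∈ d) (hq : q ∈ d) (hr : r ∈ d) (hpq : p ≠ q) (hpr : p ≠ r) (hqr : q ≠ r) : (∀ Q : Sylow 3 ↥(MulAction.stabilizer Cfsg.M24 d ⊓ MulAction.stabilizer Cfsg.M24 p ⊓ MulAction.stabilizer Cfsg.M24 q ⊓ MulAction.stabilizer Cfsg.M24 r), (Q : Subgroup ↥(MulAction.stabilizer Cfsg.M24 d ⊓ MulAction.stabilizer Cfsg.M24 p ⊓ MulAction.stabilizer Cfsg.M24 q ⊓ MulAction.stabilizer Cfsg.M24 r)).Normal ∧ Nat.card ↥Q = 9 ∧ ∀ x ∈ (Q : Subgroup ↥(MulAction.stabilizer Cfsg.M24 d ⊓ MulAction.stabilizer Cfsg.M24 p ⊓ MulAction.stabilizer Cfsg.M24 q ⊓ MulAction.stabilizer Cfsg.M24 r)), x ^ 3 = 1) ∧ ∀ P : Sylow 2 ↥(MulAction.stabilizer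 Cfsg.M24 d ⊓ MulAction.stabilizer Cfsg.M24 p ⊓ MulAction.stabilizer Cfsg.M24 q ⊓ MulAction.stabilizer Cfsg.M24 r), Nonempty (↥P ≃* QuaternionGroup 2) := by
  obtain ⟨g, -, h⟩ := cj9 hd hp hq hr hpq hpr hqr
  exact main (ext.congr h.equiv)

end Cfsg.Agent.S5619
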