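import Cfsg.Statements.S5629
import Cfsg.Agent.Lib.J4T.ModEx

set_option autoImplicit false
open Cfsg

namespace Cfsg.Agent.S5629

open Cfsg.Lib.J4T Cfsg.Lib.J4 Cfsg.Lib.Big Subgroup

/-- Let G be a finite non-abelian simple group of Janko-four type (an involution z whose centralizer H has an extraspecial largest normal 2-subgroup E of order 2^13 containing its centralizer in H, a normal subgroup N ≥ E of H with N/E of order 3 and H/N the automorphism group of M₂₂, and a subgroup P ≤ N of order 3 with C_E(P) = ⟨z⟩, N_H(P) ≠ C_H(P) and P ≤ C_H(P)′), and let V be an elementary abelian subgroup of G of order 2^11. Then the normalizer of V has index 173067389 in G, and in the action of G on the cosets of this normalizer the normalizer itself has exactly seven orbits, of sizes 1, 15180, 28336, 3400320, 32643072, 54405120 and 82575360 (a rank-7 permutation representation). -/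
theorem result {G : Type*} [Group G] [Finite G] [IsSimpleGroup G] (hG : ¬ IsMulCommutative G) (z : G) (hJ : Cfsg.IsOfJankoFourTypeAt z) (V : Subgroup G) (hV : Cfsg.IsElementaryAbelian 2 V) (hcard : Nat.card ↥V = 2 ^ 11) : (Subgroup.normalizer (V : Set G)).index = 173067389 ∧ ∃ c : Fin 7 → G ⧸ Subgroup.normalizer (V : Set G), (∀ i j : Fin 7, i ≠ j → MulAction.orbit ↥(Subgroup.normalizer (V : Set G)) (c i) ≠ MulAction.orbit ↥(Subgroup.normalizer (V : Set G)) (c j)) ∧ (∀ q : G ⧸ Subgroup.normalizer (V : Set G), ∃ i : Fin 7, q ∈ MulAction.orbit ↥(Subgroup.normalizer (V : Set G)) (c i)) ∧ (List.ofFn fun i => (MulAction.orbit ↥(Subgroup.normalizer (V : Set G)) (c i)).ncard) = [1, 15180, 28336, 3400320, 32643072, 54405120, 82575360] := by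
  obtain ⟨J, rfl⟩ := exists_mod_at hJ
  obtain ⟨g, rfl⟩ := J.conj_V J.hH hV hcard
  obtain ⟨K, hK⟩ : ∃ K : Lib.J4T.Mod G, K.ι.range = normalizer ((J.V.map (MulAut.conj g).toMonoidHom : Subgroup G) : Set G) :=
    ⟨J.map (MulAut.conj g), by
      rw [Lib.J4T.Mod.range_ι, Lib.J4T.Mod.hM]
      congr 2
      ext x
      exact (J.mem_V_map _).trans (mem_map_equiv (f := MulAut.conj g)).symm⟩
  have h := K.sol.exact K.card.symm.dvd
  rw [← hK]
  have k : ∀ i : Fin 7, (MulAction.orbit K.ι.range ((rep K.δ K.ι i : G) : G ⧸ K.ι.range)).ncard = len i :=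
    fun i => h.2 i i.2
  refine ⟨h.1, fun i => (rep K.δ K.ι i : G), fun i j hij e => hij ?_, fun q => ?_, by simp only [k]; rfl⟩
  · exact (by decide : ∀ i j : Fin 7, len i = len j → i = j) i j ((k i).symm.trans ((congrArg _ e).trans (k j)))
  · obtain ⟨i, hi, e⟩ := K.sol.full.exists_orb q
    exact ⟨⟨i, hi⟩, e⟩

end Cfsg.Agent.S5629
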