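import Cfsg.Statements.S5713
import Cfsg.Agent.Lib.Perm.Sym2
import Cfsg.Agent.Lib.Perm.Prim
import Cfsg.Agent.S3681

set_option autoImplicit false
open Cfsg

namespace Cfsg.Agent.S5713

open Cfsg.Lib Cfsg.Lib.Perm Equiv Equiv.Perm Subgroup MulAction Finset

variable {G Ω : Type*} [Group G] [MulAction G Ω]

theorem edge_out [Finite G] [IsPreprimitive G Ω] {a b p q : Ω} (hab : a ≠ b) {P : Ω → Prop} (hp : P p)
    (hq : ¬ P q) : ∃ u : G, P (u • a) ∧ ¬ P (u • b) := by
  by_contra! h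
  let M : Submonoid G :=
    { carrier := {v | ∀ u : G, P (u • a) → P ((u * v) • a)}
      one_mem' := fun u hu => by rwa [mul_one]
      mul_mem' := fun hv hw u hu => mul_assoc u _ _ ▸ hw _ (hv u hu) }
  let M' : Subgroup G := { M with
    inv_mem' := fun {v} hv => Submonoid.powers_le.2 hv (mem_powers_iff_mem_zpowers.2 (inv_mem (mem_zpowers v))) }
  obtain ⟨t, ht⟩ := exists_smul_eq G a b
  have := (isCoatom_stabilizer (G := G) hab).2 M' ⟨fun v hv u hu => by rwa [mul_smul, hv], fun e =>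
    hab ((e (show t ∈ M' from fun u hu => by rw [mul_smul, ht]; exact h u hu)).symm.trans ht)⟩
  obtain ⟨u, rfl⟩ := exists_smul_eq G a p
  obtain ⟨v, rfl⟩ := exists_smul_eq G a q
  exact hq (by simpa using this.ge (mem_top (u⁻¹ * v)) u hp)

variable [Fintype Ω] (G)

open Classical in
noncomputable def psi (a b : Ω) : Finset Ω := univ.filter fun x => ¬ ∃ u : G, u • a = b ∧ u • x = x

open Classical in
noncomputable def co (a b y : Ω) : Finset Ω := univ.filter fun z => ¬ ∃ u : G, u • a = y ∧ u • b = z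

variable {G}

theorem mem_psi {a b x : Ω} : x ∈ psi G a b ↔ ¬ ∃ u : G, u • a = b ∧ u • x = x := by simp [psi]

theorem mem_co {a b y z : Ω} : z ∈ co G a b y ↔ ¬ ∃ u : G, u • a = y ∧ u • b = z := by simp [co]

theorem psi_smul (u : G) (a b : Ω) : #(psi G (u • a) (u • b)) ≤ #(psi G a b) :=
  card_le_card_of_injOn (u⁻¹ • ·) (fun x hx => mem_psi.2 fun ⟨v, h1, h2⟩ => mem_psi.1 hx
    ⟨u * v * u⁻¹, by simp [mul_smul, h1], by simp [mul_smul, h2]⟩) (MulAction.injective _).injOn

theorem co_le [IsPretransitive G Ω] (a b y : Ω) : #(co G a b y) ≤ #(co G a b a) := by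
  obtain ⟨u, rfl⟩ := exists_smul_eq G a y
  exact card_le_card_of_injOn (u⁻¹ • ·) (fun x hx => mem_co.2 fun ⟨v, h1, h2⟩ => mem_co.1 hx
    ⟨u * v, by simp [mul_smul, h1], by simp [mul_smul, h2]⟩) (MulAction.injective _).injOn

theorem psi_comm (a b : Ω) : #(psi G a b) ≤ #(psi G b a) :=
  card_le_card fun _ hx => mem_psi.2 fun ⟨v, h1, h2⟩ => mem_psi.1 hx
    ⟨v⁻¹, inv_smul_eq_iff.2 h1.symm, inv_smul_eq_iff.2 h2.symm⟩

theorem psi_tri (a b c : Ω) : #(psi G a c) ≤ #(psi G a b) + #(psi G b c) := by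
  classical
  refine (card_le_card fun x hx => ?_).trans (card_union_le _ _)
  by_contra h
  simp only [mem_union, mem_psi, not_or, not_not] at h
  obtain ⟨⟨u, h1, h2⟩, v, h3, h4⟩ := h
  exact mem_psi.1 hx ⟨v * u, by rw [mul_smul, h1, h3], by rw [mul_smul, h2, h4]⟩

theorem babai [Finite G] [IsPreprimitive G Ω] {a b : Ω} (hab : a ≠ b) {m : ℕ} (hm : #(psi G a b) ≤ m) :
    Fintype.card Ω ≤ (2 * m + 1) ^ 2 ∨ ∀ y z : Ω, y ≠ a → z ≠ a → ∃ u : G, u • a = a ∧ u • y = z := by
  classical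
  have hm' : ∀ u : G, #(psi G (u • a) (u • b)) ≤ m := fun u => (psi_smul u a b).trans hm
  by_cases h : ∀ c, #(psi G a c) ≤ 2 * m
  · obtain ⟨x, hx⟩ : ∃ x, #(co G x a x) ≤ 2 * m := by
      by_contra! hc
      have := card_mul_le_card_mul (s := univ) (t := univ) (m := 2 * m + 1) (n := 2 * m)
        (fun x c => x ∈ psi G a c) (fun x _ => (hc x).trans_le (card_le_card fun c h => by
          simpa [mem_co, mem_psi, and_comm] using h)) fun c _ =>
          (card_le_card fun x h => by simpa using h).trans (h c)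
      have h0 : 0 < #(univ : Finset Ω) := card_pos.2 ⟨a, mem_univ a⟩
      nlinarith
    by_cases h2 : ∃ z, z ≠ x ∧ z ∈ co G x a x
    · obtain ⟨z, hz, hz'⟩ := h2
      obtain ⟨u, h1, h2⟩ := edge_out (G := G) hz.symm (P := (· ∈ co G x a x)) hz'
        (q := a) fun e => mem_co.1 e ⟨1, one_smul _ _, one_smul _ _⟩
      have h3 : (co G x a x)ᶜ ⊆ (co G x a x).biUnion (co G x a) := fun d hd => by
        simp only [mem_compl, mem_co, not_not] at hd h2
        obtain ⟨v, v1, rfl⟩ := hd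
        obtain ⟨w, w1, w2⟩ := h2
        have w1' : w⁻¹ • x = x := inv_smul_eq_iff.2 w1.symm
        refine mem_biUnion.2 ⟨(v * w⁻¹ * u) • x, mem_co.2 fun ⟨t, t1, t2⟩ => mem_co.1 h1
          ⟨w * v⁻¹ * t, ?_, by simp [mul_smul, t2]⟩, mem_co.2 fun ⟨t, t1, t2⟩ => mem_co.1 hz'
          ⟨u⁻¹ * w * v⁻¹ * t, by simp [mul_smul, t1], by simp [mul_smul, t2, w2]⟩⟩
        rw [mul_smul, mul_smul, t1, inv_smul_eq_iff.2 v1.symm, w1]
      have h4 := (card_le_card h3).trans (card_biUnion_le_card_mul _ _ _ fun y _ => co_le x a y)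
      have := card_compl_add_card (co G x a x)
      exact .inl (by nlinarith)
    · simp only [not_exists (p := fun z => z ≠ x ∧ _), not_and (a := _ ≠ x), mem_co, not_not] at h2
      obtain ⟨t, rfl⟩ := exists_smul_eq G a x
      refine .inr fun y z hy hz => ?_
      obtain ⟨u, u1, u2⟩ := h2 (t • y) ((MulAction.injective t).ne hy)
      obtain ⟨v, v1, v2⟩ := h2 (t • z) ((MulAction.injective t).ne hz)
      exact ⟨t⁻¹ * v * u⁻¹ * t, by simp [mul_smul, inv_smul_eq_iff.2 u1.symm, v1],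
        by simp [mul_smul, ← u2, v2]⟩
  left
  obtain ⟨c, hc⟩ := not_forall.1 h
  obtain ⟨u, h1, h2⟩ := edge_out (G := G) hab (P := fun c => #(psi G a c) ≤ 2 * m) (p := a)
    (by rw [card_eq_zero.2 (eq_empty_of_forall_notMem fun x hx => mem_psi.1 hx ⟨1, by simp⟩)]; simp) hc
  have h3 : (co G a b a)ᶜ ⊆ psi G a (u • b) := fun x hx => mem_psi.2 fun ⟨v, v1, v2⟩ => h2 (by
    simp only [mem_compl, mem_co, not_not] at hx
    obtain ⟨w, w1, rfl⟩ := hx
    have e1 := hm' w
    have e2 := hm' (v * w)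
    rw [mul_smul, mul_smul, w1, v1, v2] at e2
    rw [w1] at e1
    have := psi_tri (G := G) a (w • b) (u • b)
    have := psi_comm (G := G) (w • b) (u • b)
    omega)
  have h4 : univ ⊆ (co G a b a)ᶜ.biUnion (psi G a) := fun x _ => by
    obtain ⟨q, hq⟩ : ∃ q, ¬ ∃ u : G, u • a = q ∧ u • x = x := by
      by_cases e : a = x
      · exact ⟨b, fun ⟨u, h1, h2⟩ => hab (by rw [← h1, e, h2])⟩
      · exact ⟨x, fun ⟨u, h1, h2⟩ => e (MulAction.injective u (h1.trans h2.symm))⟩
    obtain ⟨v, ⟨w, w1, w2⟩, v2⟩ := edge_out (G := G) hab (P := fun q => ∃ u : G, u • a = q ∧ u • x = x)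
      (p := a) ⟨1, by simp⟩ hq
    exact mem_biUnion.2 ⟨(w⁻¹ * v) • b, mem_compl.2 fun e => mem_co.1 e ⟨w⁻¹ * v, by simp [mul_smul, ← w1], rfl⟩,
      mem_psi.2 fun ⟨t, t1, t2⟩ => v2 ⟨w * t, by simp [mul_smul, t1], by rw [mul_smul, t2, w2]⟩⟩
  have h5 := (card_le_card h4).trans (card_biUnion_le_card_mul _ _ m fun y hy => by
    simp only [mem_compl, mem_co, not_not] at hy
    obtain ⟨w, w1, rfl⟩ := hy
    simpa [w1] using hm' w)
  have h6 := card_le_card h3
  have := psi_tri (G := G) a (u • a) (u • b)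
  have := hm' u
  rw [card_univ] at h5
  nlinarith

/-- A classification-free minimal-degree bound. Let G be a finite group acting faithfully and primitively on a finite set Ω with n elements, and suppose that the image of G in the symmetric group on Ω does not contain the alternating group on Ω. Then every non-identity element of G moves at least (√n − 1)/2 points of Ω, that is, it fixes at most n − (√n − 1)/2 points. -/
theorem result {G Ω : Type*} [Group G] [Finite G] [MulAction G Ω] [FaithfulSMul G Ω] [Fintype Ω] [DecidableEq Ω]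
    (hprim : MulAction.IsPreprimitive G Ω)
    (hA : ¬ alternatingGroup Ω ≤ (MulAction.toPermHom G Ω).range)
    (g : G) (hg : g ≠ 1) :
    (Real.sqrt (Fintype.card Ω) - 1) / 2 ≤ (Fintype.card Ω : ℝ) - Nat.card (MulAction.fixedBy Ω g) := by
  classical
  obtain ⟨a, ha⟩ := exists_smul_ne (α := Ω) hg
  set S := (toPerm g : Perm Ω).support
  have hS : ∀ x, x ∈ S ↔ g • x ≠ x := fun x => mem_support
  have e1 : (Fintype.card Ω : ℝ) - Nat.card (fixedBy Ω g) = #S := by
    rw [← card_compl_add_card S, ← Nat.card_eq_finsetCard,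
      Nat.card_congr (Equiv.subtypeEquivRight (q := (· ∈ fixedBy Ω g)) (by simp [hS]))]
    rw [Nat.cast_add, add_sub_cancel_left]
  rw [e1, div_le_iff₀ two_pos, sub_le_iff_le_add, Real.sqrt_le_left (by positivity), mul_comm]
  norm_cast
  refine (babai (G := G) ha.symm (card_le_card fun x hx => (hS x).2 fun e => mem_psi.1 hx ⟨g, rfl, e⟩)).elim id
    fun h => ?_
  have := Fintype.ofFinite (stabilizer G a)
  have h1 : univ ⊆ (S.erase a ×ˢ S.erase a).biUnion
      fun st => univ.filter fun u : stabilizer G a => u • st.1 = st.2 := fun u _ => by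
    by_contra hu
    have hu1 : u.1⁻¹ • a = a := inv_smul_eq_iff.2 u.2.symm
    refine hA (alternatingGroup_le_of_isPreprimitive_of_isThreeCycle_mem (S3681.isPreprimitive_range hprim)
      (isThreeCycle_commutator (g := toPerm g) (h := toPerm (u * g * u.1⁻¹)) ha (fun e => ha ?_) fun x hx => ?_)
      ⟨g * (u * g * u.1⁻¹) * g⁻¹ * (u * g * u.1⁻¹)⁻¹, by rw [map_mul, map_mul, map_mul, map_inv, map_inv]; rfl⟩)
    · rwa [toPerm_apply, mul_smul, mul_smul, hu1, ← eq_inv_smul_iff, hu1] at e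
    · by_contra! h
      refine hu (mem_biUnion.2 ⟨(u.1⁻¹ • x, x), mem_product.2 ⟨mem_erase.2 ⟨fun e => hx ?_, (hS _).2 fun e => h.2 ?_⟩,
        mem_erase.2 ⟨hx, (hS _).2 h.1⟩⟩, mem_filter.2 ⟨mem_univ _, smul_inv_smul u.1 x⟩⟩)
      · exact (inv_smul_eq_iff.1 e).trans u.2
      · rw [toPerm_apply, mul_smul, mul_smul, e, smul_inv_smul]
  have h2 : ∀ st ∈ S.erase a ×ˢ S.erase a, (Fintype.card Ω - 1) *
      #(univ.filter fun u : stabilizer G a => u • st.1 = st.2) ≤ Nat.card (stabilizer G a) := by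
    rintro ⟨s, t⟩ hst
    obtain ⟨hs, ht⟩ := mem_product.1 hst
    rw [← ncard_orbit_mul s]
    obtain ⟨v, v1, v2⟩ := h _ _ (mem_erase.1 ht).1 (mem_erase.1 hs).1
    refine Nat.mul_le_mul ?_ ?_
    · rw [← card_univ, ← card_erase_of_mem (mem_univ a), ← Set.ncard_coe_finset]
      refine Set.ncard_le_ncard fun y hy => ?_
      obtain ⟨w, w1, w2⟩ := h _ _ (mem_erase.1 hs).1 (mem_erase.1 hy).1
      exact ⟨⟨w, w1⟩, w2⟩
    · rw [← Nat.card_eq_finsetCard]
      refine Nat.card_le_card_of_injective (fun u => ⟨⟨v, v1⟩ * u.1, ?_⟩) fun u u' e =>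
        Subtype.ext (mul_left_cancel (congrArg Subtype.val e))
      rw [mem_stabilizer_iff, mul_smul, (mem_filter.1 u.2).2]
      exact v2
  have h3 := Nat.mul_le_mul_left (Fintype.card Ω - 1) ((card_le_card h1).trans card_biUnion_le)
  rw [mul_sum, card_univ, ← Nat.card_eq_fintype_card (α := stabilizer G a)] at h3
  have h4 := Nat.le_of_mul_le_mul_right (h3.trans (sum_le_card_nsmul _ _ _ h2)) Nat.card_pos
  have := card_erase_le (s := S) (a := a)
  rw [card_product, tsub_le_iff_right] at h4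
  nlinarith

end Cfsg.Agent.S5713
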