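import Cfsg.Statements.S5726
import Cfsg.Agent.Lib.Perm.Module
import Cfsg.Agent.Lib.Core.MinNormal

set_option autoImplicit false
open Cfsg

namespace Cfsg.Agent.S5726

open Cfsg.Lib.Perm MulAction Subgroup

/-- If a finite group acts faithfully and transitively on a set with p^k elements, p a prime and k ≥ 1, then some element of order p fixes no point. -/
theorem result {G Ω : Type*} [Group G] [Finite G] [MulAction G Ω] [FaithfulSMul G Ω] [Fintype Ω] (htr : MulAction.IsPretransitive G Ω)
    (p k : ℕ) (hp : p.Prime) (hk : 1 ≤ k) (hΩ : Fintype.card Ω = p ^ k) :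
    ∃ g : G, orderOf g = p ∧ ∀ ω : Ω, g • ω ≠ ω := by
  have := Fact.mk hp
  have := Nat.card_eq_fintype_card (α := Ω) ▸ hΩ
  obtain ⟨P⟩ : Nonempty (Sylow p G) := inferInstance
  have ht := sylow_isPretransitive this P
  have hnt : Nontrivial Ω := Fintype.one_lt_card_iff_nontrivial.1
    (hΩ ▸ Nat.one_lt_pow (by omega) hp.one_lt)
  have : Nontrivial P := by
    by_contra h
    rw [not_nontrivial_iff_subsingleton] at h
    obtain ⟨a, b, hab⟩ := exists_pair_ne Ω
    obtain ⟨g, rfl⟩ := ht.exists_smul_eq a b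
    exact hab (by rw [Subsingleton.elim g 1, one_smul])
  have hc := P.isPGroup'.center_nontrivial
  obtain ⟨z, hz, hzp⟩ := Lib.Core.exists_mem_orderOf_eq_prime (H := center P) hp
    ((P.isPGroup'.to_subgroup _).card_eq_or_dvd.resolve_left Finite.one_lt_card.ne')
  refine ⟨z, by rw [orderOf_coe, hzp], fun ω h => ?_⟩
  have := eq_one_of_centralizes ht (c := z)
    (fun m hm => congrArg Subtype.val (mem_center_iff.1 hz ⟨m, hm⟩)) h
  rw [← orderOf_coe, this, orderOf_one] at hzp
  exact hp.one_lt.ne hzp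

end Cfsg.Agent.S5726
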