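import Cfsg.Statements.S5727
import Cfsg.Agent.Lib.Perm.Witt
import Cfsg.Agent.Lib.Perm.Frob
import Cfsg.Agent.Lib.Perm.PrimeDegree
import Cfsg.Agent.S5726

set_option autoImplicit false
open Cfsg

namespace Cfsg.Agent.S5727

open Cfsg.Lib.Perm MulAction Subgroup

/-- If a finite group acts faithfully and transitively on a set with m·p elements, where p is a prime and 1 ≤ m ≤ p, then some element of order p fixes no point. -/
theorem result {G Ω : Type*} [Group G] [Finite G] [MulAction G Ω] [FaithfulSMul G Ω] [Fintype Ω] (htr : MulAction.IsPretransitive G Ω)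
    (p m : ℕ) (hp : p.Prime) (hm : 1 ≤ m) (hmp : m ≤ p) (hΩ : Fintype.card Ω = m * p) :
    ∃ g : G, orderOf g = p ∧ ∀ ω : Ω, g • ω ≠ ω := by
  rcases hmp.eq_or_lt with rfl | hlt
  · exact S5726.result htr m 2 hp (by norm_num) (by rw [hΩ, sq])
  classical
  have := Fact.mk hp
  rw [← Nat.card_eq_fintype_card] at hΩ
  have hpos : 0 < Nat.card Ω := hΩ ▸ Nat.mul_pos hm hp.pos
  obtain ⟨P⟩ : Nonempty (Sylow p G) := inferInstance
  have := Fintype.ofFinite P
  have horb : ∀ a : Ω, p ≤ Nat.card (orbit P a) := by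
    intro a
    obtain ⟨k, hk⟩ := P.isPGroup'.card_orbit a
    rcases k with _ | k
    · exfalso
      have h1 : (P : Subgroup G) ≤ stabilizer G a := fun g hg =>
        subsingleton_orbit_iff_mem_fixedPoints.1 (Set.subsingleton_coe _ |>.1
          (Nat.card_eq_one_iff_unique.1 hk).1) ⟨g, hg⟩
      refine P.not_dvd_index ((dvd_mul_left p m).trans ?_)
      rw [← hΩ, ← index_stabilizer_of_transitive G a]
      exact index_dvd_of_le h1
    · exact hk ▸ Nat.le_self_pow k.succ_ne_zero p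
  have h1 : Nat.card (orbitRel.Quotient P Ω) * p ≤ m * p := by
    have := Fintype.ofFinite (orbitRel.Quotient P Ω)
    rw [← hΩ, Nat.card_congr (selfEquivSigmaOrbits P Ω), Nat.card_sigma,
      Nat.card_eq_fintype_card, ← smul_eq_mul, ← Finset.card_univ]
    exact Finset.card_nsmul_le_sum _ _ _ fun q _ => horb _
  obtain ⟨g, hg⟩ : ∃ g : P, ∀ ω : Ω, g • ω ≠ ω := by
    by_contra h
    push Not at h
    have h2 : Fintype.card P * p ≤ ∑ g : P, Nat.card (fixedBy Ω g) := by
      rw [← smul_eq_mul, ← Finset.card_univ]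
      refine Finset.card_nsmul_le_sum _ _ _ fun g _ => ?_
      obtain ⟨k, hk⟩ := P.isPGroup' g
      obtain ⟨ω, hω⟩ := h g
      exact Nat.le_of_dvd (Nat.card_pos_iff.2 ⟨⟨⟨ω, hω⟩⟩, inferInstance⟩)
        (((card_modEq_fixedBy hk).dvd_iff dvd_rfl).1 (hΩ ▸ dvd_mul_left p m))
    rw [sum_card_fixedBy, ← Nat.card_eq_fintype_card, mul_comm] at h2
    have h3 := Nat.le_of_mul_le_mul_right h2 Nat.card_pos
    have h4 := Nat.le_of_mul_le_mul_right h1 hp.pos
    omega
  refine ⟨g, orderOf_eq_prime (eq_one_of_forall_smul (α := Ω) fun a => ?_) fun h => ?_, hg⟩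
  · obtain ⟨k, hk⟩ := P.isPGroup' g
    obtain ⟨i, -, hi⟩ := (Nat.dvd_prime_pow hp).1 ((period_dvd_orderOf (g : G) a).trans
      (orderOf_dvd_of_pow_eq_one (congrArg Subtype.val hk)))
    rw [pow_smul_eq_iff_period_dvd, hi]
    have h2 : period (g : G) a ≤ Nat.card Ω := by
      rw [period_eq_minimalPeriod, Nat.card_eq_fintype_card]
      exact Function.minimalPeriod_le_card
    have h3 : i < 2 := (Nat.pow_lt_pow_iff_right hp.one_lt).1 (by
      rw [← hi, sq]; exact h2.trans_lt (hΩ ▸ Nat.mul_lt_mul_of_pos_right hlt hp.pos))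
    simpa using pow_dvd_pow p (Nat.lt_succ_iff.1 h3)
  · obtain ⟨a⟩ := (Nat.card_pos_iff.1 hpos).1
    exact hg a (by change (g : G) • a = a; rw [h, one_smul])

end Cfsg.Agent.S5727
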