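import Cfsg.Statements.S5728
import Cfsg.Agent.Lib.Perm.Basic

set_option autoImplicit false
open Cfsg

namespace Cfsg.Agent.S5728

/-- An elusive transitive action. Let p = 2^s − 1 be a prime and let F be the field with p² elements. Inside the group of affine maps x ↦ a·x + b of F (a ≠ 0), consider the subgroup of maps with both coefficients in the prime field. Then every element of prime order of the affine group is conjugate, within the affine group, to an element of that subgroup; equivalently, in the transitive action of the affine group on the cosets of that subgroup (of degree p(p + 1)) every element of prime order fixes a point. -/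
theorem result (p s : ℕ) [Fact p.Prime] (hs : p = 2 ^ s - 1)
    (g : Equiv.Perm (GaloisField p 2)) (hg : g ∈ Cfsg.affineGroup (GaloisField p 2)) (hord : (orderOf g).Prime) :
    ∃ x ∈ Cfsg.affineGroup (GaloisField p 2), ∃ a b : ZMod p, a ≠ 0 ∧
      ∀ y : GaloisField p 2, (x * g * x⁻¹) y = algebraMap (ZMod p) (GaloisField p 2) a * y + algebraMap (ZMod p) (GaloisField p 2) b := by
  obtain ⟨a, b, h⟩ := hg
  have hp : p.Prime := Fact.out
  by_cases ha : a = 1
  · have hb : b ≠ 0 := by
      rintro rfl
      rw [show g = 1 from Equiv.ext (by simpa [ha] using h), orderOf_one] at hord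
      exact Nat.not_prime_one hord
    refine ⟨Equiv.mulLeft₀ b⁻¹ (inv_ne_zero hb), ⟨Units.mk0 _ (inv_ne_zero hb), 0, by simp⟩, 1, 1, one_ne_zero,
      fun y => ?_⟩
    simp [h, ha, mul_add, hb]
  have h1 : (a : GaloisField p 2) - 1 ≠ 0 := sub_ne_zero.2 fun e => ha (Units.ext e)
  let x := Equiv.addRight (b / (a - 1))
  have h2 : ∀ y, (x * g * x⁻¹) y = a * y := fun y => by
    simp [x, h]; field_simp; ring
  have h3 : ∀ n y, ((x * g * x⁻¹) ^ n) y = a ^ n * y := fun n => by
    induction n with
    | zero => simp
    | succ n ih => exact fun y => by rw [pow_succ', Equiv.Perm.mul_apply, ih, h2, pow_succ', mul_assoc]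
  have h4 : orderOf a = orderOf g := by
    have := Fact.mk hord
    refine orderOf_eq_prime (Units.ext ?_) ha
    simpa [conj_pow] using (h3 (orderOf g) 1).symm
  have h5 : orderOf a ∣ (p + 1) * (p - 1) := by
    have := orderOf_dvd_natCard a
    rwa [Nat.card_units, GaloisField.card _ _ two_ne_zero, ← one_pow 2, Nat.sq_sub_sq] at this
  have hs1 : p + 1 = 2 ^ s := by have := Nat.one_le_two_pow (n := s); omega
  have h6 : orderOf a ∣ p - 1 := ((h4 ▸ hord).dvd_mul.1 h5).elim (fun e => by
    rw [hs1] at e
    have h7 := (Nat.prime_dvd_prime_iff_eq (h4 ▸ hord) Nat.prime_two).1 ((h4 ▸ hord).dvd_of_dvd_pow e)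
    obtain _ | s := s
    · exact absurd hp.pos (by omega)
    · rw [h7]; omega) id
  have h7 : (a : GaloisField p 2) ^ p = a := by
    rw [← mul_pow_sub_one hp.ne_zero, ← Units.val_pow_eq_pow_val, orderOf_dvd_iff_pow_eq_one.1 h6]
    simp
  obtain ⟨c, hc⟩ : (a : GaloisField p 2) ∈ (algebraMap (ZMod p) (GaloisField p 2)).range := by
    rw [← Subfield.mem_bot_iff_pow_eq_self, ← ZMod.fieldRange_castHom_eq_bot p] at h7
    exact h7.imp fun c hc => (DFunLike.congr_fun (Subsingleton.elim _ _) c).trans hc
  exact ⟨x, ⟨1, b / (a - 1), fun y => by simp [x]⟩, c, 0, by rintro rfl; exact a.ne_zero (by simpa using hc.symm),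
    fun y => by simp [h2, hc]⟩

end Cfsg.Agent.S5728
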