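import Cfsg.Statements.S5740
import Cfsg.Agent.Lib.E6T.CovE6

set_option autoImplicit false
open Cfsg

namespace Cfsg.Agent.S5740

open Cfsg.Lib.E6T Cfsg.Lib.Chev Cfsg.Lib.Alg Subgroup

theorem of_isConj {Q : Type*} [Group Q] {x y : Q} (e : IsConj x y)
    (h : ¬ IsCoatom (normalizer (zpowers y : Set Q))) : ¬ IsCoatom (normalizer (zpowers x : Set Q)) := by
  obtain ⟨g, rfl⟩ := isConj_iff.1 e
  exact fun h1 => h (by simpa using isCoatom_conj g h1)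

theorem of_prime {Q : Type*} [Group Q] [Finite Q] {p : ℕ} (hp : p.Prime) (h2 : ¬ p ^ 2 ∣ Nat.card Q)
    {x : Q} (hx : orderOf x = p) (h : ¬ IsCoatom (normalizer (zpowers x : Set Q))) {P : Subgroup Q}
    (hP : IsPGroup p P) (hP1 : P ≠ ⊥) : ¬ IsCoatom (normalizer (P : Set Q)) := fun h1 => by
  obtain ⟨g, hg⟩ := exists_conj_le hp (S := zpowers x) (n := 1) (by simp [hx]) h2 hP
  have h3 := card_dvd_of_le hg
  rw [Nat.card_zpowers, hx, Nat.dvd_prime hp] at h3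
  rw [← eq_of_le_of_card_ge hg (by
    rw [Nat.card_zpowers, hx, h3.resolve_left fun e => hP1 ((map_eq_bot_iff_of_injective _
      (MulAut.conj g).injective).1 (card_eq_one.1 e))])] at h
  exact h (isCoatom_conj g h1)

/-- Words that conjugate the elements of order seven to standard ones. -/
def tab : List (List (List (Fin 6))) :=
  [[[], [0, 3, 1, 2, 0, 3, 4, 3, 1, 2, 0, 5], [2, 4, 3, 1, 2, 0, 3, 4, 5, 4, 3, 1, 2, 0], [0, 2, 0, 3, 1, 4, 5, 4, 3, 1, 2, 0, 3, 4, 5], [0, 2, 0, 3, 1, 2, 5, 4, 3, 1, 2, 0, 3, 2, 4, 5], [2, 3, 4, 3, 1, 2, 3, 4, 5, 4, 3, 2, 0], [0, 3, 1, 2, 3, 4, 3, 2, 0, 5, 4]],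
   [[3, 2, 0, 4, 3, 1, 2, 3, 4], [3, 1, 2, 0, 4], [0, 3, 1, 2, 0, 3, 2, 4, 3, 2, 0, 5, 4, 3, 2], [0, 3, 1, 2, 0, 3, 2, 4, 3, 1, 2], [0, 2, 0, 3, 1, 2, 5, 4, 3, 1, 2, 0, 3, 2, 4, 3, 1, 5], [2, 3, 4, 3, 1, 2, 3, 4, 5, 4, 3, 1, 2, 0, 3], [0, 2, 0, 3, 1, 2, 0, 3, 4, 3, 2]],
   [[0, 2, 3, 2, 0, 4, 3, 1, 2, 3, 4], [0, 3, 1, 2, 0, 3, 2, 4, 3, 1, 2, 0, 3, 5], [0, 2, 3, 1, 2, 0, 4], [0, 2, 0, 3, 1, 2, 4, 3, 5, 4, 3, 1, 2, 0, 3, 4, 5], [2, 3, 1, 4, 3, 1, 2, 0, 3, 2, 4, 3, 5, 4, 3, 2, 0], [2, 3, 1, 2, 0, 3, 4, 3, 2], [0, 2, 0, 3, 1, 2, 0, 3, 2, 4, 3, 1, 2]],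
   [[0, 3, 1, 2, 0, 3, 2], [0, 3, 1, 2, 0, 3, 2, 4, 3, 2, 0, 5], [0, 2, 3, 2, 0, 4, 3], [0, 3, 1, 2, 0, 3, 4, 3, 1, 2, 3], [2, 0, 3, 1, 2, 0, 4, 3, 1], [2, 3, 1, 4, 3, 1, 2, 3, 4, 5, 4, 3, 1, 2, 0], [0, 2, 0, 3, 1, 2, 3, 4, 5, 4, 3, 1, 2, 0, 3, 2, 4, 5]],
   [[2, 0, 3, 2, 0, 4, 3, 1, 2, 3, 4], [0, 2, 0, 3, 1, 4, 3, 5, 4, 3, 1, 2, 0, 3, 2, 4, 3, 5, 4], [2, 4, 3, 1, 2, 0, 3, 2, 4, 5, 4, 3, 1, 2, 0, 3], [0, 3, 1, 2, 0, 3, 4, 3, 2], [2, 0, 3, 1, 2, 0, 4], [2, 3, 1, 2, 0, 3, 2, 4, 3, 1, 2], [0, 3, 1, 2, 3, 4, 3, 1, 2, 0, 5, 4, 3]],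
   [[2, 3, 1, 2, 0, 3, 2], [3, 2, 0, 4, 3], [0, 2, 3, 1, 2, 0, 4, 3, 1], [2, 4, 3, 1, 2, 3, 4, 5, 4, 3, 1, 2, 0, 3, 2, 4], [0, 2, 0, 3, 1, 5, 4, 3, 1, 2, 0, 3, 2, 4, 3, 5], [2, 3, 1, 2, 0, 3, 4, 3, 1, 2, 3], [0, 3, 1, 2, 3, 4, 3, 2, 0, 5, 4, 3, 1]],
   [[0, 2, 0, 3, 1, 2, 0, 3, 2], [3, 1, 2, 0, 4, 3, 1], [2, 4, 3, 1, 2, 0, 3, 2, 4, 5, 4, 3, 2, 0], [0, 2, 0, 3, 1, 4, 3, 2, 5, 4, 3, 1, 2, 0, 3, 4, 5], [2, 0, 3, 2, 0, 4, 3], [0, 3, 1, 2, 3, 4, 3, 1, 2, 0, 3, 2, 5, 4], [0, 2, 0, 3, 1, 2, 0, 3, 4, 3, 1, 2, 3]]]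

theorem tab_chk : ∀ a < 7, ∀ b < 7, a = 0 ∧ b = 0 ∨
    (∀ i, ((7 : ℕ) : ℤ) ∣ mv (wr ((tab.getD a []).getD b [])) (fun i =>
      (a : ℤ) * ![0, 5, 0, 1, 0, 0] i + (b : ℤ) * ![0, 3, 5, 0, 1, 0] i) i - ![5, 0, 1, 0, 0, 0] i) ∨
    ∀ i, ((7 : ℕ) : ℤ) ∣ mv (wr ((tab.getD a []).getD b [])) (fun i =>
      (a : ℤ) * ![0, 5, 0, 1, 0, 0] i + (b : ℤ) * ![0, 3, 5, 0, 1, 0] i) i - ![4, 0, 6, 0, 5, 1] i := by
  decide +kernel

/-- In the simple group ²E₆(2) (the twisted group of type E₆ over the field with 4 elements), for every prime p > 5 no p-local subgroup is maximal: the normaliser of a non-trivial p-subgroup is never a maximal subgroup. -/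
theorem result {K : Type*} [Field K] [Fintype K] (hK : Fintype.card K = 4) (p : ℕ) (hp : p.Prime) (h5 : 5 < p)
    (P : Subgroup (Cfsg.Lie.twistedE6 K 2)) (hP : IsPGroup p P) (hP1 : P ≠ ⊥) :
    ¬ IsCoatom (Subgroup.normalizer (P : Set (Cfsg.Lie.twistedE6 K 2))) := by
  obtain ⟨hc, hs, hQ⟩ := basic hK
  have : Finite (Cfsg.Lie.twistedE6 K 2) := Nat.finite_of_card_ne_zero (by simp [hc])
  have := Fact.mk hp
  obtain ⟨k, _, _, _, G, _, C, T, φ, σ, π, h, -, hσ, hπ⟩ := exists_cov hK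
  have hd : p ∈ Nat.primeFactorsList 9699690 := by
    obtain ⟨n, hn⟩ := hP.exists_card_eq
    refine (Nat.mem_primeFactorsList (by decide)).2 ⟨hp, hp.dvd_of_dvd_pow (n := 36)
      ((dvd_pow_self p ?_).trans (hn ▸ P.card_subgroup_dvd_card.trans (by rw [hc]; decide)))⟩
    rintro rfl
    exact hP1 (card_eq_one.1 hn)
  obtain ⟨ξ, hξ⟩ := exists_order (k := k) (hp.odd_of_ne_two (by omega))
  have hN : ∀ {x : Cfsg.Lie.twistedE6 K 2}, orderOf x = p → 1 % 7 ≠ p % 7 →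
      ∀ y ∈ normalizer (zpowers x : Set (Cfsg.Lie.twistedE6 K 2)), y ^ 7 = 1 →
        ∀ a ∈ zpowers x, y * a * y⁻¹ = a := fun hx h1 y hy h2 a ha =>
    comm_of_normalizer hy (by decide) h2 (fun d h3 h4 => by
      rw [Nat.card_zpowers, hx] at h3 h4 ⊢
      exact ((Nat.dvd_prime hp).1 h3).resolve_left fun e => h1 (e ▸ h4 :)) ha
  have hH : ∀ {τ : MulAut G} (π : fix τ →* Cfsg.Lie.twistedE6 K 2) {c} (hc : h.tor c ∈ fix τ),
      ∀ y ∈ zpowers (π ⟨_, hc⟩), ∃ x : fix τ, (x : G) ∈ C.H ∧ π x = y := by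
    rintro τ π c hc _ ⟨n, rfl⟩
    exact ⟨_ ^ n, zpow_mem (h.hMul.torus_mem_H c) n, map_zpow _ _ _⟩
  obtain rfl | rfl | rfl | rfl | rfl : p = 7 ∨ p = 11 ∨ p = 13 ∨ p = 17 ∨ p = 19 := by
    simp [Nat.primeFactorsList_ofNat] at hd
    omega
  · obtain ⟨τ, π', h1, h2, h3⟩ := exists_type h hσ hπ [0, 1, 2, 0, 3, 1, 2, 0, 3, 4, 3, 1, 2, 0, 3, 2]
    obtain ⟨S, hS, hm⟩ := exists_sq h h1 h2 hp (by decide) hξ (y := ![0, 5, 0, 1, 0, 0])
      (z := ![0, 3, 5, 0, 1, 0]) (by decide +kernel) (by decide +kernel) (by decide +kernel)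
    obtain ⟨τa, πa, h1a, h2a, h3a⟩ := exists_type h hσ hπ [0, 2, 3, 1, 2, 0, 3, 2, 4, 3, 1, 5, 4, 3]
    have hya := vec_mem h h1a hξ (y := ![5, 0, 1, 0, 0, 0]) (by decide +kernel)
    have hma := case_M h h1a h2a hQ hξ
      (J := [0, 2]) (v := [0]) (r := 36) (s := 46) (a := 56) (b := 57)
      (θ := 0) (θ' := 33)
      (by decide +kernel) (by decide +kernel) (by decide +kernel) (by decide +kernel)
      (by decide +kernel) (by decide +kernel) (by decide +kernel) (by decide +kernel) hya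
    obtain ⟨τb, πb, h1b, h2b, h3b⟩ := exists_type h hσ hπ [0, 2]
    have hyb := vec_mem h h1b hξ (y := ![4, 0, 6, 0, 5, 1]) (by decide +kernel)
    have hmb := case_M h h1b h2b hQ hξ
      (J := [0, 2, 4, 5]) (v := [0, 4]) (r := 46) (s := 46) (a := 36) (b := 57)
      (θ := 0) (θ' := 0)
      (by decide +kernel) (by decide +kernel) (by decide +kernel) (by decide +kernel)
      (by decide +kernel) (by decide +kernel) (by decide +kernel) (by decide +kernel) hyb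
    obtain ⟨g, hg⟩ := exists_conj_le hp hS (by rw [hc]; decide) hP
    intro h4
    replace h4 := isCoatom_conj g h4
    have h5 := (map_eq_bot_iff_of_injective P (f := (MulAut.conj g).toMonoidHom)
      (MulAut.conj g).injective).not.2 hP1
    generalize P.map (MulAut.conj g).toMonoidHom = P at hg h4 h5
    obtain ⟨n, h6, h7⟩ := (Nat.dvd_prime_pow hp).1 (hS ▸ card_dvd_of_le hg)
    interval_cases n
    · exact h5 (card_eq_one.1 h7)
    · obtain ⟨x, h8, h9⟩ := P.bot_or_exists_ne_one.resolve_left h5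
      have h10 : zpowers x = P := eq_of_le_of_card_ge (zpowers_le.2 h8) (by
        rw [h7, Nat.card_zpowers, pow_one, ((Nat.dvd_prime hp).1
          ((P.orderOf_dvd_natCard h8).trans h7.dvd)).resolve_left (mt orderOf_eq_one_iff.1 h9)])
      obtain ⟨a, ha, b, hb, hx, rfl⟩ := (hm x).1 (hg h8)
      rcases tab_chk a ha b hb with ⟨rfl, rfl⟩ | e | e
      · exact h9 ((congrArg π' (Subtype.ext (by simp [← Pi.one_def]))).trans (map_one _))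
      · exact of_isConj (isConj_of_word h hσ.st h3 h3a hξ hx hya e) hma (h10 ▸ h4)
      · exact of_isConj (isConj_of_word h hσ.st h3 h3b hξ hx hyb e) hmb (h10 ▸ h4)
    obtain rfl := eq_of_le_of_card_ge hg (hS.trans h7.symm).le
    have hy := vec_mem h h1 hξ (y := fun i => (1 : ℕ) * ![0, 5, 0, 1, 0, 0] i + (0 : ℕ) * ![0, 3, 5, 0, 1, 0] i)
      (by decide +kernel)
    have hy' := vec_mem h h1 hξ (y := fun i => (0 : ℕ) * ![0, 5, 0, 1, 0, 0] i + (1 : ℕ) * ![0, 3, 5, 0, 1, 0] i)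
      (by decide +kernel)
    refine case_S h h1 h2 hQ hξ (q := 13)
      (z := ![0, 3, 3, 6, 6, 6]) (f := ![0, 2, 8, 6, 1, 0])
      (X := toM 6 6 [[-2, 0, 3, 0, -2, 4], [0, -4, -2, 5, -2, 0], [1, 2, -4, 1, 2, -2], [0, -1, 3, -4, 3, 0], [2, 2, -2, 1, -4, 3], [-6, 0, 2, 0, 1, -2]])
      (v := [3, 2]) (v' := [1, 2]) (u := [0, 1, 2, 3, 4, 5, 4, 3, 1, 2]) (r := 0)
      (by decide +kernel) (by decide +kernel) (by decide +kernel) (by decide +kernel)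
      (by decide +kernel) (by decide +kernel) (by decide +kernel) (by decide +kernel)
      (fun y e => ?_) hy ((hm _).2 ⟨1, by decide, 0, by decide, hy, rfl⟩) hy'
      ((hm _).2 ⟨0, by decide, 1, by decide, hy', rfl⟩) (fun y e1 e2 x e3 =>
        comm_of_normalizer e1 (by decide) e2 (fun d e4 e5 => ?_) e3) h4
    · obtain ⟨a, -, b, -, hx, rfl⟩ := (hm y).1 e
      exact ⟨_, h.hMul.torus_mem_H _, rfl⟩
    · rw [hS] at e4 e5 ⊢
      obtain ⟨n, e6, rfl⟩ := (Nat.dvd_prime_pow hp).1 e4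
      revert e5
      interval_cases n <;> decide
  · obtain ⟨τa, πa, h1a, h2a, h3a⟩ := exists_type h hσ hπ [0, 2, 3]
    have hya := vec_mem h h1a hξ (y := ![6, 0, 8, 5, 5, 1]) (by decide +kernel)
    have hma := case_M h h1a h2a hQ hξ
      (J := [0, 2, 3, 4, 5]) (v := [2, 0]) (r := 71) (s := 71) (a := 36) (b := 56)
      (θ := 0) (θ' := 0)
      (by decide +kernel) (by decide +kernel) (by decide +kernel) (by decide +kernel)
      (by decide +kernel) (by decide +kernel) (by decide +kernel) (by decide +kernel) hya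
    exact of_prime hp (by rw [hc]; decide) (orderOf_vec h h2a hp (by decide) hξ hya (by decide))
      hma hP hP1
  · obtain ⟨τ, π', h1, h2, -⟩ := exists_type h hσ hπ [0, 1, 2, 0, 3, 2]
    have hy := vec_mem h h1 hξ (y := ![7, 12, 8, 10, 3, 1]) (by decide +kernel)
    have ho := orderOf_vec h h2 hp (by decide) hξ hy (by decide)
    exact of_prime hp (by rw [hc]; decide) ho (case_S h h1 h2 hQ hξ (q := 7)
      (z := ![0, 0, 3, 0, 0, 6]) (f := ![4, 0, 5, 3, 6, 1])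
      (X := toM 6 6 [[-2, 2, -1, 4, -10, 12], [4, -4, 2, 5, -6, 2], [9, 4, -2, -5, 6, -2], [-12, -1, 7, -2, 5, -6], [6, -6, -10, 1, 4, 3], [-4, 4, -2, 8, -7, -2]])
      (v := [1]) (v' := [3, 4, 3]) (u := [0, 3, 5]) (r := 1)
      (by decide +kernel) (by decide +kernel) (by decide +kernel) (by decide +kernel)
      (by decide +kernel) (by decide +kernel) (by decide +kernel) (by decide +kernel)
      (hH _ hy) hy (mem_zpowers _) hy (mem_zpowers _) (hN ho (by decide))) hP hP1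
  · obtain ⟨τ, π', h1, h2, -⟩ := exists_type h hσ hπ [1, 2, 3]
    have hy := vec_mem h h1 hξ (y := ![0, 15, 9, 11, 1, 0]) (by decide +kernel)
    have ho := orderOf_vec h h2 hp (by decide) hξ hy (by decide)
    exact of_prime hp (by rw [hc]; decide) ho (case_S h h1 h2 hQ hξ (q := 7)
      (z := ![1, 0, 5, 0, 4, 8]) (f := ![0, 5, 0, 1, 0, 0])
      (X := toM 6 6 [[2, 2, 7, -6, -8, 18], [-8, -8, 6, 7, -2, -4], [-11, 6, 4, -1, 10, -14], [12, -5, -9, -2, 3, 6], [2, 2, -10, 11, -8, 1], [4, 4, 14, -12, 1, 2]])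
      (v := [2]) (v' := [2]) (u := [0, 5]) (r := 3)
      (by decide +kernel) (by decide +kernel) (by decide +kernel) (by decide +kernel)
      (by decide +kernel) (by decide +kernel) (by decide +kernel) (by decide +kernel)
      (hH _ hy) hy (mem_zpowers _) hy (mem_zpowers _) (hN ho (by decide))) hP hP1
  · obtain ⟨τ, π', h1, h2, -⟩ := exists_type h hσ hπ [0, 1, 2, 3]
    have hy := vec_mem h h1 hξ (y := ![10, 13, 12, 1, 5, 1]) (by decide +kernel)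
    have ho := orderOf_vec h h2 hp (by decide) hξ hy (by decide)
    exact of_prime hp (by rw [hc]; decide) ho (case_S h h1 h2 hQ hξ (q := 7)
      (z := ![0, 3, 3, 0, 3, 3]) (f := ![4, 0, 6, 4, 5, 1])
      (X := toM 6 6 [[-2, 2, 9, -6, -8, 18], [8, -8, 2, 5, -6, 4], [11, 8, -2, -5, 6, -4], [-12, -7, -3, 2, 9, -6], [-2, 2, -10, 13, -8, -1], [-4, 4, 18, -12, 3, -2]])
      (v := [3]) (v' := [3]) (u := [1, 3, 1]) (r := 0)
      (by decide +kernel) (by decide +kernel) (by decide +kernel) (by decide +kernel)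
      (by decide +kernel) (by decide +kernel) (by decide +kernel) (by decide +kernel)
      (hH _ hy) hy (mem_zpowers _) hy (mem_zpowers _) (hN ho (by decide))) hP hP1

end Cfsg.Agent.S5740
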