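import Cfsg.Statements.S5742
import Cfsg.Agent.Lib.E6T.Emb
import Cfsg.Agent.S2079

set_option autoImplicit false
open Cfsg

namespace Cfsg.Agent.S5742



/-- The simple group ²E₆(2) (the twisted group of type E₆ over the field with 4 elements) contains at least three pairwise non-conjugate subgroups isomorphic to the Fischer group Fi₂₂. -/
theorem result {K : Type*} [Field K] [Fintype K] (hK : Fintype.card K = 4) :
    ∃ H : Fin 3 → Subgroup (Cfsg.Lie.twistedE6 K 2),
      (∀ i, Cfsg.Spor.IsoFi22 (H i)) ∧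
      (∀ i j, i ≠ j → ∀ g : (Cfsg.Lie.twistedE6 K 2), (H i).map (MulAut.conj g).toMonoidHom ≠ H j) := by
  obtain ⟨φ, hφ, hC⟩ := Lib.E6T.exists_emb hK
  obtain ⟨D, h1, h2, h3⟩ := Lib.E6T.exists_diag hK
  have e := MonoidHom.ofInjective hφ
  obtain ⟨H, a, b⟩ := Lib.E6T.three h1 h2 h3 (B := φ.range) (fun x hx => hC x fun b hb => hx b (Subgroup.map_le_range _ _ hb))
    ((Lib.Grp.card_out_congr e).symm.trans S2079.result)
  exact ⟨H, fun i => (a i).map fun f => f.trans e.symm, b⟩

end Cfsg.Agent.S5742
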