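import Cfsg.Statements.S5744
import Cfsg.Agent.Lib.E6T.Emb
import Cfsg.Agent.S2604
import Cfsg.Agent.Lib.Grp.OutNet
import Cfsg.Agent.Lib.Calc.O3Fi22

set_option autoImplicit false
open Cfsg

namespace Cfsg.Agent.S5744

open Lib Subgroup

/-- The simple group ²E₆(2) (the twisted group of type E₆ over the field with 4 elements) contains at least three pairwise non-conjugate subgroups isomorphic to the orthogonal group Ω₇(3) (the commutator subgroup of the isometry group of x₀² + x₁y₁ + x₂y₂ + x₃y₃ over the field with 3 elements). -/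
theorem result {K : Type*} [Field K] [Fintype K] (hK : Fintype.card K = 4) :
    ∃ H : Fin 3 → Subgroup (Cfsg.Lie.twistedE6 K 2),
      (∀ i, Nonempty ((H i) ≃* Cfsg.Omega (ZMod 3) (Cfsg.quadFormOdd 3 (ZMod 3)))) ∧
      (∀ i j, i ≠ j → ∀ g : (Cfsg.Lie.twistedE6 K 2), (H i).map (MulAut.conj g).toMonoidHom ≠ H j) := by
  have h2 : (2 : ZMod 3) ≠ 0 := by decide
  obtain ⟨φ, hφ, hC⟩ := E6T.exists_emb hK
  obtain ⟨D, h1, h4, h3⟩ := E6T.exists_diag hK
  obtain ⟨e⟩ := Calc.Fi22.iso_bi
  replace e := (equivMapOfInjective _ φ hφ).symm.trans e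
  have : Fact (Nat.Prime 3) := ⟨Nat.prime_three⟩
  obtain ⟨o⟩ := S2604.result (F := ZMod 3) (p := 3) (f := 1) (m := 3) le_rfl rfl (by decide) le_rfl
  obtain ⟨H, a, b⟩ := E6T.three h1 h4 h3 hC ((Grp.card_out_congr e).trans ((Nat.card_congr o.toEquiv).trans (by simp)))
  have hZ : center (Omega (ZMod 3) (quadFormOdd 3 (ZMod 3))) = ⊥ := card_eq_one.1 (by
    refine (Nat.card_congr (centerCongr (Orth.commutatorCongr (Orth.isoEquiv (Orth.qOdd 3 (ZMod 3))))).toEquiv).trans ?_
    rw [Orth.card_center_commutator (Orth.nd_qOdd h2 3) (Orth.not_exc_of_two_ne_zero h2) (by simp),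
      Orth.neg_mem_commutator_iff (Orth.nd_qOdd h2 3) h2, if_neg fun h => absurd h.2.1 (by simp; decide)])
  exact ⟨H, fun i => (a i).map fun f => (f.trans e).trans
    ((QuotientGroup.quotientMulEquivOfEq hZ).trans QuotientGroup.quotientBot), b⟩

end Cfsg.Agent.S5744
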