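import Cfsg.Statements.S5905
import Cfsg.Agent.Lib.Perm.Imprim

set_option autoImplicit false
open Cfsg

namespace Cfsg.Agent.S5905

open MulAction Subgroup Equiv Equiv.Perm Cfsg.Lib.Perm

/-- Let Ω be a finite set and f : Ω → Fin b a map onto b ≥ 2 labels whose fibres all have the same size a ≥ 2 (a partition of Ω into b blocks of size a, so |Ω| = ab). Then the stabilizer of this partition in the symmetric group on Ω — the permutations g such that x and y lie in the same block exactly when g x and g y do, a group isomorphic to the imprimitive wreath product S_a ≀ S_b — is a maximal subgroup of the symmetric group. -/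
theorem result {Ω : Type*} [Fintype Ω] [DecidableEq Ω] (a b : ℕ) (ha : 2 ≤ a) (hb : 2 ≤ b)
    (f : Ω → Fin b) (hf : ∀ i : Fin b, Nat.card {x : Ω // f x = i} = a) :
    IsCoatom (Subgroup.closure {g : Equiv.Perm Ω | ∀ x y : Ω, f x = f y ↔ f (g x) = f (g y)}) := by
  rw [closure_partStab]
  obtain ⟨x, hx, -⟩ := exists_fibre_ne hf ha ⟨0, by omega⟩
    (exists_equiv_prod hf |>.choose.symm (⟨0, by omega⟩, ⟨0, by omega⟩))
  refine ⟨fun e => ?_, fun K hK => ?_⟩
  · obtain ⟨y, hy, hyx⟩ := exists_fibre_ne hf ha ⟨0, by omega⟩ x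
    obtain ⟨z, hz, -⟩ := exists_fibre_ne hf ha ⟨1, by omega⟩ x
    have := (e.ge (mem_top (swap y z)) x y).1 (hx.trans hy.symm)
    rw [swap_apply_left, swap_apply_of_ne_of_ne hyx.symm (ne_of_apply_ne f (by simp [hx, hz])),
      hx, hz] at this
    simp at this
  obtain ⟨g, hg, hgW⟩ := SetLike.exists_of_lt hK
  obtain ⟨u, v, h1, h2⟩ : ∃ u v, f u = f v ∧ f (g u) ≠ f (g v) := by
    simpa using mt mem_partStab_of_imp hgW
  rw [eq_top_iff, ← closure_isSwap, closure_le]
  rintro _ ⟨s, t, -, rfl⟩
  by_cases h : f s = f t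
  · exact hK.le (swap_mem_partStab h)
  obtain ⟨w, hw, rfl, rfl⟩ := exists_map_pair hf h2 h
  rw [swap_apply_apply, swap_apply_apply]
  exact mul_mem (mul_mem (hK.le hw) (mul_mem (mul_mem hg (hK.le (swap_mem_partStab h1))) (inv_mem hg)))
    (inv_mem (hK.le hw))

end Cfsg.Agent.S5905
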