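import Cfsg.Statements.S5894
import Cfsg.Agent.Lib.Perm.Sym
import Cfsg.Agent.S5905

set_option autoImplicit false
open Cfsg

namespace Cfsg.Agent.S5894

open MulAction Subgroup Equiv Equiv.Perm Cfsg.Lib.Perm
open scoped Pointwise

theorem aux {Ω : Type*} [Fintype Ω] [DecidableEq Ω] {m : ℕ} (hm : 2 ≤ m) (f : Ω → Fin 2)
    (hf : ∀ i, Nat.card {x : Ω // f x = i} = m) :
    ∃ M H K : Subgroup (Perm Ω), IsCoatom M ∧ M.index = 2 * m ∧ H ≤ M ∧ IsCoatom (H.subgroupOf M) ∧
      IsCoatom K ∧ H ≤ K ∧ ¬ IsCoatom (H.subgroupOf K) := by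
  have hn := card_eq_mul_of_fibres hf
  rw [Nat.card_eq_fintype_card (α := Fin 2), Fintype.card_fin] at hn
  obtain ⟨x₀⟩ := (Nat.card_pos_iff.1 (by omega : 0 < Nat.card Ω)).1
  obtain ⟨a, ha, -⟩ := exists_fibre_ne hf hm 0 x₀
  obtain ⟨b, hb, hba⟩ := exists_fibre_ne hf hm 0 a
  obtain ⟨c, hc, -⟩ := exists_fibre_ne hf hm 1 a
  have : Nontrivial Ω := ⟨b, a, hba⟩
  let L : Subgroup (Perm Ω) := stabilizer (Perm Ω) {x | f x = 1}
  have hL : ∀ g, g ∈ L ↔ ∀ x, f (g x) = f x := fun g => by
    rw [mem_stabilizer_set]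
    exact forall_congr' fun x => by
      change (f (g x) = 1 ↔ f x = 1) ↔ _
      generalize f (g x) = u, f x = v
      revert u v
      decide
  have hLK : L ≤ partStab f := fun g hg => mem_partStab_of_eq ((hL g).1 hg)
  refine ⟨stabilizer _ a, L ⊓ stabilizer _ a, partStab f,
    IsPreprimitive.isCoatom_stabilizer_of_isPreprimitive _ a, (index_stabilizer_perm a).trans hn,
    inf_le_right, ?_, closure_partStab ▸ S5905.result m 2 hm le_rfl f hf, inf_le_left.trans hLK, fun h => ?_⟩
  · have r : (ofSubtype : Perm {x // x ≠ a} →* Perm Ω).range = stabilizer (Perm Ω) a := by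
      ext g
      rw [mem_range_ofSubtype_iff]
      exact ⟨fun h => by_contra fun h' => h (by simpa using h') rfl, fun h x hx e => by
        subst e; exact (by simpa using hx : g x ≠ x) h⟩
    let e := (MonoidHom.ofInjective ofSubtype_injective).trans (MulEquiv.subgroupCongr r)
    have hs : ({x | f x.1 = 1} : Set {x // x ≠ a}).ncard = m := by
      rw [← hf 1]
      exact Nat.card_congr ⟨fun x => ⟨x.1, x.2⟩, fun x => ⟨⟨x.1, ne_of_apply_ne f (by simp [ha, x.2])⟩, x.2⟩,
        fun _ => rfl, fun _ => rfl⟩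
    have := Perm.isCoatom_stabilizer (s := ({x | f x.1 = 1} : Set {x // x ≠ a}))
      ⟨⟨c, ne_of_apply_ne f (by simp [ha, hc])⟩, hc⟩ ⟨⟨b, hba⟩, by simp [hb]⟩ (by
        rw [hs]
        rw [Nat.card_eq_fintype_card] at hn ⊢
        simp only [ne_eq, Fintype.card_subtype_compl, hn, Fintype.card_unique]
        omega)
    convert (e.mapSubgroup.isCoatom_iff _).2 this
    ext g
    obtain ⟨g, rfl⟩ := e.surjective g
    rw [inf_subgroupOf_right, mem_subgroupOf, mem_stabilizer_set]
    change _ ↔ e g ∈ Subgroup.map e.toMonoidHom _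
    rw [← MulEquiv.coe_toMonoidHom, mem_map_iff_mem e.injective, mem_stabilizer_set]
    change (∀ x, f (ofSubtype g x) = 1 ↔ f x = 1) ↔ ∀ x, f (g x) = 1 ↔ f x = 1
    exact ⟨fun h x => by rw [← h x, ofSubtype_apply_coe], fun h x => if e : x = a then
      by rw [ofSubtype_apply_of_not_mem g (not_not.2 e)] else by
        rw [ofSubtype_apply_of_mem g e]; exact h ⟨x, e⟩⟩
  · have h1 := h.2 (L.subgroupOf _) (lt_of_le_of_ne (fun g hg => hg.1) fun e => by
      have := (e.ge (show (⟨swap a b, swap_mem_partStab (ha.trans hb.symm)⟩ : partStab f) ∈ _ from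
        (hL _).2 (apply_swap_of_eq (ha.trans hb.symm)))).2
      exact hba (by simpa using this))
    obtain ⟨w, hw, e⟩ := exists_lift hf (swap 0 1)
    have := (hL w).1 (subgroupOf_eq_top.1 h1 hw) a
    rw [e, ha] at this
    simp at this

/-- For every m ≥ 2 the symmetric group on 2m letters has a maximal subgroup M of index 2m together with a maximal subgroup H of M that is not second maximal: some maximal subgroup K of the symmetric group contains H without H being maximal in K. (One may take M the stabiliser of a letter, H ≅ S_m × S_{m−1} inside it, and K ≅ S_m ≀ S₂ the stabiliser of a partition into two m-sets, with H < S_m × S_m < K.) So the prime-index hypothesis in the second-maximality criterion cannot be relaxed to any even index ≥ 4. -/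
theorem result (m : ℕ) (hm : 2 ≤ m) :
    ∃ M H K : Subgroup (Equiv.Perm (Fin (2 * m))), IsCoatom M ∧ M.index = 2 * m ∧ H ≤ M ∧ IsCoatom (H.subgroupOf M) ∧
      IsCoatom K ∧ H ≤ K ∧ ¬ IsCoatom (H.subgroupOf K) := by
  refine aux hm (fun x => (finProdFinEquiv.symm x).1) fun i => ?_
  conv_rhs => rw [← Nat.card_fin m]
  exact Nat.card_congr ⟨fun x => (finProdFinEquiv.symm x.1).2, fun y => ⟨finProdFinEquiv (i, y), by simp⟩,
    fun ⟨x, hx⟩ => by subst hx; exact Subtype.ext (finProdFinEquiv.apply_symm_apply x), fun y => by simp⟩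

end Cfsg.Agent.S5894
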