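import Cfsg.Statements.S5895
import Cfsg.Agent.Lib.Perm.Prim
import Cfsg.Agent.S3517

set_option autoImplicit false
open Cfsg

namespace Cfsg.Agent.S5895

open Cfsg.Lib Cfsg.Lib.Perm Subgroup MulAction Projectivization
open scoped LinearAlgebra.Projectivization

/-- For every prime p and every d ≥ 2 there is a finite group G with a maximal subgroup M of index p^d and a maximal subgroup H of M that is not second maximal in G: some maximal subgroup K of G contains H without H being maximal in K. (One may take G the affine group V ⋊ GL(V) of V = 𝔽_p^d, M = GL(V), H the stabiliser in M of a line W of V, and K = V ⋊ H, with H < W ⋊ H < K.) So the prime-index hypothesis in the second-maximality criterion cannot be relaxed to prime-power index. -/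
theorem result (p d : ℕ) (hp : p.Prime)
    (hd : 2 ≤ d) :
    ∃ (G : Type) (_ : Group G) (_ : Finite G) (M H K : Subgroup G), IsCoatom M ∧ M.index = p ^ d ∧ H ≤ M ∧
      IsCoatom (H.subgroupOf M) ∧ IsCoatom K ∧ H ≤ K ∧ ¬ IsCoatom (H.subgroupOf K) := by
  have := Fact.mk hp
  obtain ⟨d, rfl⟩ := Nat.exists_eq_add_of_le' hd
  let V := Fin (d + 2) → ZMod p
  let G := V ≃ᵃ[ZMod p] V
  letI : MulAction G V := { smul g x := g x, one_smul _ := rfl, mul_smul _ _ _ := rfl }
  have e : ∀ (g : G) x, g x = g.linear x + g 0 := fun g x => by simpa using g.map_vadd 0 x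
  have h2 : IsMultiplyPretransitive G V 2 := two_iff.2 fun a b c d h1 h2 => by
    obtain ⟨A, hA⟩ := S3517.exists_equiv (K := ZMod p) ![b - a] ![d - c] fun k => by
      simp [sub_eq_zero, h1.symm, h2.symm]
    refine ⟨AffineEquiv.constVAdd _ _ (c - A a) * A.toAffineEquiv, sub_add_cancel _ _, ?_⟩
    change c - A a + A b = d
    rw [sub_add_comm, ← map_sub, show A (b - a) = d - c from hA 0, sub_add_cancel]
  have := isPreprimitive_of_is_two_pretransitive h2
  have := isPreprimitive_of_is_two_pretransitive (linearEquiv_is_two_pretransitive (ZMod p) V)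
  let u : V := Pi.single 0 1
  let v : V := Pi.single 1 1
  have hu : u ≠ 0 := by simp [u, V]
  have huv : ∀ c : ZMod p, c • u ≠ v := fun c h => by simpa [u, v, V] using congrFun h 1
  have hL := isCoatom_stabilizer (G := V ≃ₗ[ZMod p] V) (a := mk (ZMod p) u hu)
    (b := mk (ZMod p) v (by simp [v, V])) fun h => ((mk_eq_mk_iff' ..).1 h.symm).elim huv
  let K := (stabilizer (V ≃ₗ[ZMod p] V) (mk (ZMod p) u hu)).comap (AffineEquiv.linearHom : G →* _)
  have hK : ∀ g : K, ∃ c : ZMod p, c • u = g.1.linear u := fun g => (mk_eq_mk_iff' ..).1 g.2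
  refine ⟨G, inferInstance, Finite.of_injective _ DFunLike.coe_injective, stabilizer G (0 : V),
    K ⊓ stabilizer G (0 : V), K, isCoatom_stabilizer hu.symm, ?_, inf_le_right, ?_,
    isCoatom_comap_of_surjective (fun A => ⟨A.toAffineEquiv, rfl⟩) hL, inf_le_left, fun h => ?_⟩
  · simp [index_stabilizer_of_transitive, V]
  · rw [inf_subgroupOf_right]
    exact isCoatom_comap_of_surjective (φ := AffineEquiv.linearHom.comp (stabilizer G (0 : V)).subtype)
      (fun A => ⟨⟨A.toAffineEquiv, A.map_zero⟩, rfl⟩) hL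
  let J : Subgroup K :=
    { carrier := {g | ∃ c : ZMod p, c • u = g.1 0}
      one_mem' := ⟨0, zero_smul ..⟩
      mul_mem' := fun {g k} ⟨a, ha⟩ ⟨b, hb⟩ => (hK g).elim fun c hc => ⟨b * c + a, by
        change _ = g.1 (k.1 0)
        rw [e, ← ha, ← hb, map_smul, ← hc]; module⟩
      inv_mem' := fun {g} ⟨a, ha⟩ => (hK g⁻¹).elim fun c hc => ⟨-(a * c), by
        have := e g⁻¹.1 (g.1 0)
        rw [show g⁻¹.1 (g.1 0) = 0 from g.1.symm_apply_apply 0, ← ha, map_smul, ← hc] at this
        rw [eq_neg_of_add_eq_zero_right this.symm]; module⟩ }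
  let t : V → K := fun w => ⟨AffineEquiv.constVAdd _ _ w, one_smul (V ≃ₗ[ZMod p] V) _⟩
  have := h.2 J ⟨fun g hg => ⟨0, (zero_smul ..).trans (Eq.symm hg.2)⟩, fun h =>
    hu ((add_zero u).symm.trans (h (show t u ∈ J from ⟨1, (one_smul ..).trans (add_zero u).symm⟩)).2)⟩
  obtain ⟨c, hc⟩ := this.ge (mem_top (t v))
  exact huv c (hc.trans (add_zero v))

end Cfsg.Agent.S5895
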