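import Cfsg.Statements.S5896
import Cfsg.Agent.Lib.Perm.Prim
import Cfsg.Agent.S4014
import Cfsg.Agent.Lib.Char.Burnside

set_option autoImplicit false
open Cfsg

namespace Cfsg.Agent.S5896

open Cfsg.Lib Cfsg.Lib.Perm Subgroup MulAction RegularWreathProduct
open scoped commutatorElement

/-- Finite perfect groups have solvable maximal subgroups of unbounded derived length: for every d there is a finite perfect group G (equal to its commutator subgroup) with a solvable maximal subgroup H whose derived length exceeds d, i.e. the d-th term of the derived series of H is non-trivial. (Take the derived subgroup of a wreath product S ≀ A₅ with S solvable of large derived length, and H the preimage of a maximal subgroup of A₅.) -/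
theorem result (d : ℕ) :
    ∃ (G : Type) (_ : Group G) (_ : Finite G) (H : Subgroup G), commutator G = ⊤ ∧ IsCoatom H ∧ Group.IsSolvable H ∧
      derivedSeries H d ≠ ⊥ := by
  let S := IteratedWreathProduct (Multiplicative (ZMod 2)) (d + 1)
  let A := alternatingGroup (Fin 5)
  let G := normalClosure ((inl : A →* S ≀ᵣ A).range : Set (S ≀ᵣ A))
  have hA : commutator A = ⊤ := commutator_alternatingGroup_eq_top (by simp)
  have := alternatingGroup.isPreprimitive_of_three_le_card (Fin 5) (by simp)
  let M := stabilizer A (0 : Fin 5)
  have hM : Group.IsSolvable M := Char.isSolvable_of_card_dvd_pow_mul_pow _ Nat.prime_two Nat.prime_three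
    (a := 2) (b := 1) (by
      have := M.card_mul_index
      rw [index_stabilizer_of_transitive, nat_card_alternatingGroup, Nat.card_fin] at this
      exact (show _ = _ by norm_num [Nat.factorial] at this ⊢; omega).dvd)
  let π : G →* A := rightHom.comp G.subtype
  let X := G ⊓ (rightHom : S ≀ᵣ A →* A).ker
  let ι : X →* M.comap π := ((inclusion inf_le_left).codRestrict _ fun x =>
    mem_comap.2 ((show π (inclusion inf_le_left x) = 1 from x.2.2).symm ▸ M.one_mem))
  let ev : X →* (A → S) := MonoidHom.mk' (fun w => w.1.left) fun a b => by simp [show a.1.right = 1 from a.2.2]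
  have hX : Group.IsSolvable X := by
    have h : IsPGroup 2 (A → S) := IsPGroup.of_card (by
      rw [Nat.card_fun, IteratedWreathProduct.card, ← pow_mul]; exact congrArg (· ^ _) (Nat.card_zmod 2))
    have := (h.of_injective ev fun a b h => Subtype.ext (RegularWreathProduct.ext h (a.2.2.trans b.2.2.symm))).isNilpotent
    infer_instance
  refine ⟨G, inferInstance, inferInstance, M.comap π, ?_, isCoatom_comap_of_surjective
    (fun q => ⟨⟨inl q, subset_normalClosure ⟨q, rfl⟩⟩, rfl⟩) (isCoatom_stabilizer (b := 1) (by decide)),
    Group.isSolvable_of_ker_le_range ι (π.subgroupComap M) fun g hg =>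
      ⟨⟨g, g.1.2, congrArg Subtype.val hg⟩, rfl⟩, fun h => S4014.iter (Multiplicative (ZMod 2)) d ?_⟩
  · refine map_injective G.subtype_injective ?_
    rw [map_subtype_commutator, ← MonoidHom.range_eq_map, range_subtype]
    refine (commutator_le_left _ _).antisymm (normalClosure_le_normal ?_)
    rw [MonoidHom.range_eq_map, ← hA, commutator_def, map_commutator, ← MonoidHom.range_eq_map]
    exact commutator_mono le_normalClosure le_normalClosure
  have h1 := map_derivedSeries_le_derivedSeries ι d
  rw [h, le_bot_iff, map_eq_bot_iff_of_injective _ fun a b h =>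
    Subtype.ext (congrArg (fun x => x.1.1) h)] at h1
  have h2 := derivedSeries_le_map_derivedSeries (f := (Pi.evalMonoidHom _ 1).comp ev) (fun s => by
    classical
    obtain ⟨q, hq⟩ := exists_ne (1 : A)
    refine ⟨⟨⁅(⟨Pi.mulSingle 1 s, 1⟩ : S ≀ᵣ A), inl q⁆, commutator_le_right ⊤ G (commutator_mem_commutator
      (mem_top _) (subset_normalClosure ⟨q, rfl⟩)), by simp [commutatorElement_def]⟩, ?_⟩
    simp [ev, commutatorElement_def, hq]) d
  rwa [h1, Subgroup.map_bot, le_bot_iff] at h2

end Cfsg.Agent.S5896
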